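import Mathlib

/-!
# Lengths along a local homomorphism, and lengths of finite products with semilinear
identifications (helper85)
-/

set_option autoImplicit false
set_option linter.style.haveILetI false
set_option linter.unusedSectionVars false
universe u v w

namespace Groth.Agent.Lib.Helper85.PushLenAlg

open IsLocalRing

section LL

variable (A : Type u) [CommRing A] (B : Type v) [CommRing B] [IsLocalRing B] [Algebra A B]

/-- Stacks 02M0 (general base): for a local `A`-algebra `B` and a `B`-module `N` of finite length,
`length_A N = length_A κ(B) · length_B N`. -/
theorem length_restrictScalars_eq_aux (N : Type w) [AddCommGroup N] [Module B N]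
    (h : IsFiniteLength B N) : ∀ [Module A N] [IsScalarTower A B N],
    Module.length A N = Module.length A (ResidueField B) * Module.length B N := by
  induction h with
  | @of_subsingleton M _ _ _ =>
    intro _ _
    have h1 : Module.length A M = 0 := Module.length_eq_zero
    have h2 : Module.length B M = 0 := Module.length_eq_zero
    rw [h1, h2, mul_zero]
  | @of_simple_quotient M _ _ S hsimple hS ih =>
    intro _ _
    have ih' := @ih _ _
    obtain ⟨I, hI, ⟨e⟩⟩ := isSimpleModule_iff_quot_maximal.mp hsimple
    have hIm : I = maximalIdeal B := IsLocalRing.eq_maximalIdeal hI
    subst hIm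
    have e' : (M ⧸ S) ≃ₗ[A] ResidueField B := e.restrictScalars A
    have h1 : Module.length A M = Module.length A S + Module.length A (M ⧸ S) :=
      Module.length_eq_add_of_exact (S.subtype.restrictScalars A) (S.mkQ.restrictScalars A)
        S.injective_subtype (Submodule.mkQ_surjective S)
        (by
          intro x
          simp only [LinearMap.coe_restrictScalars, Submodule.mkQ_apply,
            Submodule.Quotient.mk_eq_zero, Set.mem_range, Submodule.subtype_apply]
          constructor
          · intro hx
            exact ⟨⟨x, hx⟩, rfl⟩
          · rintro ⟨y, rfl⟩
            exact y.2)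
    have h2 : Module.length B M = Module.length B S + Module.length B (M ⧸ S) :=
      Module.length_eq_add_of_exact S.subtype S.mkQ
        S.injective_subtype (Submodule.mkQ_surjective S)
        (by
          intro x
          simp only [Submodule.mkQ_apply, Submodule.Quotient.mk_eq_zero, Set.mem_range,
            Submodule.subtype_apply]
          constructor
          · intro hx
            exact ⟨⟨x, hx⟩, rfl⟩
          · rintro ⟨y, rfl⟩
            exact y.2)
    have h3 : Module.length B (M ⧸ S) = 1 := Module.length_eq_one_iff.mpr hsimple
    rw [h1, h2, ih', e'.length_eq, h3, mul_add, mul_one]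

theorem length_restrictScalars_eq (N : Type w) [AddCommGroup N] [Module B N] [Module A N]
    [IsScalarTower A B N] (h : IsFiniteLength B N) :
    Module.length A N = Module.length A (ResidueField B) * Module.length B N :=
  length_restrictScalars_eq_aux A B N h

end LL

section Local

variable {A : Type u} [CommRing A] [IsLocalRing A] {B : Type v} [CommRing B] [IsLocalRing B]
  (ψ : A →+* B) [IsLocalHom ψ]

/-- the length of the residue field of `B` over `A` is its length over the residue field of `A` -/
theorem length_residueField_compHom :
    @Module.length A (ResidueField B) _ _ (Module.compHom (ResidueField B)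
        ((IsLocalRing.residue B).comp ψ)) =
      @Module.length (ResidueField A) (ResidueField B) _ _
        (ResidueField.map ψ).toAlgebra.toModule := by
  letI mA : Module A (ResidueField B) := Module.compHom (ResidueField B)
    ((IsLocalRing.residue B).comp ψ)
  letI aK : Algebra (ResidueField A) (ResidueField B) := (ResidueField.map ψ).toAlgebra
  haveI : IsScalarTower A (ResidueField A) (ResidueField B) :=
    IsScalarTower.of_algebraMap_smul (fun a x => by
      change (ResidueField.map ψ) (IsLocalRing.residue A a) * x =
        ((IsLocalRing.residue B).comp ψ) a * x
      rw [ResidueField.map_residue]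
      rfl)
  exact Module.length_eq_of_surjective (S := A) (R := ResidueField A) (M := ResidueField B)
    IsLocalRing.residue_surjective

/-- **Stacks 02M0**: for a local homomorphism `ψ : A → B` and a `B`-module `N` of finite length,
`length_A N = [κ(B) : κ(A)] · length_B N` (lengths in `ℕ∞`). -/
theorem length_compHom_eq (N : Type w) [AddCommGroup N] [Module B N] (h : IsFiniteLength B N) :
    @Module.length A N _ _ (Module.compHom N ψ) =
      @Module.length (ResidueField A) (ResidueField B) _ _
        (ResidueField.map ψ).toAlgebra.toModule * Module.length B N := by
  rw [← length_residueField_compHom ψ]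
  letI aAB : Algebra A B := ψ.toAlgebra
  letI mN : Module A N := Module.compHom N ψ
  haveI : IsScalarTower A B N := IsScalarTower.of_algebraMap_smul (fun a x => rfl)
  have key := length_restrictScalars_eq A B N h
  have hinst : (Module.compHom (ResidueField B) ((IsLocalRing.residue B).comp ψ) :
      Module A (ResidueField B)) = (inferInstance : Module A (ResidueField B)) :=
    Module.ext' _ _ (fun a x => rfl)
  rw [hinst]
  exact key

end Local

section Pi

variable {A : Type u} [CommRing A] {M : Type v} [AddCommGroup M] [Module A M]
  {ι : Type w} [Fintype ι] (B : ι → Type v) [∀ i, CommRing (B i)] (ψ : ∀ i, A →+* B i)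
  (N : ι → Type v) [∀ i, AddCommGroup (N i)] [∀ i, Module (B i) (N i)]
  (φ : ∀ i, M →+ N i) (hφ : ∀ i (a : A) (m : M), φ i (a • m) = ψ i a • φ i m)
  (hbij : Function.Bijective (fun m : M => fun i => φ i m))

include hφ hbij in
/-- a module which is identified (semilinearly) with a finite product has the sum of the lengths -/
theorem length_eq_sum_of_bijective :
    Module.length A M = ∑ i, @Module.length A (N i) _ _ (Module.compHom (N i) (ψ i)) := by
  letI mN : ∀ i, Module A (N i) := fun i => Module.compHom (N i) (ψ i)
  let Φ : M →ₗ[A] (∀ i, N i) :=
    { toFun := fun m i => φ i m
      map_add' := fun m m' => funext fun i => map_add (φ i) m m'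
      map_smul' := fun a m => funext fun i => hφ i a m }
  let e : M ≃ₗ[A] (∀ i, N i) := LinearEquiv.ofBijective Φ hbij
  rw [e.length_eq, Module.length_pi_of_fintype]

end Pi

end Groth.Agent.Lib.Helper85.PushLenAlg
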