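import Mathlib
import Groth.Prelude.Def_IntMult
import Groth.Agent.Lib.Helper15.TorSymm
import Groth.Agent.Lib.Helper85.Serre.TorMult
import Groth.Agent.Lib.Helper85.Serre.Dim
import Groth.Agent.Lib.Helper85.RegularLocal

/-!
# Intersection multiplicity along a regular sequence: algebra (helper85)

`χ^A(A/Q, A/(g)) = ℓ(A/(Q + (g)))` when `g` is regular on `A` and on `A/Q`; limit formula and
positivity in general.
-/

set_option autoImplicit false
set_option linter.style.haveILetI false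
universe u

namespace Groth.Agent.Lib.Helper85.IntMultAlg

open CategoryTheory Pointwise Filter Topology RingTheory.Sequence
open Groth.Agent.Lib.Helper85.Serre Groth.Agent.Lib.Helper85.KTor

variable {A : Type u} [CommRing A]

/-- symmetry of the `Tor` Euler characteristic -/
theorem intMult_chi_symm (M N : Type u) [AddCommGroup M] [Module A M] [AddCommGroup N]
    [Module A N] : IntMult.chi A M N = IntMult.chi A N M := by
  unfold IntMult.chi
  congr 1
  ext i
  congr 2
  have e := ((Groth.Agent.Lib.Helper15.TorSymm.torSymm (R := A) i).app (ModuleCat.of A M)).app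
    (ModuleCat.of A N)
  exact congrArg ENat.toNat e.toLinearEquiv.length_eq

/-- `χ(l; M) = ℓ(M/lM)` for an `M`-regular sequence `l` -/
theorem chi_eq_length_of_isWeaklyRegular (l : List A) :
    ∀ (M : Type u) [AddCommGroup M] [Module A M], IsWeaklyRegular M l →
      chi l M = ((Module.length A (M ⧸ Ideal.ofList l • (⊤ : Submodule A M))).toNat : ℤ) := by
  induction l with
  | nil =>
    intro M _ _ _
    rw [chi_nil]
    congr 2
    refine LinearEquiv.length_eq ?_
    refine (Submodule.quotEquivOfEqBot _ ?_).symm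
    rw [Ideal.ofList_nil, Submodule.bot_smul]
  | cons x l ih =>
    intro M _ _ h
    rw [isWeaklyRegular_cons_iff] at h
    rw [chi_cons_of_regular x l M h.1, ih _ h.2]
    congr 2
    exact (Submodule.quotOfListConsSMulTopEquivQuotSMulTopInner M x l).symm.length_eq

/-- `(A/Q)/I(A/Q) ≃ A/(Q + I)` -/
noncomputable def quotQuotEquiv (Q I : Ideal A) :
    ((A ⧸ Q) ⧸ (I • (⊤ : Submodule A (A ⧸ Q)))) ≃ₗ[A] A ⧸ (Q ⊔ I) :=
  (Submodule.quotEquivOfEq _ _ (by
    have h1 : (I : Submodule A A) = I • (⊤ : Submodule A A) := by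
      rw [smul_eq_mul, Ideal.mul_top]
    conv_rhs => rw [h1]
    rw [Submodule.map_smul'', Submodule.map_top, Submodule.range_mkQ])).trans
    (Submodule.quotientQuotientEquivQuotientSup (Q : Submodule A A) (I : Submodule A A))

section Main

variable [IsNoetherianRing A]

omit [IsNoetherianRing A] in
/-- `χ^A(A/Q, A/(g)) = ℓ(A/(Q + (g)))` for `g` regular on `A` and on `A/Q` -/
theorem intMult_chi_eq_length {c : ℕ} (g : Fin c → A)
    (hA : IsWeaklyRegular A (List.ofFn g)) (Q : Ideal A)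
    (hQ : IsWeaklyRegular (A ⧸ Q) (List.ofFn g)) :
    IntMult.chi A (A ⧸ Q) (A ⧸ Ideal.span (Set.range g)) =
      ((Module.length A (A ⧸ (Q ⊔ Ideal.span (Set.range g)))).toNat : ℤ) := by
  rw [intMult_chi_symm, ← chiT_eq_intMult_chi g hA (A ⧸ Q)]
  unfold chiT
  rw [chi_eq_tensorCx, chi_eq_length_of_isWeaklyRegular _ _ hQ, ofList_ofFn]
  congr 2
  exact (quotQuotEquiv Q _).length_eq

variable [IsLocalRing A]

theorem isFiniteLength_quotQuot (Q I : Ideal A)
    (hfl : ∃ k : ℕ, IsLocalRing.maximalIdeal A ^ k ≤ Q ⊔ I) :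
    IsFiniteLength A ((A ⧸ Q) ⧸ (I • (⊤ : Submodule A (A ⧸ Q)))) := by
  have h1 := isFiniteLength_quotient_of_pow_le (Q ⊔ I) hfl A
  have e1 : (A ⧸ ((Q ⊔ I) • (⊤ : Submodule A A))) ≃ₗ[A] A ⧸ (Q ⊔ I) :=
    Submodule.quotEquivOfEq _ _ (by rw [smul_eq_mul, Ideal.mul_top])
  exact h1.of_surjective (f := ((e1.trans (quotQuotEquiv Q I).symm) : _ →ₗ[A] _))
    (e1.trans (quotQuotEquiv Q I).symm).surjective

/-- Serre's limit formula for the `Tor` multiplicity along a regular sequence -/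
theorem tendsto_intMult_chi {c : ℕ} (g : Fin c → A)
    (hA : IsWeaklyRegular A (List.ofFn g)) (Q : Ideal A)
    (hfl : ∃ k : ℕ, IsLocalRing.maximalIdeal A ^ k ≤ Q ⊔ Ideal.span (Set.range g)) :
    Tendsto (fun t : ℕ => (c.factorial : ℝ) *
        ((Module.length A (A ⧸ (Q ⊔ Ideal.span (Set.range g) ^ t))).toNat : ℝ) / (t : ℝ) ^ c)
      atTop (𝓝 (IntMult.chi A (A ⧸ Q) (A ⧸ Ideal.span (Set.range g)) : ℝ)) := by
  have h := tendsto_samuel_chiT g (A ⧸ Q) (isFiniteLength_quotQuot Q _ hfl)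
  rw [chiT_eq_intMult_chi g hA (A ⧸ Q), intMult_chi_symm] at h
  refine h.congr fun t => ?_
  rw [(quotQuotEquiv Q (Ideal.span (Set.range g) ^ t)).length_eq]

/-- positivity -/
theorem intMult_chi_pos {c : ℕ} (g : Fin c → A)
    (hA : IsWeaklyRegular A (List.ofFn g)) (hg : ∀ j, g j ∈ IsLocalRing.maximalIdeal A)
    (Q : Ideal A)
    (hfl : ∃ k : ℕ, IsLocalRing.maximalIdeal A ^ k ≤ Q ⊔ Ideal.span (Set.range g))
    (hdim : ringKrullDim (A ⧸ Q) = c) :
    0 < IntMult.chi A (A ⧸ Q) (A ⧸ Ideal.span (Set.range g)) := by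
  have h := chiT_pos_of_supportDim_eq g hg (A ⧸ Q) (isFiniteLength_quotQuot Q _ hfl)
    (by rw [Module.supportDim_quotient_eq_ringKrullDim, hdim])
  rwa [chiT_eq_intMult_chi g hA (A ⧸ Q), intMult_chi_symm] at h

end Main

section Dim

variable [IsNoetherianRing A] [IsLocalRing A]

/-- Krull's bound: `dim A/Q ≤ c` if `A/(Q + (g₁, …, g_c))` is zero-dimensional -/
theorem ringKrullDim_quotient_le_natCast (Q : Ideal A) {c : ℕ} (g : Fin c → A)
    (hg : ∀ j, g j ∈ IsLocalRing.maximalIdeal A)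
    (h0 : ringKrullDim (A ⧸ (Q ⊔ Ideal.span (Set.range g))) ≤ 0) :
    ringKrullDim (A ⧸ Q) ≤ c := by
  by_cases hQ : Q = ⊤
  · subst hQ
    haveI : Subsingleton (A ⧸ (⊤ : Ideal A)) := Ideal.Quotient.subsingleton_iff.mpr rfl
    rw [ringKrullDim_eq_bot_of_subsingleton]
    exact bot_le
  haveI : IsLocalRing (A ⧸ Q) := Groth.Agent.Lib.Helper85.isLocalRing_quotient Q hQ
  have hmax := Groth.Agent.Lib.Helper85.maximalIdeal_map_of_surjective (Ideal.Quotient.mk Q)
    Ideal.Quotient.mk_surjective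
  let s : Set (A ⧸ Q) := Set.range (fun j => Ideal.Quotient.mk Q (g j))
  have hs : s ⊆ Ring.jacobson (A ⧸ Q) := by
    rw [IsLocalRing.ringJacobson_eq_maximalIdeal, ← hmax]
    rintro _ ⟨j, rfl⟩
    exact Ideal.mem_map_of_mem _ (hg j)
  have h1 := ringKrullDim_le_ringKrullDim_quotient_add_encard s hs
  have hspan : Ideal.span s = (Ideal.span (Set.range g)).map (Ideal.Quotient.mk Q) := by
    rw [Ideal.map_span, ← Set.range_comp]
    rfl
  have h2 : ringKrullDim ((A ⧸ Q) ⧸ Ideal.span s) ≤ 0 := by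
    rw [hspan, ringKrullDim_eq_of_ringEquiv (DoubleQuot.quotQuotEquivQuotSup Q _)]
    exact h0
  have h3 : s.encard ≤ c := by
    have := Set.encard_image_le (fun j => Ideal.Quotient.mk Q (g j)) Set.univ
    rw [Set.image_univ] at this
    refine this.trans ?_
    simp
  calc ringKrullDim (A ⧸ Q) ≤ ringKrullDim ((A ⧸ Q) ⧸ Ideal.span s) + s.encard := h1
    _ ≤ 0 + (c : WithBot ℕ∞) := by
        gcongr
        exact_mod_cast h3
    _ = c := zero_add _

end Dim

end Groth.Agent.Lib.Helper85.IntMultAlg
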