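import Mathlib
import Groth.Prelude.Def_IntMult
import Groth.Agent.Lib.Helper85.Serre.KoszulTor
import Groth.Agent.Lib.Helper85.HS.FiniteLength
import Groth.Agent.Lib.Helper29.DepthExt
import Groth.Agent.Lib.Helper29.Depth
import Groth.Agent.Lib.Helper28.TorRegular
import Groth.Agent.Lib.Helper16.DimShift.TorSecond
import Groth.Agent.Lib.Helper82.CochainAcyclic
import Groth.Agent.Lib.Helper45.ReflexiveDepth

/-!
# Vanishing of `Tor` by depth (acyclicity by dimension shifting) (helper85)

Over a Noetherian local ring, let `M` have projective dimension `≤ e`, `N` depth `≥ e`, and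
suppose all `Tor_i(N, M)`, `i ≥ 1`, have finite length.  Then they vanish.
-/

set_option autoImplicit false
set_option linter.style.haveILetI false
universe u

namespace Groth.Agent.Lib.Helper85.TorVanish

open CategoryTheory CategoryTheory.Limits MonoidalCategory
open Groth.Agent.Lib.Helper17 Groth.Agent.Lib.Helper85.KTor

section DL

universe v v' w w'

variable {C : Type w} [Category.{v} C] [Abelian C]
  {D : Type w'} [Category.{v'} D] [Abelian D] {T : ℕ → C ⥤ D}

/-- dimension shifting along any short exact sequence with projective middle term -/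
theorem nonempty_iso_succ_of_projective (hT : IsDeltaLite T) {S : ShortComplex C}
    (hS : S.ShortExact) [Projective S.X₂] (n : ℕ) :
    Nonempty ((T (n + 2)).obj S.X₃ ≅ (T (n + 1)).obj S.X₁) := by
  obtain ⟨δ, w₁, w₂, h₁, h₂⟩ := hT.les hS (n + 1)
  have hmono : Mono δ := h₁.mono_g ((hT.vanish S.X₂ (n + 1)).eq_of_src _ _)
  have hepi : Epi δ := h₂.epi_f ((hT.vanish S.X₂ n).eq_of_tgt _ _)
  have hiso : IsIso δ := isIso_of_mono_of_epi δ
  exact ⟨@asIso _ _ _ _ δ hiso⟩

/-- the first connecting map is a kernel of `T 0 (f)` -/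
theorem exists_mono_of_projective (hT : IsDeltaLite T) {S : ShortComplex C}
    (hS : S.ShortExact) [Projective S.X₂] :
    ∃ (δ : (T 1).obj S.X₃ ⟶ (T 0).obj S.X₁) (w : δ ≫ (T 0).map S.f = 0),
      Mono δ ∧ (ShortComplex.mk δ _ w).Exact := by
  obtain ⟨δ, w₁, w₂, h₁, h₂⟩ := hT.les hS 0
  exact ⟨δ, w₂, h₁.mono_g ((hT.vanish S.X₂ 0).eq_of_src _ _), h₂⟩

end DL

variable {A : Type u} [CommRing A]

/-- the presentation `0 → ker π → Aʳ → M → 0` -/
noncomputable abbrev coverSC {r : ℕ} {M : Type u} [AddCommGroup M] [Module A M]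
    (π : (Fin r → A) →ₗ[A] M) : ShortComplex (ModuleCat.{u} A) :=
  ModuleCat.shortComplexOfCompEqZero (LinearMap.ker π).subtype π (by
    ext x
    exact x.2)

theorem coverSC_shortExact {r : ℕ} {M : Type u} [AddCommGroup M] [Module A M]
    (π : (Fin r → A) →ₗ[A] M) (hπ : Function.Surjective π) : (coverSC π).ShortExact :=
  ModuleCat.shortComplex_shortExact _ (LinearMap.exact_subtype_ker_map π)
    (Submodule.injective_subtype _) hπ

instance {r : ℕ} {M : Type u} [AddCommGroup M] [Module A M] (π : (Fin r → A) →ₗ[A] M) :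
    Projective (coverSC π).X₂ :=
  (IsProjective.iff_projective (R := A) (Fin r → A)).mp inferInstance

section Shift

variable (N : Type u) [AddCommGroup N] [Module A N] {r : ℕ} {M : Type u} [AddCommGroup M]
  [Module A M] (π : (Fin r → A) →ₗ[A] M) (hπ : Function.Surjective π)

include hπ in
/-- dimension shifting: `Tor_{n+2}(N, M) ≃ Tor_{n+1}(N, ker π)` -/
theorem nonempty_tor_equiv_succ (n : ℕ) :
    Nonempty (DRing.Tor A (n + 2) N M ≃ₗ[A] DRing.Tor A (n + 1) N (LinearMap.ker π)) := by
  obtain ⟨e⟩ := nonempty_iso_succ_of_projective (C := ModuleCat.{u} A) (D := ModuleCat.{u} A)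
    (isDeltaLite_T' (ModuleCat.of A N)) (coverSC_shortExact π hπ) n
  exact ⟨e.toLinearEquiv⟩

include hπ in
/-- `Tor_1(N, M)` is the kernel of `N ⊗ ker π → N ⊗ Aʳ` -/
theorem exists_tor_one_injective :
    ∃ j : DRing.Tor A 1 N M →ₗ[A] TensorProduct A N (LinearMap.ker π), Function.Injective j ∧
      ∀ t, LinearMap.lTensor N (LinearMap.ker π).subtype t = 0 → t ∈ LinearMap.range j := by
  obtain ⟨δ, w, hmono, hex⟩ := exists_mono_of_projective (C := ModuleCat.{u} A)
    (D := ModuleCat.{u} A) (isDeltaLite_T' (ModuleCat.of A N)) (coverSC_shortExact π hπ)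
  let F := (tensoringLeft (ModuleCat.{u} A)).obj (ModuleCat.of A N)
  let e0 : F.leftDerived 0 ≅ F := Functor.leftDerivedZeroIsoSelf F
  let S := coverSC π
  have hδ : Function.Injective δ.hom := (ModuleCat.mono_iff_injective δ).mp hmono
  let ε₁ := (e0.app S.X₁).toLinearEquiv
  let ε₂ := (e0.app S.X₂).toLinearEquiv
  refine ⟨ε₁.toLinearMap ∘ₗ δ.hom, ε₁.injective.comp hδ, ?_⟩
  intro t ht
  have hnat := e0.hom.naturality S.f
  have h1 : ((F.leftDerived 0).map S.f).hom (ε₁.symm t) = 0 := by
    apply ε₂.injective
    rw [map_zero]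
    have h2 := congrArg (fun φ => φ.hom (ε₁.symm t)) hnat
    simp only [ModuleCat.hom_comp, LinearMap.comp_apply] at h2
    refine h2.trans ?_
    have h3 : (e0.hom.app S.X₁).hom (ε₁.symm t) = t := ε₁.apply_symm_apply t
    rw [h3]
    exact ht
  obtain ⟨s, hs⟩ :=
    ((ShortComplex.ShortExact.moduleCat_exact_iff_function_exact _).mp hex (ε₁.symm t)).mp h1
  refine ⟨s, ?_⟩
  change ε₁ (δ.hom s) = t
  rw [← ε₁.apply_symm_apply t]
  exact congrArg _ hs

end Shift

section Zero

variable (N M : Type u) [AddCommGroup N] [Module A N] [AddCommGroup M] [Module A M]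

/-- `Tor_0(N, M) ≃ N ⊗ M` -/
noncomputable def torZeroEquiv : DRing.Tor A 0 N M ≃ₗ[A] TensorProduct A N M :=
  ((Functor.leftDerivedZeroIsoSelf
    ((tensoringLeft (ModuleCat.{u} A)).obj (ModuleCat.of A N))).app (ModuleCat.of A M)).toLinearEquiv

end Zero

section Finite

variable [IsNoetherianRing A] (N : Type u) [AddCommGroup N] [Module A N] [Module.Finite A N]

/-- `Tor` of finite modules over a Noetherian ring is finite -/
theorem finite_tor : ∀ (n : ℕ) (M : Type u) [AddCommGroup M] [Module A M] [Module.Finite A M],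
    Module.Finite A (DRing.Tor A n N M) := by
  intro n
  induction n with
  | zero =>
    intro M _ _ _
    exact Module.Finite.equiv (torZeroEquiv N M).symm
  | succ n ih =>
    intro M _ _ _
    obtain ⟨r, π, hπ⟩ := Module.Finite.exists_fin' A M
    haveI : Module.Finite A (LinearMap.ker π) :=
      Module.Finite.iff_fg.mpr (IsNoetherian.noetherian _)
    cases n with
    | zero =>
      obtain ⟨j, hj, -⟩ := exists_tor_one_injective N π hπ
      exact Module.Finite.of_injective j hj
    | succ n =>
      obtain ⟨e⟩ := nonempty_tor_equiv_succ N π hπ n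
      haveI := ih (LinearMap.ker π)
      exact Module.Finite.equiv e.symm

end Finite

section Kill

variable (N M : Type u) [AddCommGroup N] [Module A N] [AddCommGroup M] [Module A M]

instance : ((tensoringLeft (ModuleCat.{u} A)).obj (ModuleCat.of A N)).Linear A :=
  inferInstanceAs ((tensorLeft (ModuleCat.of A N)).Linear A)

theorem smul_tor_eq_zero_right (n : ℕ) (a : A) (ha : ∀ y : M, a • y = 0)
    (t : DRing.Tor A n N M) : a • t = 0 := by
  have h0 : a • 𝟙 (ModuleCat.of A M) = 0 := by
    apply ModuleCat.hom_ext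
    apply LinearMap.ext
    intro y
    exact ha y
  have h1 := Groth.Agent.Lib.Helper28.leftDerived_map_smul_id (R := A)
    ((tensoringLeft (ModuleCat.{u} A)).obj (ModuleCat.of A N)) n (ModuleCat.of A M) a
  rw [h0] at h1
  have h3 : a • 𝟙 (((tensoringLeft (ModuleCat.{u} A)).obj (ModuleCat.of A N)).leftDerived n |>.obj
      (ModuleCat.of A M)) = 0 := h1.symm.trans
    (Groth.Agent.Lib.Helper16.DimShift.torSnd_map_zero (ModuleCat.of A N) n _ _)
  have h2 := congrArg (fun φ => φ.hom t) h3
  exact h2

theorem smul_tor_eq_zero_left (n : ℕ) (a : A) (ha : ∀ y : N, a • y = 0)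
    (t : DRing.Tor A n N M) : a • t = 0 := by
  have h1 := Groth.Agent.Lib.Helper28.leftDerived_map_smul_id (R := A)
    ((tensoringLeft (ModuleCat.{u} A)).obj (ModuleCat.of A N)) n (ModuleCat.of A M) a
  have h0 := Groth.Agent.Lib.Helper16.DimShift.torSnd_map_smul_id (ModuleCat.of A N) n a ha
    (ModuleCat.of A M)
  have h3 : a • 𝟙 (((tensoringLeft (ModuleCat.{u} A)).obj (ModuleCat.of A N)).leftDerived n |>.obj
      (ModuleCat.of A M)) = 0 := h1.symm.trans h0
  have h2 := congrArg (fun φ => φ.hom t) h3
  exact h2

end Kill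

section Depth

open Groth.Agent.Lib.Helper29

variable [IsNoetherianRing A]

theorem idealDepth_le_pi (I : Ideal A) (N : Type u) [AddCommGroup N] [Module A N]
    [Module.Finite A N] (k : ℕ) :
    LocCoh.idealDepth I N ≤ LocCoh.idealDepth I (Fin k → N) := by
  induction k with
  | zero =>
    have : I • (⊤ : Submodule A (Fin 0 → N)) = ⊤ := Subsingleton.elim _ _
    rw [idealDepth_of_smul_top_eq I _ this]
    exact le_top
  | succ k ih =>
    rw [← idealDepth_congr I (Fin.consLinearEquiv A (fun _ : Fin k.succ => N))]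
    exact (le_min le_rfl ih).trans
      (Groth.Agent.Lib.Helper45.ReflexiveDepth.idealDepth_prod_ge I N (Fin k → N))

theorem idealDepth_le_tensor_pi (I : Ideal A) (N : Type u) [AddCommGroup N] [Module A N]
    [Module.Finite A N] (k : ℕ) :
    LocCoh.idealDepth I N ≤ LocCoh.idealDepth I (TensorProduct A N (Fin k → A)) := by
  rw [idealDepth_congr I (TensorProduct.piScalarRight A A N (Fin k))]
  exact idealDepth_le_pi I N k

theorem idealDepth_le_tensor_free [Nontrivial A] (I : Ideal A) (N : Type u) [AddCommGroup N] [Module A N]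
    [Module.Finite A N] (M : Type u) [AddCommGroup M] [Module A M] [Module.Finite A M]
    [Module.Free A M] :
    LocCoh.idealDepth I N ≤ LocCoh.idealDepth I (TensorProduct A N M) := by
  rw [idealDepth_congr I (TensorProduct.congr (LinearEquiv.refl A N)
    (Module.finBasis A M).equivFun)]
  exact idealDepth_le_tensor_pi I N _

end Depth

section Main

open Groth.Agent.Lib.Helper29

variable [IsNoetherianRing A] [IsLocalRing A]

omit [IsNoetherianRing A] [IsLocalRing A] in
theorem isFiniteLength_of_linearEquiv {M M' : Type*} [AddCommGroup M] [Module A M]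
    [AddCommGroup M'] [Module A M'] (e : M ≃ₗ[A] M') (h : IsFiniteLength A M) :
    IsFiniteLength A M' :=
  h.of_surjective (f := e.toLinearMap) e.surjective

/-- a finite length module mapping injectively into a module of positive depth vanishes -/
theorem subsingleton_of_injective_of_one_le_depth {L M : Type u} [AddCommGroup L] [Module A L]
    [AddCommGroup M] [Module A M] [Module.Finite A M] (j : L →ₗ[A] M)
    (hj : Function.Injective j) (hL : IsFiniteLength A L) (hM : 1 ≤ LocCoh.depth A M) :
    Subsingleton L := by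
  by_contra hne
  rw [not_subsingleton_iff_nontrivial] at hne
  haveI : IsNoetherian A L := (isFiniteLength_iff_isNoetherian_isArtinian.mp hL).1
  haveI : Module.Finite A L := inferInstance
  obtain ⟨h, hh, hkill⟩ :=
    Groth.Agent.Lib.Helper82.CochainAcyclic.exists_ne_zero_killed_of_isFiniteLength L hL
  have h0 := Groth.Agent.Lib.Helper82.DepthGens.idealDepth_eq_zero_of_killed
    (le_refl (IsLocalRing.maximalIdeal A)) M (j h)
    (fun h' => hh (hj (h'.trans (map_zero j).symm)))
    (fun y hy => by rw [← map_smul, hkill y hy, map_zero])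
  rw [LocCoh.depth, h0] at hM
  exact absurd hM (by simp)

/-- **Acyclicity by dimension shifting.** -/
theorem tor_vanish_aux (N : Type u) [AddCommGroup N] [Module A N] [Module.Finite A N] :
    ∀ (e : ℕ) (M : Type u) [AddCommGroup M] [Module A M] [Module.Finite A M],
      HasProjectiveDimensionLT (ModuleCat.of A M) (e + 1) → (e : ℕ∞) ≤ LocCoh.depth A N →
      (∀ i : ℕ, IsFiniteLength A (DRing.Tor A (i + 1) N M)) →
      (∀ i : ℕ, Subsingleton (DRing.Tor A (i + 1) N M)) ∧
        LocCoh.depth A N ≤ LocCoh.depth A (TensorProduct A N M) + e := by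
  intro e
  induction e with
  | zero =>
    intro M _ _ _ hpd _ _
    haveI : Projective (ModuleCat.of A M) := inferInstance
    constructor
    · intro i
      exact ModuleCat.subsingleton_of_isZero
        (Functor.isZero_leftDerived_obj_projective_succ _ i (ModuleCat.of A M))
    · haveI : Module.Projective A M := (IsProjective.iff_projective (R := A) M).mpr inferInstance
      haveI : Module.Free A M := Module.free_of_flat_of_isLocalRing
      rw [Nat.cast_zero, add_zero]
      exact idealDepth_le_tensor_free _ N M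
  | succ e ih =>
    intro M _ _ _ hpd hdepth hfl
    obtain ⟨r, π, hπ⟩ := Module.Finite.exists_fin' A M
    haveI : Module.Finite A (LinearMap.ker π) :=
      Module.Finite.iff_fg.mpr (IsNoetherian.noetherian _)
    have hS := coverSC_shortExact π hπ
    have hpdK : HasProjectiveDimensionLT (ModuleCat.of A (LinearMap.ker π)) (e + 1) :=
      (hS.hasProjectiveDimensionLT_X₃_iff e inferInstance).mp hpd
    have hdepth' : (e : ℕ∞) ≤ LocCoh.depth A N :=
      le_trans (by exact_mod_cast Nat.le_succ e) hdepth
    have hflK : ∀ i : ℕ, IsFiniteLength A (DRing.Tor A (i + 1) N (LinearMap.ker π)) := by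
      intro i
      obtain ⟨ε⟩ := nonempty_tor_equiv_succ N π hπ i
      exact isFiniteLength_of_linearEquiv ε (hfl (i + 1))
    obtain ⟨hvK, hdK⟩ := ih (LinearMap.ker π) hpdK hdepth' hflK
    -- depth of `N ⊗ K` is positive
    have h1K : 1 ≤ LocCoh.depth A (TensorProduct A N (LinearMap.ker π)) := by
      by_contra hcon
      have h0 : LocCoh.depth A (TensorProduct A N (LinearMap.ker π)) = 0 := by
        exact Order.lt_one_iff.mp (not_le.mp hcon)
      rw [h0, zero_add] at hdK
      have := hdepth.trans hdK
      have h2 : e + 1 ≤ e := by exact_mod_cast this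
      omega
    -- `Tor₁` vanishes
    obtain ⟨j, hj, hker⟩ := exists_tor_one_injective N π hπ
    have hT1 : Subsingleton (DRing.Tor A 1 N M) :=
      subsingleton_of_injective_of_one_le_depth j hj (hfl 0) h1K
    have hvan : ∀ i : ℕ, Subsingleton (DRing.Tor A (i + 1) N M) := by
      intro i
      cases i with
      | zero => exact hT1
      | succ i =>
        obtain ⟨ε⟩ := nonempty_tor_equiv_succ N π hπ i
        haveI := hvK i
        exact ε.toEquiv.subsingleton
    refine ⟨hvan, ?_⟩
    -- the short exact sequence `0 → N ⊗ K → N ⊗ Aʳ → N ⊗ M → 0`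
    have hinj : Function.Injective (LinearMap.lTensor N (LinearMap.ker π).subtype) := by
      rw [← LinearMap.ker_eq_bot, eq_bot_iff]
      intro t ht
      obtain ⟨s, rfl⟩ := hker t ht
      rw [Subsingleton.elim s 0, map_zero]
      exact Submodule.zero_mem _
    have hex : Function.Exact (LinearMap.lTensor N (LinearMap.ker π).subtype)
        (LinearMap.lTensor N π) :=
      lTensor_exact N (LinearMap.exact_subtype_ker_map π) hπ
    have hsurj : Function.Surjective (LinearMap.lTensor N π) := LinearMap.lTensor_surjective N hπ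
    have hses := (idealDepth_shortExact (IsLocalRing.maximalIdeal A)
      (TensorProduct A N (LinearMap.ker π)) (TensorProduct A N (Fin r → A))
      (TensorProduct A N M) _ _ hinj hsurj hex).2.1
    have hG := idealDepth_le_tensor_pi (IsLocalRing.maximalIdeal A) N r
    rw [min_le_iff] at hses
    rcases hses with h | h
    · exact (hG.trans h).trans le_self_add
    · have h2 : LocCoh.depth A (TensorProduct A N (LinearMap.ker π)) ≤
          LocCoh.depth A (TensorProduct A N M) + 1 := tsub_le_iff_right.mp h
      calc LocCoh.depth A N ≤ LocCoh.depth A (TensorProduct A N (LinearMap.ker π)) + e := hdK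
        _ ≤ LocCoh.depth A (TensorProduct A N M) + 1 + e := by gcongr
        _ = LocCoh.depth A (TensorProduct A N M) + ((e + 1 : ℕ) : ℕ∞) := by
            rw [add_assoc, add_comm 1 (e : ℕ∞)]
            norm_cast

end Main

end Groth.Agent.Lib.Helper85.TorVanish
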