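import Mathlib
import Groth.Prelude.Def_IntMult
import Groth.Agent.Lib.Helper85.IntMult.TorVanish
import Groth.Agent.Lib.Helper85.IntMult.Alg
import Groth.Agent.Lib.Helper85.Serre.Euler
import Groth.Agent.Lib.Helper85.HS.Core
import Groth.Agent.Lib.Helper73.LeftDerivedLES

/-!
# Additivity of the `Tor` Euler characteristic (helper85)

Over a Noetherian local ring `A`, for finite modules `M`, `N` with `M ⊗ N` of finite length
(phrased as `𝔪^k ≤ ann M + ann N`) and such that `Tor_p(M, -)` vanishes for `p > D`:
`χ(M, N₂) = χ(M, N₁) + χ(M, N₃)` for `0 → N₁ → N₂ → N₃ → 0` exact.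
-/

set_option autoImplicit false
set_option linter.style.haveILetI false
set_option linter.unusedSectionVars false
universe u

namespace Groth.Agent.Lib.Helper85.ChiAdd

open CategoryTheory CategoryTheory.Limits MonoidalCategory IsLocalRing
open Groth.Agent.Lib.Helper85.Serre

/-- `M ⊗ N` has finite length, in terms of annihilators -/
def FL (A : Type u) [CommRing A] [IsLocalRing A] (M N : Type u) [AddCommGroup M] [Module A M] [AddCommGroup N] [Module A N] :
    Prop :=
  ∃ k : ℕ, maximalIdeal A ^ k ≤ Module.annihilator A M ⊔ Module.annihilator A N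

variable {A : Type u} [CommRing A]

section FLlemmas

variable [IsLocalRing A] {M N : Type u} [AddCommGroup M] [Module A M] [AddCommGroup N] [Module A N]

theorem FL.symm (h : FL A M N) : FL A N M := by
  obtain ⟨k, hk⟩ := h
  exact ⟨k, hk.trans (le_of_eq (sup_comm _ _))⟩

theorem FL.of_annihilator_le {M' N' : Type u} [AddCommGroup M'] [Module A M'] [AddCommGroup N']
    [Module A N'] (h : FL A M N) (hM : Module.annihilator A M ≤ Module.annihilator A M')
    (hN : Module.annihilator A N ≤ Module.annihilator A N') : FL A M' N' := by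
  obtain ⟨k, hk⟩ := h
  exact ⟨k, hk.trans (sup_le_sup hM hN)⟩

theorem annihilator_le_of_injective {N' : Type u} [AddCommGroup N'] [Module A N']
    (f : N' →ₗ[A] N) (hf : Function.Injective f) :
    Module.annihilator A N ≤ Module.annihilator A N' := by
  intro a ha
  rw [Module.mem_annihilator] at ha ⊢
  intro y
  apply hf
  rw [map_smul, ha, map_zero]

theorem annihilator_le_of_surjective {N' : Type u} [AddCommGroup N'] [Module A N']
    (g : N →ₗ[A] N') (hg : Function.Surjective g) :
    Module.annihilator A N ≤ Module.annihilator A N' := by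
  intro a ha
  rw [Module.mem_annihilator] at ha ⊢
  intro y
  obtain ⟨x, rfl⟩ := hg y
  rw [← map_smul, ha, map_zero]

end FLlemmas

section FiniteLength

variable [IsNoetherianRing A] [IsLocalRing A]

/-- `Tor_i(M, N)` has finite length when `M ⊗ N` does -/
theorem isFiniteLength_tor (M N : Type u) [AddCommGroup M] [Module A M] [Module.Finite A M]
    [AddCommGroup N] [Module A N] [Module.Finite A N] (h : FL A M N) (i : ℕ) :
    IsFiniteLength A (DRing.Tor A i M N) := by
  set q := Module.annihilator A M ⊔ Module.annihilator A N with hq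
  haveI : Ring.KrullDimLE 0 (A ⧸ q) := by
    rw [Ideal.krullDimLE_zero_quotient_iff_forall_minimalPrimes_isMaximal]
    intro J hJ
    exact Groth.Agent.Lib.Helper85.HS.isMaximal_of_pow_maximalIdeal_le _ h J hJ.1.1 hJ.1.2
  haveI : IsArtinianRing (A ⧸ q) := isArtinianRing_iff_krullDimLE_zero.mpr inferInstance
  haveI : Module.Finite A (DRing.Tor A i M N) :=
    Groth.Agent.Lib.Helper85.TorVanish.finite_tor M i N
  refine Groth.Agent.Lib.Helper85.HS.isFiniteLength_of_finite_of_torsion q _ ?_
  intro a ha t
  obtain ⟨x, hx, y, hy, rfl⟩ := Submodule.mem_sup.mp ha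
  rw [add_smul,
    Groth.Agent.Lib.Helper85.TorVanish.smul_tor_eq_zero_left M N i x
      (fun m => Module.mem_annihilator.mp hx m) t,
    Groth.Agent.Lib.Helper85.TorVanish.smul_tor_eq_zero_right M N i y
      (fun n => Module.mem_annihilator.mp hy n) t, add_zero]

end FiniteLength

/-- telescoping sum -/
theorem telescope (γ : ℕ → ℤ) (D : ℕ) :
    ∑ n ∈ Finset.range (D + 1), (-1 : ℤ) ^ n * (γ n + (match n with | 0 => 0 | k + 1 => γ k)) =
      (-1 : ℤ) ^ D * γ D := by
  induction D with
  | zero => simp
  | succ D ih =>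
    rw [Finset.sum_range_succ, ih]
    ring

section Additivity

variable [IsNoetherianRing A] [IsLocalRing A]

/-- `χ(M, N)` as a finite sum, when `Tor` vanishes above `D` -/
theorem chi_eq_sum (M N : Type u) [AddCommGroup M] [Module A M] [AddCommGroup N] [Module A N]
    (D : ℕ) (hD : ∀ p : ℕ, D < p → Subsingleton (DRing.Tor A p M N)) :
    IntMult.chi A M N = ∑ n ∈ Finset.range (D + 1),
      (-1 : ℤ) ^ n * ((Module.length A (DRing.Tor A n M N)).toNat : ℤ) := by
  unfold IntMult.chi
  refine finsum_eq_sum_of_support_subset _ ?_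
  intro n hn
  rw [Function.mem_support] at hn
  rw [Finset.coe_range, Set.mem_Iio]
  by_contra hlt
  have hlt' : D < n := by omega
  haveI := hD n hlt'
  apply hn
  rw [Module.length_eq_zero_iff.mpr inferInstance]
  simp

/-- **additivity of `χ(M, -)`** on short exact sequences -/
theorem chi_add_of_exact (M : Type u) [AddCommGroup M] [Module A M] [Module.Finite A M]
    {N₁ N₂ N₃ : Type u} [AddCommGroup N₁] [Module A N₁] [Module.Finite A N₁]
    [AddCommGroup N₂] [Module A N₂] [Module.Finite A N₂]
    [AddCommGroup N₃] [Module A N₃] [Module.Finite A N₃]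
    (f : N₁ →ₗ[A] N₂) (g : N₂ →ₗ[A] N₃) (hf : Function.Injective f) (hg : Function.Surjective g)
    (hfg : Function.Exact f g) (hfl : FL A M N₂) (D : ℕ)
    (hD : ∀ (N : Type u) [AddCommGroup N] [Module A N] (p : ℕ), D < p →
      Subsingleton (DRing.Tor A p M N)) :
    IntMult.chi A M N₂ = IntMult.chi A M N₁ + IntMult.chi A M N₃ := by
  have hfl₁ : FL A M N₁ := hfl.of_annihilator_le le_rfl (annihilator_le_of_injective f hf)
  have hfl₃ : FL A M N₃ := hfl.of_annihilator_le le_rfl (annihilator_le_of_surjective g hg)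
  set F := (tensoringLeft (ModuleCat.{u} A)).obj (ModuleCat.of A M) with hF
  set S : ShortComplex (ModuleCat.{u} A) :=
    ModuleCat.shortComplexOfCompEqZero f g hfg.linearMap_comp_eq_zero with hSdef
  have hS : S.ShortExact := ModuleCat.shortComplex_shortExact S hfg hf hg
  have H := fun n => (Groth.Agent.Lib.Helper73.leftDerived_les F hS n).2
  have Hmid := fun n => (Groth.Agent.Lib.Helper73.leftDerived_les F hS n).1
  choose δ w₁ w₂ h₁ h₂ using H
  choose w₀ h₀ using Hmid
  -- finite lengths
  have fl₁ : ∀ n, IsFiniteLength A ((F.leftDerived n).obj S.X₁) :=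
    fun n => isFiniteLength_tor M N₁ hfl₁ n
  have fl₂ : ∀ n, IsFiniteLength A ((F.leftDerived n).obj S.X₂) :=
    fun n => isFiniteLength_tor M N₂ hfl n
  have fl₃ : ∀ n, IsFiniteLength A ((F.leftDerived n).obj S.X₃) :=
    fun n => isFiniteLength_tor M N₃ hfl₃ n
  -- the three relations
  have R1 : ∀ n, ((Module.length A (DRing.Tor A n M N₁)).toNat : ℤ) =
      rk (δ n) + rk ((F.leftDerived n).map S.f) :=
    fun n => toNat_length_eq_rk_add_rk _ (h₂ n) (fl₁ n)
  have R2 : ∀ n, ((Module.length A (DRing.Tor A n M N₂)).toNat : ℤ) =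
      rk ((F.leftDerived n).map S.f) + rk ((F.leftDerived n).map S.g) :=
    fun n => toNat_length_eq_rk_add_rk _ (h₀ n) (fl₂ n)
  have R3 : ∀ n, ((Module.length A (DRing.Tor A (n + 1) M N₃)).toNat : ℤ) =
      rk ((F.leftDerived (n + 1)).map S.g) + rk (δ n) :=
    fun n => toNat_length_eq_rk_add_rk _ (h₁ n) (fl₃ (n + 1))
  have R4 : ((Module.length A (DRing.Tor A 0 M N₃)).toNat : ℤ) = rk ((F.leftDerived 0).map S.g) := by
    haveI : PreservesColimitsOfShape WalkingSpan F := inferInstance
    haveI : F.PreservesEpimorphisms := preservesEpimorphisms_of_preservesColimitsOfShape _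
    haveI : Epi S.g := hS.epi_g
    haveI : Epi (F.map S.g) := inferInstance
    let e0 : F.leftDerived 0 ≅ F := Functor.leftDerivedZeroIsoSelf F
    have hnat : (F.leftDerived 0).map S.g = e0.hom.app S.X₂ ≫ F.map S.g ≫ e0.inv.app S.X₃ := by
      rw [← Category.assoc, ← e0.hom.naturality S.g, Category.assoc, Iso.hom_inv_id_app,
        Category.comp_id]
    haveI : Epi ((F.leftDerived 0).map S.g) := by
      rw [hnat]
      infer_instance
    have hsurj : Function.Surjective ((F.leftDerived 0).map S.g).hom :=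
      (ModuleCat.epi_iff_surjective _).mp inferInstance
    unfold rk
    rw [LinearMap.range_eq_top.mpr hsurj]
    congr 2
    exact (LinearEquiv.ofTop ⊤ rfl).symm.length_eq
  -- the alternating sums
  have hD₁ := hD N₁
  have hD₂ := hD N₂
  have hD₃ := hD N₃
  rw [chi_eq_sum M N₁ D hD₁, chi_eq_sum M N₂ D hD₂, chi_eq_sum M N₃ D hD₃]
  have hγD : rk (δ D) = 0 := by
    refine rk_eq_zero_of_isZero_src _ ?_
    haveI : Subsingleton ((F.leftDerived (D + 1)).obj S.X₃) := hD₃ (D + 1) (Nat.lt_succ_self D)
    exact ModuleCat.isZero_of_subsingleton _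
  have key := telescope (fun n => rk (δ n)) D
  rw [hγD, mul_zero] at key
  have hsum : ∀ n ∈ Finset.range (D + 1),
      (-1 : ℤ) ^ n * ((Module.length A (DRing.Tor A n M N₁)).toNat : ℤ) +
        (-1 : ℤ) ^ n * ((Module.length A (DRing.Tor A n M N₃)).toNat : ℤ) -
        (-1 : ℤ) ^ n * ((Module.length A (DRing.Tor A n M N₂)).toNat : ℤ) =
      (-1 : ℤ) ^ n * (rk (δ n) + (match n with | 0 => 0 | k + 1 => rk (δ k))) := by
    intro n _
    rw [R1 n, R2 n]
    cases n with
    | zero => rw [R4]; ring
    | succ k => rw [R3 k]; ring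
  have := Finset.sum_congr rfl hsum
  rw [key, Finset.sum_sub_distrib, Finset.sum_add_distrib] at this
  linarith

end Additivity

end Groth.Agent.Lib.Helper85.ChiAdd
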