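import Mathlib
import Groth.Agent.Lib.Helper85.IntMult.TorVanish

/-!
# Relative uniqueness of δ-functors on finitely generated modules (helper85)

Over a Noetherian ring `A`, two sequences of functors `T n, T' n : ModuleCat A ⥤ D` with connecting
morphisms for short exact sequences, vanishing on the finite free modules `Aʳ` in positive degrees
and naturally isomorphic in degree `0`, agree on all finitely generated modules.
-/

set_option autoImplicit false
universe v w u

namespace Groth.Agent.Lib.Helper85.RelDelta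

open CategoryTheory CategoryTheory.Limits
open Groth.Agent.Lib.Helper85.TorVanish

variable {A : Type u} [CommRing A]
  {D : Type w} [Category.{v} D] [Abelian D]

/-- connecting morphisms for short exact sequences, vanishing on finite free modules -/
structure IsRelDelta (T : ℕ → ModuleCat.{u} A ⥤ D) : Prop where
  les : ∀ {S : ShortComplex (ModuleCat.{u} A)} (_ : S.ShortExact) (n : ℕ),
    ∃ (δ : (T (n + 1)).obj S.X₃ ⟶ (T n).obj S.X₁)
      (w₁ : (T (n + 1)).map S.g ≫ δ = 0) (w₂ : δ ≫ (T n).map S.f = 0),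
      (ShortComplex.mk _ δ w₁).Exact ∧ (ShortComplex.mk δ _ w₂).Exact
  vanish : ∀ (r n : ℕ), IsZero ((T (n + 1)).obj (ModuleCat.of A (Fin r → A)))

/-! ### Vanishing on `Aʳ` from vanishing on `A` -/

section Pi

variable (A)

/-- `0 → A → A^{r+1} → A^r → 0` -/
noncomputable abbrev piSC (r : ℕ) : ShortComplex (ModuleCat.{u} A) :=
  ModuleCat.shortComplexOfCompEqZero (LinearMap.single A (fun _ : Fin (r + 1) => A) 0)
    (LinearMap.funLeft A A (Fin.succ : Fin r → Fin (r + 1))) (by
      ext a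
      simp [LinearMap.funLeft_apply, Fin.succ_ne_zero])

theorem piSC_shortExact (r : ℕ) : (piSC A r).ShortExact := by
  refine ModuleCat.shortComplex_shortExact _ ?_ ?_ ?_
  · intro v
    constructor
    · intro hv
      refine ⟨v 0, ?_⟩
      funext j
      refine Fin.cases ?_ (fun i => ?_) j
      · simp
      · have := congrFun hv i
        simp only [ModuleCat.hom_ofHom, LinearMap.funLeft_apply] at this
        simp [Fin.succ_ne_zero, this]
        rfl
    · rintro ⟨a, rfl⟩
      funext i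
      simp [LinearMap.funLeft_apply, Fin.succ_ne_zero]
      rfl
  · intro a b hab
    have := congrFun hab 0
    simpa using this
  · intro w
    refine ⟨Fin.cons 0 w, ?_⟩
    funext i
    simp [LinearMap.funLeft_apply]

variable {A}

/-- constructor: it suffices to check the vanishing on `A` itself, given exactness in the middle -/
theorem IsRelDelta.of_vanish_self (T : ℕ → ModuleCat.{u} A ⥤ D)
    (les : ∀ {S : ShortComplex (ModuleCat.{u} A)} (_ : S.ShortExact) (n : ℕ),
      ∃ (δ : (T (n + 1)).obj S.X₃ ⟶ (T n).obj S.X₁)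
        (w₁ : (T (n + 1)).map S.g ≫ δ = 0) (w₂ : δ ≫ (T n).map S.f = 0),
        (ShortComplex.mk _ δ w₁).Exact ∧ (ShortComplex.mk δ _ w₂).Exact)
    (mid : ∀ {S : ShortComplex (ModuleCat.{u} A)} (_ : S.ShortExact) (n : ℕ),
      ∃ w₀ : (T n).map S.f ≫ (T n).map S.g = 0, (ShortComplex.mk _ _ w₀).Exact)
    (h : ∀ n : ℕ, IsZero ((T (n + 1)).obj (ModuleCat.of A A))) : IsRelDelta T where
  les := les
  vanish r n := by
    induction r with
    | zero =>
      have hZ : IsZero (ModuleCat.of A (Fin 0 → A)) :=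
        ModuleCat.isZero_of_subsingleton _
      let S : ShortComplex (ModuleCat.{u} A) :=
        ShortComplex.mk (𝟙 (ModuleCat.of A (Fin 0 → A))) (𝟙 _) (hZ.eq_of_src _ _)
      have hS : S.ShortExact :=
        { exact := ShortComplex.exact_of_isZero_X₂ _ hZ
          mono_f := inferInstanceAs (Mono (𝟙 _))
          epi_g := inferInstanceAs (Epi (𝟙 _)) }
      obtain ⟨w₀, -⟩ := mid hS (n + 1)
      rw [IsZero.iff_id_eq_zero]
      have h1 : (T (n + 1)).map (𝟙 (ModuleCat.of A (Fin 0 → A))) ≫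
          (T (n + 1)).map (𝟙 (ModuleCat.of A (Fin 0 → A))) = 0 := w₀
      rwa [CategoryTheory.Functor.map_id, Category.comp_id] at h1
    | succ r ih =>
      obtain ⟨w₀, hex⟩ := mid (piSC_shortExact A r) (n + 1)
      exact hex.isZero_X₂ ((h n).eq_of_src _ _) (ih.eq_of_tgt _ _)

end Pi

namespace IsRelDelta

variable {T T' : ℕ → ModuleCat.{u} A ⥤ D}

/-- `T (n+2) N ≅ T (n+1) (ker π)` for a finite free cover `π : Aʳ → N` -/
theorem nonempty_iso_succ (hT : IsRelDelta T) {r : ℕ} {N : Type u} [AddCommGroup N] [Module A N]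
    (π : (Fin r → A) →ₗ[A] N) (hπ : Function.Surjective π) (n : ℕ) :
    Nonempty ((T (n + 2)).obj (ModuleCat.of A N) ≅
      (T (n + 1)).obj (ModuleCat.of A (LinearMap.ker π))) := by
  obtain ⟨δ, w₁, w₂, h₁, h₂⟩ := hT.les (coverSC_shortExact π hπ) (n + 1)
  have hmono : Mono δ := h₁.mono_g ((hT.vanish r (n + 1)).eq_of_src _ _)
  have hepi : Epi δ := h₂.epi_f ((hT.vanish r n).eq_of_tgt _ _)
  have hiso : IsIso δ := isIso_of_mono_of_epi δ
  exact ⟨@asIso _ _ _ _ δ hiso⟩

/-- `T 1 N ≅ ker (T 0 (ker π) ⟶ T 0 Aʳ)` -/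
theorem nonempty_iso_one (hT : IsRelDelta T) {r : ℕ} {N : Type u} [AddCommGroup N] [Module A N]
    (π : (Fin r → A) →ₗ[A] N) (hπ : Function.Surjective π) :
    Nonempty ((T 1).obj (ModuleCat.of A N) ≅ kernel ((T 0).map (coverSC π).f)) := by
  obtain ⟨δ, w₁, w₂, h₁, h₂⟩ := hT.les (coverSC_shortExact π hπ) 0
  have hmono : Mono δ := h₁.mono_g ((hT.vanish r 0).eq_of_src _ _)
  have hker := h₂.fIsKernel
  exact ⟨IsLimit.conePointUniqueUpToIso hker (limit.isLimit _)⟩

variable [IsNoetherianRing A]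

/-- **relative uniqueness** -/
theorem nonempty_iso (hT : IsRelDelta T) (hT' : IsRelDelta T') (e₀ : T 0 ≅ T' 0) :
    ∀ (n : ℕ) (N : Type u) [AddCommGroup N] [Module A N] [Module.Finite A N],
      Nonempty ((T n).obj (ModuleCat.of A N) ≅ (T' n).obj (ModuleCat.of A N)) := by
  intro n
  induction n using Nat.strong_induction_on with
  | _ n ih =>
    intro N _ _ _
    match n, ih with
    | 0, _ => exact ⟨e₀.app _⟩
    | 1, _ =>
      obtain ⟨r, π, hπ⟩ := Module.Finite.exists_fin' A N
      obtain ⟨e⟩ := hT.nonempty_iso_one π hπ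
      obtain ⟨e'⟩ := hT'.nonempty_iso_one π hπ
      refine ⟨e ≪≫ kernel.mapIso _ _ (e₀.app _) (e₀.app _) ?_ ≪≫ e'.symm⟩
      simp
    | (n + 2), ih =>
      obtain ⟨r, π, hπ⟩ := Module.Finite.exists_fin' A N
      obtain ⟨e⟩ := hT.nonempty_iso_succ π hπ n
      obtain ⟨e'⟩ := hT'.nonempty_iso_succ π hπ n
      obtain ⟨e''⟩ := ih (n + 1) (by omega) (LinearMap.ker π)
      exact ⟨e ≪≫ e'' ≪≫ e'.symm⟩

/-- if moreover `T 0` preserves monomorphisms, then `T (n+1)` vanishes on finitely generated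
modules -/
theorem isZero_of_mono (hT : IsRelDelta T)
    (h0 : ∀ {X Y : ModuleCat.{u} A} (f : X ⟶ Y), Mono f → Mono ((T 0).map f)) :
    ∀ (n : ℕ) (N : Type u) [AddCommGroup N] [Module A N] [Module.Finite A N],
      IsZero ((T (n + 1)).obj (ModuleCat.of A N)) := by
  intro n
  induction n with
  | zero =>
    intro N _ _ _
    obtain ⟨r, π, hπ⟩ := Module.Finite.exists_fin' A N
    obtain ⟨δ, w₁, w₂, h₁, h₂⟩ := hT.les (coverSC_shortExact π hπ) 0
    have hmono : Mono δ := h₁.mono_g ((hT.vanish r 0).eq_of_src _ _)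
    have hm : Mono ((T 0).map (coverSC π).f) := h0 _ (coverSC_shortExact π hπ).mono_f
    have hz : δ = 0 := by
      rw [← cancel_mono ((T 0).map (coverSC π).f), w₂, zero_comp]
    exact IsZero.of_mono_eq_zero δ hz
  | succ n ih =>
    intro N _ _ _
    obtain ⟨r, π, hπ⟩ := Module.Finite.exists_fin' A N
    obtain ⟨e⟩ := hT.nonempty_iso_succ π hπ n
    exact (ih (LinearMap.ker π)).of_iso e

end IsRelDelta

end Groth.Agent.Lib.Helper85.RelDelta
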