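import Mathlib
import Groth.Agent.Lib.Helper85.IntMult.RelDelta
import Groth.Agent.Lib.Helper73.LeftDerivedLES
import Groth.Prelude.Def_IntMult

/-!
# Flat base change for `Tor`, relative form (helper85)

`A → C` a ring map, `E` a `C`-module which is flat over `A`, `Y` a `C`-module with
`Tor_j^C(Y, E) = 0` for `j > 0`.  Then for every finitely generated module `N` over the Noetherian
ring `A`: `Tor_n^C(Y, E ⊗[A] N) ≅ Tor_n^A(Y ⊗[C] E, N)` as `A`-modules.
-/

set_option autoImplicit false
universe u

namespace Groth.Agent.Lib.Helper85.FlatBC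

open CategoryTheory CategoryTheory.Limits MonoidalCategory TensorProduct
open Groth.Agent.Lib.Helper85.RelDelta

section Functor

variable (A C : Type u) [CommRing A] [CommRing C] [Algebra A C]
  (E : Type u) [AddCommGroup E] [Module A E] [Module C E] [IsScalarTower A C E]

/-- the functor `N ↦ E ⊗[A] N` from `A`-modules to `C`-modules -/
noncomputable def tensFunctor : ModuleCat.{u} A ⥤ ModuleCat.{u} C where
  obj N := ModuleCat.of C (E ⊗[A] N)
  map f := ModuleCat.ofHom (AlgebraTensorModule.lTensor C E f.hom)
  map_id N := by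
    apply ModuleCat.hom_ext
    exact AlgebraTensorModule.lTensor_id (R := A) (A := C) (M := E)
  map_comp f g := by
    apply ModuleCat.hom_ext
    exact AlgebraTensorModule.lTensor_comp (R := A) (A := C) (M := E) _ _

instance : (tensFunctor A C E).Additive where
  map_add {X Y f g} := by
    apply ModuleCat.hom_ext
    exact map_add (AlgebraTensorModule.lTensor C E) f.hom g.hom

variable {A C E}

/-- `E ⊗[A] -` preserves short exact sequences when `E` is flat over `A` -/
theorem shortExact_map_tensFunctor [Module.Flat A E] {S : ShortComplex (ModuleCat.{u} A)}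
    (hS : S.ShortExact) : (S.map (tensFunctor A C E)).ShortExact := by
  have hex : Function.Exact S.f.hom S.g.hom :=
    (ShortComplex.ShortExact.moduleCat_exact_iff_function_exact S).mp hS.exact
  have hinj : Function.Injective S.f.hom := hS.moduleCat_injective_f
  have hsurj : Function.Surjective S.g.hom := hS.moduleCat_surjective_g
  refine ModuleCat.shortComplex_shortExact _ ?_ ?_ ?_
  · exact lTensor_exact E hex hsurj
  · exact Module.Flat.lTensor_preserves_injective_linearMap (M := E) S.f.hom hinj
  · exact LinearMap.lTensor_surjective E hsurj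

/-- `E ⊗[A] A ≅ E` -/
noncomputable def tensFunctorSelfIso :
    (tensFunctor A C E).obj (ModuleCat.of A A) ≅ ModuleCat.of C E :=
  (AlgebraTensorModule.rid A C E).toModuleIso

end Functor

section Delta

variable (A C : Type u) [CommRing A] [CommRing C] [Algebra A C]
  (E : Type u) [AddCommGroup E] [Module A E] [Module C E] [IsScalarTower A C E]
  (Y : Type u) [AddCommGroup Y] [Module A Y] [Module C Y] [IsScalarTower A C Y]

/-- `N ↦ Tor_n^C(Y, E ⊗[A] N)`, as an `A`-module -/
noncomputable def TY (n : ℕ) : ModuleCat.{u} A ⥤ ModuleCat.{u} A :=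
  tensFunctor A C E ⋙ ((tensoringLeft (ModuleCat.{u} C)).obj (ModuleCat.of C Y)).leftDerived n ⋙
    ModuleCat.restrictScalars (algebraMap A C)

variable {A C E Y}

theorem isRelDelta_TY [Module.Flat A E]
    (hYE : ∀ n : ℕ, IsZero ((((tensoringLeft (ModuleCat.{u} C)).obj
      (ModuleCat.of C Y)).leftDerived (n + 1)).obj (ModuleCat.of C E))) :
    IsRelDelta (TY A C E Y) := by
  refine IsRelDelta.of_vanish_self _ ?_ ?_ ?_
  · intro S hS n
    have hS' := shortExact_map_tensFunctor (C := C) (E := E) hS
    obtain ⟨-, δ, w₁, w₂, h₁, h₂⟩ := Groth.Agent.Lib.Helper73.leftDerived_les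
      ((tensoringLeft (ModuleCat.{u} C)).obj (ModuleCat.of C Y)) hS' n
    refine ⟨(ModuleCat.restrictScalars (algebraMap A C)).map δ, ?_, ?_, ?_, ?_⟩
    · exact ((ModuleCat.restrictScalars (algebraMap A C)).map_comp _ _).symm.trans
        ((congrArg _ w₁).trans (Functor.map_zero _ _ _))
    · exact ((ModuleCat.restrictScalars (algebraMap A C)).map_comp _ _).symm.trans
        ((congrArg _ w₂).trans (Functor.map_zero _ _ _))
    · exact h₁.map (ModuleCat.restrictScalars (algebraMap A C))
    · exact h₂.map (ModuleCat.restrictScalars (algebraMap A C))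
  · intro S hS n
    have hS' := shortExact_map_tensFunctor (C := C) (E := E) hS
    obtain ⟨⟨w₀, h₀⟩, -⟩ := Groth.Agent.Lib.Helper73.leftDerived_les
      ((tensoringLeft (ModuleCat.{u} C)).obj (ModuleCat.of C Y)) hS' n
    refine ⟨?_, ?_⟩
    · exact ((ModuleCat.restrictScalars (algebraMap A C)).map_comp _ _).symm.trans
        ((congrArg _ w₀).trans (Functor.map_zero _ _ _))
    · exact h₀.map (ModuleCat.restrictScalars (algebraMap A C))
  · intro n
    have h1 : IsZero ((((tensoringLeft (ModuleCat.{u} C)).obj
        (ModuleCat.of C Y)).leftDerived (n + 1)).obj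
          ((tensFunctor A C E).obj (ModuleCat.of A A))) :=
      (hYE n).of_iso ((((tensoringLeft (ModuleCat.{u} C)).obj
        (ModuleCat.of C Y)).leftDerived (n + 1)).mapIso tensFunctorSelfIso)
    exact (ModuleCat.restrictScalars (algebraMap A C)).map_isZero h1

end Delta

section Compare

variable (A C : Type u) [CommRing A] [CommRing C] [Algebra A C]
  (E : Type u) [AddCommGroup E] [Module A E] [Module C E] [IsScalarTower A C E]
  (Y : Type u) [AddCommGroup Y] [Module A Y] [Module C Y] [IsScalarTower A C Y]

/-- `N ↦ Tor_n^A(Y ⊗[C] E, N)` -/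
noncomputable def TW (n : ℕ) : ModuleCat.{u} A ⥤ ModuleCat.{u} A :=
  ((tensoringLeft (ModuleCat.{u} A)).obj (ModuleCat.of A (Y ⊗[C] E))).leftDerived n

theorem isRelDelta_TW : IsRelDelta (TW A C E Y) where
  les hS n := (Groth.Agent.Lib.Helper73.leftDerived_les _ hS n).2
  vanish r n := by
    have : Projective (ModuleCat.of A (Fin r → A)) :=
      (IsProjective.iff_projective (R := A) (Fin r → A)).mp inferInstance
    exact Functor.isZero_leftDerived_obj_projective_succ _ n _

/-- the component of the degree zero comparison -/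
noncomputable def cmpEquiv (N : ModuleCat.{u} A) :
    ((ModuleCat.restrictScalars (algebraMap A C)).obj
      ((ModuleCat.of C Y : ModuleCat.{u} C) ⊗ (tensFunctor A C E).obj N)) ≃ₗ[A]
    ((ModuleCat.of A (Y ⊗[C] E) : ModuleCat.{u} A) ⊗ N : ModuleCat.{u} A) where
  toFun x := (AlgebraTensorModule.assoc A C C Y E N).symm x
  invFun x := AlgebraTensorModule.assoc A C C Y E N x
  left_inv x := (AlgebraTensorModule.assoc A C C Y E N).apply_symm_apply x
  right_inv x := (AlgebraTensorModule.assoc A C C Y E N).symm_apply_apply x
  map_add' x y := map_add _ x y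
  map_smul' a x := by
    let x' : Y ⊗[C] (E ⊗[A] N) := x
    change (AlgebraTensorModule.assoc A C C Y E N).symm (algebraMap A C a • x') =
      a • (AlgebraTensorModule.assoc A C C Y E N).symm x'
    rw [map_smul, algebraMap_smul]


theorem assoc_symm_naturality {N N' : Type u} [AddCommGroup N] [Module A N] [AddCommGroup N']
    [Module A N'] (f : N →ₗ[A] N') (t : Y ⊗[C] (E ⊗[A] N)) :
    (AlgebraTensorModule.assoc A C C Y E N').symm
        ((AlgebraTensorModule.lTensor C E f).lTensor Y t) =
      f.lTensor (Y ⊗[C] E) ((AlgebraTensorModule.assoc A C C Y E N).symm t) := by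
  induction t using TensorProduct.induction_on with
  | zero => simp
  | add a b ha hb => rw [map_add, map_add, map_add, map_add, ha, hb]
  | tmul y t =>
    induction t using TensorProduct.induction_on with
    | zero => simp
    | add a b ha hb =>
      rw [TensorProduct.tmul_add, map_add, map_add, map_add, map_add, ha, hb]
    | tmul e n => rfl

/-- the degree zero comparison `Y ⊗[C] (E ⊗[A] N) ≅ (Y ⊗[C] E) ⊗[A] N`, naturally in `N` -/
noncomputable def cmpNatIso :
    tensFunctor A C E ⋙ (tensoringLeft (ModuleCat.{u} C)).obj (ModuleCat.of C Y) ⋙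
      ModuleCat.restrictScalars (algebraMap A C) ≅
    (tensoringLeft (ModuleCat.{u} A)).obj (ModuleCat.of A (Y ⊗[C] E)) :=
  NatIso.ofComponents (fun N => (cmpEquiv A C E Y N).toModuleIso) (by
    intro N N' f
    apply ModuleCat.hom_ext
    apply LinearMap.ext
    intro x
    exact assoc_symm_naturality A C E Y f.hom x)


/-- the degree zero comparison of the two δ-functors -/
noncomputable def tyZeroIso : TY A C E Y 0 ≅ TW A C E Y 0 :=
  Functor.isoWhiskerLeft (tensFunctor A C E) (Functor.isoWhiskerRight
    (Functor.leftDerivedZeroIsoSelf ((tensoringLeft (ModuleCat.{u} C)).obj (ModuleCat.of C Y)))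
    (ModuleCat.restrictScalars (algebraMap A C))) ≪≫ cmpNatIso A C E Y ≪≫
  (Functor.leftDerivedZeroIsoSelf
    ((tensoringLeft (ModuleCat.{u} A)).obj (ModuleCat.of A (Y ⊗[C] E)))).symm

variable {A C E Y}

/-- **relative flat base change for `Tor`** -/
theorem nonempty_ty_iso_tw [IsNoetherianRing A] [Module.Flat A E]
    (hYE : ∀ n : ℕ, IsZero ((((tensoringLeft (ModuleCat.{u} C)).obj
      (ModuleCat.of C Y)).leftDerived (n + 1)).obj (ModuleCat.of C E)))
    (n : ℕ) (N : Type u) [AddCommGroup N] [Module A N] [Module.Finite A N] :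
    Nonempty ((TY A C E Y n).obj (ModuleCat.of A N) ≅ (TW A C E Y n).obj (ModuleCat.of A N)) :=
  (isRelDelta_TY hYE).nonempty_iso (isRelDelta_TW A C E Y) (tyZeroIso A C E Y) n N

end Compare


section Length

variable {A C : Type u} [CommRing A] [CommRing C] [Algebra A C]

/-- the length of a `C`-module over `A`, when `A → C` is surjective modulo the annihilator -/
theorem length_restrictScalars_eq (Z : ModuleCat.{u} C)
    (h : ∀ c : C, ∃ a : A, ∀ z : Z, c • z = algebraMap A C a • z) :
    Module.length A ((ModuleCat.restrictScalars (algebraMap A C)).obj Z) = Module.length C Z := by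
  let R := (ModuleCat.restrictScalars (algebraMap A C)).obj Z
  have hsmul : ∀ (a : A) (z : R), a • z = (algebraMap A C a • (z : Z) : Z) := fun a z => rfl
  let φ : Submodule C Z ≃o Submodule A R :=
    { toFun := fun p =>
        { carrier := (p : Set Z)
          add_mem' := fun ha hb => p.add_mem ha hb
          zero_mem' := p.zero_mem
          smul_mem' := fun a z hz => by
            rw [hsmul]
            exact p.smul_mem _ hz }
      invFun := fun q =>
        { carrier := (q : Set R)
          add_mem' := fun ha hb => q.add_mem ha hb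
          zero_mem' := q.zero_mem
          smul_mem' := fun c z hz => by
            obtain ⟨a, ha⟩ := h c
            rw [ha z]
            exact q.smul_mem a hz }
      left_inv := fun p => rfl
      right_inv := fun q => rfl
      map_rel_iff' := Iff.rfl }
  apply WithBot.coe_injective
  rw [Module.coe_length, Module.coe_length, Order.krullDim_eq_of_orderIso φ]

end Length

section Final

variable {A C : Type u} [CommRing A] [CommRing C] [Algebra A C]
  {E : Type u} [AddCommGroup E] [Module A E] [Module C E] [IsScalarTower A C E]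
  {Y : Type u} [AddCommGroup Y] [Module A Y] [Module C Y] [IsScalarTower A C Y]

/-- **relative flat base change for `Tor`**, length form -/
theorem length_tor_eq [IsNoetherianRing A] [Module.Flat A E]
    (hYE : ∀ n : ℕ, Subsingleton (DRing.Tor C (n + 1) Y E))
    (hY : ∀ c : C, ∃ a : A, ∀ y : Y, c • y = algebraMap A C a • y)
    (n : ℕ) (N : Type u) [AddCommGroup N] [Module A N] [Module.Finite A N] :
    Module.length A (DRing.Tor A n (Y ⊗[C] E) N) =
      Module.length C (DRing.Tor C n Y (E ⊗[A] N)) := by
  obtain ⟨e⟩ := nonempty_ty_iso_tw (A := A) (C := C) (E := E) (Y := Y)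
    (fun n => @ModuleCat.isZero_of_subsingleton _ _ _ (hYE n)) n N
  have h1 : Module.length A (DRing.Tor A n (Y ⊗[C] E) N) =
      Module.length A ((TY A C E Y n).obj (ModuleCat.of A N)) := e.toLinearEquiv.length_eq.symm
  rw [h1]
  refine length_restrictScalars_eq (A := A)
    ((((tensoringLeft (ModuleCat.{u} C)).obj (ModuleCat.of C Y)).leftDerived n).obj
      ((tensFunctor A C E).obj (ModuleCat.of A N))) ?_
  intro c
  obtain ⟨a, ha⟩ := hY c
  refine ⟨a, fun z => ?_⟩
  have h0 : (c - algebraMap A C a) • z = 0 :=
    Groth.Agent.Lib.Helper85.TorVanish.smul_tor_eq_zero_left (A := C) Y (E ⊗[A] N) n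
      (c - algebraMap A C a) (fun y => by rw [sub_smul, ha y, sub_self]) z
  calc c • z = ((c - algebraMap A C a) + algebraMap A C a) • z := by rw [sub_add_cancel]
    _ = (c - algebraMap A C a) • z + algebraMap A C a • z := add_smul _ _ _
    _ = algebraMap A C a • z := by rw [h0, zero_add]

end Final


end Groth.Agent.Lib.Helper85.FlatBC
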