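import Mathlib
import Groth.Agent.Lib.Helper85.IntMult.FlatBC
import Groth.Agent.Lib.Helper85.IntMult.ChiAdd

/-!
# Flat base change for `Tor` and for `χ` (helper85)

`A → B` flat, `A` Noetherian, `M, N` finite `A`-modules:
`Tor_n^B(B ⊗ M, B ⊗ N) ≅ B ⊗ Tor_n^A(M, N)` as `B`-modules.  For a flat local homomorphism of
local rings this gives `χ^B(B ⊗ M, B ⊗ N) = χ^A(M, N) · ℓ_B(B/𝔪_A B)`.
-/

set_option autoImplicit false
set_option linter.style.haveILetI false
set_option linter.unusedSectionVars false
universe u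

namespace Groth.Agent.Lib.Helper85.FlatPull

open CategoryTheory CategoryTheory.Limits MonoidalCategory TensorProduct
open Groth.Agent.Lib.Helper85.RelDelta Groth.Agent.Lib.Helper85.FlatBC

section Functors

variable (A B : Type u) [CommRing A] [CommRing B] [Algebra A B]
  (M : Type u) [AddCommGroup M] [Module A M]

/-- `N ↦ Tor_n^B(B ⊗ M, B ⊗ N)` -/
noncomputable def TB (n : ℕ) : ModuleCat.{u} A ⥤ ModuleCat.{u} B :=
  tensFunctor A B B ⋙
    ((tensoringLeft (ModuleCat.{u} B)).obj (ModuleCat.of B (B ⊗[A] M))).leftDerived n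

/-- `N ↦ B ⊗ Tor_n^A(M, N)` -/
noncomputable def TA (n : ℕ) : ModuleCat.{u} A ⥤ ModuleCat.{u} B :=
  ((tensoringLeft (ModuleCat.{u} A)).obj (ModuleCat.of A M)).leftDerived n ⋙ tensFunctor A B B

variable {A B}

theorem isRelDelta_TB [Module.Flat A B] : IsRelDelta (TB A B M) := by
  refine IsRelDelta.of_vanish_self _ ?_ ?_ ?_
  · intro S hS n
    have hS' := shortExact_map_tensFunctor (C := B) (E := B) hS
    obtain ⟨-, δ, w₁, w₂, h₁, h₂⟩ := Groth.Agent.Lib.Helper73.leftDerived_les
      ((tensoringLeft (ModuleCat.{u} B)).obj (ModuleCat.of B (B ⊗[A] M))) hS' n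
    exact ⟨δ, w₁, w₂, h₁, h₂⟩
  · intro S hS n
    have hS' := shortExact_map_tensFunctor (C := B) (E := B) hS
    obtain ⟨⟨w₀, h₀⟩, -⟩ := Groth.Agent.Lib.Helper73.leftDerived_les
      ((tensoringLeft (ModuleCat.{u} B)).obj (ModuleCat.of B (B ⊗[A] M))) hS' n
    exact ⟨w₀, h₀⟩
  · intro n
    have : Projective (ModuleCat.of B B) :=
      (IsProjective.iff_projective (R := B) B).mp inferInstance
    have h1 : IsZero ((((tensoringLeft (ModuleCat.{u} B)).obj
        (ModuleCat.of B (B ⊗[A] M))).leftDerived (n + 1)).obj (ModuleCat.of B B)) :=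
      Functor.isZero_leftDerived_obj_projective_succ _ n _
    exact h1.of_iso ((((tensoringLeft (ModuleCat.{u} B)).obj
        (ModuleCat.of B (B ⊗[A] M))).leftDerived (n + 1)).mapIso tensFunctorSelfIso)

theorem preservesHomology_tensFunctor [Module.Flat A B] :
    (tensFunctor A B B).PreservesHomology :=
  ((Functor.exact_tfae (tensFunctor A B B)).out 0 2).mp
    (fun _ hS => shortExact_map_tensFunctor (C := B) (E := B) hS)

theorem isRelDelta_TA [Module.Flat A B] : IsRelDelta (TA A B M) where
  les {S} hS n := by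
    obtain ⟨δ, w₁, w₂, h₁, h₂⟩ := (Groth.Agent.Lib.Helper73.leftDerived_les
      ((tensoringLeft (ModuleCat.{u} A)).obj (ModuleCat.of A M)) hS n).2
    haveI := preservesHomology_tensFunctor (A := A) (B := B)
    refine ⟨(tensFunctor A B B).map δ, ?_, ?_, ?_, ?_⟩
    · exact ((tensFunctor A B B).map_comp _ _).symm.trans
        ((congrArg _ w₁).trans (Functor.map_zero _ _ _))
    · exact ((tensFunctor A B B).map_comp _ _).symm.trans
        ((congrArg _ w₂).trans (Functor.map_zero _ _ _))
    · exact h₁.map (tensFunctor A B B)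
    · exact h₂.map (tensFunctor A B B)
  vanish r n := by
    have : Projective (ModuleCat.of A (Fin r → A)) :=
      (IsProjective.iff_projective (R := A) (Fin r → A)).mp inferInstance
    exact (tensFunctor A B B).map_isZero
      (Functor.isZero_leftDerived_obj_projective_succ _ n _)

end Functors

section Zero

variable (A B : Type u) [CommRing A] [CommRing B] [Algebra A B]
  (M : Type u) [AddCommGroup M] [Module A M]

/-- `(B ⊗ M) ⊗[B] (B ⊗ N) ≃ B ⊗ (M ⊗ N)` -/
noncomputable def zeroEquiv (N : Type u) [AddCommGroup N] [Module A N] :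
    (B ⊗[A] M) ⊗[B] (B ⊗[A] N) ≃ₗ[B] B ⊗[A] (M ⊗[A] N) :=
  (AlgebraTensorModule.cancelBaseChange A B B (B ⊗[A] M) N) ≪≫ₗ
    AlgebraTensorModule.assoc A A B B M N

theorem zeroEquiv_tmul (N : Type u) [AddCommGroup N] [Module A N] (b b' : B) (m : M) (n : N) :
    zeroEquiv A B M N ((b ⊗ₜ[A] m) ⊗ₜ[B] (b' ⊗ₜ[A] n)) = (b' * b) ⊗ₜ[A] (m ⊗ₜ[A] n) := by
  simp [zeroEquiv, TensorProduct.smul_tmul']

theorem zeroEquiv_natural {N N' : Type u} [AddCommGroup N] [Module A N] [AddCommGroup N']
    [Module A N'] (g : N →ₗ[A] N') (t : (B ⊗[A] M) ⊗[B] (B ⊗[A] N)) :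
    zeroEquiv A B M N' ((AlgebraTensorModule.lTensor B B g).lTensor (B ⊗[A] M) t) =
      AlgebraTensorModule.lTensor B B (g.lTensor M) (zeroEquiv A B M N t) := by
  induction t using TensorProduct.induction_on with
  | zero => simp
  | add a b ha hb => rw [map_add, map_add, map_add, map_add, ha, hb]
  | tmul x y =>
    induction y using TensorProduct.induction_on with
    | zero => simp
    | add a b ha hb =>
      rw [TensorProduct.tmul_add, map_add, map_add, map_add, map_add, ha, hb]
    | tmul b' n =>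
      induction x using TensorProduct.induction_on with
      | zero => simp
      | add a b ha hb =>
        rw [TensorProduct.add_tmul, map_add, map_add, map_add, map_add, ha, hb]
      | tmul b m =>
        simp [zeroEquiv_tmul]

/-- the component of the degree zero comparison -/
noncomputable def cmpEquiv (N : ModuleCat.{u} A) :
    ((ModuleCat.of B (B ⊗[A] M) : ModuleCat.{u} B) ⊗ (tensFunctor A B B).obj N :
      ModuleCat.{u} B) ≃ₗ[B]
    ((tensFunctor A B B).obj ((ModuleCat.of A M : ModuleCat.{u} A) ⊗ N)) :=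
  zeroEquiv A B M N

/-- the degree zero comparison, naturally in `N` -/
noncomputable def cmpNatIso :
    tensFunctor A B B ⋙ (tensoringLeft (ModuleCat.{u} B)).obj (ModuleCat.of B (B ⊗[A] M)) ≅
    (tensoringLeft (ModuleCat.{u} A)).obj (ModuleCat.of A M) ⋙ tensFunctor A B B :=
  NatIso.ofComponents (fun N => (cmpEquiv A B M N).toModuleIso) (by
    intro N N' f
    apply ModuleCat.hom_ext
    apply LinearMap.ext
    intro x
    exact zeroEquiv_natural A B M f.hom x)

/-- the degree zero comparison of the two δ-functors -/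
noncomputable def tbZeroIso : TB A B M 0 ≅ TA A B M 0 :=
  Functor.isoWhiskerLeft (tensFunctor A B B)
    (Functor.leftDerivedZeroIsoSelf
      ((tensoringLeft (ModuleCat.{u} B)).obj (ModuleCat.of B (B ⊗[A] M)))) ≪≫
  cmpNatIso A B M ≪≫
  Functor.isoWhiskerRight (Functor.leftDerivedZeroIsoSelf
    ((tensoringLeft (ModuleCat.{u} A)).obj (ModuleCat.of A M))).symm (tensFunctor A B B)

variable {A B}

/-- **flat base change for `Tor`** -/
theorem nonempty_tb_iso_ta [IsNoetherianRing A] [Module.Flat A B]
    (n : ℕ) (N : Type u) [AddCommGroup N] [Module A N] [Module.Finite A N] :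
    Nonempty ((TB A B M n).obj (ModuleCat.of A N) ≅ (TA A B M n).obj (ModuleCat.of A N)) :=
  (isRelDelta_TB M).nonempty_iso (isRelDelta_TA M) (tbZeroIso A B M) n N

/-- **flat base change for `Tor`**, linear equivalence form -/
theorem nonempty_tor_baseChange [IsNoetherianRing A] [Module.Flat A B]
    (n : ℕ) (N : Type u) [AddCommGroup N] [Module A N] [Module.Finite A N] :
    Nonempty (DRing.Tor B n (B ⊗[A] M) (B ⊗[A] N) ≃ₗ[B] B ⊗[A] DRing.Tor A n M N) := by
  obtain ⟨e⟩ := nonempty_tb_iso_ta (A := A) (B := B) M n N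
  exact ⟨e.toLinearEquiv⟩

end Zero

section Chi

open IsLocalRing

variable {A B : Type u} [CommRing A] [CommRing B] [IsNoetherianRing A] [IsLocalRing A]
  [IsLocalRing B] [Algebra A B] [Module.Flat A B] [IsLocalHom (algebraMap A B)]

/-- lengths of `Tor` under a flat local base change -/
theorem length_tor_baseChange (M N : Type u) [AddCommGroup M] [Module A M] [AddCommGroup N]
    [Module A N] [Module.Finite A N] (n : ℕ) :
    Module.length B (DRing.Tor B n (B ⊗[A] M) (B ⊗[A] N)) =
      Module.length A (DRing.Tor A n M N) *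
        Module.length B (B ⧸ (maximalIdeal A).map (algebraMap A B)) := by
  obtain ⟨e⟩ := nonempty_tor_baseChange (A := A) (B := B) M n N
  rw [e.length_eq, IsLocalRing.length_baseChange A B]

/-- **`χ` under a flat local base change** -/
theorem chi_baseChange (M N : Type u) [AddCommGroup M] [Module A M] [AddCommGroup N]
    [Module A N] [Module.Finite A N] :
    IntMult.chi B (B ⊗[A] M) (B ⊗[A] N) =
      IntMult.chi A M N *
        ((Module.length B (B ⧸ (maximalIdeal A).map (algebraMap A B))).toNat : ℤ) := by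
  unfold IntMult.chi
  rw [finsum_mul]
  refine finsum_congr (fun i => ?_)
  rw [length_tor_baseChange M N i, ENat.toNat_mul]
  push_cast
  ring

end Chi

end Groth.Agent.Lib.Helper85.FlatPull
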