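import Mathlib

/-!
# Transfer of lengths between different models of a localization (helper85)

If `S` is a localization of `A` at the prime `p` and `N` is a localization of the `A`-module `M`
at `p`, then `ℓ_S(N) = ℓ_{A_p}(M_p)`.  Application: localizations of localizations.
(Pattern after helper29's `LocTransfer`.)
-/

set_option autoImplicit false
set_option linter.style.haveILetI false
set_option linter.unusedSectionVars false

namespace Groth.Agent.Lib.Helper85.LocLen

universe u

section Transfer

variable {A : Type u} [CommRing A] (p : Ideal A) [p.IsPrime]
  (S : Type u) [CommRing S] [Algebra A S] [IsLocalization.AtPrime S p]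
  {M : Type u} [AddCommGroup M] [Module A M]
  {N : Type u} [AddCommGroup N] [Module A N] [Module S N] [IsScalarTower A S N]
  (f : M →ₗ[A] N) [IsLocalizedModule p.primeCompl f]

include f in
theorem length_eq_of_isLocalizedModule :
    Module.length S N =
      Module.length (Localization.AtPrime p) (LocalizedModule p.primeCompl M) := by
  let e : Localization.AtPrime p ≃ₐ[A] S := IsLocalization.algEquiv p.primeCompl _ _
  letI : Algebra (Localization.AtPrime p) S := (e : Localization.AtPrime p →+* S).toAlgebra
  have hST : IsScalarTower A (Localization.AtPrime p) S := IsScalarTower.of_algebraMap_eq (fun a => by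
    change algebraMap A S a = e (algebraMap A (Localization.AtPrime p) a)
    rw [e.commutes])
  letI : Module (Localization.AtPrime p) N := Module.compHom N (e : Localization.AtPrime p →+* S)
  have hsmul : ∀ (r : Localization.AtPrime p) (n : N), r • n = e r • n := fun _ _ => rfl
  have hST2 : IsScalarTower (Localization.AtPrime p) S N := ⟨fun r s n => by
    rw [hsmul, Algebra.smul_def, mul_smul]
    rfl⟩
  have hST3 : IsScalarTower A (Localization.AtPrime p) N := ⟨fun a r n => by
    rw [hsmul, hsmul, map_smul, smul_assoc]⟩
  let φ : LocalizedModule p.primeCompl M ≃ₗ[A] N := IsLocalizedModule.iso p.primeCompl f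
  let φ' : LocalizedModule p.primeCompl M ≃ₗ[Localization.AtPrime p] N :=
    φ.extendScalarsOfIsLocalization p.primeCompl (Localization.AtPrime p)
  rw [φ'.length_eq]
  exact (Module.length_eq_of_surjective (S := Localization.AtPrime p) (R := S) (M := N)
    e.surjective).symm

end Transfer

section Double

variable {A : Type u} [CommRing A] (p₀ : Ideal A) [p₀.IsPrime]
  (S : Type u) [CommRing S] [Algebra A S] [IsLocalization.AtPrime S p₀]
  {M : Type u} [AddCommGroup M] [Module A M]
  {N : Type u} [AddCommGroup N] [Module A N] [Module S N] [IsScalarTower A S N]
  (f : M →ₗ[A] N) [IsLocalizedModule p₀.primeCompl f]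
  (P : Ideal S) [P.IsPrime]

include p₀ f in
/-- Length of a localization of a localization. -/
theorem length_localizedModule_eq :
    Module.length (Localization.AtPrime P) (LocalizedModule P.primeCompl N) =
      Module.length (Localization.AtPrime (P.comap (algebraMap A S)))
        (LocalizedModule (P.comap (algebraMap A S)).primeCompl M) := by
  let g : N →ₗ[S] LocalizedModule P.primeCompl N := LocalizedModule.mkLinearMap P.primeCompl N
  let f' : M →ₗ[A] LocalizedModule P.primeCompl N := (g.restrictScalars A).comp f
  have hbc1 : IsBaseChange S f :=
    (isLocalizedModule_iff_isBaseChange p₀.primeCompl S _).mp inferInstance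
  have hbc2 : IsBaseChange (Localization.AtPrime P) g :=
    (isLocalizedModule_iff_isBaseChange P.primeCompl (Localization.AtPrime P) _).mp inferInstance
  have hbc : IsBaseChange (Localization.AtPrime P) f' := IsBaseChange.comp hbc1 hbc2
  haveI : IsLocalization.AtPrime (Localization.AtPrime P) (P.comap (algebraMap A S)) :=
    IsLocalization.isLocalization_isLocalization_atPrime_isLocalization p₀.primeCompl
      (Localization.AtPrime P) P
  haveI hloc : IsLocalizedModule (P.comap (algebraMap A S)).primeCompl f' :=
    (isLocalizedModule_iff_isBaseChange (P.comap (algebraMap A S)).primeCompl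
      (Localization.AtPrime P) f').mpr hbc
  exact length_eq_of_isLocalizedModule (P.comap (algebraMap A S)) (Localization.AtPrime P) f'

end Double

end Groth.Agent.Lib.Helper85.LocLen
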