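import Mathlib
import Groth.Agent.Lib.Helper85.IntMult.FlatBC
import Groth.Agent.Lib.Helper15.TorSymm
import Groth.Agent.Lib.Helper29.EquidimCatenary
import Groth.Agent.Lib.Helper85.IntMult.Alg
import Groth.Agent.Lib.Helper85.RegularIdeal
import Groth.Agent.Lib.Helper85.Serre.Main

set_option autoImplicit false
universe u

namespace Groth.Agent.Lib.Helper85.DiagPos

open CategoryTheory CategoryTheory.Limits MonoidalCategory TensorProduct IsLocalRing
open Groth.Agent.Lib.Helper85.FlatBC

section Vanish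

variable {A C : Type u} [CommRing A] [CommRing C] [IsNoetherianRing A] [Algebra A C]
  [Module.Flat A C] [Algebra C A] [IsScalarTower A C A]

/-- `Tor_{n+1}(P, N) = 0` for `P` projective (first variable) -/
theorem subsingleton_tor_of_projective_left (P N : Type u) [AddCommGroup P] [Module A P]
    [AddCommGroup N] [Module A N] [Module.Projective A P] (n : ℕ) :
    Subsingleton (DRing.Tor A (n + 1) P N) := by
  have e := ((Groth.Agent.Lib.Helper15.TorSymm.torSymm (R := A) (n + 1)).app
    (ModuleCat.of A P)).app (ModuleCat.of A N)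
  have : Projective (ModuleCat.of A P) :=
    (IsProjective.iff_projective (R := A) P).mp inferInstance
  have hz : IsZero ((((tensoringLeft (ModuleCat.{u} A)).obj (ModuleCat.of A N)).leftDerived
      (n + 1)).obj (ModuleCat.of A P)) :=
    Functor.isZero_leftDerived_obj_projective_succ _ n _
  exact e.toLinearEquiv.subsingleton_congr.mpr (ModuleCat.subsingleton_of_isZero hz)

/-- the diagonal is `Tor`-independent of `X × W` -/
theorem tor_vanish_quot (Q : Ideal A) (n : ℕ) :
    Subsingleton (DRing.Tor C (n + 1) A (C ⧸ Q.map (algebraMap A C))) := by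
  have hYE : ∀ n : ℕ, IsZero ((((tensoringLeft (ModuleCat.{u} C)).obj
      (ModuleCat.of C A)).leftDerived (n + 1)).obj (ModuleCat.of C C)) := by
    intro n
    have : Projective (ModuleCat.of C C) :=
      (IsProjective.iff_projective (R := C) C).mp inferInstance
    exact Functor.isZero_leftDerived_obj_projective_succ _ n _
  obtain ⟨e⟩ := nonempty_ty_iso_tw (A := A) (C := C) (E := C) (Y := A) hYE (n + 1) (A ⧸ Q)
  -- the right side vanishes
  have hP : Module.Projective A (A ⊗[C] C) :=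
    Module.Projective.of_equiv ((AlgebraTensorModule.rid C A A).symm)
  have hW : Subsingleton (DRing.Tor A (n + 1) (A ⊗[C] C) (A ⧸ Q)) :=
    subsingleton_tor_of_projective_left (A ⊗[C] C) (A ⧸ Q) n
  have hT : Subsingleton ((TY A C C A (n + 1)).obj (ModuleCat.of A (A ⧸ Q))) :=
    e.toLinearEquiv.subsingleton_congr.mpr hW
  -- transport along `C ⊗[A] (A ⧸ Q) ≃ C ⧸ Q C`
  have hT' : Subsingleton (DRing.Tor C (n + 1) A (C ⊗[A] (A ⧸ Q))) := hT
  let ε : (ModuleCat.of C (C ⊗[A] (A ⧸ Q))) ≅ ModuleCat.of C (C ⧸ Q.map (algebraMap A C)) :=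
    (Algebra.TensorProduct.quotIdealMapEquivTensorQuot C Q).symm.toLinearEquiv.toModuleIso
  exact ((((tensoringLeft (ModuleCat.{u} C)).obj (ModuleCat.of C A)).leftDerived
    (n + 1)).mapIso ε).toLinearEquiv.subsingleton_congr.mp hT'

end Vanish

section Congr

variable {R : Type u} [CommRing R]

/-- functoriality of `Tor` in both variables along linear equivalences -/
theorem nonempty_torCongr {X X' Y Y' : Type u} [AddCommGroup X] [Module R X] [AddCommGroup X']
    [Module R X'] [AddCommGroup Y] [Module R Y] [AddCommGroup Y'] [Module R Y']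
    (e₁ : X ≃ₗ[R] X') (e₂ : Y ≃ₗ[R] Y') (n : ℕ) :
    Nonempty (DRing.Tor R n X Y ≃ₗ[R] DRing.Tor R n X' Y') :=
  ⟨((((Tor (ModuleCat.{u} R) n).mapIso e₁.toModuleIso).app (ModuleCat.of R Y)) ≪≫
    (((Tor (ModuleCat.{u} R) n).obj (ModuleCat.of R X')).mapIso e₂.toModuleIso)).toLinearEquiv⟩

theorem length_tor_congr {X X' Y Y' : Type u} [AddCommGroup X] [Module R X] [AddCommGroup X']
    [Module R X'] [AddCommGroup Y] [Module R Y] [AddCommGroup Y'] [Module R Y']
    (e₁ : X ≃ₗ[R] X') (e₂ : Y ≃ₗ[R] Y') (n : ℕ) :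
    Module.length R (DRing.Tor R n X Y) = Module.length R (DRing.Tor R n X' Y') := by
  obtain ⟨e⟩ := nonempty_torCongr e₁ e₂ n
  exact e.length_eq

end Congr

section FD

open Groth.Agent.Lib.Helper29

/-- `dim B/𝔞B + dim A = dim A/𝔞 + dim B` for a flat local homomorphism -/
theorem dim_quotient_map_add {A B : Type u} [CommRing A] [CommRing B] [IsLocalRing A]
    [IsLocalRing B] [IsNoetherianRing A] [IsNoetherianRing B] [Algebra A B]
    [IsLocalHom (algebraMap A B)] [Module.Flat A B] (a : Ideal A) (ha : a ≠ ⊤) :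
    ringKrullDim (B ⧸ a.map (algebraMap A B)) + ringKrullDim A =
      ringKrullDim (A ⧸ a) + ringKrullDim B := by
  rw [ringKrullDim_quotient_map_eq_add A B a ha, ringKrullDim_eq_add_of_flat A B]
  rw [add_assoc, add_comm (ringKrullDim (EGA4.FibRing A B))]

end FD


section Main

variable {A C : Type u} [CommRing A] [CommRing C]
  [Algebra A C] (i₂ : A →+* C) (μ : C →+* A)
  (h₁ : ∀ a, μ (algebraMap A C a) = a) (h₂ : ∀ a, μ (i₂ a) = a)

include h₁ in
theorem mu_surjective : Function.Surjective μ := fun a => ⟨algebraMap A C a, h₁ a⟩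

include h₁ in
theorem sub_mem_ker (x : C) : x - algebraMap A C (μ x) ∈ RingHom.ker μ := by
  rw [RingHom.mem_ker, map_sub, h₁, sub_self]

omit [Algebra A C] in
theorem ker_ne_top [Nontrivial A] : RingHom.ker μ ≠ ⊤ := by
  intro h
  have : (1 : C) ∈ RingHom.ker μ := h ▸ Submodule.mem_top
  rw [RingHom.mem_ker, map_one] at this
  exact one_ne_zero this

variable [IsLocalRing A] [IsLocalRing C]

include h₁ in
/-- `𝔪_C ≤ 𝔪_A C + ker μ` -/
theorem maximalIdeal_le : maximalIdeal C ≤ (maximalIdeal A).map (algebraMap A C) ⊔ RingHom.ker μ := by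
  intro x hx
  have hμx : μ x ∈ maximalIdeal A := by
    by_contra hne
    have hu : IsUnit (μ x) := by
      by_contra hnu
      exact hne ((IsLocalRing.mem_maximalIdeal _).mpr hnu)
    have hu' : IsUnit (algebraMap A C (μ x)) := hu.map _
    have hJ : x - algebraMap A C (μ x) ∈ maximalIdeal C :=
      IsLocalRing.le_maximalIdeal (ker_ne_top μ) (sub_mem_ker μ h₁ x)
    have : algebraMap A C (μ x) ∈ maximalIdeal C := by
      have := (maximalIdeal C).sub_mem hx hJ
      rwa [sub_sub_cancel] at this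
    exact (IsLocalRing.mem_maximalIdeal _).mp this hu'
  have : x = algebraMap A C (μ x) + (x - algebraMap A C (μ x)) := by ring
  rw [this]
  exact Ideal.add_mem _ (Ideal.mem_sup_left (Ideal.mem_map_of_mem _ hμx))
    (Ideal.mem_sup_right (sub_mem_ker μ h₁ x))

omit [IsLocalRing A] [IsLocalRing C] in
include h₁ h₂ in
/-- `Q C (via i₁) ≤ Q C (via i₂) + ker μ` -/
theorem map_le_map_sup (Q : Ideal A) :
    Q.map (algebraMap A C) ≤ Q.map i₂ ⊔ RingHom.ker μ := by
  rw [Ideal.map_le_iff_le_comap]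
  intro q hq
  rw [Ideal.mem_comap]
  have : algebraMap A C q = i₂ q + (algebraMap A C q - i₂ q) := by ring
  rw [this]
  refine Ideal.add_mem _ (Ideal.mem_sup_left (Ideal.mem_map_of_mem _ hq)) (Ideal.mem_sup_right ?_)
  rw [RingHom.mem_ker, map_sub, h₁, h₂, sub_self]

include h₁ h₂ in
/-- `𝔪_C^k ≤ Q₂ + P₁ + ker μ` -/
theorem exists_pow_le (P Q : Ideal A) (hfl : ∃ k : ℕ, maximalIdeal A ^ k ≤ P ⊔ Q) :
    ∃ k : ℕ, maximalIdeal C ^ k ≤ (Q.map i₂ ⊔ P.map (algebraMap A C)) ⊔ RingHom.ker μ := by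
  obtain ⟨k, hk⟩ := hfl
  refine ⟨k, ?_⟩
  calc maximalIdeal C ^ k
      ≤ ((maximalIdeal A).map (algebraMap A C) ⊔ RingHom.ker μ) ^ k :=
        Ideal.pow_right_mono (maximalIdeal_le μ h₁) k
    _ ≤ (maximalIdeal A).map (algebraMap A C) ^ k ⊔ RingHom.ker μ :=
        Groth.Agent.Lib.Helper85.Serre.sup_pow_le_pow_sup _ _ k
    _ = (maximalIdeal A ^ k).map (algebraMap A C) ⊔ RingHom.ker μ := by rw [Ideal.map_pow]
    _ ≤ (P ⊔ Q).map (algebraMap A C) ⊔ RingHom.ker μ := sup_le_sup_right (Ideal.map_mono hk) _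
    _ ≤ (Q.map i₂ ⊔ P.map (algebraMap A C)) ⊔ RingHom.ker μ := by
        rw [Ideal.map_sup]
        refine sup_le (sup_le ?_ ?_) le_sup_right
        · exact le_sup_of_le_left le_sup_right
        · exact (map_le_map_sup i₂ μ h₁ h₂ Q).trans (sup_le_sup_right le_sup_left _)

end Main

end Groth.Agent.Lib.Helper85.DiagPos
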