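import Mathlib
import Groth.Agent.Lib.Helper85.IntMult.DiagPosPre

/-!
# Positivity of `Tor` multiplicities by reduction to the diagonal (helper85)

`A`, `C` regular local rings, `i₁ = algebraMap A C` and `i₂ : A → C` flat local, `μ : C → A` a common
retraction (so `C` plays the role of the local ring of `X × X` at a diagonal point, `ker μ` the
ideal of the diagonal), `C/i₂(Q)C` flat over `A` via `i₁`.  Then for ideals `P, Q` of `A` with
`A/(P+Q)` of finite length and `dim A ≤ dim A/P + dim A/Q`: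
`χ^A(A/Q, A/P) = χ^C(C/ker μ, C/(i₂(Q)C + i₁(P)C)) > 0`.
-/

set_option autoImplicit false
set_option linter.style.haveILetI false
universe u

namespace Groth.Agent.Lib.Helper85.DiagPos

open CategoryTheory CategoryTheory.Limits MonoidalCategory TensorProduct IsLocalRing
open Groth.Agent.Lib.Helper85.FlatBC RingTheory.Sequence

section Tor

variable {A C : Type u} [CommRing A] [CommRing C] [IsNoetherianRing A]
  [Algebra A C] (i₂ : A →+* C) (μ : C →+* A)
  (h₁ : ∀ a, μ (algebraMap A C a) = a) (h₂ : ∀ a, μ (i₂ a) = a)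

include h₁ h₂ in
/-- **reduction to the diagonal**, length form -/
theorem length_tor_diag (flat₂ : i₂.Flat) (P Q : Ideal A)
    (flatE : Module.Flat A (C ⧸ Q.map i₂)) (n : ℕ) :
    Module.length A (DRing.Tor A n (A ⧸ Q) (A ⧸ P)) =
      Module.length C (DRing.Tor C n (C ⧸ RingHom.ker μ)
        (C ⧸ (Q.map i₂ ⊔ P.map (algebraMap A C)))) := by
  letI algCA : Algebra C A := μ.toAlgebra
  haveI tower : IsScalarTower A C A := IsScalarTower.of_algebraMap_eq (fun a => (h₁ a).symm)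
  have hYE : ∀ n : ℕ, Subsingleton (DRing.Tor C (n + 1) A (C ⧸ Q.map i₂)) := by
    intro n
    letI : Algebra A C := i₂.toAlgebra
    haveI : IsScalarTower A C A := IsScalarTower.of_algebraMap_eq (fun a => (h₂ a).symm)
    haveI : Module.Flat A C := flat₂
    exact tor_vanish_quot (A := A) (C := C) Q n
  have hY : ∀ c : C, ∃ a : A, ∀ y : A, c • y = algebraMap A C a • y := by
    intro c
    refine ⟨μ c, fun y => ?_⟩
    rw [Algebra.smul_def, Algebra.smul_def]
    change μ c * y = μ (algebraMap A C (μ c)) * y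
    rw [h₁]
  have key := FlatBC.length_tor_eq (A := A) (C := C) (E := C ⧸ Q.map i₂) (Y := A) hYE hY n (A ⧸ P)
  -- first variable, `A` side
  have hQ₂ : (Q.map i₂).map (algebraMap C A) = Q := by
    rw [Ideal.map_map]
    have : (algebraMap C A).comp i₂ = RingHom.id A := RingHom.ext h₂
    rw [this, Ideal.map_id]
  let e₁ : (A ⊗[C] (C ⧸ Q.map i₂)) ≃ₗ[A] (A ⧸ Q) :=
    (Algebra.TensorProduct.quotIdealMapEquivTensorQuot A (Q.map i₂)).symm.toLinearEquiv.trans
      (Submodule.quotEquivOfEq _ _ hQ₂)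
  -- first variable, `C` side
  have hker : LinearMap.ker (Algebra.linearMap C A) = (RingHom.ker μ).restrictScalars C := by
    ext x
    rfl
  let e₂ : (C ⧸ RingHom.ker μ) ≃ₗ[C] A :=
    (Submodule.quotEquivOfEq _ _ hker.symm).trans
      (LinearMap.quotKerEquivOfSurjective (Algebra.linearMap C A) (mu_surjective μ h₁))
  -- second variable, `C` side
  have hmap : P.map (algebraMap A (C ⧸ Q.map i₂)) =
      (P.map (algebraMap A C)).map (Ideal.Quotient.mkₐ C (Q.map i₂)) := by
    change _ = (P.map (algebraMap A C)).map (Ideal.Quotient.mk (Q.map i₂))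
    rw [Ideal.map_map]
    rfl
  let e₃ : ((C ⧸ Q.map i₂) ⊗[A] (A ⧸ P)) ≃ₗ[C] (C ⧸ (Q.map i₂ ⊔ P.map (algebraMap A C))) :=
    ((Algebra.TensorProduct.quotIdealMapEquivTensorQuot (C ⧸ Q.map i₂)
      P).symm.toLinearEquiv.restrictScalars C).trans
    (((Submodule.quotEquivOfEq _ _ hmap).restrictScalars C).trans
      (DoubleQuot.quotQuotEquivQuotSupₐ C (Q.map i₂) (P.map (algebraMap A C))).toLinearEquiv)
  rw [length_tor_congr e₁.symm (LinearEquiv.refl A (A ⧸ P)) n, key,
    length_tor_congr e₂.symm e₃ n]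

end Tor

section Main

variable {A C : Type u} [CommRing A] [CommRing C] [IsRegularLocalRing A] [IsRegularLocalRing C]
  [Algebra A C] (i₂ : A →+* C) (μ : C →+* A)
  (h₁ : ∀ a, μ (algebraMap A C a) = a) (h₂ : ∀ a, μ (i₂ a) = a)

include h₁ in
/-- the kernel of `μ` is generated by a regular sequence of length `dim C - dim A` -/
theorem exists_regular_gens : ∃ (c : ℕ) (g : Fin c → C),
    IsWeaklyRegular C (List.ofFn g) ∧ (∀ j, g j ∈ maximalIdeal C) ∧
    Ideal.span (Set.range g) = RingHom.ker μ ∧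
    ringKrullDim A + (c : WithBot ℕ∞) = ringKrullDim C := by
  have hsurj := mu_surjective μ h₁
  let e : C ⧸ RingHom.ker μ ≃+* A := RingHom.quotientKerEquivOfSurjective hsurj
  have hreg : IsRegularLocalRing (C ⧸ RingHom.ker μ) := IsRegularLocalRing.of_ringEquiv e.symm
  obtain ⟨rs, hrs, hrsJ⟩ :=
    Groth.Agent.Lib.Helper85.exists_regular_seq_of_quotient_regular (RingHom.ker μ) hreg
  refine ⟨rs.length, rs.get, ?_, ?_, ?_, ?_⟩
  · rw [List.ofFn_get]
    exact hrs.toIsWeaklyRegular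
  · intro j
    have : rs.get j ∈ RingHom.ker μ := by
      rw [← hrsJ]
      exact Ideal.subset_span (List.get_mem rs j)
    exact IsLocalRing.le_maximalIdeal (ker_ne_top μ) this
  · rw [Groth.Agent.Lib.Helper85.Serre.span_range_get, hrsJ]
  · have h := ringKrullDim_add_length_eq_ringKrullDim_of_isRegular rs hrs
    rw [hrsJ, ringKrullDim_eq_of_ringEquiv e] at h
    exact h

include h₂ in
theorem isLocalHom_i₂ : IsLocalHom i₂ :=
  ⟨fun a ha => by
    have := ha.map μ
    rwa [h₂] at this⟩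

include h₁ in
theorem isLocalHom_algebraMap : IsLocalHom (algebraMap A C) :=
  ⟨fun a ha => by
    have := ha.map μ
    rwa [h₁] at this⟩

include h₂ in
theorem map_i₂_ne_top (Q : Ideal A) (hQ : Q ≠ ⊤) : Q.map i₂ ≠ ⊤ := by
  intro h
  have h1 : Q.map i₂ ≤ maximalIdeal C := by
    rw [Ideal.map_le_iff_le_comap]
    intro q hq
    have hq' : q ∈ maximalIdeal A := IsLocalRing.le_maximalIdeal hQ hq
    rw [Ideal.mem_comap, IsLocalRing.mem_maximalIdeal]
    intro hu
    exact (IsLocalRing.mem_maximalIdeal _).mp hq' ((isLocalHom_i₂ i₂ μ h₂).map_nonunit q hu)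
  rw [h] at h1
  exact (IsLocalRing.maximalIdeal.isMaximal C).ne_top (top_le_iff.mp h1)

include h₁ h₂ in
/-- the dimension count -/
theorem dim_quotient_sup_add (flat₂ : i₂.Flat) (P Q : Ideal A) (hP : P ≠ ⊤) (hQ : Q ≠ ⊤)
    (flatE : Module.Flat A (C ⧸ Q.map i₂)) :
    ringKrullDim (C ⧸ (Q.map i₂ ⊔ P.map (algebraMap A C))) + ringKrullDim A + ringKrullDim A =
      ringKrullDim (A ⧸ P) + ringKrullDim (A ⧸ Q) + ringKrullDim C := by
  have hloc₂ := isLocalHom_i₂ i₂ μ h₂
  have FD₂ : ringKrullDim (C ⧸ Q.map i₂) + ringKrullDim A =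
      ringKrullDim (A ⧸ Q) + ringKrullDim C :=
    @dim_quotient_map_add A C _ _ _ _ _ _ i₂.toAlgebra hloc₂ flat₂ Q hQ
  have hne := map_i₂_ne_top i₂ μ h₂ Q hQ
  haveI : IsLocalRing (C ⧸ Q.map i₂) := Groth.Agent.Lib.Helper85.isLocalRing_quotient _ hne
  haveI : IsLocalHom (algebraMap A C) := isLocalHom_algebraMap μ h₁
  haveI : IsLocalHom (Ideal.Quotient.mk (Q.map i₂)) :=
    IsLocalHom.of_surjective _ Ideal.Quotient.mk_surjective
  haveI : IsLocalHom (algebraMap A (C ⧸ Q.map i₂)) := by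
    rw [IsScalarTower.algebraMap_eq A C (C ⧸ Q.map i₂)]
    exact RingHom.isLocalHom_comp _ _
  have FDE := dim_quotient_map_add (A := A) (B := C ⧸ Q.map i₂) P hP
  have hmap : P.map (algebraMap A (C ⧸ Q.map i₂)) =
      (P.map (algebraMap A C)).map (Ideal.Quotient.mk (Q.map i₂)) := by
    rw [Ideal.map_map]
    rfl
  have hiso : ringKrullDim ((C ⧸ Q.map i₂) ⧸ P.map (algebraMap A (C ⧸ Q.map i₂))) =
      ringKrullDim (C ⧸ (Q.map i₂ ⊔ P.map (algebraMap A C))) := by
    rw [hmap]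
    exact ringKrullDim_eq_of_ringEquiv (DoubleQuot.quotQuotEquivQuotSup _ _)
  rw [hiso] at FDE
  rw [FDE, add_assoc, FD₂, add_assoc]

include h₁ h₂ in
/-- **positivity of the `Tor` multiplicity by reduction to the diagonal** -/
theorem chi_pos (flat₂ : i₂.Flat) (flatE : ∀ Q : Ideal A, Module.Flat A (C ⧸ Q.map i₂))
    (P Q : Ideal A) (hP : P ≠ ⊤) (hQ : Q ≠ ⊤)
    (hfl : ∃ k : ℕ, maximalIdeal A ^ k ≤ P ⊔ Q)
    (hdim : ringKrullDim A ≤ ringKrullDim (A ⧸ P) + ringKrullDim (A ⧸ Q)) :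
    0 < IntMult.chi A (A ⧸ Q) (A ⧸ P) := by
  obtain ⟨c, g, hreg, hg, hspan, hc⟩ := exists_regular_gens μ h₁
  set K : Ideal C := Q.map i₂ ⊔ P.map (algebraMap A C) with hK
  -- finite length
  have hflC : ∃ k : ℕ, maximalIdeal C ^ k ≤ K ⊔ Ideal.span (Set.range g) := by
    rw [hspan]
    exact exists_pow_le i₂ μ h₁ h₂ P Q hfl
  -- dimension
  have hdimK : ringKrullDim (C ⧸ K) = c := by
    have hle : ringKrullDim (C ⧸ K) ≤ c := by
      refine Groth.Agent.Lib.Helper85.IntMultAlg.ringKrullDim_quotient_le_natCast K g hg ?_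
      have h : Ring.KrullDimLE 0 (C ⧸ (K ⊔ Ideal.span (Set.range g))) := by
        rw [Ideal.krullDimLE_zero_quotient_iff_forall_minimalPrimes_isMaximal]
        intro J hJ
        exact Groth.Agent.Lib.Helper85.HS.isMaximal_of_pow_maximalIdeal_le _ hflC J hJ.1.1 hJ.1.2
      exact_mod_cast Ring.krullDimLE_iff.mp h
    have hsum := dim_quotient_sup_add i₂ μ h₁ h₂ flat₂ P Q hP hQ (flatE Q)
    rw [← hK] at hsum
    have hKne : K ≠ ⊤ := by
      have h1 : Q.map i₂ ≤ maximalIdeal C :=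
        IsLocalRing.le_maximalIdeal (map_i₂_ne_top i₂ μ h₂ Q hQ)
      have h2 : P.map (algebraMap A C) ≤ maximalIdeal C :=
        IsLocalRing.le_maximalIdeal (map_i₂_ne_top (algebraMap A C) μ h₁ P hP)
      intro htop
      have : K ≤ maximalIdeal C := sup_le h1 h2
      rw [htop] at this
      exact (IsLocalRing.maximalIdeal.isMaximal C).ne_top (top_le_iff.mp this)
    haveI : Nontrivial (C ⧸ K) := Ideal.Quotient.nontrivial_iff.mpr hKne
    obtain ⟨k, hk⟩ := Groth.Agent.Lib.Helper85.exists_nat_eq_of_le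
      (ringKrullDim_nonneg_of_nontrivial (R := C ⧸ K)) hle
    obtain ⟨a, ha⟩ := Groth.Agent.Lib.Helper29.exists_nat_ringKrullDim_eq A
    obtain ⟨dC, hdC⟩ := Groth.Agent.Lib.Helper29.exists_nat_ringKrullDim_eq C
    haveI := Groth.Agent.Lib.Helper85.isLocalRing_quotient P hP
    haveI := Groth.Agent.Lib.Helper85.isLocalRing_quotient Q hQ
    obtain ⟨p, hp⟩ := Groth.Agent.Lib.Helper29.exists_nat_ringKrullDim_eq (A ⧸ P)
    obtain ⟨q, hq⟩ := Groth.Agent.Lib.Helper29.exists_nat_ringKrullDim_eq (A ⧸ Q)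
    rw [hk, ha, hp, hq, hdC] at hsum
    rw [ha, hdC] at hc
    rw [ha, hp, hq] at hdim
    rw [hk] at hle
    rw [hk]
    have e1 : k + a + a = p + q + dC := by exact_mod_cast hsum
    have e2 : a + c = dC := by exact_mod_cast hc
    have e3 : a ≤ p + q := by exact_mod_cast hdim
    have e4 : k ≤ c := by exact_mod_cast hle
    have : k = c := by omega
    rw [this]
  have hpos := Groth.Agent.Lib.Helper85.IntMultAlg.intMult_chi_pos g hreg hg K hflC hdimK
  rw [Groth.Agent.Lib.Helper85.IntMultAlg.intMult_chi_symm] at hpos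
  have heq : IntMult.chi A (A ⧸ Q) (A ⧸ P) =
      IntMult.chi C (C ⧸ Ideal.span (Set.range g)) (C ⧸ K) := by
    unfold IntMult.chi
    congr 1
    ext n
    rw [length_tor_diag i₂ μ h₁ h₂ flat₂ P Q (flatE Q) n, hspan]
  rw [heq]
  exact hpos

end Main

end Groth.Agent.Lib.Helper85.DiagPos
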