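import Mathlib
import Groth.Agent.Lib.Helper85.IntMult.DiagPos
import Groth.Agent.S1535

/-!
# The local ring of `X × X` at a diagonal point (helper85)

`R₁, R₂` smooth `K`-algebras, `A` a local ring which is a localization of both (at primes `p₁`, `p₂`).
`C := (R₁ ⊗[K] R₂)_𝔫` where `𝔫` is the preimage of the maximal ideal of `A` under the
multiplication map.  We construct the two flat maps `A → C`, the retraction `C → A` and
check the flatness hypotheses needed for `DiagPos.chi_pos`.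
-/

set_option autoImplicit false
set_option linter.style.haveILetI false
set_option linter.unusedSectionVars false
universe u

namespace Groth.Agent.Lib.Helper85.DiagRing

open TensorProduct IsLocalRing

section
variable (K : Type u) [Field K] (R₁ R₂ A : Type u) [CommRing R₁] [CommRing R₂] [CommRing A]
  [Algebra K R₁] [Algebra K R₂] [Algebra K A] [Algebra R₁ A] [Algebra R₂ A]
  [IsScalarTower K R₁ A] [IsScalarTower K R₂ A] [IsLocalRing A]

/-- the multiplication map `R₁ ⊗ R₂ → A` -/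
noncomputable def μT : R₁ ⊗[K] R₂ →ₐ[K] A :=
  Algebra.TensorProduct.productMap (IsScalarTower.toAlgHom K R₁ A) (IsScalarTower.toAlgHom K R₂ A)

theorem μT_left (r : R₁) :
    μT K R₁ R₂ A (Algebra.TensorProduct.includeLeftRingHom r) = algebraMap R₁ A r := by
  simp [μT]

theorem μT_right (r : R₂) :
    μT K R₁ R₂ A ((Algebra.TensorProduct.includeRight : R₂ →ₐ[K] R₁ ⊗[K] R₂).toRingHom r) =
      algebraMap R₂ A r := by
  simp [μT]

/-- the prime of the diagonal point -/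
noncomputable def 𝔫 : Ideal (R₁ ⊗[K] R₂) := (maximalIdeal A).comap (μT K R₁ R₂ A).toRingHom

instance : (𝔫 K R₁ R₂ A).IsPrime := by
  unfold 𝔫
  infer_instance

/-- the local ring at the diagonal point -/
abbrev C : Type u := Localization.AtPrime (𝔫 K R₁ R₂ A)

/-- the retraction `C → A` -/
noncomputable def μ : C K R₁ R₂ A →+* A :=
  IsLocalization.lift (M := (𝔫 K R₁ R₂ A).primeCompl) (g := (μT K R₁ R₂ A).toRingHom) (by
    intro y
    have : (y : R₁ ⊗[K] R₂) ∉ 𝔫 K R₁ R₂ A := y.2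
    exact IsLocalRing.notMem_maximalIdeal.mp this)

theorem μ_algebraMap (t : R₁ ⊗[K] R₂) :
    μ K R₁ R₂ A (algebraMap _ (C K R₁ R₂ A) t) = μT K R₁ R₂ A t :=
  IsLocalization.lift_eq _ _

end

section ι

variable {K : Type u} [Field K] {R₁ R₂ A : Type u} [CommRing R₁] [CommRing R₂] [CommRing A]
  [Algebra K R₁] [Algebra K R₂] [Algebra K A] [Algebra R₁ A] [Algebra R₂ A]
  [IsScalarTower K R₁ A] [IsScalarTower K R₂ A] [IsLocalRing A]
variable {R : Type u} [CommRing R] [Algebra R A] (p : Ideal R) [p.IsPrime]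
  [IsLocalization.AtPrime A p]
  (j : R →+* R₁ ⊗[K] R₂) (hj : ∀ r, μT K R₁ R₂ A (j r) = algebraMap R A r)

include hj in
theorem isUnit_j (y : p.primeCompl) :
    IsUnit ((algebraMap (R₁ ⊗[K] R₂) (C K R₁ R₂ A)).comp j y) := by
  have h : j y ∈ (𝔫 K R₁ R₂ A).primeCompl := by
    show j y ∉ 𝔫 K R₁ R₂ A
    intro hmem
    have : algebraMap R A y ∈ maximalIdeal A := by
      rw [← hj]
      exact hmem
    exact (IsLocalRing.mem_maximalIdeal _).mp this (IsLocalization.map_units A y)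
  exact IsLocalization.map_units (C K R₁ R₂ A) ⟨j y, h⟩

/-- the map `A → C` induced by `j : R → R₁ ⊗ R₂` -/
noncomputable def ι : A →+* C K R₁ R₂ A :=
  IsLocalization.lift (M := p.primeCompl)
    (g := (algebraMap (R₁ ⊗[K] R₂) (C K R₁ R₂ A)).comp j) (isUnit_j p j hj)

theorem ι_algebraMap (r : R) :
    ι p j hj (algebraMap R A r) = algebraMap _ (C K R₁ R₂ A) (j r) :=
  IsLocalization.lift_eq _ _

theorem μ_ι (a : A) : μ K R₁ R₂ A (ι p j hj a) = a := by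
  have : (μ K R₁ R₂ A).comp (ι p j hj) = RingHom.id A := by
    apply IsLocalization.ringHom_ext p.primeCompl
    ext r
    simp [ι_algebraMap, μ_algebraMap, hj]
  exact RingHom.congr_fun this a

theorem flat_ι (hflat : j.Flat) : (ι p j hj).Flat := by
  letI : Algebra R (R₁ ⊗[K] R₂) := j.toAlgebra
  haveI : Module.Flat R (R₁ ⊗[K] R₂) := hflat
  haveI : Module.Flat (R₁ ⊗[K] R₂) (C K R₁ R₂ A) :=
    IsLocalization.flat (C K R₁ R₂ A) (𝔫 K R₁ R₂ A).primeCompl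
  haveI : Module.Flat R (C K R₁ R₂ A) := Module.Flat.trans R (R₁ ⊗[K] R₂) (C K R₁ R₂ A)
  letI : Algebra A (C K R₁ R₂ A) := (ι p j hj).toAlgebra
  haveI : IsScalarTower R A (C K R₁ R₂ A) :=
    IsScalarTower.of_algebraMap_eq (fun r => by
      rw [IsScalarTower.algebraMap_apply R (R₁ ⊗[K] R₂) (C K R₁ R₂ A)]
      exact (ι_algebraMap p j hj r).symm)
  exact (Module.flat_iff_of_isLocalization A p.primeCompl (C K R₁ R₂ A)).mpr inferInstance

end ι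

section Concrete

variable (K : Type u) [Field K] (R₁ R₂ A : Type u) [CommRing R₁] [CommRing R₂] [CommRing A]
  [Algebra K R₁] [Algebra K R₂] [Algebra K A] [Algebra R₁ A] [Algebra R₂ A]
  [IsScalarTower K R₁ A] [IsScalarTower K R₂ A] [IsLocalRing A]
  (p₁ : Ideal R₁) [p₁.IsPrime] [IsLocalization.AtPrime A p₁]
  (p₂ : Ideal R₂) [p₂.IsPrime] [IsLocalization.AtPrime A p₂]

/-- first projection -/
noncomputable def ι₁ : A →+* C K R₁ R₂ A :=
  ι p₁ Algebra.TensorProduct.includeLeftRingHom (μT_left K R₁ R₂ A)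

/-- second projection -/
noncomputable def ι₂ : A →+* C K R₁ R₂ A :=
  ι p₂ (Algebra.TensorProduct.includeRight : R₂ →ₐ[K] R₁ ⊗[K] R₂).toRingHom (μT_right K R₁ R₂ A)

theorem flat_includeRight :
    ((Algebra.TensorProduct.includeRight : R₂ →ₐ[K] R₁ ⊗[K] R₂).toRingHom).Flat := by
  have h1 : (algebraMap R₂ (R₂ ⊗[K] R₁)).Flat := RingHom.flat_algebraMap_iff.mpr inferInstance
  have h2 : ((Algebra.TensorProduct.comm K R₂ R₁ : R₂ ⊗[K] R₁ ≃ₐ[K] R₁ ⊗[K] R₂) :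
      R₂ ⊗[K] R₁ →+* R₁ ⊗[K] R₂).Flat := .of_bijective (AlgEquiv.bijective _)
  have := h1.comp h2
  convert this using 1
  ext r
  simp

theorem flat_includeLeft :
    (Algebra.TensorProduct.includeLeftRingHom : R₁ →+* R₁ ⊗[K] R₂).Flat :=
  RingHom.flat_algebraMap_iff.mpr (inferInstance : Module.Flat R₁ (R₁ ⊗[K] R₂))

theorem flat_ι₂ : (ι₂ K R₁ R₂ A p₂).Flat :=
  flat_ι p₂ _ _ (flat_includeRight K R₁ R₂)

theorem isScalarTower_quot (I : Ideal (R₁ ⊗[K] R₂)) :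
    IsScalarTower R₁ ((R₁ ⊗[K] R₂) ⧸ I)
      (C K R₁ R₂ A ⧸ I.map (algebraMap (R₁ ⊗[K] R₂) (C K R₁ R₂ A))) := by
  refine ⟨fun r x y => ?_⟩
  obtain ⟨x, rfl⟩ := Ideal.Quotient.mk_surjective x
  rw [Algebra.smul_def, Algebra.smul_def, ← smul_mul_assoc]
  congr 1
  change Ideal.Quotient.mk _ (algebraMap (R₁ ⊗[K] R₂) (C K R₁ R₂ A) (r • x)) =
    r • Ideal.Quotient.mk _ (algebraMap (R₁ ⊗[K] R₂) (C K R₁ R₂ A) x)
  rw [show algebraMap (R₁ ⊗[K] R₂) (C K R₁ R₂ A) (r • x) =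
    r • algebraMap (R₁ ⊗[K] R₂) (C K R₁ R₂ A) x from
    map_smul (IsScalarTower.toAlgHom R₁ (R₁ ⊗[K] R₂) (C K R₁ R₂ A)) r x]
  rfl

theorem map_ι₂ (Q : Ideal A) :
    Q.map (ι₂ K R₁ R₂ A p₂) =
      ((Q.comap (algebraMap R₂ A)).map
        (Algebra.TensorProduct.includeRight : R₂ →ₐ[K] R₁ ⊗[K] R₂)).map
        (algebraMap (R₁ ⊗[K] R₂) (C K R₁ R₂ A)) := by
  conv_lhs => rw [← IsLocalization.map_under p₂.primeCompl A Q]
  rw [Ideal.map_map]
  change _ = Ideal.map (algebraMap (R₁ ⊗[K] R₂) (C K R₁ R₂ A))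
    (Ideal.map (Algebra.TensorProduct.includeRight : R₂ →ₐ[K] R₁ ⊗[K] R₂).toRingHom _)
  rw [Ideal.map_map]
  congr 1
  ext r
  exact ι_algebraMap p₂ _ (μT_right K R₁ R₂ A) r

theorem flat_quotient (Q : Ideal A) :
    letI : Algebra A (C K R₁ R₂ A) := (ι₁ K R₁ R₂ A p₁).toAlgebra
    Module.Flat A (C K R₁ R₂ A ⧸ Q.map (ι₂ K R₁ R₂ A p₂)) := by
  letI : Algebra A (C K R₁ R₂ A) := (ι₁ K R₁ R₂ A p₁).toAlgebra
  show Module.Flat A (C K R₁ R₂ A ⧸ Q.map (ι₂ K R₁ R₂ A p₂))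
  rw [map_ι₂]
  set Q₂ : Ideal R₂ := Q.comap (algebraMap R₂ A)
  set I : Ideal (R₁ ⊗[K] R₂) :=
    Q₂.map (Algebra.TensorProduct.includeRight : R₂ →ₐ[K] R₁ ⊗[K] R₂)
  haveI : IsScalarTower R₁ A (C K R₁ R₂ A) :=
    IsScalarTower.of_algebraMap_eq (fun r => by
      rw [IsScalarTower.algebraMap_apply R₁ (R₁ ⊗[K] R₂) (C K R₁ R₂ A)]
      exact (ι_algebraMap p₁ _ (μT_left K R₁ R₂ A) r).symm)
  haveI : Module.Flat R₁ ((R₁ ⊗[K] R₂) ⧸ I) :=
    Module.Flat.of_linearEquiv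
      (Algebra.TensorProduct.tensorQuotientEquiv (R := K) R₁ R₂ R₁ Q₂).symm.toLinearEquiv
  haveI : Module.Flat ((R₁ ⊗[K] R₂) ⧸ I)
      (C K R₁ R₂ A ⧸ I.map (algebraMap (R₁ ⊗[K] R₂) (C K R₁ R₂ A))) :=
    IsLocalization.flat (C K R₁ R₂ A ⧸ I.map (algebraMap (R₁ ⊗[K] R₂) (C K R₁ R₂ A)))
      (Algebra.algebraMapSubmonoid ((R₁ ⊗[K] R₂) ⧸ I) (𝔫 K R₁ R₂ A).primeCompl)
  haveI := isScalarTower_quot K R₁ R₂ A I
  haveI : Module.Flat R₁ (C K R₁ R₂ A ⧸ I.map (algebraMap (R₁ ⊗[K] R₂) (C K R₁ R₂ A))) :=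
    Module.Flat.trans R₁ ((R₁ ⊗[K] R₂) ⧸ I) _
  exact (Module.flat_iff_of_isLocalization A p₁.primeCompl _).mpr inferInstance

include p₁ p₂ in
/-- **Serre positivity for localizations of smooth algebras over a field** -/
theorem chi_pos_of_smooth [Algebra.Smooth K R₁] [Algebra.Smooth K R₂] [IsRegularLocalRing A]
    (P Q : Ideal A) (hP : P ≠ ⊤) (hQ : Q ≠ ⊤)
    (hfl : ∃ k : ℕ, maximalIdeal A ^ k ≤ P ⊔ Q)
    (hdim : ringKrullDim A ≤ ringKrullDim (A ⧸ P) + ringKrullDim (A ⧸ Q)) :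
    0 < IntMult.chi A (A ⧸ Q) (A ⧸ P) := by
  letI : Algebra A (C K R₁ R₂ A) := (ι₁ K R₁ R₂ A p₁).toAlgebra
  haveI : Algebra.Smooth K (R₁ ⊗[K] R₂) := Algebra.Smooth.comp K R₁ (R₁ ⊗[K] R₂)
  haveI : IsRegularLocalRing (C K R₁ R₂ A) :=
    Groth.Agent.S1535.isRegularLocalRing_atPrime_of_smooth K (R₁ ⊗[K] R₂) (𝔫 K R₁ R₂ A)
  exact Groth.Agent.Lib.Helper85.DiagPos.chi_pos (ι₂ K R₁ R₂ A p₂) (μ K R₁ R₂ A)
    (fun a => μ_ι p₁ _ (μT_left K R₁ R₂ A) a) (fun a => μ_ι p₂ _ (μT_right K R₁ R₂ A) a)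
    (flat_ι₂ K R₁ R₂ A p₂) (fun Q => flat_quotient K R₁ R₂ A p₁ p₂ Q) P Q hP hQ hfl hdim

end Concrete

end Groth.Agent.Lib.Helper85.DiagRing
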