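import Mathlib
import Groth.Agent.Lib.Helper85.IntMult.ChiAdd
import Groth.Agent.Lib.Helper85.IntMult.DiagPosPre
import Groth.Agent.Lib.Helper85.HS.Assoc

/-!
# Dévissage of the `Tor` Euler characteristic (helper85)

`χ(M, N) = Σ_{dim A/q = s} ℓ(N_q) χ(M, A/q)` provided `χ(M, A/q) = 0` whenever `dim A/q < s`;
and the two-variable version.
-/

set_option autoImplicit false
set_option linter.style.haveILetI false
set_option linter.unusedSectionVars false
universe u

namespace Groth.Agent.Lib.Helper85.ChiAssoc

open IsLocalRing Module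
open Groth.Agent.Lib.Helper85.ChiAdd Groth.Agent.Lib.Helper85.HS

variable {A : Type u} [CommRing A]

theorem chi_congr {M M' N N' : Type u} [AddCommGroup M] [Module A M] [AddCommGroup M']
    [Module A M'] [AddCommGroup N] [Module A N] [AddCommGroup N'] [Module A N']
    (e₁ : M ≃ₗ[A] M') (e₂ : N ≃ₗ[A] N') : IntMult.chi A M N = IntMult.chi A M' N' := by
  unfold IntMult.chi
  refine finsum_congr fun i => ?_
  rw [Groth.Agent.Lib.Helper85.DiagPos.length_tor_congr e₁ e₂ i]

theorem chi_of_subsingleton_right (M N : Type u) [AddCommGroup M] [Module A M] [AddCommGroup N]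
    [Module A N] [Subsingleton N] : IntMult.chi A M N = 0 := by
  unfold IntMult.chi
  have : ∀ i : ℕ, Subsingleton (DRing.Tor A i M N) := by
    intro i
    refine ⟨fun a b => ?_⟩
    have h := fun t => Groth.Agent.Lib.Helper85.TorVanish.smul_tor_eq_zero_right M N i (1 : A)
      (fun y => Subsingleton.elim _ _) t
    rw [← one_smul A a, ← one_smul A b, h a, h b]
  have h0 : ∀ i : ℕ, (-1 : ℤ) ^ i * ((Module.length A (DRing.Tor A i M N)).toNat : ℤ) = 0 := by
    intro i
    haveI := this i
    rw [Module.length_eq_zero_iff.mpr inferInstance]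
    simp
  simp only [h0, finsum_zero]

section main

variable [IsNoetherianRing A] [IsLocalRing A] (D : ℕ)
  (hD : ∀ (M N : Type u) [AddCommGroup M] [Module A M] [AddCommGroup N] [Module A N] (p : ℕ),
    D < p → Subsingleton (DRing.Tor A p M N))

include hD in
/-- dévissage in the second variable -/
theorem chi_eq_assocSum_right (M : Type u) [AddCommGroup M] [Module A M] [Module.Finite A M]
    (s : ℕ)
    (hvan : ∀ q : PrimeSpectrum A, FL A M (A ⧸ q.asIdeal) → ringKrullDim (A ⧸ q.asIdeal) < s →
      IntMult.chi A M (A ⧸ q.asIdeal) = 0)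
    (N : Type u) [AddCommGroup N] [Module A N] [fin : Module.Finite A N] :
    supportDim A N ≤ s → FL A M N →
    (IntMult.chi A M N : ℝ) =
      assocSum s (fun q => (IntMult.chi A M (A ⧸ q.asIdeal) : ℝ)) N := by
  induction fin using IsNoetherianRing.induction_on_isQuotientEquivQuotientPrime A with
  | subsingleton N =>
    intro _ _
    rw [assocSum_of_subsingleton, chi_of_subsingleton_right]
    simp
  | quotient N q f =>
    intro hdim hfl
    have hdimq : ringKrullDim (A ⧸ q.asIdeal) ≤ s := by
      rw [← Module.supportDim_quotient_eq_ringKrullDim, ← Module.supportDim_eq_of_equiv f]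
      exact hdim
    have hflq : FL A M (A ⧸ q.asIdeal) :=
      hfl.of_annihilator_le le_rfl (annihilator_le_of_surjective f.toLinearMap f.surjective)
    have hsum : assocSum s (fun q => (IntMult.chi A M (A ⧸ q.asIdeal) : ℝ)) N =
        assocSum s (fun q => (IntMult.chi A M (A ⧸ q.asIdeal) : ℝ)) (A ⧸ q.asIdeal) := by
      unfold assocSum
      refine finsum_congr fun p => finsum_congr fun _ => ?_
      rw [locLen_congr f p]
    rw [hsum, assocSum_quotient s _ q hdimq, chi_congr (LinearEquiv.refl A M) f]
    by_cases h : ringKrullDim (A ⧸ q.asIdeal) = s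
    · rw [if_pos h]
    · rw [if_neg h, hvan q hflq (lt_of_le_of_ne hdimq h)]
      simp
  | exact N₁ N₂ N₃ f g hf hg hfg ih₁ ih₃ =>
    intro hdim hfl
    have h₁ : supportDim A N₁ ≤ s := (Module.supportDim_le_of_injective f hf).trans hdim
    have h₃ : supportDim A N₃ ≤ s := (Module.supportDim_le_of_surjective g hg).trans hdim
    have hfl₁ : FL A M N₁ := hfl.of_annihilator_le le_rfl (annihilator_le_of_injective f hf)
    have hfl₃ : FL A M N₃ := hfl.of_annihilator_le le_rfl (annihilator_le_of_surjective g hg)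
    rw [assocSum_of_exact s _ f g hf hg hfg h₁ h₃, ← ih₁ h₁ hfl₁, ← ih₃ h₃ hfl₃,
      chi_add_of_exact M f g hf hg hfg hfl D (fun N _ _ p hp => hD M N p hp)]
    push_cast
    rfl

theorem annihilator_le_of_mem_support (M : Type u) [AddCommGroup M] [Module A M]
    (p : PrimeSpectrum A) (hp : p ∈ support A M) :
    Module.annihilator A M ≤ Module.annihilator A (A ⧸ p.asIdeal) := by
  rw [Ideal.annihilator_quotient]
  exact Module.annihilator_le_of_mem_support hp

include hD in
/-- dévissage in both variables -/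
theorem chi_eq_assocSum (r s : ℕ)
    (hvan : ∀ p q : PrimeSpectrum A, FL A (A ⧸ p.asIdeal) (A ⧸ q.asIdeal) →
      ringKrullDim (A ⧸ p.asIdeal) ≤ r → ringKrullDim (A ⧸ q.asIdeal) ≤ s →
      (ringKrullDim (A ⧸ p.asIdeal) < r ∨ ringKrullDim (A ⧸ q.asIdeal) < s) →
      IntMult.chi A (A ⧸ p.asIdeal) (A ⧸ q.asIdeal) = 0)
    (M N : Type u) [AddCommGroup M] [Module A M] [Module.Finite A M]
    [AddCommGroup N] [Module A N] [Module.Finite A N]
    (hM : supportDim A M ≤ r) (hN : supportDim A N ≤ s) (hfl : FL A M N) :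
    (IntMult.chi A M N : ℝ) =
      assocSum r (fun p => assocSum s
        (fun q => (IntMult.chi A (A ⧸ p.asIdeal) (A ⧸ q.asIdeal) : ℝ)) N) M := by
  classical
  -- first variable fixed to a prime quotient
  have step1 : ∀ p : PrimeSpectrum A, ringKrullDim (A ⧸ p.asIdeal) ≤ r →
      FL A (A ⧸ p.asIdeal) N →
      (IntMult.chi A (A ⧸ p.asIdeal) N : ℝ) = assocSum s
        (fun q => (IntMult.chi A (A ⧸ p.asIdeal) (A ⧸ q.asIdeal) : ℝ)) N := by
    intro p hp hflp
    refine chi_eq_assocSum_right D hD (A ⧸ p.asIdeal) s ?_ N hN hflp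
    intro q hflq hq
    exact hvan p q hflq hp hq.le (Or.inr hq)
  -- vanishing for small primes in the first variable
  have step2 : ∀ p : PrimeSpectrum A, FL A (A ⧸ p.asIdeal) N →
      ringKrullDim (A ⧸ p.asIdeal) < r → IntMult.chi A (A ⧸ p.asIdeal) N = 0 := by
    intro p hflp hp
    have h1 := step1 p hp.le hflp
    have h2 : assocSum s
        (fun q => (IntMult.chi A (A ⧸ p.asIdeal) (A ⧸ q.asIdeal) : ℝ)) N = 0 := by
      rw [assocSum_eq]
      have : ∀ q : PrimeSpectrum A,
          (if ringKrullDim (A ⧸ q.asIdeal) = s then locLen N q *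
            (IntMult.chi A (A ⧸ p.asIdeal) (A ⧸ q.asIdeal) : ℝ) else 0) = 0 := by
        intro q
        by_cases hq : ringKrullDim (A ⧸ q.asIdeal) = s
        · rw [if_pos hq]
          by_cases hqs : q ∈ support A N
          · have hflpq : FL A (A ⧸ p.asIdeal) (A ⧸ q.asIdeal) :=
              hflp.of_annihilator_le le_rfl (annihilator_le_of_mem_support N q hqs)
            rw [hvan p q hflpq hp.le hq.le (Or.inl hp)]
            simp
          · rw [locLen_eq_zero_of_notMem_support N q hqs, zero_mul]
        · rw [if_neg hq]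
      simp only [this, finsum_zero]
    rw [h2] at h1
    exact_mod_cast h1
  -- now the first variable
  have hsymm : ∀ (X : Type u) [AddCommGroup X] [Module A X],
      IntMult.chi A X N = IntMult.chi A N X :=
    fun X _ _ => Groth.Agent.Lib.Helper85.IntMultAlg.intMult_chi_symm X N
  have main := chi_eq_assocSum_right D hD N r (fun p hflp hp => by
    rw [← hsymm]
    exact step2 p hflp.symm hp) M hM hfl.symm
  rw [hsymm M, main]
  unfold assocSum
  refine finsum_congr fun p => finsum_congr fun hp => ?_
  by_cases hps : p ∈ support A M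
  · have hflp : FL A (A ⧸ p.asIdeal) N :=
      hfl.of_annihilator_le (annihilator_le_of_mem_support M p hps) le_rfl
    beta_reduce
    rw [← hsymm, step1 p hp.le hflp]
    rfl
  · rw [locLen_eq_zero_of_notMem_support M p hps, zero_mul, zero_mul]

end main

end Groth.Agent.Lib.Helper85.ChiAssoc
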