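import Mathlib
import Groth.Prelude.Def_IntMult
import Groth.Agent.Lib.Helper21.ProdDiv
import Groth.Agent.Lib.Helper55.StalkPoints
import Groth.Agent.Lib.Helper55.ClosedSubschemeDim
import Groth.Agent.H46.MiracleScheme

/-!
# Geometry of proper intersections at a generic point of a component (helper85)

Translation of the hypotheses of the `IntMult` rows on a variety into commutative algebra in the
local ring `A = O_{X,ξ}`: the stalk ideals `P`, `Q` of two integral closed subschemes are primes,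
`A/(P+Q)` has finite length, and `dim A/P + dim A/Q ≥ dim A`.
-/

set_option autoImplicit false
set_option linter.style.haveILetI false
universe u

namespace Groth.Agent.Lib.Helper85.IntMultGeom

open AlgebraicGeometry CategoryTheory Topology TopologicalSpace
open Groth.Agent.Lib.Helper21 Groth.Agent.Lib.Helper21.Chart Groth.Agent.Lib.Helper55

variable {X : Scheme.{u}}

theorem stalkIdeal_eq_prodDiv (I : X.IdealSheafData) (x : X) :
    IntMult.stalkIdeal I x = ProdDiv.stalkIdeal I x := rfl

theorem stalkIdeal_ne_top {I : X.IdealSheafData} {x : X} (hx : x ∈ I.support) :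
    IntMult.stalkIdeal I x ≠ ⊤ :=
  ProdDiv.stalkIdeal_ne_top_of_mem hx

section Integral

variable (E : X.IdealSheafData) [IsIntegral E.subscheme]

theorem stalkIdeal_isPrime {x : X} (hx : x ∈ E.support) : (IntMult.stalkIdeal E x).IsPrime := by
  obtain ⟨W, hxW⟩ := ProdDiv.exists_affine_mem x
  exact (ProdDiv.stalkIdeal_isPrime_and_comap E hx W hxW).1

/-- the prime `stalkIdeal E x` of `O_{X,x}` is the generic point of `E` -/
theorem stalkPoint_stalkIdeal {x : X} (hx : x ∈ E.support)
    (hp : (IntMult.stalkIdeal E x).IsPrime) :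
    stalkPoint x ⟨IntMult.stalkIdeal E x, hp⟩ = ProdDiv.gen E := by
  obtain ⟨W, hxW⟩ := ProdDiv.exists_affine_mem x
  have hcomap := (ProdDiv.stalkIdeal_isPrime_and_comap E hx W hxW).2
  have hξW : ProdDiv.gen E ∈ W.1 := (ProdDiv.gen_specializes E hx).mem_open W.1.2 hxW
  have hI := ProdDiv.ideal_eq_pr E W hξW
  unfold stalkPoint
  rw [← W.2.fromSpecStalk_eq_fromSpecStalk hxW]
  unfold IsAffineOpen.fromSpecStalk
  have h1 : (Spec.map (X.presheaf.germ W.1 x hxW) ≫ W.2.fromSpec)
      ⟨IntMult.stalkIdeal E x, hp⟩ =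
      W.2.fromSpec (Spec.map (X.presheaf.germ W.1 x hxW) ⟨IntMult.stalkIdeal E x, hp⟩) := rfl
  rw [h1]
  have h2 : Spec.map (X.presheaf.germ W.1 x hxW) ⟨IntMult.stalkIdeal E x, hp⟩ =
      W.2.primeIdealOf ⟨ProdDiv.gen E, hξW⟩ := by
    apply PrimeSpectrum.ext
    change (IntMult.stalkIdeal E x).comap (X.presheaf.germ W.1 x hxW).hom = _
    rw [stalkIdeal_eq_prodDiv, hcomap, hI]
  rw [h2]
  exact W.2.fromSpec_primeIdealOf ⟨ProdDiv.gen E, hξW⟩

/-- a prime of `O_{X,x}` containing the stalk ideal of `E` is a point of `E` -/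
theorem stalkPoint_mem_support {x : X} (hx : x ∈ E.support)
    (𝔭 : PrimeSpectrum (X.presheaf.stalk x)) (h : IntMult.stalkIdeal E x ≤ 𝔭.asIdeal) :
    stalkPoint x 𝔭 ∈ E.support := by
  have hp := stalkIdeal_isPrime E hx
  have h1 : stalkPoint x ⟨IntMult.stalkIdeal E x, hp⟩ ⤳ stalkPoint x 𝔭 :=
    (stalkPoint_specializes_iff x _ _).mpr h
  rw [stalkPoint_stalkIdeal E hx hp] at h1
  exact h1.mem_closed E.support.isClosed (ProdDiv.gen_mem_support E)

end Integral

section FiniteLength

variable (IV IW : X.IdealSheafData) [IsIntegral IV.subscheme] [IsIntegral IW.subscheme]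
  (ξ : X) (hξV : ξ ∈ IV.support) (hξW : ξ ∈ IW.support)
  (hmax : ∀ ξ' : X, ξ' ∈ IV.support → ξ' ∈ IW.support → ξ' ⤳ ξ → ξ' = ξ)

include hξV hξW hmax in
/-- the only prime of `O_{X,ξ}` containing both stalk ideals is the maximal ideal -/
theorem eq_maximalIdeal_of_sup_le (𝔭 : Ideal (X.presheaf.stalk ξ)) [h𝔭 : 𝔭.IsPrime]
    (h : IntMult.stalkIdeal IV ξ ⊔ IntMult.stalkIdeal IW ξ ≤ 𝔭) :
    𝔭 = IsLocalRing.maximalIdeal (X.presheaf.stalk ξ) := by
  have h1 := stalkPoint_mem_support IV hξV ⟨𝔭, h𝔭⟩ (le_sup_left.trans h)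
  have h2 := stalkPoint_mem_support IW hξW ⟨𝔭, h𝔭⟩ (le_sup_right.trans h)
  have h3 := hmax _ h1 h2 (stalkPoint_specializes ξ ⟨𝔭, h𝔭⟩)
  have h4 : stalkPoint ξ (IsLocalRing.closedPoint (X.presheaf.stalk ξ)) = ξ :=
    Scheme.fromSpecStalk_closedPoint
  have h5 := stalkPoint_injective ξ (h3.trans h4.symm)
  exact congrArg PrimeSpectrum.asIdeal h5

omit [IsIntegral IV.subscheme] [IsIntegral IW.subscheme] in
include hξV hξW in
theorem sup_le_maximalIdeal :
    IntMult.stalkIdeal IV ξ ⊔ IntMult.stalkIdeal IW ξ ≤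
      IsLocalRing.maximalIdeal (X.presheaf.stalk ξ) :=
  sup_le (IsLocalRing.le_maximalIdeal (stalkIdeal_ne_top hξV))
    (IsLocalRing.le_maximalIdeal (stalkIdeal_ne_top hξW))

include hξV hξW hmax in
theorem radical_sup_eq :
    (IntMult.stalkIdeal IV ξ ⊔ IntMult.stalkIdeal IW ξ).radical =
      IsLocalRing.maximalIdeal (X.presheaf.stalk ξ) := by
  rw [Ideal.radical_eq_sInf]
  apply le_antisymm
  · exact sInf_le ⟨sup_le_maximalIdeal IV IW ξ hξV hξW, inferInstance⟩
  · refine le_sInf ?_
    rintro J ⟨hJ, hJp⟩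
    rw [eq_maximalIdeal_of_sup_le IV IW ξ hξV hξW hmax J hJ]

include hξV hξW hmax in
theorem exists_pow_maximalIdeal_le [IsNoetherianRing (X.presheaf.stalk ξ)] :
    ∃ k : ℕ, IsLocalRing.maximalIdeal (X.presheaf.stalk ξ) ^ k ≤
      IntMult.stalkIdeal IV ξ ⊔ IntMult.stalkIdeal IW ξ :=
  Ideal.exists_pow_le_of_le_radical_of_fg
    (radical_sup_eq IV IW ξ hξV hξW hmax).ge (IsNoetherian.noetherian _)

end FiniteLength

section Arith

theorem exists_nat_of_add_eq {x y : WithBot ℕ∞} {n : ℕ} (h : x + y = (n : WithBot ℕ∞)) :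
    ∃ a d : ℕ, x = (a : WithBot ℕ∞) ∧ y = (d : WithBot ℕ∞) ∧ a + d = n := by
  induction x with
  | bot => rw [WithBot.bot_add] at h; exact absurd h.symm WithBot.coe_ne_bot
  | coe x =>
    induction y with
    | bot => rw [WithBot.add_bot] at h; exact absurd h.symm WithBot.coe_ne_bot
    | coe y =>
      have h' : x + y = (n : ℕ∞) := by exact_mod_cast h
      have hx : x ≠ ⊤ := by
        rintro rfl
        rw [top_add] at h'
        exact ENat.natCast_ne_top n h'.symm
      have hy : y ≠ ⊤ := by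
        rintro rfl
        rw [add_top] at h'
        exact ENat.natCast_ne_top n h'.symm
      lift x to ℕ using hx
      lift y to ℕ using hy
      refine ⟨x, y, rfl, rfl, ?_⟩
      exact_mod_cast h'

end Arith

section Dim

variable {K : Type u} [Field K] (f : X ⟶ Spec (CommRingCat.of K)) [LocallyOfFiniteType f]

include f in
/-- dimension formula on an irreducible scheme locally of finite type over a field -/
theorem ringKrullDim_stalk_add_dim_closure_of_irreducible [IrreducibleSpace X] (n : ℕ)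
    (hn : topologicalKrullDim X = n) (x : X) :
    ringKrullDim (X.presheaf.stalk x) + topologicalKrullDim ↥(closure ({x} : Set X)) = n := by
  apply Groth.Agent.H46.MiracleScheme.ringKrullDim_stalk_add_dim_closure K X f n _ x
  intro Z hZ
  rw [irreducibleComponents_eq_singleton, Set.mem_singleton_iff] at hZ
  subst hZ
  rw [← hn]
  exact IsHomeomorph.topologicalKrullDim_eq _ (Homeomorph.Set.univ X).isHomeomorph

include f in
/-- dimension formula for an integral closed subscheme, in terms of the stalk ideal -/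
theorem ringKrullDim_quotient_stalkIdeal_add_dim_closure (E : X.IdealSheafData)
    [IsIntegral E.subscheme] (r : ℕ) (hr : topologicalKrullDim E.support = r) (x : X)
    (hx : x ∈ E.support) :
    ringKrullDim (X.presheaf.stalk x ⧸ IntMult.stalkIdeal E x) +
      topologicalKrullDim ↥(closure ({x} : Set X)) = r := by
  haveI : IsLocallyNoetherian X := LocallyOfFiniteType.isLocallyNoetherian f
  haveI : IsLocallyNoetherian E.subscheme :=
    LocallyOfFiniteType.isLocallyNoetherian (E.subschemeι ≫ f)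
  have hemb : IsClosedEmbedding E.subschemeι := E.subschemeι.isClosedEmbedding
  obtain ⟨v, rfl⟩ : x ∈ Set.range E.subschemeι := by rw [E.range_subschemeι]; exact hx
  -- dimension of the subscheme
  have hdimV : topologicalKrullDim E.subscheme = r := by
    rw [← hr]
    have e1 := IsHomeomorph.topologicalKrullDim_eq _ hemb.isEmbedding.toHomeomorph.isHomeomorph
    rw [e1]
    have e2 : Set.range E.subschemeι = (E.support : Set X) := E.range_subschemeι
    rw [e2]
    rfl
  have h1 := ringKrullDim_stalk_add_dim_closure_of_irreducible (E.subschemeι ≫ f) r hdimV v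
  -- closure
  have h2 : topologicalKrullDim ↥(closure ({v} : Set E.subscheme)) =
      topologicalKrullDim ↥(closure ({E.subschemeι v} : Set X)) := by
    rw [← topologicalKrullDim_closure_inter_range_eq E.subschemeι hemb.isEmbedding v]
    have hsub : closure ({E.subschemeι v} : Set X) ⊆ Set.range E.subschemeι :=
      hemb.isClosed_range.closure_subset_iff.mpr (by
        rintro _ rfl
        exact ⟨v, rfl⟩)
    rw [Set.inter_eq_left.mpr hsub]
  -- the local ring
  have hp := stalkIdeal_isPrime E hx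
  have h3 : ringKrullDim (E.subscheme.presheaf.stalk v) =
      ringKrullDim (X.presheaf.stalk (E.subschemeι v) ⧸ IntMult.stalkIdeal E (E.subschemeι v)) := by
    rw [ringKrullDim_stalk_eq_dim_between v,
      topologicalKrullDim_between_eq_of_isClosedEmbedding E.subschemeι hemb]
    have h4 := ringKrullDim_stalk_quotient_eq (E.subschemeι v)
      ⟨IntMult.stalkIdeal E (E.subschemeι v), hp⟩
    rw [stalkPoint_stalkIdeal E hx hp] at h4
    exact h4.symm
  rw [← h3, ← h2]
  exact h1

end Dim

section Main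

variable {K : Type u} [Field K] (f : X ⟶ Spec (CommRingCat.of K)) [LocallyOfFiniteType f]
  [IrreducibleSpace X]
  (IV IW : X.IdealSheafData) [IsIntegral IV.subscheme] [IsIntegral IW.subscheme]
  (n r s : ℕ) (hn : topologicalKrullDim X = n) (hr : topologicalKrullDim IV.support = r)
  (hs : topologicalKrullDim IW.support = s)
  (hprop : IntMult.ProperInt (IV.support : Set X) (IW.support : Set X) n r s)
  (ξ : X) (hξV : ξ ∈ IV.support) (hξW : ξ ∈ IW.support)

include f hn hr hs hprop hξV hξW in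
/-- the local dimensions at a point of a proper intersection -/
theorem exists_dims : ∃ a p q d : ℕ,
    ringKrullDim (X.presheaf.stalk ξ) = a ∧
    ringKrullDim (X.presheaf.stalk ξ ⧸ IntMult.stalkIdeal IV ξ) = p ∧
    ringKrullDim (X.presheaf.stalk ξ ⧸ IntMult.stalkIdeal IW ξ) = q ∧
    a + d = n ∧ p + d = r ∧ q + d = s ∧ d + n ≤ r + s := by
  have h1 := ringKrullDim_stalk_add_dim_closure_of_irreducible f n hn ξ
  have h2 := ringKrullDim_quotient_stalkIdeal_add_dim_closure f IV r hr ξ hξV
  have h3 := ringKrullDim_quotient_stalkIdeal_add_dim_closure f IW s hs ξ hξW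
  obtain ⟨a, d, ha, hd, had⟩ := exists_nat_of_add_eq h1
  obtain ⟨p, d', hp, hd', hpd⟩ := exists_nat_of_add_eq h2
  obtain ⟨q, d'', hq, hd'', hqd⟩ := exists_nat_of_add_eq h3
  have e1 : d' = d := by
    rw [hd] at hd'
    exact_mod_cast hd'.symm
  have e2 : d'' = d := by
    rw [hd] at hd''
    exact_mod_cast hd''.symm
  rw [e1] at hpd
  rw [e2] at hqd
  obtain ⟨hle, hdim⟩ := hprop ⟨ξ, hξV, hξW⟩
  have hsub : closure ({ξ} : Set X) ⊆ (IV.support : Set X) ∩ (IW.support : Set X) :=
    closure_minimal (Set.singleton_subset_iff.mpr ⟨hξV, hξW⟩)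
      (IV.support.isClosed.inter IW.support.isClosed)
  have h4 := topologicalKrullDim_mono_set hsub
  have h5 : (d : WithBot ℕ∞) ≤ ((r + s - n : ℕ) : WithBot ℕ∞) := by
    rw [← hd]
    exact h4.trans hdim
  have h6 : d ≤ r + s - n := by exact_mod_cast h5
  exact ⟨a, p, q, d, ha, hp, hq, had, hpd, hqd, by omega⟩

end Main

section FiniteLength2

variable (IV IW : X.IdealSheafData) [IsIntegral IV.subscheme] [IsIntegral IW.subscheme]
  (ξ : X) (hξV : ξ ∈ IV.support) (hξW : ξ ∈ IW.support)
  (hmax : ∀ ξ' : X, ξ' ∈ IV.support → ξ' ∈ IW.support → ξ' ⤳ ξ → ξ' = ξ)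

include hξV hξW hmax in
theorem ringKrullDim_quotient_sup_le_zero :
    ringKrullDim (X.presheaf.stalk ξ ⧸ (IntMult.stalkIdeal IV ξ ⊔ IntMult.stalkIdeal IW ξ)) ≤ 0 := by
  have h : Ring.KrullDimLE 0
      (X.presheaf.stalk ξ ⧸ (IntMult.stalkIdeal IV ξ ⊔ IntMult.stalkIdeal IW ξ)) := by
    rw [Ideal.krullDimLE_zero_quotient_iff_forall_minimalPrimes_isMaximal]
    intro J hJ
    haveI := hJ.1.1
    rw [eq_maximalIdeal_of_sup_le IV IW ξ hξV hξW hmax J hJ.1.2]
    exact IsLocalRing.maximalIdeal.isMaximal _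
  exact_mod_cast Ring.krullDimLE_iff.mp h

end FiniteLength2

end Groth.Agent.Lib.Helper85.IntMultGeom
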