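import Mathlib
import Groth.Prelude.Def_IntMult
import Groth.Prelude.Def_Cyc
import Groth.Agent.Lib.Helper85.IntMult.LocLen
import Groth.Agent.Lib.Helper85.IntMult.Geom
import Groth.Agent.Lib.Helper45.QCohStalk

/-!
# Stalks of a quasi-coherent module at generizations (helper85)

For a prime `𝔭` of `A = O_{X,ζ}` with corresponding point `ξ ⤳ ζ`, and `F` quasi-coherent:
`ℓ_{O_ξ}(F_ξ) = ℓ_{A_𝔭}((F_ζ)_𝔭)`; and the stalk at `ζ` of the ideal sheaf of `closure {ξ}` is `𝔭`.
-/

set_option autoImplicit false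
set_option linter.style.haveILetI false
set_option linter.unusedSectionVars false
universe u

namespace Groth.Agent.Lib.Helper85.StalkLen

open AlgebraicGeometry CategoryTheory Topology TopologicalSpace
open Groth.Agent.Lib.Helper45 Groth.Agent.Lib.Helper55 Groth.Agent.Lib.Helper21
  Groth.Agent.Lib.Helper21.Chart

attribute [local instance] stalkModuleSections

variable {X : Scheme.{u}}

section Chart

variable {U : X.Opens} (hU : IsAffineOpen U) (ζ : X) (hζ : ζ ∈ U)
  (𝔭 : PrimeSpectrum (X.presheaf.stalk ζ))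

/-- the prime of the chart attached to a prime of the local ring -/
noncomputable def chartPrime : PrimeSpectrum Γ(X, U) :=
  ⟨𝔭.asIdeal.comap (X.presheaf.germ U ζ hζ).hom, inferInstance⟩

theorem stalkPoint_eq_fromSpec :
    stalkPoint ζ 𝔭 = hU.fromSpec (chartPrime ζ hζ 𝔭) := by
  unfold stalkPoint
  rw [← hU.fromSpecStalk_eq_fromSpecStalk hζ]
  rfl

include hζ in
theorem stalkPoint_mem : stalkPoint ζ 𝔭 ∈ U :=
  (stalkPoint_specializes ζ 𝔭).mem_open U.2 hζ

theorem primeIdealOf_stalkPoint :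
    hU.primeIdealOf ⟨stalkPoint ζ 𝔭, stalkPoint_mem ζ hζ 𝔭⟩ = chartPrime ζ hζ 𝔭 := by
  have h := primeIdealOf_fromSpec hU (chartPrime ζ hζ 𝔭)
  have e : (⟨stalkPoint ζ 𝔭, stalkPoint_mem ζ hζ 𝔭⟩ : U) =
      ⟨hU.fromSpec (chartPrime ζ hζ 𝔭), fromSpec_mem hU _⟩ :=
    Subtype.ext (stalkPoint_eq_fromSpec hU ζ hζ 𝔭)
  rw [e, h]

end Chart

theorem length_congr_prime {R : Type u} [CommRing R] (N : Type u) [AddCommGroup N] [Module R N]
    (p p' : Ideal R) [hp : p.IsPrime] [hp' : p'.IsPrime] (h : p = p') :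
    Module.length (Localization.AtPrime p) (LocalizedModule p.primeCompl N) =
      Module.length (Localization.AtPrime p') (LocalizedModule p'.primeCompl N) := by
  subst h
  rfl

section Length

variable (F : X.Modules) [F.IsQuasicoherent]

theorem length_stalk_aux {U : X.Opens} (hU : IsAffineOpen U) (z y : U)
    (𝔭 : PrimeSpectrum (X.presheaf.stalk (z : X)))
    (hq : (hU.primeIdealOf y).asIdeal =
      𝔭.asIdeal.comap (algebraMap Γ(X, U) (X.presheaf.stalk (z : X)))) :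
    Module.length (X.presheaf.stalk (y : X)) (F.presheaf.stalk (y : X)) =
      Module.length (Localization.AtPrime 𝔭.asIdeal)
        (LocalizedModule 𝔭.asIdeal.primeCompl (F.presheaf.stalk (z : X))) := by
  haveI ly := hU.isLocalization_stalk y
  haveI lmy := isLocalizedModule_germₗ hU F y
  have h1 := LocLen.length_eq_of_isLocalizedModule (hU.primeIdealOf y).asIdeal
    (X.presheaf.stalk (y : X)) (germₗ F y)
  haveI lz := hU.isLocalization_stalk z
  haveI lmz := isLocalizedModule_germₗ hU F z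
  have h2 := LocLen.length_localizedModule_eq (hU.primeIdealOf z).asIdeal
    (X.presheaf.stalk (z : X)) (germₗ F z) 𝔭.asIdeal
  exact h1.trans ((length_congr_prime Γ(F, U) _ _ hq).trans h2.symm)

/-- `ℓ(F_ξ) = ℓ((F_ζ)_𝔭)` for the point `ξ` attached to the prime `𝔭` of `O_ζ` -/
theorem length_stalk_stalkPoint (ζ : X) (𝔭 : PrimeSpectrum (X.presheaf.stalk ζ)) :
    Module.length (X.presheaf.stalk (stalkPoint ζ 𝔭)) (F.presheaf.stalk (stalkPoint ζ 𝔭)) =
      Module.length (Localization.AtPrime 𝔭.asIdeal)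
        (LocalizedModule 𝔭.asIdeal.primeCompl (F.presheaf.stalk ζ)) := by
  obtain ⟨_, ⟨U, hU : IsAffineOpen U, rfl⟩, hζ, -⟩ :=
    X.isBasis_affineOpens.exists_subset_of_mem_open (Set.mem_univ ζ) isOpen_univ
  have hξ : stalkPoint ζ 𝔭 ∈ U := stalkPoint_mem ζ hζ 𝔭
  exact length_stalk_aux F hU ⟨ζ, hζ⟩ ⟨stalkPoint ζ 𝔭, hξ⟩ 𝔭
    (congrArg PrimeSpectrum.asIdeal (primeIdealOf_stalkPoint hU ζ hζ 𝔭))

end Length

section PtIdeal

/-- the ideal of `closure {ξ}` in a chart containing `ξ` is the prime of `ξ` -/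
theorem ptIdeal_ideal (W : X.affineOpens) (q : PrimeSpectrum Γ(X, W.1)) :
    (IntMult.ptIdeal (W.2.fromSpec q)).ideal W = q.asIdeal := by
  have hW : IsAffineOpen W.1 := W.2
  unfold IntMult.ptIdeal
  rw [Scheme.IdealSheafData.vanishingIdeal_ideal]
  have key : ∀ x : Spec Γ(X, W.1),
      hW.fromSpec x ∈ closure {hW.fromSpec (q : Spec Γ(X, W.1))} ↔
        (q : PrimeSpectrum Γ(X, W.1)) ≤ (x : PrimeSpectrum Γ(X, W.1)) := by
    intro x
    refine Iff.trans specializes_iff_mem_closure.symm ?_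
    refine Iff.trans hW.fromSpec.isOpenEmbedding.isEmbedding.isInducing.specializes_iff ?_
    exact (PrimeSpectrum.le_iff_specializes _ _).symm
  apply le_antisymm
  · intro f hf
    exact (PrimeSpectrum.mem_vanishingIdeal _ _).mp hf q ((key q).mpr le_rfl)
  · intro f hf
    rw [PrimeSpectrum.mem_vanishingIdeal]
    intro x hx
    exact ((key x).mp hx) hf

/-- the stalk at `ζ` of the ideal sheaf of `closure {ξ}` is the prime `𝔭` of `ξ` -/
theorem stalkIdeal_ptIdeal (ζ : X) (𝔭 : PrimeSpectrum (X.presheaf.stalk ζ)) :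
    IntMult.stalkIdeal (IntMult.ptIdeal (stalkPoint ζ 𝔭)) ζ = 𝔭.asIdeal := by
  obtain ⟨W, hζ⟩ := ProdDiv.exists_affine_mem ζ
  change ProdDiv.stalkIdeal _ ζ = _
  rw [ProdDiv.stalkIdeal_eq _ W ζ hζ, stalkPoint_eq_fromSpec W.2 ζ hζ 𝔭, ptIdeal_ideal]
  letI : Algebra Γ(X, W.1) (X.presheaf.stalk ζ) :=
    TopCat.Presheaf.algebra_section_stalk X.presheaf ⟨ζ, hζ⟩
  haveI : IsLocalization.AtPrime (X.presheaf.stalk ζ) (W.2.primeIdealOf ⟨ζ, hζ⟩).asIdeal :=
    W.2.isLocalization_stalk ⟨ζ, hζ⟩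
  exact IsLocalization.map_under (W.2.primeIdealOf ⟨ζ, hζ⟩).asIdeal.primeCompl
    (X.presheaf.stalk ζ) 𝔭.asIdeal

end PtIdeal

end Groth.Agent.Lib.Helper85.StalkLen
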