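import Mathlib
import Groth.Prelude.Def_IntMult
import Groth.Agent.Lib.Helper85.Serre.KoszulTor

/-!
# `Tor` vanishes above the projective dimension (helper85)

For a δ-functor-lite `T` (connecting maps + vanishing on projectives in positive degrees) and an
object `X` of projective dimension `≤ e`, `T p X = 0` for `p > e`.  Applied to `Tor`.
-/

set_option autoImplicit false
universe u

namespace Groth.Agent.Lib.Helper85.TorPd

open CategoryTheory CategoryTheory.Limits MonoidalCategory
open Groth.Agent.Lib.Helper17 Groth.Agent.Lib.Helper85.KTor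

section DL

universe v v' w w'

variable {C : Type w} [Category.{v} C] [Abelian C] [EnoughProjectives C]
  {D : Type w'} [Category.{v'} D] [Abelian D] {T : ℕ → C ⥤ D}

/-- a δ-functor-lite vanishes above the projective dimension -/
theorem isZero_of_hasProjectiveDimensionLT (hT : IsDeltaLite T) :
    ∀ (e : ℕ) (X : C), HasProjectiveDimensionLT X (e + 1) → ∀ p : ℕ, e < p →
      IsZero ((T p).obj X) := by
  intro e
  induction e with
  | zero =>
    intro X hX p hp
    obtain ⟨k, rfl⟩ : ∃ k, p = k + 1 := ⟨p - 1, by omega⟩
    have : Projective X := projective_iff_hasProjectiveDimensionLT_one.mpr hX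
    exact hT.vanish X k
  | succ e ih =>
    intro X hX p hp
    obtain ⟨k, rfl⟩ : ∃ k, p = k + 2 := ⟨p - 2, by omega⟩
    obtain ⟨i⟩ := hT.nonempty_iso_succ X k
    have hK : HasProjectiveDimensionLT (projSC X).X₁ (e + 1) :=
      ((projSC_shortExact X).hasProjectiveDimensionLT_X₃_iff e
        (by change Projective (Projective.over X); infer_instance)).mp hX
    exact (ih _ hK (k + 1) (by omega)).of_iso i

end DL

variable {A : Type u} [CommRing A]

/-- `Tor_p(N, M) = 0` for `p` above the projective dimension of `M` -/
theorem subsingleton_tor_of_hasProjectiveDimensionLT (N M : Type u) [AddCommGroup N] [Module A N]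
    [AddCommGroup M] [Module A M] (e : ℕ)
    (hM : HasProjectiveDimensionLT (ModuleCat.of A M) (e + 1)) (p : ℕ) (hp : e < p) :
    Subsingleton (DRing.Tor A p N M) := by
  have h := isZero_of_hasProjectiveDimensionLT (C := ModuleCat.{u} A) (D := ModuleCat.{u} A)
    (isDeltaLite_T' (ModuleCat.of A N)) e (ModuleCat.of A M) hM p hp
  exact ModuleCat.subsingleton_of_isZero h

end Groth.Agent.Lib.Helper85.TorPd
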