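import Mathlib
import Groth.Prelude.Def_IntMult
import Groth.Prelude.Def_Cyc
import Groth.Prelude.Def_Coh
import Groth.Agent.Lib.Helper85.IntMult.StalkLen
import Groth.Agent.Lib.Helper85.IntMult.ChiAssoc
import Groth.Agent.Lib.Helper89.DimFunJacobson
import Groth.Agent.Lib.Helper12.QuasiFlat
import Groth.Agent.Lib.Helper85.IntMult.TorPd
import Groth.Agent.S0563

/-!
# Serre's Tor formula for the intersection product of coherent sheaves (helper85)
-/

set_option autoImplicit false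
set_option linter.style.haveILetI false
set_option linter.unusedSectionVars false
universe u

namespace Groth.Agent.Lib.Helper85.SerreFormula

open AlgebraicGeometry CategoryTheory Topology TopologicalSpace Module
open Groth.Agent.Lib.Helper55 Groth.Agent.Lib.Helper85.StalkLen Groth.Agent.Lib.Helper85.HS
  Groth.Agent.Lib.Helper85.ChiAdd Groth.Agent.Lib.Helper85.ChiAssoc

section Alg

variable {A : Type u} [CommRing A]

/-- bounding the dimension of the support by the dimensions of its points -/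
theorem supportDim_le_of_forall (M : Type u) [AddCommGroup M] [Module A M] (d : WithBot ℕ∞)
    (h : ∀ p ∈ Module.support A M, ringKrullDim (A ⧸ p.asIdeal) ≤ d) :
    Module.supportDim A M ≤ d := by
  refine iSup_le_iff.mpr (fun c => ?_)
  set q₀ : PrimeSpectrum A := c.head.1 with hq₀
  have hX : Module.support A (A ⧸ q₀.asIdeal) = PrimeSpectrum.zeroLocus (q₀.asIdeal : Set A) := by
    rw [Module.support_eq_zeroLocus, Ideal.annihilator_quotient]
  have hmem : ∀ i, q₀ ≤ (c i).1 := fun i => c.head_le i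
  let c' : LTSeries (Module.support A (A ⧸ q₀.asIdeal)) :=
    { length := c.length
      toFun := fun i => ⟨(c i).1, by rw [hX]; exact hmem i⟩
      step := fun i => c.step i }
  have h1 : ((c.length : ℕ∞) : WithBot ℕ∞) ≤ Module.supportDim A (A ⧸ q₀.asIdeal) :=
    Order.LTSeries.length_le_krullDim c'
  rw [Module.supportDim_quotient_eq_ringKrullDim] at h1
  exact h1.trans (h q₀ c.head.2)

end Alg

section Geom

variable {X : Scheme.{u}} [IsLocallyNoetherian X] (δ : X → ℤ) (hdim : Cyc.IsDimFun X δ) (ζ : X)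

include hdim in
theorem ringKrullDim_quotient_eq (𝔭 : PrimeSpectrum (X.presheaf.stalk ζ)) :
    ringKrullDim (X.presheaf.stalk ζ ⧸ 𝔭.asIdeal) =
      (((δ (stalkPoint ζ 𝔭) - δ ζ).toNat : ℕ) : WithBot ℕ∞) := by
  rw [Groth.Agent.H46.ringKrullDim_quotient_eq_coheight 𝔭,
    Groth.Agent.Lib.Helper89.DimFunJacobson.coheight_eq_of_isDimFun X δ hdim ζ 𝔭]
  rfl

include hdim in
theorem delta_le (𝔭 : PrimeSpectrum (X.presheaf.stalk ζ)) : δ ζ ≤ δ (stalkPoint ζ 𝔭) :=
  Groth.Agent.Lib.Helper89.DimFunJacobson.delta_le_of_specializes X δ hdim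
    (stalkPoint_specializes ζ 𝔭)

include hdim in
/-- `dim A/𝔭 = (r - δ ζ).toNat ↔ δ ξ = r` -/
theorem ringKrullDim_quotient_eq_iff (𝔭 : PrimeSpectrum (X.presheaf.stalk ζ)) (r : ℤ)
    (hr : δ ζ ≤ r) :
    ringKrullDim (X.presheaf.stalk ζ ⧸ 𝔭.asIdeal) = (((r - δ ζ).toNat : ℕ) : WithBot ℕ∞) ↔
      δ (stalkPoint ζ 𝔭) = r := by
  rw [ringKrullDim_quotient_eq δ hdim ζ 𝔭]
  have h1 := delta_le δ hdim ζ 𝔭
  constructor
  · intro h
    have h2 : (δ (stalkPoint ζ 𝔭) - δ ζ).toNat = (r - δ ζ).toNat := by exact_mod_cast h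
    omega
  · intro h
    rw [h]

omit [IsLocallyNoetherian X] in
theorem nontrivial_stalk_iff (F : X.Modules) [F.IsQuasicoherent]
    (𝔭 : PrimeSpectrum (X.presheaf.stalk ζ)) :
    Nontrivial (F.presheaf.stalk (stalkPoint ζ 𝔭)) ↔
      𝔭 ∈ Module.support (X.presheaf.stalk ζ) (F.presheaf.stalk ζ) := by
  rw [Module.mem_support_iff, ← Module.length_pos_iff (R := X.presheaf.stalk (stalkPoint ζ 𝔭)),
    length_stalk_stalkPoint F ζ 𝔭, Module.length_pos_iff]

end Geom

section Finsum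

variable {X : Scheme.{u}} (ζ : X)

/-- reindexing the sum defining `interProd` by pairs of primes of the local ring -/
theorem finsum_pairs {M : Type*} [AddCommMonoid M] (c : X → X → Prop) (f : X → X → M)
    (hf : ∀ ξ η, f ξ η ≠ 0 → c ξ η) :
    ∑ᶠ x : {p : X × X // p.1 ⤳ ζ ∧ p.2 ⤳ ζ ∧ c p.1 p.2}, f x.1.1 x.1.2 =
      ∑ᶠ y : PrimeSpectrum (X.presheaf.stalk ζ) × PrimeSpectrum (X.presheaf.stalk ζ),
        f (stalkPoint ζ y.1) (stalkPoint ζ y.2) := by
  classical
  let e : {y : PrimeSpectrum (X.presheaf.stalk ζ) × PrimeSpectrum (X.presheaf.stalk ζ) //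
      c (stalkPoint ζ y.1) (stalkPoint ζ y.2)} →
      {p : X × X // p.1 ⤳ ζ ∧ p.2 ⤳ ζ ∧ c p.1 p.2} :=
    fun y => ⟨(stalkPoint ζ y.1.1, stalkPoint ζ y.1.2),
      stalkPoint_specializes ζ _, stalkPoint_specializes ζ _, y.2⟩
  have he : Function.Bijective e := by
    constructor
    · rintro ⟨⟨a, b⟩, h⟩ ⟨⟨a', b'⟩, h'⟩ hab
      have h1 := congrArg (fun t => t.1.1) hab
      have h2 := congrArg (fun t => t.1.2) hab
      simp only [e] at h1 h2
      have ha := stalkPoint_injective ζ h1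
      have hb := stalkPoint_injective ζ h2
      subst ha
      subst hb
      rfl
    · rintro ⟨⟨ξ, η⟩, h1, h2, h3⟩
      obtain ⟨a, rfl⟩ := exists_stalkPoint_eq ζ ξ h1
      obtain ⟨b, rfl⟩ := exists_stalkPoint_eq ζ η h2
      exact ⟨⟨(a, b), h3⟩, rfl⟩
  rw [← finsum_eq_of_bijective e he (f := fun y => f (stalkPoint ζ y.1.1) (stalkPoint ζ y.1.2))
    (g := fun x => f x.1.1 x.1.2) (fun y => rfl)]
  rw [finsum_subtype_eq_finsum_cond (f := fun y : PrimeSpectrum (X.presheaf.stalk ζ) ×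
    PrimeSpectrum (X.presheaf.stalk ζ) => f (stalkPoint ζ y.1) (stalkPoint ζ y.2))
    (fun y => c (stalkPoint ζ y.1) (stalkPoint ζ y.2))]
  refine finsum_congr fun y => ?_
  rw [finsum_eq_if]
  split_ifs with h
  · rfl
  · by_contra hne
    exact h (hf _ _ (Ne.symm hne))

end Finsum

section Core

variable {X : Scheme.{u}} [IsLocallyNoetherian X] (δ : X → ℤ) (hdim : Cyc.IsDimFun X δ) (ζ : X)
  (F G : X.Modules) (hF : Coh.IsCoh F) (hG : Coh.IsCoh G) (n r s : ℤ)
  (hr : ∀ x : X, Nontrivial (F.presheaf.stalk x) → δ x ≤ r)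
  (hs : ∀ x : X, Nontrivial (G.presheaf.stalk x) → δ x ≤ s)
  (hrs : ∀ x : X, Nontrivial (F.presheaf.stalk x) → Nontrivial (G.presheaf.stalk x) →
    δ x ≤ r + s - n)
  (hζ : δ ζ = r + s - n)

include hdim hF hG hrs hζ in
/-- `F_ζ ⊗ G_ζ` has finite length -/
theorem fl_stalks : FL (X.presheaf.stalk ζ) (F.presheaf.stalk ζ) (G.presheaf.stalk ζ) := by
  haveI : F.IsQuasicoherent := hF.1
  haveI : G.IsQuasicoherent := hG.1
  haveI := Groth.Agent.Lib.Helper12.QuasiFlat.finite_stalk_of_isCoh F hF ζ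
  haveI := Groth.Agent.Lib.Helper12.QuasiFlat.finite_stalk_of_isCoh G hG ζ
  haveI : IsNoetherianRing (X.presheaf.stalk ζ) := inferInstance
  set I := Module.annihilator (X.presheaf.stalk ζ) (F.presheaf.stalk ζ) ⊔
    Module.annihilator (X.presheaf.stalk ζ) (G.presheaf.stalk ζ) with hI
  have key : ∀ J : Ideal (X.presheaf.stalk ζ), J.IsPrime → I ≤ J →
      J = IsLocalRing.maximalIdeal (X.presheaf.stalk ζ) := by
    intro J hJ hIJ
    set 𝔭 : PrimeSpectrum (X.presheaf.stalk ζ) := ⟨J, hJ⟩ with h𝔭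
    have h1 : 𝔭 ∈ Module.support (X.presheaf.stalk ζ) (F.presheaf.stalk ζ) := by
      rw [Module.mem_support_iff_of_finite]
      exact le_sup_left.trans hIJ
    have h2 : 𝔭 ∈ Module.support (X.presheaf.stalk ζ) (G.presheaf.stalk ζ) := by
      rw [Module.mem_support_iff_of_finite]
      exact le_sup_right.trans hIJ
    have h3 := hrs _ ((nontrivial_stalk_iff ζ F 𝔭).mpr h1) ((nontrivial_stalk_iff ζ G 𝔭).mpr h2)
    rw [← hζ] at h3
    have h4 : stalkPoint ζ 𝔭 = ζ := by
      by_contra hne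
      have := (hdim _ _ (stalkPoint_specializes ζ 𝔭) hne).1
      omega
    have h5 : stalkPoint ζ (IsLocalRing.closedPoint (X.presheaf.stalk ζ)) = ζ :=
      Scheme.fromSpecStalk_closedPoint
    have h6 := stalkPoint_injective ζ (h4.trans h5.symm)
    exact congrArg PrimeSpectrum.asIdeal h6
  have hrad : IsLocalRing.maximalIdeal (X.presheaf.stalk ζ) ≤ I.radical := by
    rw [Ideal.radical_eq_sInf]
    refine le_sInf ?_
    rintro J ⟨hJ, hJp⟩
    rw [key J hJp hJ]
  exact Ideal.exists_pow_le_of_le_radical_of_fg hrad (IsNoetherian.noetherian _)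

include hdim hF hr in
theorem supportDim_stalk_le (hζr : δ ζ ≤ r) :
    Module.supportDim (X.presheaf.stalk ζ) (F.presheaf.stalk ζ) ≤
      (((r - δ ζ).toNat : ℕ) : WithBot ℕ∞) := by
  haveI : F.IsQuasicoherent := hF.1
  refine supportDim_le_of_forall _ _ ?_
  intro 𝔭 h𝔭
  rw [ringKrullDim_quotient_eq δ hdim ζ 𝔭]
  have h1 := hr _ ((nontrivial_stalk_iff ζ F 𝔭).mpr h𝔭)
  have h2 : (δ (stalkPoint ζ 𝔭) - δ ζ).toNat ≤ (r - δ ζ).toNat := by omega
  exact_mod_cast h2

include hdim in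
/-- the coefficient of `[F]_r` at the point of `𝔭` -/
theorem sheafFun_stalkPoint (hF : Coh.IsCoh F) (hζr : δ ζ ≤ r)
    (𝔭 : PrimeSpectrum (X.presheaf.stalk ζ)) :
    ((Cyc.sheafFun δ r F (stalkPoint ζ 𝔭) : ℤ) : ℝ) =
      if ringKrullDim (X.presheaf.stalk ζ ⧸ 𝔭.asIdeal) = (((r - δ ζ).toNat : ℕ) : WithBot ℕ∞)
      then locLen (F.presheaf.stalk ζ) 𝔭 else 0 := by
  haveI : F.IsQuasicoherent := hF.1
  unfold Cyc.sheafFun
  by_cases h : δ (stalkPoint ζ 𝔭) = r
  · rw [if_pos h, if_pos ((ringKrullDim_quotient_eq_iff δ hdim ζ 𝔭 r hζr).mpr h)]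
    unfold locLen
    rw [length_stalk_stalkPoint F ζ 𝔭]
    push_cast
    rfl
  · rw [if_neg h, if_neg (mt (ringKrullDim_quotient_eq_iff δ hdim ζ 𝔭 r hζr).mp h)]
    simp

omit [IsLocallyNoetherian X] in
theorem mult_ptIdeal (p q : PrimeSpectrum (X.presheaf.stalk ζ)) :
    IntMult.mult (IntMult.ptIdeal (stalkPoint ζ p)) (IntMult.ptIdeal (stalkPoint ζ q)) ζ =
      IntMult.chi (X.presheaf.stalk ζ) (X.presheaf.stalk ζ ⧸ q.asIdeal)
        (X.presheaf.stalk ζ ⧸ p.asIdeal) := by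
  unfold IntMult.mult
  rw [stalkIdeal_ptIdeal ζ p, stalkIdeal_ptIdeal ζ q]

include hdim hF hG hr hs hrs hζ in
/-- **Serre's Tor formula** at a point of the expected dimension -/
theorem interProd_eq_chi [IsRegularLocalRing (X.presheaf.stalk ζ)]
    (hA : ringKrullDim (X.presheaf.stalk ζ) = (((n - δ ζ).toNat : ℕ) : WithBot ℕ∞))
    (hvan : ∀ P Q : Ideal (X.presheaf.stalk ζ), P.IsPrime → Q.IsPrime →
      (∃ k : ℕ, IsLocalRing.maximalIdeal (X.presheaf.stalk ζ) ^ k ≤ P ⊔ Q) →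
      ringKrullDim (X.presheaf.stalk ζ ⧸ P) + ringKrullDim (X.presheaf.stalk ζ ⧸ Q) <
        ringKrullDim (X.presheaf.stalk ζ) →
      IntMult.chi (X.presheaf.stalk ζ) (X.presheaf.stalk ζ ⧸ Q) (X.presheaf.stalk ζ ⧸ P) = 0)
    (hζr : δ ζ ≤ r) (hζs : δ ζ ≤ s) :
    IntMult.interProd δ n (Cyc.sheafFun δ r F) (Cyc.sheafFun δ s G) ζ =
      IntMult.chi (X.presheaf.stalk ζ) (F.presheaf.stalk ζ) (G.presheaf.stalk ζ) := by
  classical
  haveI := Groth.Agent.Lib.Helper12.QuasiFlat.finite_stalk_of_isCoh F hF ζ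
  haveI := Groth.Agent.Lib.Helper12.QuasiFlat.finite_stalk_of_isCoh G hG ζ
  set A := X.presheaf.stalk ζ with hAdef
  set M := F.presheaf.stalk ζ with hMdef
  set N := G.presheaf.stalk ζ with hNdef
  set r' : ℕ := (r - δ ζ).toNat with hr'
  set s' : ℕ := (s - δ ζ).toNat with hs'
  have hfl : FL A M N := fl_stalks δ hdim ζ F G hF hG n r s hrs hζ
  have hM : Module.supportDim A M ≤ (r' : WithBot ℕ∞) :=
    supportDim_stalk_le δ hdim ζ F hF r hr hζr
  have hN : Module.supportDim A N ≤ (s' : WithBot ℕ∞) :=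
    supportDim_stalk_le δ hdim ζ G hG s hs hζs
  -- vanishing of Tor above the dimension
  have hD : ∀ (M N : Type u) [AddCommGroup M] [Module A M] [AddCommGroup N] [Module A N] (p : ℕ),
      (n - δ ζ).toNat < p → Subsingleton (DRing.Tor A p M N) := by
    intro M N _ _ _ _ p hp
    exact Groth.Agent.Lib.Helper85.TorPd.subsingleton_tor_of_hasProjectiveDimensionLT M N _
      (Groth.Agent.S0563.result A _ hA N) p hp
  -- Serre vanishing for the small primes
  have hvan' : ∀ p q : PrimeSpectrum A, FL A (A ⧸ p.asIdeal) (A ⧸ q.asIdeal) →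
      ringKrullDim (A ⧸ p.asIdeal) ≤ r' → ringKrullDim (A ⧸ q.asIdeal) ≤ s' →
      (ringKrullDim (A ⧸ p.asIdeal) < r' ∨ ringKrullDim (A ⧸ q.asIdeal) < s') →
      IntMult.chi A (A ⧸ p.asIdeal) (A ⧸ q.asIdeal) = 0 := by
    intro p q hflpq hp hq hlt
    have hfl' : ∃ k : ℕ, IsLocalRing.maximalIdeal A ^ k ≤ q.asIdeal ⊔ p.asIdeal := by
      obtain ⟨k, hk⟩ := hflpq
      rw [Ideal.annihilator_quotient, Ideal.annihilator_quotient] at hk
      exact ⟨k, hk.trans (le_of_eq (sup_comm _ _))⟩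
    refine hvan q.asIdeal p.asIdeal q.2 p.2 hfl' ?_
    rw [ringKrullDim_quotient_eq δ hdim ζ p] at hp hlt ⊢
    rw [ringKrullDim_quotient_eq δ hdim ζ q] at hq hlt ⊢
    rw [hA]
    have hp' : (δ (stalkPoint ζ p) - δ ζ).toNat ≤ r' := by exact_mod_cast hp
    have hq' : (δ (stalkPoint ζ q) - δ ζ).toNat ≤ s' := by exact_mod_cast hq
    have hlt' : (δ (stalkPoint ζ p) - δ ζ).toNat < r' ∨ (δ (stalkPoint ζ q) - δ ζ).toNat < s' := by
      rcases hlt with h | h
      · left; exact_mod_cast h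
      · right; exact_mod_cast h
    have : (δ (stalkPoint ζ q) - δ ζ).toNat + (δ (stalkPoint ζ p) - δ ζ).toNat <
        (n - δ ζ).toNat := by omega
    exact_mod_cast this
  have main := chi_eq_assocSum (A := A) _ hD r' s' hvan' M N hM hN hfl
  -- the geometric side
  set c : X → X → Prop := fun ξ η => δ ξ + δ η - n = δ ζ with hc
  set f : X → X → ℤ := fun ξ η => Cyc.sheafFun δ r F ξ * Cyc.sheafFun δ s G η *
    IntMult.mult (IntMult.ptIdeal ξ) (IntMult.ptIdeal η) ζ with hfdef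
  have hf : ∀ ξ η, f ξ η ≠ 0 → c ξ η := by
    intro ξ η hne
    have h1 : Cyc.sheafFun δ r F ξ ≠ 0 := fun h => hne (by simp [hfdef, h])
    have h2 : Cyc.sheafFun δ s G η ≠ 0 := fun h => hne (by simp [hfdef, h])
    have h3 : δ ξ = r := by
      by_contra h
      exact h1 (by unfold Cyc.sheafFun; rw [if_neg h])
    have h4 : δ η = s := by
      by_contra h
      exact h2 (by unfold Cyc.sheafFun; rw [if_neg h])
    simp only [hc]
    omega
  have hgeo : IntMult.interProd δ n (Cyc.sheafFun δ r F) (Cyc.sheafFun δ s G) ζ =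
      ∑ᶠ y : PrimeSpectrum A × PrimeSpectrum A, f (stalkPoint ζ y.1) (stalkPoint ζ y.2) :=
    finsum_pairs ζ c f hf
  rw [hgeo]
  apply Int.cast_injective (α := ℝ)
  rw [main]
  have hcast := AddMonoidHom.map_finsum_of_injective (Int.castAddHom ℝ) Int.cast_injective
    (fun y : PrimeSpectrum A × PrimeSpectrum A => f (stalkPoint ζ y.1) (stalkPoint ζ y.2))
  simp only [Int.coe_castAddHom] at hcast
  rw [hcast]
  -- termwise
  set aF : PrimeSpectrum A → ℝ := fun p =>
    if ringKrullDim (A ⧸ p.asIdeal) = (r' : WithBot ℕ∞) then locLen M p else 0 with haF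
  set aG : PrimeSpectrum A → ℝ := fun q =>
    if ringKrullDim (A ⧸ q.asIdeal) = (s' : WithBot ℕ∞) then locLen N q else 0 with haG
  set χ' : PrimeSpectrum A → PrimeSpectrum A → ℝ := fun p q =>
    (IntMult.chi A (A ⧸ p.asIdeal) (A ⧸ q.asIdeal) : ℝ) with hχ'
  have hterm : ∀ y : PrimeSpectrum A × PrimeSpectrum A,
      ((f (stalkPoint ζ y.1) (stalkPoint ζ y.2) : ℤ) : ℝ) = aF y.1 * (aG y.2 * χ' y.1 y.2) := by
    intro y
    simp only [hfdef]
    rw [Int.cast_mul, Int.cast_mul, sheafFun_stalkPoint δ hdim ζ F r hF hζr y.1,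
      sheafFun_stalkPoint δ hdim ζ G s hG hζs y.2, mult_ptIdeal,
      Groth.Agent.Lib.Helper85.IntMultAlg.intMult_chi_symm, mul_assoc]
  rw [finsum_congr hterm]
  -- finiteness
  have hSF := finite_setOf_ringKrullDim_quotient_eq_inter_support M r' hM
  have hSG := finite_setOf_ringKrullDim_quotient_eq_inter_support N s' hN
  have hfin : (Function.support fun y : PrimeSpectrum A × PrimeSpectrum A =>
      aF y.1 * (aG y.2 * χ' y.1 y.2)).Finite := by
    refine (hSF.prod hSG).subset ?_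
    rintro ⟨p, q⟩ hy
    rw [Function.mem_support] at hy
    have h1 : aF p ≠ 0 := fun h => hy (by simp [h])
    have h2 : aG q ≠ 0 := fun h => hy (by simp [h])
    refine ⟨⟨?_, ?_⟩, ⟨?_, ?_⟩⟩
    · by_contra h
      exact h1 (by simp only [haF]; rw [if_neg h])
    · by_contra h
      apply h1
      simp only [haF]
      rw [locLen_eq_zero_of_notMem_support M p h, ite_self]
    · by_contra h
      exact h2 (by simp only [haG]; rw [if_neg h])
    · by_contra h
      apply h2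
      simp only [haG]
      rw [locLen_eq_zero_of_notMem_support N q h, ite_self]
  rw [finsum_curry _ hfin, assocSum_eq]
  refine finsum_congr fun p => ?_
  dsimp only
  rw [← mul_finsum, assocSum_eq]
  simp only [haF, haG]
  rw [ite_mul, zero_mul]
  congr 1
  congr 1
  refine finsum_congr fun q => ?_
  rw [ite_mul, zero_mul]

end Core

end Groth.Agent.Lib.Helper85.SerreFormula
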