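import Mathlib

/-!
# Lengths over a field and over a local algebra; Artinian product decomposition (helper85)
-/

set_option autoImplicit false
set_option linter.style.haveILetI false
set_option linter.unusedSectionVars false
universe u v

namespace Groth.Agent.Lib.Helper85.FinLen

open IsLocalRing

section LL

variable (k : Type u) [Field k] (D : Type v) [CommRing D] [IsLocalRing D] [Algebra k D]

/-- Stacks 02M0: for a local `k`-algebra `D` and a `D`-module `N` of finite length,
`length_k N = [κ(D) : k] · length_D N`. -/
theorem length_restrictScalars_eq_aux (N : Type v) [AddCommGroup N] [Module D N]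
    (h : IsFiniteLength D N) : ∀ [Module k N] [IsScalarTower k D N],
    Module.length k N = Module.length k (ResidueField D) * Module.length D N := by
  induction h with
  | @of_subsingleton M _ _ _ =>
    intro _ _
    have h1 : Module.length k M = 0 := Module.length_eq_zero
    have h2 : Module.length D M = 0 := Module.length_eq_zero
    rw [h1, h2, mul_zero]
  | @of_simple_quotient M _ _ S hsimple hS ih =>
    intro _ _
    have ih' := @ih _ _
    -- the simple quotient is the residue field
    obtain ⟨I, hI, ⟨e⟩⟩ := isSimpleModule_iff_quot_maximal.mp hsimple
    have hIm : I = maximalIdeal D := IsLocalRing.eq_maximalIdeal hI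
    subst hIm
    have e' : (M ⧸ S) ≃ₗ[k] ResidueField D := e.restrictScalars k
    have h1 : Module.length k M = Module.length k S + Module.length k (M ⧸ S) :=
      Module.length_eq_add_of_exact (S.subtype.restrictScalars k) (S.mkQ.restrictScalars k)
        S.injective_subtype (Submodule.mkQ_surjective S)
        (by
          intro x
          simp only [LinearMap.coe_restrictScalars, Submodule.mkQ_apply,
            Submodule.Quotient.mk_eq_zero, Set.mem_range, Submodule.subtype_apply]
          constructor
          · intro hx
            exact ⟨⟨x, hx⟩, rfl⟩
          · rintro ⟨y, rfl⟩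
            exact y.2)
    have h2 : Module.length D M = Module.length D S + Module.length D (M ⧸ S) :=
      Module.length_eq_add_of_exact S.subtype S.mkQ
        S.injective_subtype (Submodule.mkQ_surjective S)
        (by
          intro x
          simp only [Submodule.mkQ_apply, Submodule.Quotient.mk_eq_zero, Set.mem_range,
            Submodule.subtype_apply]
          constructor
          · intro hx
            exact ⟨⟨x, hx⟩, rfl⟩
          · rintro ⟨y, rfl⟩
            exact y.2)
    have h3 : Module.length D (M ⧸ S) = 1 := Module.length_eq_one_iff.mpr hsimple
    rw [h1, h2, ih', e'.length_eq, h3, mul_add, mul_one]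

theorem length_restrictScalars_eq (N : Type v) [AddCommGroup N] [Module D N] [Module k N]
    [IsScalarTower k D N] (h : IsFiniteLength D N) :
    Module.length k N = Module.length k (ResidueField D) * Module.length D N :=
  length_restrictScalars_eq_aux k D N h

/-- for a finite local `k`-algebra: `dim_k D = [κ(D) : k] · length D` -/
theorem finrank_eq_finrank_residueField_mul_length [Module.Finite k D] :
    Module.finrank k D = Module.finrank k (ResidueField D) * (Module.length D D).toNat := by
  haveI : IsNoetherian k D := inferInstance
  haveI : IsArtinian k D := inferInstance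
  haveI : IsNoetherian D D := isNoetherian_of_tower k inferInstance
  haveI : IsArtinian D D := isArtinian_of_tower k inferInstance
  have hfl : IsFiniteLength D D := isFiniteLength_iff_isNoetherian_isArtinian.mpr ⟨inferInstance, inferInstance⟩
  have h := length_restrictScalars_eq k D D hfl
  haveI : Module.Finite k (ResidueField D) :=
    Module.Finite.of_surjective (IsScalarTower.toAlgHom k D (ResidueField D)).toLinearMap
      IsLocalRing.residue_surjective
  rw [Module.length_eq_finrank, Module.length_eq_finrank] at h
  have h2 := congrArg ENat.toNat h
  rw [ENat.toNat_mul] at h2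
  simpa using h2

end LL

section Prod

variable (k : Type u) [Field k] (C : Type u) [CommRing C] [Algebra k C] [Module.Finite k C]

/-- a finite algebra over a field is the product of its localizations: dimension count -/
theorem finrank_eq_finsum_localization :
    Module.finrank k C =
      ∑ᶠ p : PrimeSpectrum C, Module.finrank k (Localization.AtPrime p.asIdeal) := by
  classical
  haveI : IsArtinianRing C := IsArtinianRing.of_finite k C
  haveI : Finite (PrimeSpectrum C) := inferInstance
  haveI : Fintype (PrimeSpectrum C) := Fintype.ofFinite _
  haveI : DiscreteTopology (PrimeSpectrum C) := inferInstance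
  let e : C ≃ₗ[k] PrimeSpectrum.PiLocalization C :=
    (PrimeSpectrum.toPiLocalizationEquiv C).toLinearEquiv.restrictScalars k
  have hfin : ∀ p : PrimeSpectrum C, Module.Finite k (Localization.AtPrime p.asIdeal) := by
    intro p
    refine Module.Finite.of_surjective
      ((LinearMap.proj p : (PrimeSpectrum.PiLocalization C) →ₗ[k] _).comp e.toLinearMap) ?_
    intro x
    obtain ⟨c, hc⟩ := e.surjective (Pi.single p x)
    refine ⟨c, ?_⟩
    simp only [LinearMap.coe_comp, LinearEquiv.coe_coe, Function.comp_apply, hc,
      LinearMap.coe_proj, Function.eval, Pi.single_eq_same]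
  rw [e.finrank_eq]
  have h1 : Module.finrank k (PrimeSpectrum.PiLocalization C) =
      ∑ p : PrimeSpectrum C, Module.finrank k (Localization.AtPrime p.asIdeal) :=
    Module.finrank_pi_fintype k
  rw [h1, finsum_eq_sum_of_fintype]

variable {ι : Type*} (P : ι → PrimeSpectrum C) (hP : Function.Bijective P)
  (D : ι → Type u) [∀ i, CommRing (D i)] [∀ i, Algebra C (D i)]
  [∀ i, Algebra k (D i)] [∀ i, IsScalarTower k C (D i)]
  [∀ i, IsLocalization.AtPrime (D i) (P i).asIdeal]

include hP in
theorem finrank_eq_finsum_family :
    Module.finrank k C = ∑ᶠ i : ι, Module.finrank k (D i) := by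
  rw [finrank_eq_finsum_localization k C]
  rw [← finsum_comp_equiv (Equiv.ofBijective P hP)]
  refine finsum_congr (fun i => ?_)
  exact ((IsLocalization.algEquiv (P i).asIdeal.primeCompl (Localization.AtPrime (P i).asIdeal)
    (D i)).toLinearEquiv.restrictScalars k).finrank_eq

include hP in
/-- the dimension of a finite algebra over a field as a sum of local contributions -/
theorem finrank_eq_finsum_residue_mul_length (hloc : ∀ i, IsLocalRing (D i)) :
    Module.finrank k C = ∑ᶠ i : ι,
      Module.finrank k (IsLocalRing.ResidueField (D i)) * (Module.length (D i) (D i)).toNat := by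
  classical
  haveI : IsArtinianRing C := IsArtinianRing.of_finite k C
  rw [finrank_eq_finsum_family k C P hP D]
  refine finsum_congr (fun i => ?_)
  haveI : Module.Finite k (D i) := by
    haveI : DiscreteTopology (PrimeSpectrum C) := inferInstance
    have hsurj : Function.Surjective (algebraMap C (D i)) := by
      have h1 : Function.Surjective (algebraMap C (Localization.AtPrime (P i).asIdeal)) := by
        intro x
        obtain ⟨c, hc⟩ := (PrimeSpectrum.toPiLocalizationEquiv C).surjective (Pi.single (P i) x)
        refine ⟨c, ?_⟩
        have := congrFun hc (P i)
        simpa using this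
      intro y
      obtain ⟨c, hc⟩ := h1 ((IsLocalization.algEquiv (P i).asIdeal.primeCompl
        (Localization.AtPrime (P i).asIdeal) (D i)).symm y)
      refine ⟨c, ?_⟩
      have h2 := congrArg (IsLocalization.algEquiv (P i).asIdeal.primeCompl
        (Localization.AtPrime (P i).asIdeal) (D i)) hc
      rw [AlgEquiv.commutes, AlgEquiv.apply_symm_apply] at h2
      exact h2
    exact Module.Finite.of_surjective (IsScalarTower.toAlgHom k C (D i)).toLinearMap hsurj
  exact finrank_eq_finrank_residueField_mul_length k (D i)

end Prod

end Groth.Agent.Lib.Helper85.FinLen
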