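import Mathlib
import Groth.Prelude.Def_Coh
import Groth.Prelude.Def_MeroDiv
import Groth.Agent.Lib.Helper49.ProperSupport
import Groth.Agent.Lib.Helper45.RefHullStalk

/-!
# Stalks of the pushforward along a closed immersion (helper85)
-/

set_option autoImplicit false
set_option linter.style.haveILetI false
set_option linter.unusedSectionVars false
universe u

namespace Groth.Agent.Lib.Helper85.PushStalk

open AlgebraicGeometry CategoryTheory

section Alg

/-- a bijective additive map, semilinear over a surjective ring map, preserves lengths -/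
theorem length_eq_of_semilinear_bijective {R S M N : Type*} [CommRing R] [CommRing S]
    (φ : R →+* S) (hφ : Function.Surjective φ) [AddCommGroup M] [Module R M] [AddCommGroup N]
    [Module S N] (ψ : M →+ N) (hψ : Function.Bijective ψ)
    (hsemi : ∀ (r : R) (m : M), ψ (r • m) = φ r • ψ m) :
    Module.length R M = Module.length S N := by
  let e : Submodule R M ≃o Submodule S N :=
    { toFun := fun p =>
        { carrier := ψ '' (p : Set M)
          add_mem' := by
            rintro _ _ ⟨a, ha, rfl⟩ ⟨b, hb, rfl⟩
            exact ⟨a + b, p.add_mem ha hb, map_add ψ a b⟩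
          zero_mem' := ⟨0, p.zero_mem, map_zero ψ⟩
          smul_mem' := by
            rintro s _ ⟨a, ha, rfl⟩
            obtain ⟨r, rfl⟩ := hφ s
            exact ⟨r • a, p.smul_mem r ha, hsemi r a⟩ }
      invFun := fun q =>
        { carrier := ψ ⁻¹' (q : Set N)
          add_mem' := by
            intro a b ha hb
            show ψ (a + b) ∈ q
            rw [map_add]
            exact q.add_mem ha hb
          zero_mem' := by
            show ψ 0 ∈ q
            rw [map_zero]
            exact q.zero_mem
          smul_mem' := by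
            intro r a ha
            show ψ (r • a) ∈ q
            rw [hsemi]
            exact q.smul_mem _ ha }
      left_inv := fun p => by
        ext a
        constructor
        · rintro ⟨b, hb, hba⟩
          rw [← hψ.1 hba]
          exact hb
        · intro ha
          exact ⟨a, ha, rfl⟩
      right_inv := fun q => by
        ext b
        constructor
        · rintro ⟨a, ha, rfl⟩
          exact ha
        · intro hb
          obtain ⟨a, rfl⟩ := hψ.2 b
          exact ⟨a, hb, rfl⟩
      map_rel_iff' := by
        intro p p'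
        constructor
        · intro h a ha
          obtain ⟨b, hb, hba⟩ := h ⟨a, ha, rfl⟩
          rw [← hψ.1 hba]
          exact hb
        · intro h
          rintro _ ⟨a, ha, rfl⟩
          exact ⟨a, h ha, rfl⟩ }
  apply WithBot.coe_injective
  rw [Module.coe_length, Module.coe_length, Order.krullDim_eq_of_orderIso e]

end Alg

variable {Z X : Scheme.{u}} (i : Z ⟶ X) (H : Z.Modules) (z : Z)

/-- the comparison of stalks `(i_* H)_{i z} → H_z` -/
noncomputable def stalkPush :
    ((Scheme.Modules.pushforward i).obj H).presheaf.stalk (i z) →+ H.presheaf.stalk z :=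
  (TopCat.Presheaf.stalkPushforward Ab i.base H.presheaf z).hom

theorem stalkPush_germ (U : X.Opens) (hx : i z ∈ U) (s : Γ(H, i ⁻¹ᵁ U)) :
    stalkPush i H z (((Scheme.Modules.pushforward i).obj H).presheaf.germ U (i z) hx s) =
      H.presheaf.germ (i ⁻¹ᵁ U) z hx s := by
  have h := TopCat.Presheaf.stalkPushforward_germ Ab i.base H.presheaf U z hx
  exact congrArg (fun g => g.hom s) h

theorem stalkPush_bijective [IsClosedImmersion i] : Function.Bijective (stalkPush i H z) := by
  have hiso : IsIso (TopCat.Presheaf.stalkPushforward Ab i.base H.presheaf z) :=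
    TopCat.Presheaf.stalkPushforward.stalkPushforward_iso_of_isInducing Ab
      i.isClosedEmbedding.isInducing H.presheaf z
  exact ConcreteCategory.bijective_of_isIso
    (TopCat.Presheaf.stalkPushforward Ab i.base H.presheaf z)

theorem stalkPush_smul (a : X.presheaf.stalk (i z))
    (t : ((Scheme.Modules.pushforward i).obj H).presheaf.stalk (i z)) :
    stalkPush i H z (a • t) = (i.stalkMap z).hom a • stalkPush i H z t := by
  obtain ⟨Ua, ha, r, rfl⟩ := TopCat.Presheaf.exists_germ_eq X.presheaf a
  obtain ⟨Ut, ht, s, rfl⟩ := TopCat.Presheaf.exists_germ_eq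
    ((Scheme.Modules.pushforward i).obj H).presheaf t
  rw [← TopCat.Presheaf.germ_res_apply X.presheaf (homOfLE (inf_le_left : Ua ⊓ Ut ≤ Ua)) (i z)
      ⟨ha, ht⟩,
    ← TopCat.Presheaf.germ_res_apply ((Scheme.Modules.pushforward i).obj H).presheaf
      (homOfLE (inf_le_right : Ua ⊓ Ut ≤ Ut)) (i z) ⟨ha, ht⟩,
    ← Mero.germ_smul, stalkPush_germ, stalkPush_germ]
  have h1 : (i.stalkMap z).hom (X.presheaf.germ (Ua ⊓ Ut) (i z) ⟨ha, ht⟩
      (X.presheaf.map (homOfLE (inf_le_left : Ua ⊓ Ut ≤ Ua)).op r)) =
      Z.presheaf.germ (i ⁻¹ᵁ (Ua ⊓ Ut)) z ⟨ha, ht⟩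
        ((i.app (Ua ⊓ Ut)).hom (X.presheaf.map (homOfLE (inf_le_left : Ua ⊓ Ut ≤ Ua)).op r)) :=
    Scheme.Hom.germ_stalkMap_apply i (Ua ⊓ Ut) z ⟨ha, ht⟩ _
  rw [h1, ← Mero.germ_smul]
  rfl

/-- the length of the stalk of a pushforward along a closed immersion -/
theorem length_stalk_pushforward [IsClosedImmersion i] :
    Module.length (X.presheaf.stalk (i z))
        (((Scheme.Modules.pushforward i).obj H).presheaf.stalk (i z)) =
      Module.length (Z.presheaf.stalk z) (H.presheaf.stalk z) :=
  length_eq_of_semilinear_bijective (i.stalkMap z).hom (i.stalkMap_surjective z)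
    (stalkPush i H z) (stalkPush_bijective i H z) (stalkPush_smul i H z)

end Groth.Agent.Lib.Helper85.PushStalk
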