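import Mathlib
import Groth.Agent.Lib.Helper85.IntMult.FinLen
import Groth.Agent.Lib.Helper55.CyclePush
import Groth.Agent.Lib.Helper55.FiberCompDim
import Groth.Agent.Lib.Helper21.Chart
import Groth.Agent.Lib.Helper85.IntMult.PushStalk

/-!
# The rank of a finite flat morphism as a sum of local contributions over the fibre (helper85)
-/

set_option autoImplicit false
set_option linter.style.haveILetI false
set_option linter.unusedSectionVars false
universe u

namespace Groth.Agent.Lib.Helper85.FiniteRank

open AlgebraicGeometry CategoryTheory Limits IsLocalRing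

variable {X Y : Scheme.{u}}

/-- degree one at points where the map on local rings is surjective -/
theorem residueDegree_eq_one_of_stalkMap_surjective (h : X ⟶ Y) (x : X)
    (hs : Function.Surjective (h.stalkMap x).hom) : h.residueDegree x = 1 := by
  unfold Scheme.Hom.residueDegree
  letI : Algebra (Y.residueField (h x)) (X.residueField x) := (h.residueFieldMap x).hom.toAlgebra
  have hsurj : Function.Surjective (h.residueFieldMap x).hom := by
    intro b
    obtain ⟨b', rfl⟩ := X.residue_surjective x b
    obtain ⟨a, rfl⟩ := hs b'
    refine ⟨(Y.residue (h x)).hom a, ?_⟩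
    have := congrArg (fun φ => φ.hom a) (Scheme.residue_residueFieldMap h x)
    exact this
  rw [finrank_eq_one_iff_of_nonzero' (1 : X.residueField x) one_ne_zero]
  intro w
  obtain ⟨c, rfl⟩ := hsurj w
  exact ⟨c, by rw [Algebra.smul_def, mul_one]; rfl⟩

variable (f : X ⟶ Y)

/-- the residue degree of the fibre over the residue field is that of `f` -/
theorem residueDegree_fiberToSpecResidueField (y : Y) (z : f.fiber y) :
    (f.fiberToSpecResidueField y).residueDegree z = f.residueDegree (f.fiberι y z) := by
  have h1 := Groth.Agent.Lib.Helper55.residueDegree_comp (f.fiberι y) f z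
  have h2 := Groth.Agent.Lib.Helper55.residueDegree_comp (f.fiberToSpecResidueField y)
    (Y.fromSpecResidueField y) z
  rw [f.fiber_fac y] at h1
  rw [h1, residueDegree_eq_one_of_stalkMap_surjective (f.fiberι y) z
      ((f.fiberι y).stalkMap_surjective z), mul_one,
    residueDegree_eq_one_of_stalkMap_surjective (Y.fromSpecResidueField y) _
      ((Y.fromSpecResidueField y).stalkMap_surjective _), one_mul] at h2
  exact h2.symm

/-- the structure of `κ(y)`-algebra on the global sections of the fibre -/
noncomputable def secAlg (y : Y) : Algebra (Y.residueField y) Γ(f.fiber y, ⊤) :=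
  ((Scheme.ΓSpecIso (Y.residueField y)).inv ≫ (f.fiberToSpecResidueField y).appTop).hom.toAlgebra

/-- the fibre of a finite flat morphism is the spectrum of an algebra of dimension `finrank` -/
theorem finrank_sections_fiber [IsFinite f] [Flat f] (y : Y) :
    letI := secAlg f y
    IsAffine (f.fiber y) ∧ Module.Finite (Y.residueField y) Γ(f.fiber y, ⊤) ∧
      Module.finrank (Y.residueField y) Γ(f.fiber y, ⊤) = f.finrank y := by
  have hpfin : IsFinite (f.fiberToSpecResidueField y) := by
    unfold Scheme.Hom.fiberToSpecResidueField
    exact MorphismProperty.pullback_snd (P := @IsFinite) _ _ inferInstance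
  have hpflat : Flat (f.fiberToSpecResidueField y) := by
    unfold Scheme.Hom.fiberToSpecResidueField
    exact MorphismProperty.pullback_snd (P := @Flat) _ _ inferInstance
  have haff : IsAffine (f.fiber y) := isAffine_of_isAffineHom (f.fiberToSpecResidueField y)
  have hfac : f.fiberToSpecResidueField y = (f.fiber y).isoSpec.hom ≫
      Spec.map ((Scheme.ΓSpecIso (Y.residueField y)).inv ≫
        (f.fiberToSpecResidueField y).appTop) := by
    rw [Spec.map_comp, Scheme.isoSpec_hom, ← Category.assoc, ← Scheme.toSpecΓ_naturality,
      Category.assoc, toSpecΓ_SpecMap_ΓSpecIso_inv, Category.comp_id]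
  have hφfin : IsFinite (Spec.map ((Scheme.ΓSpecIso (Y.residueField y)).inv ≫
      (f.fiberToSpecResidueField y).appTop)) := by
    rw [← MorphismProperty.cancel_left_of_respectsIso (P := @IsFinite)
      (f.fiber y).isoSpec.hom, ← hfac]
    exact hpfin
  have hφflat : Flat (Spec.map ((Scheme.ΓSpecIso (Y.residueField y)).inv ≫
      (f.fiberToSpecResidueField y).appTop)) := by
    rw [← MorphismProperty.cancel_left_of_respectsIso (P := @Flat)
      (f.fiber y).isoSpec.hom, ← hfac]
    exact hpflat
  have hφfin' := (IsFinite.SpecMap_iff _).mp hφfin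
  have hφflat' := Flat.SpecMap_iff.mp hφflat
  have hrank : (f.fiberToSpecResidueField y).finrank (IsLocalRing.closedPoint (Y.residueField y)) =
      f.finrank y := by
    have := Scheme.Hom.finrank_of_isPullback (f.fiberι y) (f.fiberToSpecResidueField y) f
      (Y.fromSpecResidueField y) (IsPullback.of_hasPullback _ _)
      (IsLocalRing.closedPoint (Y.residueField y))
    rw [this, Scheme.fromSpecResidueField_apply]
  have hrank2 : (f.fiberToSpecResidueField y).finrank
      (IsLocalRing.closedPoint (Y.residueField y)) =
      ((Scheme.ΓSpecIso (Y.residueField y)).inv ≫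
        (f.fiberToSpecResidueField y).appTop).hom.finrank
        (IsLocalRing.closedPoint (Y.residueField y)) := by
    conv_lhs => rw [hfac]
    rw [Scheme.Hom.finrank_comp_left_of_isIso, Scheme.Hom.finrank_SpecMap_eq_finrank hφfin' hφflat']
  letI : Algebra (Y.residueField y) Γ(f.fiber y, ⊤) := secAlg f y
  have hfinite : Module.Finite (Y.residueField y) Γ(f.fiber y, ⊤) := hφfin'
  refine ⟨haff, hfinite, ?_⟩
  rw [← hrank, hrank2]
  show Module.finrank (Y.residueField y) Γ(f.fiber y, ⊤) = Module.rankAtStalk _ _
  rw [Module.rankAtStalk_eq_finrank_of_free]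
  rfl

/-- for a field `K`, the canonical map from `K` to a residue field of `Spec K` is bijective -/
theorem bijective_toResidueField_Spec (K : CommRingCat.{u}) (hK : IsField K) (s : Spec K) :
    Function.Bijective ((Scheme.ΓSpecIso K).inv ≫ (Spec K).Γevaluation s).hom := by
  letI := hK.toField
  constructor
  · exact RingHom.injective _
  · have h1 : (Scheme.ΓSpecIso K).inv ≫ (Spec K).Γevaluation s =
        CommRingCat.ofHom (algebraMap K s.asIdeal.ResidueField) ≫
          (Scheme.Spec.residueFieldIso K s).inv :=
      (Scheme.Spec.algebraMap_residueFieldIso_inv K s).symm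
    rw [h1]
    haveI : s.asIdeal.IsMaximal := by
      have h2 : s.asIdeal = ⊥ := by
        rcases Ideal.eq_bot_or_top s.asIdeal with h | h
        · exact h
        · exact absurd h s.2.ne_top
      rw [h2]
      exact Ideal.bot_isMaximal
    have h3 : Function.Surjective (algebraMap K s.asIdeal.ResidueField) :=
      Ideal.algebraMap_residueField_surjective s.asIdeal
    exact (ConcreteCategory.bijective_of_isIso
      (Scheme.Spec.residueFieldIso K s).inv).surjective.comp h3

/-- the local contribution of a point to the rank -/
noncomputable def locDeg (x : X) : ℕ :=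
  f.residueDegree x * (Module.length (X.presheaf.stalk x)
    (X.presheaf.stalk x ⧸ Ideal.map (f.stalkMap x).hom
      (maximalIdeal (Y.presheaf.stalk (f x))))).toNat

/-- the rank of a finite flat morphism as the sum of the local contributions over the fibre -/
theorem finrank_eq_finsum [IsFinite f] [Flat f] (y : Y) :
    f.finrank y = ∑ᶠ x ∈ f ⁻¹' {y}, locDeg f x := by
  classical
  letI alg := secAlg f y
  obtain ⟨haff, hfin, hrank⟩ := finrank_sections_fiber f y
  have hU : IsAffineOpen (⊤ : (f.fiber y).Opens) := isAffineOpen_top (f.fiber y)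
  let P : ↥(f.fiber y) → PrimeSpectrum Γ(f.fiber y, ⊤) := fun z => hU.primeIdealOf ⟨z, trivial⟩
  have hP : Function.Bijective P := by
    constructor
    · intro z z' h
      have h1 := hU.fromSpec_primeIdealOf ⟨z, trivial⟩
      have h2 := hU.fromSpec_primeIdealOf ⟨z', trivial⟩
      simp only at h1 h2
      rw [← h1, ← h2]
      exact congrArg _ h
    · intro p
      exact ⟨hU.fromSpec p, Groth.Agent.Lib.Helper21.Chart.primeIdealOf_fromSpec hU p⟩
  let D : ↥(f.fiber y) → Type u := fun z => (f.fiber y).presheaf.stalk z
  letI iCR : ∀ z, CommRing (D z) := fun z => inferInstance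
  letI iAlgC : ∀ z, Algebra Γ(f.fiber y, ⊤) (D z) := fun z =>
    TopCat.Presheaf.algebra_section_stalk (f.fiber y).presheaf (U := ⊤) ⟨z, trivial⟩
  letI iAlgk : ∀ z, Algebra (Y.residueField y) (D z) := fun z =>
    ((algebraMap Γ(f.fiber y, ⊤) (D z)).comp
      (algebraMap (Y.residueField y) Γ(f.fiber y, ⊤))).toAlgebra
  haveI iTower : ∀ z, IsScalarTower (Y.residueField y) Γ(f.fiber y, ⊤) (D z) := fun z =>
    IsScalarTower.of_algebraMap_eq (fun _ => rfl)
  haveI iLoc : ∀ z, IsLocalization.AtPrime (D z) (P z).asIdeal := fun z =>
    hU.isLocalization_stalk ⟨z, trivial⟩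
  have hloc : ∀ z, IsLocalRing (D z) := fun z => inferInstance
  have key := Groth.Agent.Lib.Helper85.FinLen.finrank_eq_finsum_residue_mul_length
    (Y.residueField y) Γ(f.fiber y, ⊤) P hP D hloc
  rw [← hrank, key, ← f.range_fiberι y,
    finsum_mem_range (f.fiberι y).isEmbedding.injective]
  refine finsum_congr (fun z => ?_)
  unfold locDeg
  congr 1
  · -- the residue degree
    rw [← residueDegree_fiberToSpecResidueField f y z]
    unfold Scheme.Hom.residueDegree
    letI : Algebra ((Spec (Y.residueField y)).residueField (f.fiberToSpecResidueField y z))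
        ((f.fiber y).residueField z) :=
      ((f.fiberToSpecResidueField y).residueFieldMap z).hom.toAlgebra
    have hθ := bijective_toResidueField_Spec (Y.residueField y)
      (Field.toIsField (Y.residueField y)) (f.fiberToSpecResidueField y z)
    refine Algebra.finrank_eq_of_equiv_equiv (RingEquiv.ofBijective _ hθ)
      (RingEquiv.refl ((f.fiber y).residueField z)) ?_
    ext c
    have hnat := congrArg (fun φ => φ.hom ((Scheme.ΓSpecIso (Y.residueField y)).inv.hom c))
      (Scheme.Γevaluation_naturality (f.fiberToSpecResidueField y) z)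
    exact hnat
  · -- the length
    obtain ⟨e⟩ := Groth.Agent.Lib.Helper55.nonempty_stalk_fiber_equiv f y z (f.fiberι y z) rfl
    have h1 : Module.length (X.presheaf.stalk (f.fiberι y z))
        (X.presheaf.stalk (f.fiberι y z) ⧸ Ideal.map (f.stalkMap (f.fiberι y z)).hom
          (maximalIdeal (Y.presheaf.stalk (f (f.fiberι y z))))) =
        Module.length (X.presheaf.stalk (f.fiberι y z) ⧸ Ideal.map (f.stalkMap (f.fiberι y z)).hom
          (maximalIdeal (Y.presheaf.stalk (f (f.fiberι y z)))))
        (X.presheaf.stalk (f.fiberι y z) ⧸ Ideal.map (f.stalkMap (f.fiberι y z)).hom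
          (maximalIdeal (Y.presheaf.stalk (f (f.fiberι y z))))) :=
      Module.length_eq_of_surjective Ideal.Quotient.mk_surjective
    have h2 := Groth.Agent.Lib.Helper85.PushStalk.length_eq_of_semilinear_bijective
      e.toRingHom e.surjective e.toAddMonoidHom e.bijective (fun r m => map_mul e r m)
    rw [h1, h2]

end Groth.Agent.Lib.Helper85.FiniteRank
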