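import Mathlib
import Groth.Prelude.Def_Coh
import Groth.Prelude.Def_MeroDiv
import Groth.Agent.Lib.Helper85.IntMult.PushStalk
import Groth.Agent.Lib.Helper49.ZClosure5
import Groth.Agent.Lib.Helper49.QCohColimit

/-!
# The stalk of a pushforward along a closed map as a product of stalks over the fibre (helper85)

For a closed map `f : X ⟶ Y`, an `O_X`-module `F`, a point `y` of `Y` and a finite set `S` of points
of the fibre over `y`, outside which the stalks of `F` over `y` vanish, and which are "separated by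
the support of `F`", the natural map `(f_* F)_y → ∏_{x ∈ S} F_x` is bijective.
-/

set_option autoImplicit false
set_option linter.style.haveILetI false
set_option linter.unusedSectionVars false
universe u

namespace Groth.Agent.Lib.Helper85.PushGlue

open AlgebraicGeometry CategoryTheory TopologicalSpace Topology

section Top

/-- In a Noetherian quasi-sober space, a point of a closed set `Z` with no proper generization in
`Z` has an open neighbourhood whose intersection with `Z` lies in the closure of the point. -/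
theorem exists_open_subset_closure {T : Type*} [TopologicalSpace T] [NoetherianSpace T]
    [QuasiSober T] (Z : Set T) (hZ : IsClosed Z) (x₀ : T) (hmax : ∀ z ∈ Z, z ⤳ x₀ → z = x₀) :
    ∃ O : Set T, IsOpen O ∧ x₀ ∈ O ∧ ∀ z ∈ O, z ∈ Z → x₀ ⤳ z := by
  obtain ⟨S, hSf, hSc, hSi, hSU⟩ := NoetherianSpace.exists_finite_set_isClosed_irreducible hZ
  refine ⟨(⋃₀ {t ∈ S | x₀ ∉ t})ᶜ, ?_, ?_, ?_⟩
  · rw [isOpen_compl_iff]
    rw [Set.sUnion_eq_biUnion]
    exact Set.Finite.isClosed_biUnion (hSf.subset (Set.sep_subset _ _)) (fun t ht => hSc t ht.1)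
  · rintro ⟨t, ⟨_, hxt⟩, hx⟩
    exact hxt hx
  · intro z hzO hzZ
    rw [hSU] at hzZ
    obtain ⟨t, htS, hzt⟩ := hzZ
    have hx₀t : x₀ ∈ t := by
      by_contra h
      exact hzO ⟨t, ⟨htS, h⟩, hzt⟩
    obtain ⟨g, hg⟩ := QuasiSober.sober (hSi t htS) (hSc t htS)
    have hgZ : g ∈ Z := by
      rw [hSU]
      exact ⟨t, htS, hg.mem⟩
    have hgx : g ⤳ x₀ := hg.specializes hx₀t
    have hgeq := hmax g hgZ hgx
    subst hgeq
    exact hg.specializes hzt

/-- scheme version -/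
theorem exists_opens_subset_closure {X : Scheme.{u}} [IsLocallyNoetherian X] (Z : Set X)
    (hZ : IsClosed Z) (x₀ : X) (hmax : ∀ z ∈ Z, z ⤳ x₀ → z = x₀) :
    ∃ W : X.Opens, x₀ ∈ W ∧ ∀ z ∈ W, z ∈ Z → x₀ ⤳ z := by
  obtain ⟨_, ⟨U, hU : IsAffineOpen U, rfl⟩, hxU, -⟩ :=
    X.isBasis_affineOpens.exists_subset_of_mem_open (Set.mem_univ x₀) isOpen_univ
  haveI : NoetherianSpace ↥(U : Set X) :=
    Groth.Agent.Lib.Helper49.noetherianSpace_of_isAffineOpen' hU
  haveI : QuasiSober ↥(U : Set X) := Groth.Agent.Lib.Helper49.ZClosure.quasiSober_opens U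
  obtain ⟨O, hO, hxO, hOZ⟩ := exists_open_subset_closure
    ((Subtype.val : ↥(U : Set X) → X) ⁻¹' Z) (hZ.preimage continuous_subtype_val) ⟨x₀, hxU⟩
    (fun z hz hsp => Subtype.ext (hmax z.1 hz (hsp.map continuous_subtype_val)))
  have hO' : IsOpen ((Subtype.val : ↥(U : Set X) → X) '' O) := U.2.isOpenMap_subtype_val O hO
  refine ⟨⟨_, hO'⟩, ⟨⟨x₀, hxU⟩, hxO, rfl⟩, ?_⟩
  rintro _ ⟨z, hzO, rfl⟩ hzZ
  exact (hOZ z hzO hzZ).map continuous_subtype_val

end Top

variable {X Y : Scheme.{u}} (f : X ⟶ Y) (F : X.Modules)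

theorem mem_preimage_of_eq {f : X ⟶ Y} {x : X} {y : Y} (h : f x = y) {V : Y.Opens} (hy : y ∈ V) :
    x ∈ f ⁻¹ᵁ V := by
  show f x ∈ V
  rw [h]
  exact hy

/-- A section of `f_* F` near `y` all of whose germs at the points of the fibre vanish has zero
germ at `y` (for a closed map `f`). -/
theorem germ_eq_zero_of_forall_fibre (hf : IsClosedMap f) (y : Y) (V : Y.Opens) (hyV : y ∈ V)
    (s : Γ(F, f ⁻¹ᵁ V))
    (h : ∀ (x : X) (hx : f x = y),
      F.presheaf.germ (f ⁻¹ᵁ V) x (mem_preimage_of_eq hx hyV) s = 0) :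
    ((Scheme.Modules.pushforward f).obj F).presheaf.germ V y hyV s = 0 := by
  -- the open set where `s` vanishes
  let W : Set X := {x | ∃ (U : X.Opens) (hU : U ≤ f ⁻¹ᵁ V), x ∈ U ∧
    F.presheaf.map (homOfLE hU).op s = 0}
  have hWo : IsOpen W := by
    rw [isOpen_iff_forall_mem_open]
    rintro x ⟨U, hU, hxU, hs⟩
    exact ⟨U, fun x' hx' => ⟨U, hU, hx', hs⟩, U.2, hxU⟩
  have hfib : ∀ x : X, f x = y → x ∈ W := by
    intro x hx
    have hxV : x ∈ f ⁻¹ᵁ V := by
      show f x ∈ V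
      rw [hx]; exact hyV
    have h0 : F.presheaf.germ (f ⁻¹ᵁ V) x hxV s = F.presheaf.germ (f ⁻¹ᵁ V) x hxV 0 := by
      rw [map_zero]
      exact h x hx
    obtain ⟨U, hxU, iU, iV, hU⟩ := TopCat.Presheaf.germ_eq F.presheaf x hxV hxV s 0 h0
    refine ⟨U, leOfHom iU, hxU, ?_⟩
    rw [map_zero] at hU
    exact hU
  have hcl : IsClosed (f '' Wᶜ) := hf _ hWo.isClosed_compl
  have hy : y ∉ f '' Wᶜ := by
    rintro ⟨x, hxW, hx⟩
    exact hxW (hfib x hx)
  let V' : Y.Opens := V ⊓ ⟨(f '' Wᶜ)ᶜ, hcl.isOpen_compl⟩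
  have hyV' : y ∈ V' := ⟨hyV, hy⟩
  have hV'V : V' ≤ V := inf_le_left
  have hres : ((Scheme.Modules.pushforward f).obj F).presheaf.map (homOfLE hV'V).op s = 0 := by
    let r : Γ(F, f ⁻¹ᵁ V') := ((Scheme.Modules.pushforward f).obj F).presheaf.map
      (homOfLE hV'V).op s
    show r = 0
    refine TopCat.Presheaf.section_ext ⟨F.presheaf, F.isSheaf⟩ (f ⁻¹ᵁ V') r 0 ?_
    intro x hx
    have hxW : x ∈ W := by
      by_contra hcon
      exact hx.2 ⟨x, hcon, rfl⟩
    obtain ⟨U, hU, hxU, hs⟩ := hxW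
    have hle1 : U ⊓ f ⁻¹ᵁ V' ≤ f ⁻¹ᵁ V' := inf_le_right
    have hle2 : U ⊓ f ⁻¹ᵁ V' ≤ U := inf_le_left
    have h1 := TopCat.Presheaf.germ_res_apply F.presheaf (homOfLE hle1) x ⟨hxU, hx⟩ r
    have h2 : F.presheaf.map (homOfLE hle1).op r =
        F.presheaf.map (homOfLE hle2).op (F.presheaf.map (homOfLE hU).op s) := by
      change F.presheaf.map (homOfLE hle1).op (F.presheaf.map (homOfLE
        (show f ⁻¹ᵁ V' ≤ f ⁻¹ᵁ V from fun _ hz => hz.1)).op s) = _
      rw [← ConcreteCategory.comp_apply, ← ConcreteCategory.comp_apply, ← F.presheaf.map_comp,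
        ← F.presheaf.map_comp]
      rfl
    rw [← h1, h2, hs, map_zero, map_zero, map_zero]
  have h1 := TopCat.Presheaf.germ_res_apply ((Scheme.Modules.pushforward f).obj F).presheaf
    (homOfLE hV'V) y hyV' s
  rw [← h1, hres, map_zero]

/-- Gluing a section near one point of the fibre with zero near the other points. -/
theorem exists_section_of_germ (hf : IsClosedMap f) (y : Y) (x₀ : X) (hx₀ : f x₀ = y)
    (W W' : X.Opens) (hW : x₀ ∈ W) (hfib : ∀ x, f x = y → x ≠ x₀ → x ∈ W')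
    (hsub : ∀ z, z ∈ W → z ∈ W' → Subsingleton (F.presheaf.stalk z)) (t : Γ(F, W)) :
    ∃ (V : Y.Opens) (hy : y ∈ V) (s : Γ(F, f ⁻¹ᵁ V)),
      (F.presheaf.germ (f ⁻¹ᵁ V) x₀ (mem_preimage_of_eq hx₀ hy) s = F.presheaf.germ W x₀ hW t) ∧
      ∀ (x : X) (hx : f x = y), x ≠ x₀ →
        F.presheaf.germ (f ⁻¹ᵁ V) x (mem_preimage_of_eq hx hy) s = 0 := by
  classical
  let U : Bool → X.Opens := fun b => cond b W W'
  let sf : ∀ b : Bool, Γ(F, U b) := fun b =>
    match b with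
    | true => t
    | false => 0
  have hsubs : ∀ (O : X.Opens), O ≤ W → O ≤ W' → ∀ a b : Γ(F, O), a = b := by
    intro O h1 h2 a b
    refine TopCat.Presheaf.section_ext ⟨F.presheaf, F.isSheaf⟩ O a b ?_
    intro x hx
    haveI := hsub x (h1 hx) (h2 hx)
    exact Subsingleton.elim _ _
  have hcompat : TopCat.Presheaf.IsCompatible F.presheaf U sf := by
    intro i j
    match i, j with
    | true, true => rfl
    | false, false => rfl
    | true, false => exact hsubs _ inf_le_left inf_le_right _ _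
    | false, true => exact hsubs _ inf_le_right inf_le_left _ _
  have hcover : W ⊔ W' ≤ iSup U := sup_le (le_iSup U true) (le_iSup U false)
  have hle : ∀ b, U b ≤ W ⊔ W' := fun b => by
    match b with
    | true => exact le_sup_left
    | false => exact le_sup_right
  obtain ⟨s₀, hs₀, -⟩ := TopCat.Sheaf.existsUnique_gluing' ⟨F.presheaf, F.isSheaf⟩ U (W ⊔ W')
    (fun b => homOfLE (hle b)) hcover sf hcompat
  have hs₀W : F.presheaf.map (homOfLE (le_sup_left : W ≤ W ⊔ W')).op s₀ = t := hs₀ true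
  have hs₀W' : F.presheaf.map (homOfLE (le_sup_right : W' ≤ W ⊔ W')).op s₀ = 0 := hs₀ false
  -- the open neighbourhood of `y`
  have hcl : IsClosed (f '' ((W ⊔ W' : X.Opens) : Set X)ᶜ) :=
    hf _ (W ⊔ W').2.isClosed_compl
  let V : Y.Opens := ⟨(f '' ((W ⊔ W' : X.Opens) : Set X)ᶜ)ᶜ, hcl.isOpen_compl⟩
  have hyV : y ∈ V := by
    rintro ⟨x, hxn, hx⟩
    apply hxn
    by_cases hxx : x = x₀
    · rw [hxx]
      exact Or.inl hW
    · exact Or.inr (hfib x hx hxx)
  have hVle : f ⁻¹ᵁ V ≤ W ⊔ W' := by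
    intro x hx
    by_contra hcon
    exact hx ⟨x, hcon, rfl⟩
  refine ⟨V, hyV, F.presheaf.map (homOfLE hVle).op s₀, ?_, ?_⟩
  · rw [TopCat.Presheaf.germ_res_apply F.presheaf (homOfLE hVle) x₀ _ s₀, ← hs₀W,
      TopCat.Presheaf.germ_res_apply F.presheaf (homOfLE (le_sup_left : W ≤ W ⊔ W')) x₀ hW s₀]
  · intro x hx hxx
    have hxW' : x ∈ W' := hfib x hx hxx
    rw [TopCat.Presheaf.germ_res_apply F.presheaf (homOfLE hVle) x _ s₀,
      ← TopCat.Presheaf.germ_res_apply F.presheaf (homOfLE (le_sup_right : W' ≤ W ⊔ W')) x hxW' s₀,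
      hs₀W', map_zero]

end Groth.Agent.Lib.Helper85.PushGlue
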