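import Mathlib
import Groth.Prelude.Def_Coh
import Groth.Prelude.Def_MeroDiv
import Groth.Agent.Lib.Helper85.IntMult.PushGlue
import Groth.Agent.Lib.Helper85.IntMult.PushLenAlg

/-!
# The length of the stalk of a pushforward along a closed map (helper85)

`length_{O_y} (f_* F)_y = ∑_{x ∈ S} [κ(x) : κ(y)] · length_{O_x} F_x`
-/

set_option autoImplicit false
set_option linter.style.haveILetI false
set_option linter.unusedSectionVars false
universe u

namespace Groth.Agent.Lib.Helper85.PushLen

open AlgebraicGeometry CategoryTheory TopologicalSpace Topology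
open Groth.Agent.Lib.Helper85.PushGlue

variable {X Y : Scheme.{u}} (f : X ⟶ Y) (F : X.Modules)

/-- for `x` in the fibre over `y`: the map of local rings `O_{Y,y} → O_{X,x}` -/
noncomputable def fibRing (y : Y) (x : X) (h : f x = y) :
    Y.presheaf.stalk y →+* X.presheaf.stalk x := by
  subst h
  exact (f.stalkMap x).hom

/-- for `x` in the fibre over `y`: the map of stalks `(f_* F)_y → F_x` -/
noncomputable def fibPush (y : Y) (x : X) (h : f x = y) :
    ((Scheme.Modules.pushforward f).obj F).presheaf.stalk y →+ F.presheaf.stalk x := by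
  subst h
  exact Groth.Agent.Lib.Helper85.PushStalk.stalkPush f F x

theorem fibPush_germ (y : Y) (x : X) (h : f x = y) (V : Y.Opens) (hy : y ∈ V)
    (s : Γ(F, f ⁻¹ᵁ V)) :
    fibPush f F y x h (((Scheme.Modules.pushforward f).obj F).presheaf.germ V y hy s) =
      F.presheaf.germ (f ⁻¹ᵁ V) x (mem_preimage_of_eq h hy) s := by
  subst h
  exact Groth.Agent.Lib.Helper85.PushStalk.stalkPush_germ f F x V hy s

theorem fibPush_smul (y : Y) (x : X) (h : f x = y) (a : Y.presheaf.stalk y)
    (t : ((Scheme.Modules.pushforward f).obj F).presheaf.stalk y) :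
    fibPush f F y x h (a • t) = fibRing f y x h a • fibPush f F y x h t := by
  subst h
  exact Groth.Agent.Lib.Helper85.PushStalk.stalkPush_smul f F x a t

/-- the degree of the residue field extension at `x`, as a length -/
noncomputable def lenDeg (x : X) : ℕ∞ :=
  @Module.length (Y.residueField (f x)) (X.residueField x) _ _
    (f.residueFieldMap x).hom.toAlgebra.toModule

theorem lenDeg_eq_residueDegree (x : X)
    (hfin : @Module.Finite (Y.residueField (f x)) (X.residueField x) _ _
      (f.residueFieldMap x).hom.toAlgebra.toModule) :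
    lenDeg f x = (f.residueDegree x : ℕ∞) := by
  letI := (f.residueFieldMap x).hom.toAlgebra
  unfold lenDeg Scheme.Hom.residueDegree
  exact Module.length_eq_finrank _ _

/-- the length of `F_x` over `O_{Y,y}` -/
theorem length_compHom_fibRing (y : Y) (x : X) (h : f x = y)
    (hfl : IsFiniteLength (X.presheaf.stalk x) (F.presheaf.stalk x)) :
    @Module.length (Y.presheaf.stalk y) (F.presheaf.stalk x) _ _
        (Module.compHom (F.presheaf.stalk x) (fibRing f y x h)) =
      lenDeg f x * Module.length (X.presheaf.stalk x) (F.presheaf.stalk x) := by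
  subst h
  exact Groth.Agent.Lib.Helper85.PushLenAlg.length_compHom_eq (f.stalkMap x).hom
    (F.presheaf.stalk x) hfl

section Bij

variable (hf : IsClosedMap f) (y : Y) (S : Finset X) (hS : ∀ x ∈ S, f x = y)
  (h0 : ∀ x, f x = y → x ∉ S → Subsingleton (F.presheaf.stalk x))
  (hsep : ∀ x₀ ∈ S, ∃ W W' : X.Opens, x₀ ∈ W ∧ (∀ x, f x = y → x ≠ x₀ → x ∈ W') ∧
    ∀ z, z ∈ W → z ∈ W' → Subsingleton (F.presheaf.stalk z))

/-- the map `(f_* F)_y → ∏_{x ∈ S} F_x` -/
noncomputable def fibPushPi :
    ((Scheme.Modules.pushforward f).obj F).presheaf.stalk y →+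
      (∀ x : S, F.presheaf.stalk x.1) :=
  AddMonoidHom.pi (fun x : S => fibPush f F y x.1 (hS x.1 x.2))

theorem fibPushPi_apply (t : ((Scheme.Modules.pushforward f).obj F).presheaf.stalk y) (x : S) :
    fibPushPi f F y S hS t x = fibPush f F y x.1 (hS x.1 x.2) t := rfl

include hf h0 in
theorem fibPushPi_injective : Function.Injective (fibPushPi f F y S hS) := by
  rw [injective_iff_map_eq_zero]
  intro t ht
  obtain ⟨V, hyV, s, rfl⟩ := TopCat.Presheaf.exists_germ_eq
    ((Scheme.Modules.pushforward f).obj F).presheaf t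
  refine germ_eq_zero_of_forall_fibre f F hf y V hyV s ?_
  intro x hx
  by_cases hxS : x ∈ S
  · have h2 : fibPush f F y x hx
        (((Scheme.Modules.pushforward f).obj F).presheaf.germ V y hyV s) = 0 :=
      congrFun ht ⟨x, hxS⟩
    exact (fibPush_germ f F y x hx V hyV s).symm.trans h2
  · haveI := h0 x hx hxS
    exact Subsingleton.elim _ _

include hf hsep in
theorem fibPushPi_surjective : Function.Surjective (fibPushPi f F y S hS) := by
  classical
  intro n
  have key : ∀ x₀ : S, ∃ t : ((Scheme.Modules.pushforward f).obj F).presheaf.stalk y,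
      fibPush f F y x₀.1 (hS x₀.1 x₀.2) t = n x₀ ∧
      ∀ x : S, x ≠ x₀ → fibPush f F y x.1 (hS x.1 x.2) t = 0 := by
    intro x₀
    obtain ⟨W, W', hxW, hfib, hsub⟩ := hsep x₀.1 x₀.2
    obtain ⟨U, hxU, tt, htt⟩ := TopCat.Presheaf.exists_germ_eq F.presheaf (n x₀)
    have hle : W ⊓ U ≤ U := inf_le_right
    obtain ⟨V, hyV, s, hs1, hs2⟩ := exists_section_of_germ f F hf y x₀.1 (hS x₀.1 x₀.2)
      (W ⊓ U) W' ⟨hxW, hxU⟩ hfib (fun z hz hz' => hsub z hz.1 hz')
      (F.presheaf.map (homOfLE hle).op tt)
    refine ⟨((Scheme.Modules.pushforward f).obj F).presheaf.germ V y hyV s, ?_, ?_⟩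
    · have h3 := TopCat.Presheaf.germ_res_apply F.presheaf (homOfLE hle) x₀.1 ⟨hxW, hxU⟩ tt
      exact (fibPush_germ f F y x₀.1 (hS x₀.1 x₀.2) V hyV s).trans (hs1.trans (h3.trans htt))
    · intro x hx
      exact (fibPush_germ f F y x.1 (hS x.1 x.2) V hyV s).trans
        (hs2 x.1 (hS x.1 x.2) (fun h => hx (Subtype.ext h)))
  choose t ht1 ht2 using key
  refine ⟨∑ x₀ : S, t x₀, ?_⟩
  funext x
  rw [fibPushPi_apply, map_sum, Finset.sum_eq_single x]
  · exact ht1 x
  · intro x₀ _ hne
    exact ht2 x₀ x (fun h => hne h.symm)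
  · intro h
    exact absurd (Finset.mem_univ x) h

include hf hS h0 hsep in
/-- **the length of the stalk of a pushforward along a closed map** -/
theorem length_stalk_pushforward_eq_sum
    (hfl : ∀ x ∈ S, IsFiniteLength (X.presheaf.stalk x) (F.presheaf.stalk x)) :
    Module.length (Y.presheaf.stalk y)
        (((Scheme.Modules.pushforward f).obj F).presheaf.stalk y) =
      ∑ x : S, lenDeg f x.1 * Module.length (X.presheaf.stalk x.1) (F.presheaf.stalk x.1) := by
  have h1 := Groth.Agent.Lib.Helper85.PushLenAlg.length_eq_sum_of_bijective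
    (A := Y.presheaf.stalk y) (M := ((Scheme.Modules.pushforward f).obj F).presheaf.stalk y)
    (ι := S) (fun x : S => X.presheaf.stalk x.1) (fun x : S => fibRing f y x.1 (hS x.1 x.2))
    (fun x : S => F.presheaf.stalk x.1) (fun x : S => fibPush f F y x.1 (hS x.1 x.2))
    (fun x a m => fibPush_smul f F y x.1 (hS x.1 x.2) a m)
    ⟨fibPushPi_injective f F hf y S hS h0, fibPushPi_surjective f F hf y S hS hsep⟩
  rw [h1]
  refine Finset.sum_congr rfl (fun x _ => ?_)
  exact length_compHom_fibRing f F y x.1 (hS x.1 x.2) (hfl x.1 x.2)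

end Bij

end Groth.Agent.Lib.Helper85.PushLen
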