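import Mathlib
import Groth.Prelude.Def_Tame
import Groth.Agent.Lib.Helper79.LenMult
import Groth.Agent.Lib.Helper74.LatticeDet

/-!
# Algebra behind the flat pullback of a principal divisor (helper85)

For a flat local homomorphism `A → B` of Noetherian local rings, a prime `P ⊂ A` with
`dim A/P = 1`, `B/𝔪_A B` of finite length and `a ∉ P`:
`length_A (A/(P + a)) · length_B (B/𝔪_A B) = ∑_q length_{B_q} (B_q/P B_q) · length_B (B/(q + a))`,
the sum over the primes `q ≠ 𝔪_B` of `B` containing `P B`.
-/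

set_option autoImplicit false
set_option linter.style.haveILetI false
set_option linter.unusedSectionVars false
universe u

namespace Groth.Agent.Lib.Helper85.DivPullAlg

open IsLocalRing TensorProduct Pointwise Groth.Agent.Lib.Helper79.LenMult

section quot

variable {B : Type u} [CommRing B]

/-- `(B/I)/t(B/I)` and `B/(I + t)` have the same length. -/
theorem length_quot_smul_top_eq (I : Ideal B) (t : B) :
    Module.length B ((B ⧸ I) ⧸ t • (⊤ : Submodule B (B ⧸ I))) =
      Module.length B (B ⧸ (I ⊔ Ideal.span {t})) := by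
  let π : B →ₗ[B] ((B ⧸ I) ⧸ t • (⊤ : Submodule B (B ⧸ I))) :=
    (t • (⊤ : Submodule B (B ⧸ I))).mkQ.comp (Submodule.mkQ I)
  have hπ : Function.Surjective π :=
    (Submodule.mkQ_surjective _).comp (Submodule.mkQ_surjective _)
  have hker : LinearMap.ker π = I ⊔ Ideal.span {t} := by
    ext b
    rw [LinearMap.mem_ker]
    show Submodule.Quotient.mk (Submodule.Quotient.mk b) = 0 ↔ _
    rw [Submodule.Quotient.mk_eq_zero, Submodule.mem_smul_pointwise_iff_exists]
    constructor
    · rintro ⟨m, -, hm⟩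
      obtain ⟨b', rfl⟩ := Submodule.Quotient.mk_surjective _ m
      have h1 : Submodule.Quotient.mk (p := I) (t • b') = Submodule.Quotient.mk b := hm
      rw [Submodule.Quotient.eq] at h1
      have h2 : b = (b - t * b') + t * b' := by ring
      rw [h2]
      refine Submodule.add_mem_sup ?_ (Ideal.mem_span_singleton'.mpr ⟨b', by ring⟩)
      have h3 : b - t * b' = -(t • b' - b) := by simp [smul_eq_mul]
      rw [h3]
      exact I.neg_mem h1
    · intro hb
      obtain ⟨i, hi, s, hs, rfl⟩ := Submodule.mem_sup.mp hb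
      obtain ⟨b', rfl⟩ := Ideal.mem_span_singleton'.mp hs
      refine ⟨Submodule.Quotient.mk b', Submodule.mem_top, ?_⟩
      show Submodule.Quotient.mk (p := I) (t • b') = Submodule.Quotient.mk (i + b' * t)
      rw [Submodule.Quotient.eq]
      have h3 : t • b' - (i + b' * t) = -i := by simp [smul_eq_mul]; ring
      rw [h3]
      exact I.neg_mem hi
  have e : (B ⧸ LinearMap.ker π) ≃ₗ[B] ((B ⧸ I) ⧸ t • (⊤ : Submodule B (B ⧸ I))) :=
    π.quotKerEquivOfSurjective hπ
  rw [← e.length_eq]
  exact (Submodule.quotEquivOfEq _ _ hker).length_eq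

end quot

section core

variable {A B : Type u} [CommRing A] [CommRing B] [IsLocalRing A] [IsLocalRing B]
  [IsNoetherianRing B] [Algebra A B] [IsLocalHom (algebraMap A B)] [Module.Flat A B]
  (P : Ideal A) [P.IsPrime]

/-- flat base change of the length of a cyclic module -/
theorem length_quot_map (J : Ideal A) :
    Module.length B (B ⧸ J.map (algebraMap A B)) =
      Module.length A (A ⧸ J) *
        Module.length B (B ⧸ (maximalIdeal A).map (algebraMap A B)) := by
  rw [← IsLocalRing.length_baseChange A B (A ⧸ J)]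
  exact (Algebra.TensorProduct.quotIdealMapEquivTensorQuot B J).toLinearEquiv.length_eq

theorem isSMulRegular_quot_map (a : A) (ha : a ∉ P) :
    IsSMulRegular (B ⧸ P.map (algebraMap A B)) (algebraMap A B a) := by
  have h1 : IsSMulRegular (A ⧸ P) a := by
    intro x y hxy
    obtain ⟨x, rfl⟩ := Ideal.Quotient.mk_surjective x
    obtain ⟨y, rfl⟩ := Ideal.Quotient.mk_surjective y
    have h2 : Ideal.Quotient.mk P (a * x) = Ideal.Quotient.mk P (a * y) := hxy
    rw [Ideal.Quotient.eq, ← mul_sub] at h2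
    rw [Ideal.Quotient.eq]
    exact (Ideal.IsPrime.mem_or_mem inferInstance h2).resolve_left ha
  have h2 : IsSMulRegular (B ⊗[A] (A ⧸ P)) a := IsSMulRegular.lTensor B h1
  have h3 : IsSMulRegular (B ⧸ P.map (algebraMap A B)) a :=
    (((Algebra.TensorProduct.quotIdealMapEquivTensorQuot B P).toLinearEquiv.restrictScalars
      A).isSMulRegular_congr a).mpr h2
  intro x y hxy
  apply h3
  simpa [algebraMap_smul] using hxy

/-- the key identity, in `ℕ∞`, together with the finiteness of the index set -/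
theorem core_enat (a : A) (ha : a ∉ P)
    (hfinA : Module.length A (A ⧸ (P ⊔ Ideal.span {a})) ≠ ⊤)
    (hfinB : Module.length B (B ⧸ (maximalIdeal A).map (algebraMap A B)) ≠ ⊤) :
    ({p : PrimeSpectrum B | p ∈ Module.support B (B ⧸ P.map (algebraMap A B)) ∧
          p.asIdeal ≠ maximalIdeal B} ∩
      Function.support fun p : PrimeSpectrum B =>
        Ring.ord (B ⧸ p.asIdeal) (Ideal.Quotient.mk p.asIdeal (algebraMap A B a)) *
          Module.length (Localization.AtPrime p.asIdeal)
            (LocalizedModule p.asIdeal.primeCompl (B ⧸ P.map (algebraMap A B)))).Finite ∧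
    Module.length A (A ⧸ (P ⊔ Ideal.span {a})) *
        Module.length B (B ⧸ (maximalIdeal A).map (algebraMap A B)) =
      ∑ᶠ (p : PrimeSpectrum B)
        (_ : p ∈ {p : PrimeSpectrum B | p ∈ Module.support B (B ⧸ P.map (algebraMap A B)) ∧
          p.asIdeal ≠ maximalIdeal B}),
        Ring.ord (B ⧸ p.asIdeal) (Ideal.Quotient.mk p.asIdeal (algebraMap A B a)) *
          Module.length (Localization.AtPrime p.asIdeal)
            (LocalizedModule p.asIdeal.primeCompl (B ⧸ P.map (algebraMap A B))) := by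
  by_cases hu : IsUnit a
  · have h1 : P ⊔ Ideal.span {a} = ⊤ := by
      rw [Ideal.span_singleton_eq_top.mpr hu, sup_top_eq]
    have h2 : Subsingleton (A ⧸ (P ⊔ Ideal.span {a})) := by
      rw [h1]; exact Ideal.Quotient.subsingleton_iff.mpr rfl
    have hz : ∀ p : PrimeSpectrum B,
        Ring.ord (B ⧸ p.asIdeal) (Ideal.Quotient.mk p.asIdeal (algebraMap A B a)) *
          Module.length (Localization.AtPrime p.asIdeal)
            (LocalizedModule p.asIdeal.primeCompl (B ⧸ P.map (algebraMap A B))) = 0 := by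
      intro p
      rw [ord_eq_zero_of_isUnit _
        ((hu.map (algebraMap A B)).map (Ideal.Quotient.mk p.asIdeal)), zero_mul]
    constructor
    · refine Set.Finite.subset Set.finite_empty ?_
      rintro p ⟨-, hp⟩
      exact absurd (hz p) hp
    · rw [Module.length_eq_zero_iff.mpr h2, zero_mul]
      symm
      exact finsum_mem_eq_zero_of_forall_eq_zero fun p _ => hz p
  · set t : B := algebraMap A B a with ht
    have htm : t ∈ maximalIdeal B := by
      rw [mem_maximalIdeal, mem_nonunits_iff]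
      intro h
      exact hu (isUnit_of_map_unit (algebraMap A B) a h)
    have hlen : Module.length B ((B ⧸ P.map (algebraMap A B)) ⧸
        t • (⊤ : Submodule B (B ⧸ P.map (algebraMap A B)))) =
        Module.length A (A ⧸ (P ⊔ Ideal.span {a})) *
          Module.length B (B ⧸ (maximalIdeal A).map (algebraMap A B)) := by
      have hI : P.map (algebraMap A B) ⊔ Ideal.span {t} =
          (P ⊔ Ideal.span {a}).map (algebraMap A B) := by
        rw [Ideal.map_sup, Ideal.map_span, Set.image_singleton]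
      rw [length_quot_smul_top_eq, hI, length_quot_map]
    have hfin : Module.length B ((B ⧸ P.map (algebraMap A B)) ⧸
        (Ideal.span {t} • (⊤ : Submodule B (B ⧸ P.map (algebraMap A B))))) ≠ ⊤ := by
      rw [length_span_smul_top, hlen]
      exact WithTop.mul_ne_top hfinA hfinB
    have h0 := fl_h0 t (B ⧸ P.map (algebraMap A B)) hfin
    have h1 : Module.supportDim B (B ⧸ P.map (algebraMap A B)) ≤ 1 := by
      by_cases hd : 0 < Module.supportDim B (B ⧸ P.map (algebraMap A B))
      · exact fl_h1 t htm (B ⧸ P.map (algebraMap A B)) hd hfin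
      · exact (not_lt.mp hd).trans zero_le_one
    have hmain := main_finsum (B ⧸ P.map (algebraMap A B)) t h1 h0
    have hker : Module.length B (LinearMap.ker
        (LinearMap.lsmul B (B ⧸ P.map (algebraMap A B)) t)) = 0 := by
      rw [Module.length_eq_zero_iff]
      have hreg := isSMulRegular_quot_map (B := B) P a ha
      refine ⟨fun x y => Subtype.ext ?_⟩
      have hx : t • (x : B ⧸ P.map (algebraMap A B)) = 0 := x.2
      have hy : t • (y : B ⧸ P.map (algebraMap A B)) = 0 := y.2
      exact hreg (hx.trans hy.symm)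
    constructor
    · exact (suppT_finite (R := B) (M := B ⧸ P.map (algebraMap A B)) h1).subset
        Set.inter_subset_left
    · rw [← hlen, hmain, hker, zero_add]
      rfl

/-- passing from `ℕ∞` to `ℤ` in a finite sum -/
theorem cast_toNat_finsum_mem {ι : Type*} (g : ι → ℕ∞) (S : Set ι)
    (hfin : (S ∩ Function.support g).Finite) (hne : ∑ᶠ i ∈ S, g i ≠ ⊤) :
    (((∑ᶠ i ∈ S, g i).toNat : ℕ) : ℤ) = ∑ᶠ i ∈ S, (((g i).toNat : ℕ) : ℤ) := by
  classical
  have h1 : ∑ᶠ i ∈ S, g i = ∑ i ∈ hfin.toFinset, g i := by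
    apply finsum_mem_eq_sum_of_inter_support_eq
    rw [Set.Finite.coe_toFinset, Set.inter_assoc, Set.inter_self]
  have h2 : ∑ᶠ i ∈ S, (((g i).toNat : ℕ) : ℤ) = ∑ i ∈ hfin.toFinset, (((g i).toNat : ℕ) : ℤ) := by
    apply finsum_mem_eq_sum_of_inter_support_eq
    rw [Set.Finite.coe_toFinset]
    ext i
    simp only [Set.mem_inter_iff, Function.mem_support]
    constructor
    · rintro ⟨hi, hgi⟩
      refine ⟨⟨hi, ?_⟩, hgi⟩
      intro h0
      rw [h0] at hgi
      simp at hgi
    · rintro ⟨⟨hi, -⟩, hgi⟩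
      exact ⟨hi, hgi⟩
  rw [h1] at hne ⊢
  rw [h2, ENat.toNat_sum (ENat.sum_ne_top.mp hne), Nat.cast_sum]

/-- the key identity, in `ℤ` -/
theorem core_int (a : A) (ha : a ∉ P)
    (hfinA : Module.length A (A ⧸ (P ⊔ Ideal.span {a})) ≠ ⊤)
    (hfinB : Module.length B (B ⧸ (maximalIdeal A).map (algebraMap A B)) ≠ ⊤) :
    ({p : PrimeSpectrum B | p ∈ Module.support B (B ⧸ P.map (algebraMap A B)) ∧
          p.asIdeal ≠ maximalIdeal B} ∩
      Function.support fun p : PrimeSpectrum B =>
        (((Module.length B (B ⧸ (p.asIdeal ⊔ Ideal.span {algebraMap A B a}))).toNat : ℕ) : ℤ) *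
          (((Module.length (Localization.AtPrime p.asIdeal)
            (LocalizedModule p.asIdeal.primeCompl
              (B ⧸ P.map (algebraMap A B)))).toNat : ℕ) : ℤ)).Finite ∧
    (((Module.length A (A ⧸ (P ⊔ Ideal.span {a}))).toNat : ℕ) : ℤ) *
        (((Module.length B (B ⧸ (maximalIdeal A).map (algebraMap A B))).toNat : ℕ) : ℤ) =
      ∑ᶠ (p : PrimeSpectrum B)
        (_ : p ∈ {p : PrimeSpectrum B | p ∈ Module.support B (B ⧸ P.map (algebraMap A B)) ∧
          p.asIdeal ≠ maximalIdeal B}),
        (((Module.length B (B ⧸ (p.asIdeal ⊔ Ideal.span {algebraMap A B a}))).toNat : ℕ) : ℤ) *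
          (((Module.length (Localization.AtPrime p.asIdeal)
            (LocalizedModule p.asIdeal.primeCompl
              (B ⧸ P.map (algebraMap A B)))).toNat : ℕ) : ℤ) := by
  obtain ⟨hfin, heq⟩ := core_enat (B := B) P a ha hfinA hfinB
  have hne : ∑ᶠ (p : PrimeSpectrum B)
      (_ : p ∈ {p : PrimeSpectrum B | p ∈ Module.support B (B ⧸ P.map (algebraMap A B)) ∧
        p.asIdeal ≠ maximalIdeal B}),
      Ring.ord (B ⧸ p.asIdeal) (Ideal.Quotient.mk p.asIdeal (algebraMap A B a)) *
        Module.length (Localization.AtPrime p.asIdeal)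
          (LocalizedModule p.asIdeal.primeCompl (B ⧸ P.map (algebraMap A B))) ≠ ⊤ := by
    rw [← heq]
    exact WithTop.mul_ne_top hfinA hfinB
  have hcast := cast_toNat_finsum_mem _ _ hfin hne
  have hterm : ∀ p : PrimeSpectrum B,
      (((Ring.ord (B ⧸ p.asIdeal) (Ideal.Quotient.mk p.asIdeal (algebraMap A B a)) *
        Module.length (Localization.AtPrime p.asIdeal)
          (LocalizedModule p.asIdeal.primeCompl (B ⧸ P.map (algebraMap A B)))).toNat : ℕ) : ℤ) =
      (((Module.length B (B ⧸ (p.asIdeal ⊔ Ideal.span {algebraMap A B a}))).toNat : ℕ) : ℤ) *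
          (((Module.length (Localization.AtPrime p.asIdeal)
            (LocalizedModule p.asIdeal.primeCompl
              (B ⧸ P.map (algebraMap A B)))).toNat : ℕ) : ℤ) := by
    intro p
    rw [ENat.toNat_mul, Nat.cast_mul, ord_eq_length_sup]
  constructor
  · refine hfin.subset ?_
    rintro p ⟨hp, hsupp⟩
    refine ⟨hp, ?_⟩
    rw [Function.mem_support] at hsupp ⊢
    intro h0
    apply hsupp
    rw [← hterm p, h0]
    simp
  · rw [← heq, ENat.toNat_mul, Nat.cast_mul] at hcast
    rw [hcast]
    exact finsum_mem_congr rfl fun p _ => hterm p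

end core

section ordfrac

open Groth.Agent.Lib.Helper74

/-- the order of a fraction in terms of lengths -/
theorem ordFrac_quot_div {S : Type u} [CommRing S] [IsNoetherianRing S] (q : Ideal S) [q.IsPrime]
    (hdim : Ring.KrullDimLE 1 (S ⧸ q)) (K : Type u) [Field K] [Algebra (S ⧸ q) K]
    [IsFractionRing (S ⧸ q) K] (a b : S) (ha : a ∉ q) (hb : b ∉ q) :
    CycAlg.ordFrac (S ⧸ q) K
        (algebraMap (S ⧸ q) K (Ideal.Quotient.mk q a) /
          algebraMap (S ⧸ q) K (Ideal.Quotient.mk q b)) =
      (((Module.length S (S ⧸ (q ⊔ Ideal.span {a}))).toNat : ℕ) : ℤ) -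
        (((Module.length S (S ⧸ (q ⊔ Ideal.span {b}))).toNat : ℕ) : ℤ) := by
  have ha0 : Ideal.Quotient.mk q a ≠ 0 := fun h => ha (Ideal.Quotient.eq_zero_iff_mem.mp h)
  have hb0 : Ideal.Quotient.mk q b ≠ 0 := fun h => hb (Ideal.Quotient.eq_zero_iff_mem.mp h)
  have ha1 : algebraMap (S ⧸ q) K (Ideal.Quotient.mk q a) ≠ 0 := by
    rwa [Ne, FaithfulSMul.algebraMap_eq_zero_iff]
  have hb1 : algebraMap (S ⧸ q) K (Ideal.Quotient.mk q b) ≠ 0 := by
    rwa [Ne, FaithfulSMul.algebraMap_eq_zero_iff]
  rw [div_eq_mul_inv, ordFracInt_mul (S ⧸ q) K ha1 (inv_ne_zero hb1),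
    ordFracInt_inv (S ⧸ q) K hb1, ordFracInt_algebraMap (S ⧸ q) K ha0,
    ordFracInt_algebraMap (S ⧸ q) K hb0]
  have e1 : Module.length (S ⧸ q) ((S ⧸ q) ⧸ Ideal.span {Ideal.Quotient.mk q a}) =
      Module.length S (S ⧸ (q ⊔ Ideal.span {a})) := ord_eq_length_sup q a
  have e2 : Module.length (S ⧸ q) ((S ⧸ q) ⧸ Ideal.span {Ideal.Quotient.mk q b}) =
      Module.length S (S ⧸ (q ⊔ Ideal.span {b})) := ord_eq_length_sup q b
  rw [e1, e2]
  ring

/-- the order of a unit is zero -/
theorem ordFrac_algebraMap_of_isUnit (R : Type u) [CommRing R] (K : Type u) [Field K]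
    [Algebra R K] (r : R) (hr : IsUnit r) : CycAlg.ordFrac R K (algebraMap R K r) = 0 := by
  unfold CycAlg.ordFrac
  split_ifs with h
  · haveI := h.1; haveI := h.2.1; haveI := h.2.2.1; haveI := h.2.2.2
    have hdom : IsDomain R :=
      Function.Injective.isDomain (algebraMap R K) (IsFractionRing.injective R K)
    have hr0 : r ≠ 0 := hr.ne_zero
    have hnzd : r ∈ nonZeroDivisors R := mem_nonZeroDivisors_of_ne_zero hr0
    have h0 : Ring.ord R r = 0 := ord_eq_zero_of_isUnit r hr
    rw [Ring.ordFrac_eq_ord R hr0,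
      Ring.ordMonoidWithZeroHom_eq_coe R hnzd (n := 0) (by rw [h0]; rfl)]
    rfl
  · rfl

end ordfrac

end Groth.Agent.Lib.Helper85.DivPullAlg
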