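import Mathlib

/-!
# Generic localization lemmas for the divisor pullback (helper85)
-/

set_option autoImplicit false
set_option linter.style.haveILetI false
set_option linter.unusedSectionVars false
universe u v

namespace Groth.Agent.Lib.Helper85.DivPullLoc

open IsLocalRing

/-- A ring map to a field whose image generates the field as fractions makes the field the
fraction field of the quotient by the kernel. -/
theorem isFractionRing_quot_ker {S : Type u} [CommRing S] {K : Type v} [Field K] (ψ : S →+* K)
    (hsurj : ∀ z : K, ∃ s t : S, z = ψ s / ψ t) :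
    letI := (Ideal.Quotient.lift (RingHom.ker ψ) ψ (fun _ ha => RingHom.mem_ker.mp ha)).toAlgebra
    IsFractionRing (S ⧸ RingHom.ker ψ) K := by
  letI := (Ideal.Quotient.lift (RingHom.ker ψ) ψ (fun _ ha => RingHom.mem_ker.mp ha)).toAlgebra
  have hinj : Function.Injective (algebraMap (S ⧸ RingHom.ker ψ) K) := by
    rw [injective_iff_map_eq_zero]
    intro x hx
    obtain ⟨s, rfl⟩ := Ideal.Quotient.mk_surjective x
    have h1 : ψ s = 0 := hx
    exact Ideal.Quotient.eq_zero_iff_mem.mpr (RingHom.mem_ker.mpr h1)
  haveI : FaithfulSMul (S ⧸ RingHom.ker ψ) K := (faithfulSMul_iff_algebraMap_injective _ _).mpr hinj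
  refine IsFractionRing.of_field (R := S ⧸ RingHom.ker ψ) (K := K) ?_
  intro z
  obtain ⟨s, t, rfl⟩ := hsurj z
  exact ⟨Ideal.Quotient.mk _ s, Ideal.Quotient.mk _ t, rfl⟩

/-- A local localization is the localization at the contraction of its maximal ideal. -/
theorem isLocalization_atPrime_of_isLocalRing {S : Type u} [CommRing S] (M : Submonoid S)
    (T : Type v) [CommRing T] [Algebra S T] [IsLocalization M T] [IsLocalRing T] :
    haveI : ((maximalIdeal T).comap (algebraMap S T)).IsPrime := Ideal.comap_isPrime _ _
    IsLocalization.AtPrime T ((maximalIdeal T).comap (algebraMap S T)) := by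
  haveI : ((maximalIdeal T).comap (algebraMap S T)).IsPrime := Ideal.comap_isPrime _ _
  refine IsLocalization.of_le M _ ?_ ?_
  · intro x hx
    show x ∉ (maximalIdeal T).comap (algebraMap S T)
    rw [Ideal.mem_comap, mem_maximalIdeal, mem_nonunits_iff, not_not]
    exact IsLocalization.map_units T ⟨x, hx⟩
  · intro r hr
    have h1 : r ∉ (maximalIdeal T).comap (algebraMap S T) := hr
    rw [Ideal.mem_comap, mem_maximalIdeal, mem_nonunits_iff, not_not] at h1
    exact h1

/-- The length of the localization of `S/I` at `q`, computed in any model `T` of `S_q`. -/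
theorem length_localizedModule_quotient {S : Type u} [CommRing S] (q : Ideal S) [q.IsPrime]
    (T : Type u) [CommRing T] [Algebra S T] [IsLocalization.AtPrime T q] (I : Ideal S) :
    Module.length (Localization.AtPrime q) (LocalizedModule q.primeCompl (S ⧸ I)) =
      Module.length T (T ⧸ I.map (algebraMap S T)) := by
  haveI hloc : IsLocalizedModule q.primeCompl (Algebra.linearMap S T) :=
    (isLocalizedModule_iff_isLocalization).mpr inferInstance
  -- the localization map of the quotient
  let f := Submodule.toLocalizedQuotient' T q.primeCompl (Algebra.linearMap S T) I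
  have hf : IsLocalizedModule q.primeCompl f := inferInstance
  have hJ : Submodule.localized' T q.primeCompl (Algebra.linearMap S T) I =
      I.map (algebraMap S T) := Ideal.localized'_eq_map T q.primeCompl I
  -- S-linear comparison
  let e1 : LocalizedModule q.primeCompl (S ⧸ I) ≃ₗ[S]
      (T ⧸ Submodule.localized' T q.primeCompl (Algebra.linearMap S T) I) :=
    IsLocalizedModule.iso q.primeCompl f
  let e2 : (T ⧸ Submodule.localized' T q.primeCompl (Algebra.linearMap S T) I) ≃ₗ[T]
      (T ⧸ I.map (algebraMap S T)) := Submodule.quotEquivOfEq _ _ hJ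
  -- structure of module over `Localization.AtPrime q` on the target
  let ε : Localization.AtPrime q ≃ₐ[S] T := IsLocalization.algEquiv q.primeCompl _ _
  letI aLT : Algebra (Localization.AtPrime q) T := ε.toAlgHom.toRingHom.toAlgebra
  letI mLN : Module (Localization.AtPrime q) (T ⧸ I.map (algebraMap S T)) :=
    Module.compHom _ (algebraMap (Localization.AtPrime q) T)
  haveI tLTN : IsScalarTower (Localization.AtPrime q) T (T ⧸ I.map (algebraMap S T)) :=
    ⟨fun l t n => by
      show (algebraMap (Localization.AtPrime q) T l * t) • n =
        algebraMap (Localization.AtPrime q) T l • (t • n)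
      rw [mul_smul]⟩
  haveI tSLN : IsScalarTower S (Localization.AtPrime q) (T ⧸ I.map (algebraMap S T)) :=
    ⟨fun s l n => by
      show algebraMap (Localization.AtPrime q) T (s • l) • n =
        s • (algebraMap (Localization.AtPrime q) T l • n)
      have h1 : algebraMap (Localization.AtPrime q) T (s • l) =
          s • algebraMap (Localization.AtPrime q) T l := map_smul ε.toAlgHom s l
      rw [h1, smul_assoc]⟩
  have hsurj : Function.Surjective (algebraMap (Localization.AtPrime q) T) := ε.surjective
  let e3 : LocalizedModule q.primeCompl (S ⧸ I) ≃ₗ[S] (T ⧸ I.map (algebraMap S T)) :=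
    e1.trans (e2.restrictScalars S)
  have e4 : LocalizedModule q.primeCompl (S ⧸ I) ≃ₗ[Localization.AtPrime q]
      (T ⧸ I.map (algebraMap S T)) :=
    e3.extendScalarsOfIsLocalization q.primeCompl (Localization.AtPrime q)
  rw [e4.length_eq]
  exact Module.length_eq_of_surjective hsurj

end Groth.Agent.Lib.Helper85.DivPullLoc
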