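import Mathlib
import Groth.Prelude.Def_Cyc
import Groth.Agent.Lib.Helper85.IntMult.DivPullLoc
import Groth.Agent.Lib.Helper55.StalkPoints
import Groth.Agent.Lib.Helper89.DimFunJacobson

/-!
# Local rings at generizations: the dictionary used for divisor pullback (helper85)
-/

set_option autoImplicit false
set_option linter.style.haveILetI false
set_option linter.unusedSectionVars false
universe u

namespace Groth.Agent.Lib.Helper85.DivPullDict

open AlgebraicGeometry CategoryTheory IsLocalRing Groth.Agent.Lib.Helper55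
open Groth.Agent.Lib.Helper85.DivPullLoc

variable {X : Scheme.{u}}

/-- the local ring at a generization is a localization of the local ring -/
theorem exists_isLocalization_stalk {x ξ : X} (h : ξ ⤳ x) :
    letI := (X.presheaf.stalkSpecializes h).hom.toAlgebra
    ∃ M : Submonoid (X.presheaf.stalk x), IsLocalization M (X.presheaf.stalk ξ) := by
  letI := (X.presheaf.stalkSpecializes h).hom.toAlgebra
  obtain ⟨_, ⟨V, hV, rfl⟩, hxV, -⟩ :=
    X.isBasis_affineOpens.exists_subset_of_mem_open (Set.mem_univ x) isOpen_univ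
  have hξV : ξ ∈ V := h.mem_open V.isOpen hxV
  letI a1 : Algebra Γ(X, V) (X.presheaf.stalk x) :=
    TopCat.Presheaf.algebra_section_stalk X.presheaf ⟨x, hxV⟩
  letI a2 : Algebra Γ(X, V) (X.presheaf.stalk ξ) :=
    TopCat.Presheaf.algebra_section_stalk X.presheaf ⟨ξ, hξV⟩
  have l1 : IsLocalization.AtPrime (X.presheaf.stalk x) (hV.primeIdealOf ⟨x, hxV⟩).asIdeal :=
    hV.isLocalization_stalk ⟨x, hxV⟩
  have l2 : IsLocalization.AtPrime (X.presheaf.stalk ξ) (hV.primeIdealOf ⟨ξ, hξV⟩).asIdeal :=
    hV.isLocalization_stalk ⟨ξ, hξV⟩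
  have hst : IsScalarTower Γ(X, V) (X.presheaf.stalk x) (X.presheaf.stalk ξ) := by
    apply IsScalarTower.of_algebraMap_eq'
    have := X.presheaf.germ_stalkSpecializes hxV h
    ext s
    exact (congrArg (fun t => t.hom s) this).symm
  have hle : (hV.primeIdealOf ⟨x, hxV⟩).asIdeal.primeCompl ≤
      (hV.primeIdealOf ⟨ξ, hξV⟩).asIdeal.primeCompl := by
    intro s hs
    have hu : IsUnit (algebraMap Γ(X, V) (X.presheaf.stalk x) s) :=
      (IsLocalization.AtPrime.isUnit_to_map_iff _ (hV.primeIdealOf ⟨x, hxV⟩).asIdeal s).mpr hs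
    have hu' : IsUnit (algebraMap Γ(X, V) (X.presheaf.stalk ξ) s) := by
      rw [IsScalarTower.algebraMap_apply Γ(X, V) (X.presheaf.stalk x) (X.presheaf.stalk ξ)]
      exact hu.map _
    exact (IsLocalization.AtPrime.isUnit_to_map_iff _
      (hV.primeIdealOf ⟨ξ, hξV⟩).asIdeal s).mp hu'
  exact ⟨_, IsLocalization.isLocalization_of_submonoid_le (X.presheaf.stalk x)
    (X.presheaf.stalk ξ) _ _ hle⟩

theorem ker_specMap_eq_comap {x ξ : X} (h : ξ ⤳ x) :
    RingHom.ker (Cyc.specMap x ξ h) =
      (maximalIdeal (X.presheaf.stalk ξ)).comap (X.presheaf.stalkSpecializes h).hom := by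
  unfold Cyc.specMap
  rw [CommRingCat.hom_comp, ← RingHom.comap_ker]
  congr 1
  exact IsLocalRing.ker_residue

instance ker_specMap_isPrime {x ξ : X} (h : ξ ⤳ x) : (RingHom.ker (Cyc.specMap x ξ h)).IsPrime :=
  RingHom.ker_isPrime _

/-- `O_{X,ξ}` is the localization of `O_{X,x}` at the prime of `ξ`. -/
theorem isLocalization_atPrime_stalk {x ξ : X} (h : ξ ⤳ x) :
    letI := (X.presheaf.stalkSpecializes h).hom.toAlgebra
    IsLocalization.AtPrime (X.presheaf.stalk ξ) (RingHom.ker (Cyc.specMap x ξ h)) := by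
  letI := (X.presheaf.stalkSpecializes h).hom.toAlgebra
  obtain ⟨M, hM⟩ := exists_isLocalization_stalk h
  have h1 := isLocalization_atPrime_of_isLocalRing M (X.presheaf.stalk ξ)
  have h2 : RingHom.ker (Cyc.specMap x ξ h) =
      (maximalIdeal (X.presheaf.stalk ξ)).comap
        (algebraMap (X.presheaf.stalk x) (X.presheaf.stalk ξ)) := ker_specMap_eq_comap h
  convert h1

/-- every element of `κ(ξ)` is a fraction of images of elements of `O_{X,x}` -/
theorem exists_specMap_div {x ξ : X} (h : ξ ⤳ x) (z : X.residueField ξ) :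
    ∃ s t : X.presheaf.stalk x, t ∉ RingHom.ker (Cyc.specMap x ξ h) ∧
      z = Cyc.specMap x ξ h s / Cyc.specMap x ξ h t := by
  letI := (X.presheaf.stalkSpecializes h).hom.toAlgebra
  haveI := isLocalization_atPrime_stalk h
  obtain ⟨w, rfl⟩ := Scheme.residue_surjective X ξ z
  obtain ⟨⟨s, t⟩, hst⟩ := IsLocalization.surj (RingHom.ker (Cyc.specMap x ξ h)).primeCompl w
  have ht : (t : X.presheaf.stalk x) ∉ RingHom.ker (Cyc.specMap x ξ h) := t.2
  refine ⟨s, t, ht, ?_⟩
  have h1 : Cyc.specMap x ξ h t ≠ 0 := fun h0 => ht (RingHom.mem_ker.mpr h0)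
  rw [eq_div_iff h1]
  have h2 := congrArg (X.residue ξ).hom hst
  rw [map_mul] at h2
  exact h2

/-- `κ(ξ)` is the fraction field of `O_{X,x}/𝔭_ξ`. -/
instance isFractionRing_locQuot {x ξ : X} (h : ξ ⤳ x) :
    IsFractionRing (Cyc.LocQuot x ξ h) (X.residueField ξ) := by
  refine isFractionRing_quot_ker (Cyc.specMap x ξ h) ?_
  intro z
  obtain ⟨s, t, -, hz⟩ := exists_specMap_div h z
  exact ⟨s, t, hz⟩

theorem algebraMap_locQuot_mk {x ξ : X} (h : ξ ⤳ x) (a : X.presheaf.stalk x) :
    algebraMap (Cyc.LocQuot x ξ h) (X.residueField ξ)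
      (Ideal.Quotient.mk (RingHom.ker (Cyc.specMap x ξ h)) a) = Cyc.specMap x ξ h a := rfl

/-- the prime of `O_{X,x}` attached to the generization given by a prime `q` is `q` -/
theorem ker_specMap_stalkPoint (x : X) (q : PrimeSpectrum (X.presheaf.stalk x)) :
    RingHom.ker (Cyc.specMap x (stalkPoint x q) (stalkPoint_specializes x q)) = q.asIdeal := by
  have h1 := Groth.Agent.Lib.Helper89.DimFunJacobson.fromSpecStalk_ker_specMap X
    (stalkPoint_specializes x q)
  have h2 : stalkPoint x ⟨RingHom.ker (Cyc.specMap x (stalkPoint x q)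
      (stalkPoint_specializes x q)), RingHom.ker_isPrime _⟩ = stalkPoint x q := h1
  exact congrArg PrimeSpectrum.asIdeal (stalkPoint_injective x h2)

theorem stalkPoint_ker_specMap {x ξ : X} (h : ξ ⤳ x) :
    stalkPoint x ⟨RingHom.ker (Cyc.specMap x ξ h), RingHom.ker_isPrime _⟩ = ξ :=
  Groth.Agent.Lib.Helper89.DimFunJacobson.fromSpecStalk_ker_specMap X h

section functorial

variable {Y : Scheme.{u}} (f : X ⟶ Y)

/-- naturality of `specMap` -/
theorem residueFieldMap_specMap {x ξ : X} (h : ξ ⤳ x) (a : Y.presheaf.stalk (f x)) :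
    (f.residueFieldMap ξ).hom (Cyc.specMap (f x) (f ξ) (h.map f.continuous) a) =
      Cyc.specMap x ξ h ((f.stalkMap x).hom a) := by
  unfold Cyc.specMap
  have h1 := Scheme.Hom.stalkSpecializes_stalkMap f ξ x h
  have h2 := Scheme.residue_residueFieldMap f ξ
  have h3 : (Y.presheaf.stalkSpecializes (h.map f.continuous) ≫ Y.residue (f ξ)) ≫
      f.residueFieldMap ξ =
      f.stalkMap x ≫ (X.presheaf.stalkSpecializes h ≫ X.residue ξ) := by
    rw [Category.assoc, h2, ← Category.assoc]
    erw [h1]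
    rw [Category.assoc]
  exact DFunLike.congr_fun (CommRingCat.hom_ext_iff.mp h3) a

theorem comap_ker_specMap {x ξ : X} (h : ξ ⤳ x) :
    Ideal.comap (f.stalkMap x).hom (RingHom.ker (Cyc.specMap x ξ h)) =
      RingHom.ker (Cyc.specMap (f x) (f ξ) (h.map f.continuous)) := by
  ext a
  rw [Ideal.mem_comap, RingHom.mem_ker, RingHom.mem_ker, ← residueFieldMap_specMap f h a]
  exact map_eq_zero_iff _ (RingHom.injective _)

/-- the extension of the maximal ideal of `O_{Y,f ξ}` to `O_{X,ξ}`, through `O_{X,x}` -/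
theorem map_maximalIdeal_eq {x ξ : X} (h : ξ ⤳ x) :
    Ideal.map (f.stalkMap ξ).hom (maximalIdeal (Y.presheaf.stalk (f ξ))) =
      Ideal.map (X.presheaf.stalkSpecializes h).hom
        (Ideal.map (f.stalkMap x).hom
          (RingHom.ker (Cyc.specMap (f x) (f ξ) (h.map f.continuous)))) := by
  have hY : maximalIdeal (Y.presheaf.stalk (f ξ)) =
      Ideal.map (Y.presheaf.stalkSpecializes (h.map f.continuous)).hom
        (RingHom.ker (Cyc.specMap (f x) (f ξ) (h.map f.continuous))) := by
    letI := (Y.presheaf.stalkSpecializes (h.map f.continuous)).hom.toAlgebra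
    haveI := isLocalization_atPrime_stalk (h.map f.continuous)
    exact (IsLocalization.AtPrime.map_eq_maximalIdeal
      (RingHom.ker (Cyc.specMap (f x) (f ξ) (h.map f.continuous)))
      (Y.presheaf.stalk (f ξ))).symm
  rw [hY, Ideal.map_map, Ideal.map_map]
  congr 1
  have h1 := Scheme.Hom.stalkSpecializes_stalkMap f ξ x h
  have h2 := congrArg CommRingCat.Hom.hom h1
  rw [CommRingCat.hom_comp, CommRingCat.hom_comp] at h2
  exact h2

/-- the multiplicity of the fibre at `ξ` computed at `x` -/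
theorem length_fibre_eq {x ξ : X} (h : ξ ⤳ x) :
    Module.length (X.presheaf.stalk ξ)
        (X.presheaf.stalk ξ ⧸ Ideal.map (f.stalkMap ξ).hom
          (maximalIdeal (Y.presheaf.stalk (f ξ)))) =
      Module.length (Localization.AtPrime (RingHom.ker (Cyc.specMap x ξ h)))
        (LocalizedModule (RingHom.ker (Cyc.specMap x ξ h)).primeCompl
          (X.presheaf.stalk x ⧸ Ideal.map (f.stalkMap x).hom
            (RingHom.ker (Cyc.specMap (f x) (f ξ) (h.map f.continuous))))) := by
  letI := (X.presheaf.stalkSpecializes h).hom.toAlgebra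
  haveI := isLocalization_atPrime_stalk h
  rw [map_maximalIdeal_eq f h]
  exact (length_localizedModule_quotient (RingHom.ker (Cyc.specMap x ξ h))
    (X.presheaf.stalk ξ) _).symm

end functorial

end Groth.Agent.Lib.Helper85.DivPullDict
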