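import Mathlib
import Groth.Agent.Lib.Helper85.IntMult.FlatPull
import Groth.Agent.Lib.Helper85.IntMult.ChiAssoc
import Groth.Agent.Lib.Helper28.PullbackStalk
import Groth.Agent.Lib.Helper55.FiberTrdeg
import Groth.Prelude.Def_Cyc
import Groth.Agent.Lib.Helper12.QuasiFlat

/-!
# Stalks of pulled back modules along a flat morphism (helper85)
-/

set_option autoImplicit false
set_option linter.style.haveILetI false
set_option linter.unusedSectionVars false
universe u

namespace Groth.Agent.Lib.Helper85.FlatPullGeom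

open AlgebraicGeometry CategoryTheory TensorProduct Topology

variable {X Y : Scheme.{u}} (f : X ⟶ Y)

/-- the stalk of a pullback as a base change -/
theorem nonempty_stalk_pullback_equiv (F : Y.Modules) (x : X) :
    letI := (f.stalkMap x).hom.toAlgebra
    Nonempty (((Scheme.Modules.pullback f).obj F).presheaf.stalk x ≃ₗ[X.presheaf.stalk x]
      (X.presheaf.stalk x) ⊗[Y.presheaf.stalk (f x)] (F.presheaf.stalk (f x))) := by
  letI := (f.stalkMap x).hom.toAlgebra
  exact ⟨((Groth.Agent.Lib.Helper28.SkyMod.pullbackStalkIso f x).app F).toLinearEquiv⟩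

/-- a flat pullback has nontrivial stalk exactly over the points with nontrivial stalk -/
theorem nontrivial_stalk_pullback_iff [Flat f] (F : Y.Modules) (x : X) :
    Nontrivial (((Scheme.Modules.pullback f).obj F).presheaf.stalk x) ↔
      Nontrivial (F.presheaf.stalk (f x)) := by
  letI := (f.stalkMap x).hom.toAlgebra
  obtain ⟨e⟩ := nonempty_stalk_pullback_equiv f F x
  have hflat : Module.Flat (Y.presheaf.stalk (f x)) (X.presheaf.stalk x) :=
    (RingHom.flat_algebraMap_iff).mp (Flat.stalkMap f x)
  have hloc : IsLocalHom (algebraMap (Y.presheaf.stalk (f x)) (X.presheaf.stalk x)) :=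
    inferInstanceAs (IsLocalHom (f.stalkMap x).hom)
  have hff : Module.FaithfullyFlat (Y.presheaf.stalk (f x)) (X.presheaf.stalk x) :=
    Module.FaithfullyFlat.of_flat_of_isLocalHom
  rw [e.toEquiv.nontrivial_congr]
  constructor
  · intro h
    by_contra hcon
    rw [not_nontrivial_iff_subsingleton] at hcon
    exact not_subsingleton _ (inferInstance : Subsingleton
      ((X.presheaf.stalk x) ⊗[Y.presheaf.stalk (f x)] (F.presheaf.stalk (f x))))
  · intro h
    exact Module.FaithfullyFlat.lTensor_nontrivial _ _ _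

/-- the dimension function grows at most by the relative dimension -/
theorem delta_le_add [LocallyOfFiniteType f] (δX : X → ℤ) (δY : Y → ℤ)
    (hδ : Cyc.DeltaCompat f δX δY) (e : ℕ) (hrel : Cyc.HasRelDim f e) (x : X) :
    δX x ≤ δY (f x) + e := by
  obtain ⟨n', hn'1, hn'2⟩ := hδ x
  obtain ⟨k, hk1, hk2⟩ := Groth.Agent.Lib.Helper55.exists_dim_closure_asFiber_eq_trdeg f x
  have hkn : k = n' := by
    have : (k : Cardinal) = n' := by rw [← hk2, ← hn'1]
    exact_mod_cast this
  have hirr : IsIrreducible (closure ({f.asFiber x} : Set ↥(f.fiber (f x)))) :=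
    isIrreducible_singleton.closure
  obtain ⟨T, hT, hsub⟩ := exists_mem_irreducibleComponents_subset_of_isIrreducible _ hirr
  have hTe := hrel (f x) T hT
  have hle : topologicalKrullDim ↥(closure ({f.asFiber x} : Set ↥(f.fiber (f x)))) ≤
      topologicalKrullDim ↥T :=
    (IsEmbedding.inclusion hsub).isInducing.topologicalKrullDim_le
  rw [hk1, hTe] at hle
  have : k ≤ e := by exact_mod_cast hle
  rw [hn'2]
  omega

/-- `χ` of the stalks of flat pullbacks -/
theorem chi_stalk_pullback [Flat f] [IsLocallyNoetherian Y] (F G : Y.Modules)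
    (hG : Coh.IsCoh G) (x : X) :
    IntMult.chi (X.presheaf.stalk x) (((Scheme.Modules.pullback f).obj F).presheaf.stalk x)
      (((Scheme.Modules.pullback f).obj G).presheaf.stalk x) =
    IntMult.chi (Y.presheaf.stalk (f x)) (F.presheaf.stalk (f x)) (G.presheaf.stalk (f x)) *
      ((Module.length (X.presheaf.stalk x)
        (X.presheaf.stalk x ⧸ Ideal.map (f.stalkMap x).hom
          (IsLocalRing.maximalIdeal (Y.presheaf.stalk (f x))))).toNat : ℤ) := by
  letI := (f.stalkMap x).hom.toAlgebra
  obtain ⟨eF⟩ := nonempty_stalk_pullback_equiv f F x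
  obtain ⟨eG⟩ := nonempty_stalk_pullback_equiv f G x
  have hflat : Module.Flat (Y.presheaf.stalk (f x)) (X.presheaf.stalk x) :=
    (RingHom.flat_algebraMap_iff).mp (Flat.stalkMap f x)
  have hloc : IsLocalHom (algebraMap (Y.presheaf.stalk (f x)) (X.presheaf.stalk x)) :=
    inferInstanceAs (IsLocalHom (f.stalkMap x).hom)
  have hfin := Groth.Agent.Lib.Helper12.QuasiFlat.finite_stalk_of_isCoh G hG (f x)
  have hN : IsNoetherianRing (Y.presheaf.stalk (f x)) := inferInstance
  rw [Groth.Agent.Lib.Helper85.ChiAssoc.chi_congr eF eG]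
  exact Groth.Agent.Lib.Helper85.FlatPull.chi_baseChange (A := Y.presheaf.stalk (f x))
    (B := X.presheaf.stalk x) (F.presheaf.stalk (f x)) (G.presheaf.stalk (f x))

/-- **flat pullback commutes with the `Tor`-formula product**, given the two stalk formulas -/
theorem pullFun_interProd_eq [Flat f] [LocallyOfFiniteType f] [IsLocallyNoetherian Y]
    (δX : X → ℤ) (δY : Y → ℤ) (hδ : Cyc.DeltaCompat f δX δY) (n m : ℤ) (e : ℕ)
    (he : (e : ℤ) = n - m) (hrel : Cyc.HasRelDim f e) (F G : Y.Modules) (hG : Coh.IsCoh G)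
    (r s : ℤ)
    (hrs : ∀ y : Y, Nontrivial (F.presheaf.stalk y) → Nontrivial (G.presheaf.stalk y) →
      δY y ≤ r + s - m)
    (hYform : ∀ y : Y, IntMult.interProd δY m (Cyc.sheafFun δY r F) (Cyc.sheafFun δY s G) y =
      if δY y = r + s - m then
        IntMult.chi (Y.presheaf.stalk y) (F.presheaf.stalk y) (G.presheaf.stalk y) else 0)
    (hXform : ∀ x : X, IntMult.interProd δX n
        (Cyc.sheafFun δX (r + e) ((Scheme.Modules.pullback f).obj F))
        (Cyc.sheafFun δX (s + e) ((Scheme.Modules.pullback f).obj G)) x =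
      if δX x = (r + e) + (s + e) - n then
        IntMult.chi (X.presheaf.stalk x) (((Scheme.Modules.pullback f).obj F).presheaf.stalk x)
          (((Scheme.Modules.pullback f).obj G).presheaf.stalk x) else 0) :
    Cyc.pullFun f δX δY e (IntMult.interProd δY m (Cyc.sheafFun δY r F) (Cyc.sheafFun δY s G)) =
      IntMult.interProd δX n (Cyc.sheafFun δX (r + e) ((Scheme.Modules.pullback f).obj F))
        (Cyc.sheafFun δX (s + e) ((Scheme.Modules.pullback f).obj G)) := by
  funext x
  rw [hXform x, chi_stalk_pullback f F G hG x]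
  unfold Cyc.pullFun
  simp only
  rw [hYform (f x)]
  have hle := delta_le_add f δX δY hδ e hrel x
  by_cases h1 : δX x = δY (f x) + e
  · rw [if_pos h1]
    by_cases h2 : δY (f x) = r + s - m
    · rw [if_pos h2, if_pos (by omega)]
    · rw [if_neg h2, if_neg (by omega), zero_mul]
  · rw [if_neg h1]
    by_cases h3 : δX x = (r + e) + (s + e) - n
    · rw [if_pos h3]
      have h4 : ¬ δY (f x) ≤ r + s - m := by omega
      have h5 : ¬ (Nontrivial (F.presheaf.stalk (f x)) ∧ Nontrivial (G.presheaf.stalk (f x))) :=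
        fun h => h4 (hrs _ h.1 h.2)
      rw [not_and_or, not_nontrivial_iff_subsingleton, not_nontrivial_iff_subsingleton] at h5
      have h6 : IntMult.chi (Y.presheaf.stalk (f x)) (F.presheaf.stalk (f x))
          (G.presheaf.stalk (f x)) = 0 := by
        rcases h5 with h | h
        · rw [Groth.Agent.Lib.Helper85.IntMultAlg.intMult_chi_symm]
          exact Groth.Agent.Lib.Helper85.ChiAssoc.chi_of_subsingleton_right _ _
        · exact Groth.Agent.Lib.Helper85.ChiAssoc.chi_of_subsingleton_right _ _
      rw [h6, zero_mul]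
    · rw [if_neg h3]

end Groth.Agent.Lib.Helper85.FlatPullGeom
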