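import Mathlib
import Groth.Agent.Lib.Helper85.IntMult.FlatPullGeom
import Groth.Agent.Lib.Helper55.StalkPoints

/-!
# Flat pullback of the cycle of a coherent module (helper85)
-/

set_option autoImplicit false
set_option linter.style.haveILetI false
set_option linter.unusedSectionVars false
universe u

namespace Groth.Agent.Lib.Helper85.PullSheafFun

open AlgebraicGeometry CategoryTheory TensorProduct Topology
open Groth.Agent.Lib.Helper85.FlatPullGeom

variable {X Y : Scheme.{u}} (f : X ⟶ Y)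

/-- the length of the stalk of a flat pullback -/
theorem length_stalk_pullback [Flat f] (F : Y.Modules) (x : X) :
    Module.length (X.presheaf.stalk x)
        (((Scheme.Modules.pullback f).obj F).presheaf.stalk x) =
      Module.length (Y.presheaf.stalk (f x)) (F.presheaf.stalk (f x)) *
        Module.length (X.presheaf.stalk x)
          (X.presheaf.stalk x ⧸ Ideal.map (f.stalkMap x).hom
            (IsLocalRing.maximalIdeal (Y.presheaf.stalk (f x)))) := by
  letI := (f.stalkMap x).hom.toAlgebra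
  obtain ⟨eF⟩ := nonempty_stalk_pullback_equiv f F x
  have hflat : Module.Flat (Y.presheaf.stalk (f x)) (X.presheaf.stalk x) :=
    (RingHom.flat_algebraMap_iff).mp (Flat.stalkMap f x)
  have hloc : IsLocalHom (algebraMap (Y.presheaf.stalk (f x)) (X.presheaf.stalk x)) :=
    inferInstanceAs (IsLocalHom (f.stalkMap x).hom)
  rw [eF.length_eq]
  exact IsLocalRing.length_baseChange (Y.presheaf.stalk (f x)) (X.presheaf.stalk x)
    (F.presheaf.stalk (f x))

/-- **flat pullback of `[F]_k`** -/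
theorem pullFun_sheafFun_eq [Flat f] (δX : X → ℤ) (δY : Y → ℤ) (c k : ℤ) (F : Y.Modules)
    (hle : ∀ x : X, Nontrivial (F.presheaf.stalk (f x)) → δX x ≤ δY (f x) + c)
    (hdim : ∀ y : Y, Nontrivial (F.presheaf.stalk y) → δY y ≤ k) :
    Cyc.pullFun f δX δY c (Cyc.sheafFun δY k F) =
      Cyc.sheafFun δX (k + c) ((Scheme.Modules.pullback f).obj F) := by
  funext x
  unfold Cyc.pullFun Cyc.sheafFun
  simp only
  rw [length_stalk_pullback f F x, ENat.toNat_mul]
  by_cases h1 : δX x = δY (f x) + c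
  · rw [if_pos h1]
    by_cases h2 : δY (f x) = k
    · rw [if_pos h2, if_pos (by omega)]
      push_cast
      rfl
    · rw [if_neg h2, if_neg (by omega), zero_mul]
  · rw [if_neg h1]
    by_cases h3 : δX x = k + c
    · rw [if_pos h3]
      have h4 : ¬ Nontrivial (F.presheaf.stalk (f x)) := by
        intro hnt
        have h5 := hle x hnt
        have h6 := hdim _ hnt
        omega
      rw [not_nontrivial_iff_subsingleton] at h4
      rw [Module.length_eq_zero_iff.mpr h4]
      simp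
    · rw [if_neg h3]

end Groth.Agent.Lib.Helper85.PullSheafFun

namespace Groth.Agent.Lib.Helper85.PullSheafFun

open AlgebraicGeometry CategoryTheory Groth.Agent.Lib.Helper55

variable {X Y : Scheme.{u}} (f : X ⟶ Y)

/-- every point has a generalization in its fibre which is maximal under generalization there -/
theorem exists_maximal_generalization_in_fibre (x : X) :
    ∃ x' : X, x' ⤳ x ∧ f x' = f x ∧ ∀ y : X, f y = f x' → y ⤳ x' → y = x' := by
  set I : Ideal (X.presheaf.stalk x) :=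
    Ideal.map (f.stalkMap x).hom (IsLocalRing.maximalIdeal (Y.presheaf.stalk (f x))) with hI
  have hIne : I ≠ ⊤ := by
    have hloc : IsLocalHom (f.stalkMap x).hom := inferInstance
    have h1 : I ≤ IsLocalRing.maximalIdeal (X.presheaf.stalk x) :=
      ((IsLocalRing.local_hom_TFAE (f.stalkMap x).hom).out 0 2).mp hloc
    intro h
    rw [h] at h1
    exact (IsLocalRing.maximalIdeal.isMaximal _).ne_top (top_le_iff.mp h1)
  obtain ⟨M, hM, hIM⟩ := Ideal.exists_le_maximal I hIne
  obtain ⟨𝔮, h𝔮min, -⟩ := Ideal.exists_minimalPrimes_le (I := I) (J := M) hIM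
  have h𝔮prime : 𝔮.IsPrime := h𝔮min.1.1
  have hI𝔮 : I ≤ 𝔮 := h𝔮min.1.2
  -- primes over `I` lie over the closed point
  have key : ∀ 𝔯 : PrimeSpectrum (X.presheaf.stalk x), I ≤ 𝔯.asIdeal →
      f (stalkPoint x 𝔯) = f x := by
    intro 𝔯 h𝔯
    rw [← stalkPoint_comap f x 𝔯]
    have h1 : PrimeSpectrum.comap (f.stalkMap x).hom 𝔯 =
        IsLocalRing.closedPoint (Y.presheaf.stalk (f x)) := by
      apply PrimeSpectrum.ext
      have h2 : IsLocalRing.maximalIdeal (Y.presheaf.stalk (f x)) ≤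
          (PrimeSpectrum.comap (f.stalkMap x).hom 𝔯).asIdeal := by
        intro a ha
        exact h𝔯 (Ideal.mem_map_of_mem _ ha)
      exact ((IsLocalRing.maximalIdeal.isMaximal _).eq_of_le
        (PrimeSpectrum.comap (f.stalkMap x).hom 𝔯).2.ne_top h2).symm
    rw [h1]
    exact Scheme.fromSpecStalk_closedPoint
  have key' : ∀ 𝔯 : PrimeSpectrum (X.presheaf.stalk x), f (stalkPoint x 𝔯) = f x →
      I ≤ 𝔯.asIdeal := by
    intro 𝔯 h𝔯
    rw [← stalkPoint_comap f x 𝔯] at h𝔯
    have h1 : stalkPoint (f x) (PrimeSpectrum.comap (f.stalkMap x).hom 𝔯) =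
        stalkPoint (f x) (IsLocalRing.closedPoint (Y.presheaf.stalk (f x))) := by
      rw [h𝔯]
      exact (Scheme.fromSpecStalk_closedPoint (X := Y) (x := f x)).symm
    have h2 := stalkPoint_injective (f x) h1
    rw [hI, Ideal.map_le_iff_le_comap]
    intro a ha
    have h3 : a ∈ (PrimeSpectrum.comap (f.stalkMap x).hom 𝔯).asIdeal := by
      rw [h2]; exact ha
    exact h3
  refine ⟨stalkPoint x ⟨𝔮, h𝔮prime⟩, stalkPoint_specializes x _, key ⟨𝔮, h𝔮prime⟩ hI𝔮, ?_⟩
  intro y hy hyx
  obtain ⟨𝔯, rfl⟩ := exists_stalkPoint_eq x y (hyx.trans (stalkPoint_specializes x _))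
  rw [key ⟨𝔮, h𝔮prime⟩ hI𝔮] at hy
  have h1 : I ≤ 𝔯.asIdeal := key' 𝔯 hy
  have h2 : 𝔯 ≤ ⟨𝔮, h𝔮prime⟩ := (stalkPoint_specializes_iff x 𝔯 ⟨𝔮, h𝔮prime⟩).mp hyx
  have h3 : 𝔮 ≤ 𝔯.asIdeal := h𝔮min.2 ⟨𝔯.2, h1⟩ h2
  have h4 : 𝔯 = ⟨𝔮, h𝔮prime⟩ := PrimeSpectrum.ext (le_antisymm h2 h3)
  rw [h4]

end Groth.Agent.Lib.Helper85.PullSheafFun
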