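import Mathlib
import Groth.Prelude.Def_Cyc
import Groth.Agent.Lib.Helper85.IntMult.DivPullAlg
import Groth.Agent.Lib.Helper85.IntMult.DivPullDict
import Groth.Agent.Lib.Helper85.IntMult.PullSheafFun

/-!
# Flat pullback of a principal divisor (helper85)

For a flat morphism `p : X' ⟶ X` between schemes with dimension functions `δ'`, `δ` such that
`δ' x' = δ (p x') + c` at the generic points of the fibres, a point `ξ` of `X` and a nonzero
`g ∈ κ(ξ)`:  `p^* div_ξ(g) = ∑_{ξ'} n_{ξ'} div_{ξ'}(g)`, the sum over the generic points `ξ'` of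
the fibre over `ξ`, with `n_{ξ'}` the length of the local ring of the fibre at `ξ'`.
-/

set_option autoImplicit false
set_option linter.style.haveILetI false
set_option linter.unusedSectionVars false
universe u

namespace Groth.Agent.Lib.Helper85.DivPull

open AlgebraicGeometry CategoryTheory IsLocalRing Groth.Agent.Lib.Helper55
open Groth.Agent.Lib.Helper85.DivPullAlg Groth.Agent.Lib.Helper85.DivPullDict
open Groth.Agent.Lib.Helper85.PullSheafFun

variable {X X' : Scheme.{u}} (p : X' ⟶ X)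

/-- `x'` is a generic point of (an irreducible component of) its fibre -/
def GenFib (x' : X') : Prop := ∀ y : X', p y = p x' → y ⤳ x' → y = x'

/-- the length of the local ring of the fibre at `x'` -/
noncomputable def fibMult (x' : X') : ℕ :=
  (Module.length (X'.presheaf.stalk x')
    (X'.presheaf.stalk x' ⧸ Ideal.map (p.stalkMap x').hom
      (maximalIdeal (X.presheaf.stalk (p x'))))).toNat

theorem genFib_of_delta_eq (δ : X → ℤ) (δ' : X' → ℤ) (hdim' : Cyc.IsDimFun X' δ') (c : ℤ)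
    (hc : ∀ x' : X', GenFib p x' → δ' x' = δ (p x') + c) (x' : X')
    (h : δ' x' = δ (p x') + c) : GenFib p x' := by
  obtain ⟨ζ, hζx, hpζ, hζ⟩ := exists_maximal_generalization_in_fibre p x'
  have h1 : δ' ζ = δ (p ζ) + c := hc ζ hζ
  by_cases hne : ζ = x'
  · rw [← hne]; exact hζ
  · have h2 := (hdim' ζ x' hζx hne).1
    rw [hpζ] at h1
    omega

/-- primes of `O_{X',x'}` over `𝔪 O_{X',x'}` correspond to generizations in the fibre -/
theorem map_stalkPoint_eq_of_le (x' : X') (Q : PrimeSpectrum (X'.presheaf.stalk x'))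
    (hQ : Ideal.map (p.stalkMap x').hom (maximalIdeal (X.presheaf.stalk (p x'))) ≤ Q.asIdeal) :
    p (stalkPoint x' Q) = p x' := by
  rw [← stalkPoint_comap p x' Q]
  have h1 : PrimeSpectrum.comap (p.stalkMap x').hom Q =
      IsLocalRing.closedPoint (X.presheaf.stalk (p x')) := by
    apply PrimeSpectrum.ext
    have h2 : IsLocalRing.maximalIdeal (X.presheaf.stalk (p x')) ≤
        (PrimeSpectrum.comap (p.stalkMap x').hom Q).asIdeal := by
      intro a ha
      exact hQ (Ideal.mem_map_of_mem _ ha)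
    exact ((IsLocalRing.maximalIdeal.isMaximal _).eq_of_le
      (PrimeSpectrum.comap (p.stalkMap x').hom Q).2.ne_top h2).symm
  rw [h1]
  exact Scheme.fromSpecStalk_closedPoint

theorem stalkPoint_closedPoint (x' : X') :
    stalkPoint x' (IsLocalRing.closedPoint (X'.presheaf.stalk x')) = x' :=
  Scheme.fromSpecStalk_closedPoint

theorem length_fibre_ne_top [IsLocallyNoetherian X'] (x' : X') (hx' : GenFib p x') :
    Module.length (X'.presheaf.stalk x')
      (X'.presheaf.stalk x' ⧸ Ideal.map (p.stalkMap x').hom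
        (maximalIdeal (X.presheaf.stalk (p x')))) ≠ ⊤ := by
  set J := Ideal.map (p.stalkMap x').hom (maximalIdeal (X.presheaf.stalk (p x'))) with hJ
  have hmax : ∀ Q : Ideal (X'.presheaf.stalk x'), Q.IsPrime → J ≤ Q → Q.IsMaximal := by
    intro Q hQ hJQ
    have h1 := map_stalkPoint_eq_of_le p x' ⟨Q, hQ⟩ hJQ
    have h2 := hx' _ h1 (stalkPoint_specializes x' ⟨Q, hQ⟩)
    have h3 : (⟨Q, hQ⟩ : PrimeSpectrum (X'.presheaf.stalk x')) =
        IsLocalRing.closedPoint (X'.presheaf.stalk x') :=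
      stalkPoint_injective x' (h2.trans (stalkPoint_closedPoint x').symm)
    have h4 : Q = maximalIdeal (X'.presheaf.stalk x') := congrArg PrimeSpectrum.asIdeal h3
    rw [h4]
    infer_instance
  haveI : IsArtinianRing (X'.presheaf.stalk x' ⧸ J) := by
    rw [isArtinianRing_iff_krullDimLE_zero, Ring.krullDimLE_zero_iff]
    intro q hq
    have hsurj : Function.Surjective (Ideal.Quotient.mk J) := Ideal.Quotient.mk_surjective
    haveI : (q.comap (Ideal.Quotient.mk J)).IsPrime := Ideal.comap_isPrime _ q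
    have hle : J ≤ q.comap (Ideal.Quotient.mk J) := by
      intro a ha
      rw [Ideal.mem_comap, Ideal.Quotient.eq_zero_iff_mem.mpr ha]
      exact q.zero_mem
    have hm := hmax _ inferInstance hle
    rw [← Ideal.map_comap_of_surjective _ hsurj q]
    exact (Ideal.map_eq_top_or_isMaximal_of_surjective _ hsurj hm).resolve_left (by
      rw [Ideal.map_comap_of_surjective _ hsurj q]; exact hq.ne_top)
  rw [Module.length_eq_of_surjective (S := X'.presheaf.stalk x')
    (R := X'.presheaf.stalk x' ⧸ J) (M := X'.presheaf.stalk x' ⧸ J) Ideal.Quotient.mk_surjective]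
  exact Module.length_ne_top

section ordAt

variable {Z : Scheme.{u}}

theorem krullDimLE_locQuot [IsLocallyNoetherian Z] (δ : Z → ℤ) (hdim : Cyc.IsDimFun Z δ)
    {x ξ : Z} (h : ξ ⤳ x) (h1 : δ x + 1 = δ ξ) : Ring.KrullDimLE 1 (Cyc.LocQuot x ξ h) := by
  rw [Ring.krullDimLE_iff,
    Groth.Agent.Lib.Helper89.DimFunJacobson.ringKrullDim_locQuot Z δ hdim h]
  have h2 : (δ ξ - δ x).toNat = 1 := by omega
  rw [h2]

/-- the order of a fraction along an immediate specialization, as a difference of lengths -/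
theorem ordAt_div [IsLocallyNoetherian Z] (δ : Z → ℤ) (hdim : Cyc.IsDimFun Z δ)
    {x ξ : Z} (h : ξ ⤳ x) (h1 : δ x + 1 = δ ξ) (a b : Z.presheaf.stalk x)
    (ha : a ∉ RingHom.ker (Cyc.specMap x ξ h)) (hb : b ∉ RingHom.ker (Cyc.specMap x ξ h)) :
    Cyc.ordAt x ξ h (Cyc.specMap x ξ h a / Cyc.specMap x ξ h b) =
      (((Module.length (Z.presheaf.stalk x) (Z.presheaf.stalk x ⧸
          (RingHom.ker (Cyc.specMap x ξ h) ⊔ Ideal.span {a}))).toNat : ℕ) : ℤ) -
        (((Module.length (Z.presheaf.stalk x) (Z.presheaf.stalk x ⧸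
          (RingHom.ker (Cyc.specMap x ξ h) ⊔ Ideal.span {b}))).toNat : ℕ) : ℤ) := by
  have hK := krullDimLE_locQuot δ hdim h h1
  exact ordFrac_quot_div (RingHom.ker (Cyc.specMap x ξ h)) hK (Z.residueField ξ) a b ha hb

/-- the order of the image of a unit is zero -/
theorem ordAt_specMap_of_isUnit {x ξ : Z} (h : ξ ⤳ x) (a : Z.presheaf.stalk x) (ha : IsUnit a) :
    Cyc.ordAt x ξ h (Cyc.specMap x ξ h a) = 0 :=
  ordFrac_algebraMap_of_isUnit (Cyc.LocQuot x ξ h) (Z.residueField ξ)
    (Ideal.Quotient.mk (RingHom.ker (Cyc.specMap x ξ h)) a) (ha.map _)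

/-- `specMap` along a trivial specialization is the residue map -/
theorem specMap_of_eq {x ξ : Z} (e : x = ξ) (h : ξ ⤳ x) (a : Z.presheaf.stalk x) :
    Cyc.specMap x ξ h a = (Z.residueFieldCongr e).hom ((Z.residue x).hom a) := by
  subst e
  unfold Cyc.specMap
  rw [TopCat.Presheaf.stalkSpecializes_refl, Category.id_comp]
  simp

end ordAt

open Classical in
/-- the restriction of `g ∈ κ(ξ)` to `κ(ξ')` for `ξ'` over `ξ` (and `0` for other points) -/
noncomputable def resFun (ξ : X) (g : X.residueField ξ) (ξ' : X') : X'.residueField ξ' :=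
  if hh : p ξ' = ξ then (p.residueFieldMap ξ').hom ((X.residueFieldCongr hh.symm).hom g) else 0

theorem resFun_of_eq (ξ : X) (g : X.residueField ξ) (ξ' : X') (hh : p ξ' = ξ) :
    resFun p ξ g ξ' = (p.residueFieldMap ξ').hom ((X.residueFieldCongr hh.symm).hom g) := by
  unfold resFun
  rw [dif_pos hh]

theorem resFun_div {x' ξ' : X'} (h' : ξ' ⤳ x') (ξ : X) (hξ : p ξ' = ξ) (hξx : ξ ⤳ p x')
    (a b : X.presheaf.stalk (p x')) :
    resFun p ξ (Cyc.specMap (p x') ξ hξx a / Cyc.specMap (p x') ξ hξx b) ξ' =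
      Cyc.specMap x' ξ' h' ((p.stalkMap x').hom a) /
        Cyc.specMap x' ξ' h' ((p.stalkMap x').hom b) := by
  subst hξ
  rw [resFun_of_eq p _ _ ξ' rfl]
  have h0 : (X.residueFieldCongr (rfl : p ξ' = p ξ')).hom = 𝟙 _ := by
    simp [Scheme.residueFieldCongr]
  rw [h0]
  simp only [CommRingCat.hom_id, RingHom.id_apply]
  rw [map_div₀, residueFieldMap_specMap p h' a, residueFieldMap_specMap p h' b]

section corr

variable (δ : X → ℤ) (δ' : X' → ℤ) (hdim : Cyc.IsDimFun X δ) (hdim' : Cyc.IsDimFun X' δ')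
  (c : ℤ) (hc : ∀ x' : X', GenFib p x' → δ' x' = δ (p x') + c)

include hdim hdim' hc in
/-- in the main case the primes `q ≠ 𝔪` over `𝔭_ξ O_{X',x'}` are exactly the generic points of the
fibre over `ξ` specializing to `x'` -/
theorem mem_T_iff (x' : X') (ξ : X) (hξx : ξ ⤳ p x') (hgen : GenFib p x')
    (h1 : δ' x' = δ (p x') + c) (h2 : δ (p x') + 1 = δ ξ)
    (q : PrimeSpectrum (X'.presheaf.stalk x')) :
    (Ideal.map (p.stalkMap x').hom (RingHom.ker (Cyc.specMap (p x') ξ hξx)) ≤ q.asIdeal ∧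
        q.asIdeal ≠ maximalIdeal (X'.presheaf.stalk x')) ↔
      (p (stalkPoint x' q) = ξ ∧ GenFib p (stalkPoint x' q)) := by
  have hne : ξ ≠ p x' := by
    intro h
    rw [h] at h2
    omega
  constructor
  · rintro ⟨hle, hqm⟩
    -- the image point
    set P' := PrimeSpectrum.comap (p.stalkMap x').hom q with hP'
    have hpq : p (stalkPoint x' q) = stalkPoint (p x') P' := (stalkPoint_comap p x' q).symm
    have hPP' : (⟨RingHom.ker (Cyc.specMap (p x') ξ hξx), RingHom.ker_isPrime _⟩ :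
        PrimeSpectrum (X.presheaf.stalk (p x'))) ≤ P' := by
      intro a ha
      exact hle (Ideal.mem_map_of_mem _ ha)
    have hs1 : ξ ⤳ stalkPoint (p x') P' := by
      rw [← stalkPoint_ker_specMap hξx]
      exact (stalkPoint_specializes_iff (p x') _ _).mpr hPP'
    have hs2 : stalkPoint (p x') P' ⤳ p x' := stalkPoint_specializes (p x') P'
    have hζ' : stalkPoint x' q ≠ x' := by
      intro h
      apply hqm
      have h3 : q = IsLocalRing.closedPoint (X'.presheaf.stalk x') :=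
        stalkPoint_injective x' (h.trans (stalkPoint_closedPoint x').symm)
      rw [h3]
      rfl
    have hpξ : p (stalkPoint x' q) = ξ := by
      rw [hpq]
      by_contra hcon
      by_cases hx : stalkPoint (p x') P' = p x'
      · apply hζ'
        exact hgen _ (hpq.trans hx) (stalkPoint_specializes x' q)
      · have e1 := (hdim _ _ hs1 (Ne.symm hcon)).1
        have e2 := (hdim _ _ hs2 hx).1
        omega
    refine ⟨hpξ, ?_⟩
    obtain ⟨ζ, hζs, hpζ, hζ⟩ := exists_maximal_generalization_in_fibre p (stalkPoint x' q)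
    have e1 : δ' ζ = δ (p ζ) + c := hc ζ hζ
    rw [hpζ, hpξ] at e1
    have e2 := (hdim' _ _ (stalkPoint_specializes x' q) hζ').1
    by_cases hζeq : ζ = stalkPoint x' q
    · rw [← hζeq]; exact hζ
    · have e3 := (hdim' _ _ hζs hζeq).1
      omega
  · rintro ⟨hpξ, hgenq⟩
    have hcomap : PrimeSpectrum.comap (p.stalkMap x').hom q =
        ⟨RingHom.ker (Cyc.specMap (p x') ξ hξx), RingHom.ker_isPrime _⟩ := by
      apply stalkPoint_injective (p x')
      rw [stalkPoint_comap p x' q, hpξ, stalkPoint_ker_specMap hξx]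
    constructor
    · rw [Ideal.map_le_iff_le_comap]
      intro a ha
      have : a ∈ (PrimeSpectrum.comap (p.stalkMap x').hom q).asIdeal := by
        rw [hcomap]; exact ha
      exact this
    · intro hqm
      have h3 : q = IsLocalRing.closedPoint (X'.presheaf.stalk x') := PrimeSpectrum.ext hqm
      rw [h3, stalkPoint_closedPoint] at hpξ
      exact hne hpξ.symm

include hdim hdim' hc in
theorem comap_eq_of_mem_T (x' : X') (ξ : X) (hξx : ξ ⤳ p x') (hgen : GenFib p x')
    (h1 : δ' x' = δ (p x') + c) (h2 : δ (p x') + 1 = δ ξ)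
    (q : PrimeSpectrum (X'.presheaf.stalk x'))
    (hq : Ideal.map (p.stalkMap x').hom (RingHom.ker (Cyc.specMap (p x') ξ hξx)) ≤ q.asIdeal ∧
        q.asIdeal ≠ maximalIdeal (X'.presheaf.stalk x')) :
    Ideal.comap (p.stalkMap x').hom q.asIdeal = RingHom.ker (Cyc.specMap (p x') ξ hξx) := by
  have h := (mem_T_iff p δ δ' hdim hdim' c hc x' ξ hξx hgen h1 h2 q).mp hq
  have hcomap : PrimeSpectrum.comap (p.stalkMap x').hom q =
      ⟨RingHom.ker (Cyc.specMap (p x') ξ hξx), RingHom.ker_isPrime _⟩ := by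
    apply stalkPoint_injective (p x')
    rw [stalkPoint_comap p x' q, h.1, stalkPoint_ker_specMap hξx]
  exact congrArg PrimeSpectrum.asIdeal hcomap

end corr

section main

theorem finsum_mem_sub_distrib' {α : Type*} (s : Set α) (f g : α → ℤ)
    (hf : (s ∩ Function.support f).Finite) (hg : (s ∩ Function.support g).Finite) :
    ∑ᶠ i ∈ s, (f i - g i) = ∑ᶠ i ∈ s, f i - ∑ᶠ i ∈ s, g i := by
  have hfg : (s ∩ Function.support fun i => f i - g i).Finite := by
    refine (hf.union hg).subset ?_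
    rintro i ⟨hi, hsupp⟩
    by_cases h0 : f i = 0
    · right
      refine ⟨hi, ?_⟩
      rw [Function.mem_support] at hsupp ⊢
      intro hg0
      apply hsupp
      rw [h0, hg0, sub_zero]
    · left
      exact ⟨hi, h0⟩
  have h := finsum_mem_add_distrib' hg hfg
  simp only [add_sub_cancel] at h
  rw [h]
  ring

theorem locLen_congr {B : Type u} [CommRing B] (M : Type u) [AddCommGroup M] [Module B M]
    (I J : Ideal B) [I.IsPrime] [J.IsPrime] (e : I = J) :
    Module.length (Localization.AtPrime I) (LocalizedModule I.primeCompl M) =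
      Module.length (Localization.AtPrime J) (LocalizedModule J.primeCompl M) := by
  subst e
  rfl

variable [Flat p] (δ : X → ℤ) (δ' : X' → ℤ) (hX : Cyc.IsSetup X δ) (hX' : Cyc.IsSetup X' δ')
  (c : ℤ) (hc : ∀ x' : X', GenFib p x' → δ' x' = δ (p x') + c)

include hX hX' hc in
theorem main_case (x' : X') (ξ : X) (hξx : ξ ⤳ p x') (h1 : δ' x' = δ (p x') + c)
    (h2 : δ (p x') + 1 = δ ξ) (g : X.residueField ξ) (hg : g ≠ 0) :
    Cyc.ordAt (p x') ξ hξx g * (fibMult p x' : ℤ) =
      ∑ᶠ ξ' : {ξ' : X' // p ξ' = ξ ∧ GenFib p ξ'},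
        (fibMult p ξ'.1 : ℤ) * Cyc.divFun δ' ξ'.1
          ((p.residueFieldMap ξ'.1).hom ((X.residueFieldCongr ξ'.2.1.symm).hom g)) x' := by
  obtain ⟨hN, -, hdim⟩ := hX
  obtain ⟨hN', -, hdim'⟩ := hX'
  haveI := hN
  haveI := hN'
  have hgen : GenFib p x' := genFib_of_delta_eq p δ δ' hdim' c hc x' h1
  have hfinB := length_fibre_ne_top p x' hgen
  obtain ⟨a, b, hb, hgab⟩ := exists_specMap_div hξx g
  have ha : a ∉ RingHom.ker (Cyc.specMap (p x') ξ hξx) := by
    intro ha
    apply hg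
    rw [hgab, RingHom.mem_ker.mp ha, zero_div]
  have hK := krullDimLE_locQuot δ hdim hξx h2
  have hfinA : ∀ t : X.presheaf.stalk (p x'), t ∉ RingHom.ker (Cyc.specMap (p x') ξ hξx) →
      Module.length (X.presheaf.stalk (p x')) (X.presheaf.stalk (p x') ⧸
        (RingHom.ker (Cyc.specMap (p x') ξ hξx) ⊔ Ideal.span {t})) ≠ ⊤ := by
    intro t ht
    rw [← Groth.Agent.Lib.Helper79.LenMult.ord_eq_length_sup]
    exact Ring.ord_ne_top (mem_nonZeroDivisors_of_ne_zero
      (fun h0 => ht (Ideal.Quotient.eq_zero_iff_mem.mp h0)))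
  rw [hgab, ordAt_div δ hdim hξx h2 a b ha hb]
  -- the algebraic identity
  letI := (p.stalkMap x').hom.toAlgebra
  have hflat : Module.Flat (X.presheaf.stalk (p x')) (X'.presheaf.stalk x') :=
    (RingHom.flat_algebraMap_iff).mp (Flat.stalkMap p x')
  have hloc : IsLocalHom (algebraMap (X.presheaf.stalk (p x')) (X'.presheaf.stalk x')) :=
    inferInstanceAs (IsLocalHom (p.stalkMap x').hom)
  obtain ⟨hfa, hea⟩ := core_int (B := X'.presheaf.stalk x')
    (RingHom.ker (Cyc.specMap (p x') ξ hξx)) a ha (hfinA a ha) hfinB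
  obtain ⟨hfb, heb⟩ := core_int (B := X'.presheaf.stalk x')
    (RingHom.ker (Cyc.specMap (p x') ξ hξx)) b hb (hfinA b hb) hfinB
  set P := RingHom.ker (Cyc.specMap (p x') ξ hξx) with hP
  set T : Set (PrimeSpectrum (X'.presheaf.stalk x')) :=
    {q | q ∈ Module.support (X'.presheaf.stalk x') (X'.presheaf.stalk x' ⧸
        Ideal.map (algebraMap (X.presheaf.stalk (p x')) (X'.presheaf.stalk x')) P) ∧
      q.asIdeal ≠ maximalIdeal (X'.presheaf.stalk x')} with hT
  have hTmem : ∀ q : PrimeSpectrum (X'.presheaf.stalk x'), q ∈ T ↔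
      (Ideal.map (p.stalkMap x').hom P ≤ q.asIdeal ∧
        q.asIdeal ≠ maximalIdeal (X'.presheaf.stalk x')) := by
    intro q
    rw [hT, Set.mem_ofPred_eq, Module.mem_support_iff_of_finite, Ideal.annihilator_quotient]
    rfl
  set F : X' → ℤ := fun ξ' => (fibMult p ξ' : ℤ) * Cyc.divFun δ' ξ'
    (resFun p ξ (Cyc.specMap (p x') ξ hξx a / Cyc.specMap (p x') ξ hξx b) ξ') x' with hF
  have hS1 : (∑ᶠ ξ' : {ξ' : X' // p ξ' = ξ ∧ GenFib p ξ'},
        (fibMult p ξ'.1 : ℤ) * Cyc.divFun δ' ξ'.1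
          ((p.residueFieldMap ξ'.1).hom ((X.residueFieldCongr ξ'.2.1.symm).hom
            (Cyc.specMap (p x') ξ hξx a / Cyc.specMap (p x') ξ hξx b))) x') =
      ∑ᶠ (ξ' : X') (_ : p ξ' = ξ ∧ GenFib p ξ'), F ξ' := by
    rw [← finsum_subtype_eq_finsum_cond]
    apply finsum_congr
    intro ξ'
    rw [hF]
    simp only
    rw [resFun_of_eq p ξ _ ξ'.1 ξ'.2.1]
  have hS2 : (∑ᶠ (ξ' : X') (_ : p ξ' = ξ ∧ GenFib p ξ'), F ξ') =
      ∑ᶠ ξ' ∈ stalkPoint x' '' T, F ξ' := by
    apply finsum_mem_inter_support_eq' F {ξ' : X' | p ξ' = ξ ∧ GenFib p ξ'}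
    intro ξ' hξ'
    have hspec : ξ' ⤳ x' := by
      by_contra hns
      apply hξ'
      rw [hF]
      simp only
      unfold Cyc.divFun
      rw [dif_neg (fun h => hns h.1), mul_zero]
    obtain ⟨q, rfl⟩ := exists_stalkPoint_eq x' ξ' hspec
    constructor
    · intro hC
      exact ⟨q, (hTmem q).mpr
        ((mem_T_iff p δ δ' hdim hdim' c hc x' ξ hξx hgen h1 h2 q).mpr hC), rfl⟩
    · rintro ⟨q', hq', hqq'⟩
      have := stalkPoint_injective x' hqq'
      subst this
      exact (mem_T_iff p δ δ' hdim hdim' c hc x' ξ hξx hgen h1 h2 q').mp ((hTmem q').mp hq')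
  have hS3 : (∑ᶠ ξ' ∈ stalkPoint x' '' T, F ξ') = ∑ᶠ q ∈ T, F (stalkPoint x' q) :=
    finsum_mem_image (stalkPoint_injective x').injOn
  have hS4 : ∀ q ∈ T, F (stalkPoint x' q) =
      ((((Module.length (X'.presheaf.stalk x') (X'.presheaf.stalk x' ⧸
          (q.asIdeal ⊔ Ideal.span {algebraMap (X.presheaf.stalk (p x'))
            (X'.presheaf.stalk x') a}))).toNat : ℕ) : ℤ) *
        (((Module.length (Localization.AtPrime q.asIdeal)
            (LocalizedModule q.asIdeal.primeCompl (X'.presheaf.stalk x' ⧸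
              Ideal.map (algebraMap (X.presheaf.stalk (p x')) (X'.presheaf.stalk x'))
                P))).toNat : ℕ) : ℤ)) -
      ((((Module.length (X'.presheaf.stalk x') (X'.presheaf.stalk x' ⧸
          (q.asIdeal ⊔ Ideal.span {algebraMap (X.presheaf.stalk (p x'))
            (X'.presheaf.stalk x') b}))).toNat : ℕ) : ℤ) *
        (((Module.length (Localization.AtPrime q.asIdeal)
            (LocalizedModule q.asIdeal.primeCompl (X'.presheaf.stalk x' ⧸
              Ideal.map (algebraMap (X.presheaf.stalk (p x')) (X'.presheaf.stalk x'))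
                P))).toNat : ℕ) : ℤ)) := by
    intro q hqT
    have hq := (hTmem q).mp hqT
    have hC := (mem_T_iff p δ δ' hdim hdim' c hc x' ξ hξx hgen h1 h2 q).mp hq
    have hcomap : Ideal.comap (p.stalkMap x').hom q.asIdeal = P :=
      comap_eq_of_mem_T p δ δ' hdim hdim' c hc x' ξ hξx hgen h1 h2 q hq
    have h' := stalkPoint_specializes x' q
    have hker : RingHom.ker (Cyc.specMap x' (stalkPoint x' q) h') = q.asIdeal :=
      ker_specMap_stalkPoint x' q
    have hδ : δ' x' + 1 = δ' (stalkPoint x' q) := by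
      have e1 := hc _ hC.2
      rw [hC.1] at e1
      omega
    rw [hF]
    simp only
    unfold Cyc.divFun
    rw [dif_pos ⟨h', hδ⟩, resFun_div p h' ξ hC.1 hξx a b]
    have hφa : (p.stalkMap x').hom a ∉ RingHom.ker (Cyc.specMap x' (stalkPoint x' q) h') := by
      rw [hker]
      intro hh
      apply ha
      rw [← hcomap]
      exact hh
    have hφb : (p.stalkMap x').hom b ∉ RingHom.ker (Cyc.specMap x' (stalkPoint x' q) h') := by
      rw [hker]
      intro hh
      apply hb
      rw [← hcomap]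
      exact hh
    rw [ordAt_div δ' hdim' h' hδ _ _ hφa hφb]
    have hn : (fibMult p (stalkPoint x' q) : ℤ) =
        (((Module.length (Localization.AtPrime q.asIdeal)
            (LocalizedModule q.asIdeal.primeCompl (X'.presheaf.stalk x' ⧸
              Ideal.map (algebraMap (X.presheaf.stalk (p x')) (X'.presheaf.stalk x'))
                P))).toNat : ℕ) : ℤ) := by
      unfold fibMult
      rw [length_fibre_eq p h']
      have hP' : RingHom.ker (Cyc.specMap (p x') (p (stalkPoint x' q)) (h'.map p.continuous)) =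
          P := by
        rw [← comap_ker_specMap p h', hker, hcomap]
      rw [hP']
      exact congrArg (fun l : ℕ∞ => ((l.toNat : ℕ) : ℤ)) (locLen_congr _ _ _ hker)
    rw [hn, hker]
    show _ = _ * _ - _ * _
    ring_nf
    rfl
  rw [hS1, hS2, hS3, finsum_mem_congr rfl hS4, finsum_mem_sub_distrib' T _ _ hfa hfb,
    ← hea, ← heb]
  unfold fibMult
  ring_nf
  rfl

theorem ordAt_res_of_eq (x' ξ' : X') (h' : ξ' ⤳ x') (e : p ξ' = p x')
    (g : X.residueField (p x')) (hg : g ≠ 0) :
    Cyc.ordAt x' ξ' h' ((p.residueFieldMap ξ').hom ((X.residueFieldCongr e.symm).hom g)) = 0 := by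
  obtain ⟨u, rfl⟩ := Scheme.residue_surjective X (p x') g
  have hu : IsUnit u := by
    by_contra hnu
    apply hg
    exact (IsLocalRing.residue_eq_zero_iff u).mpr ((IsLocalRing.mem_maximalIdeal u).mpr hnu)
  rw [← specMap_of_eq e.symm (h'.map p.continuous) u, residueFieldMap_specMap p h' u]
  exact ordAt_specMap_of_isUnit h' _ (hu.map _)

include hX hX' hc in
theorem other_case (x' : X') (ξ : X) (g : X.residueField ξ) (hg : g ≠ 0)
    (hnot : ¬ (δ' x' = δ (p x') + c ∧ ξ ⤳ p x' ∧ δ (p x') + 1 = δ ξ))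
    (ξ' : X') (hξ' : p ξ' = ξ) (hgen' : GenFib p ξ') :
    Cyc.divFun δ' ξ' ((p.residueFieldMap ξ').hom ((X.residueFieldCongr hξ'.symm).hom g)) x' =
      0 := by
  obtain ⟨hN, -, hdim⟩ := hX
  obtain ⟨hN', -, hdim'⟩ := hX'
  unfold Cyc.divFun
  split_ifs with hh
  · obtain ⟨h', hδ⟩ := hh
    have hξx : ξ ⤳ p x' := hξ' ▸ h'.map p.continuous
    by_cases hxx : ξ = p x'
    · subst hxx
      exact ordAt_res_of_eq p x' ξ' h' hξ' g hg
    · exfalso
      apply hnot
      have e1 := (hdim ξ (p x') hξx hxx).1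
      obtain ⟨ζ, hζs, hpζ, hζ⟩ := exists_maximal_generalization_in_fibre p x'
      have e2 := hc ζ hζ
      rw [hpζ] at e2
      have e3 := Groth.Agent.Lib.Helper89.DimFunJacobson.delta_le_of_specializes X' δ' hdim' hζs
      have e4 := hc ξ' hgen'
      rw [hξ'] at e4
      exact ⟨by omega, hξx, by omega⟩
  · rfl

include hX hX' hc in
/-- **Flat pullback of a principal divisor.** -/
theorem pullFun_divFun_eq (ξ : X) (g : X.residueField ξ) (hg : g ≠ 0) (x' : X') :
    Cyc.pullFun p δ' δ c (Cyc.divFun δ ξ g) x' =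
      ∑ᶠ ξ' : {ξ' : X' // p ξ' = ξ ∧ GenFib p ξ'},
        (fibMult p ξ'.1 : ℤ) * Cyc.divFun δ' ξ'.1
          ((p.residueFieldMap ξ'.1).hom ((X.residueFieldCongr ξ'.2.1.symm).hom g)) x' := by
  by_cases hmain : δ' x' = δ (p x') + c ∧ ξ ⤳ p x' ∧ δ (p x') + 1 = δ ξ
  · obtain ⟨h1, hξx, h2⟩ := hmain
    have h3 : Cyc.divFun δ ξ g (p x') = Cyc.ordAt (p x') ξ hξx g := by
      unfold Cyc.divFun
      rw [dif_pos ⟨hξx, h2⟩]
    unfold Cyc.pullFun
    rw [if_pos h1, h3]
    exact main_case p δ δ' hX hX' c hc x' ξ hξx h1 h2 g hg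
  · have hR : (∑ᶠ ξ' : {ξ' : X' // p ξ' = ξ ∧ GenFib p ξ'},
        (fibMult p ξ'.1 : ℤ) * Cyc.divFun δ' ξ'.1
          ((p.residueFieldMap ξ'.1).hom ((X.residueFieldCongr ξ'.2.1.symm).hom g)) x') = 0 := by
      apply finsum_eq_zero_of_forall_eq_zero
      intro ξ'
      rw [other_case p δ δ' hX hX' c hc x' ξ g hg hmain ξ'.1 ξ'.2.1 ξ'.2.2, mul_zero]
    rw [hR]
    unfold Cyc.pullFun Cyc.divFun
    split_ifs with h1 h2
    · exact absurd ⟨h1, h2.1, h2.2⟩ hmain
    · rw [zero_mul]
    · rfl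

end main

end Groth.Agent.Lib.Helper85.DivPull
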