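import Mathlib
import Groth.Prelude.Def_Cyc
import Groth.Prelude.Def_Coh
import Groth.Prelude.Def_Bivar
import Groth.Agent.Lib.Helper85.IntMult.PushLen
import Groth.Agent.Lib.Helper85.IntMult.SerreFormula
import Groth.Agent.Lib.Helper85.HS.FiniteLength
import Groth.Agent.Lib.Helper1.SupportClosed
import Groth.Agent.Lib.Helper12.QuasiFlat

/-!
# `f_* [F]_k = [f_* F]_k` for proper `f` (helper85)
-/

set_option autoImplicit false
set_option linter.style.haveILetI false
set_option linter.unusedSectionVars false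
set_option linter.unusedVariables false
universe u

namespace Groth.Agent.Lib.Helper85.PushSheafFun

open AlgebraicGeometry CategoryTheory TopologicalSpace Topology
open Groth.Agent.Lib.Helper85.PushGlue Groth.Agent.Lib.Helper85.PushLen

variable {X Y : Scheme.{u}} (f : X ⟶ Y)

/-- for a morphism locally of finite type, a residue field extension of transcendence degree zero
is finite -/
theorem finite_residueField_of_trdeg_eq_zero [LocallyOfFiniteType f] (x : X)
    (h : (letI := (f.residueFieldMap x).hom.toAlgebra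
      Algebra.trdeg (Y.residueField (f x)) (X.residueField x)) = 0) :
    @Module.Finite (Y.residueField (f x)) (X.residueField x) _ _
      (f.residueFieldMap x).hom.toAlgebra.toModule := by
  letI aK := (f.residueFieldMap x).hom.toAlgebra
  letI aAB : Algebra (Y.presheaf.stalk (f x)) (X.presheaf.stalk x) := (f.stalkMap x).hom.toAlgebra
  have hess : Algebra.EssFiniteType (Y.presheaf.stalk (f x)) (X.presheaf.stalk x) :=
    LocallyOfFiniteType.stalkMap f x
  letI aBK : Algebra (X.presheaf.stalk x) (X.residueField x) := (X.residue x).hom.toAlgebra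
  letI aAK : Algebra (Y.presheaf.stalk (f x)) (X.residueField x) :=
    ((X.residue x).hom.comp (f.stalkMap x).hom).toAlgebra
  letI aAKA : Algebra (Y.presheaf.stalk (f x)) (Y.residueField (f x)) :=
    (Y.residue (f x)).hom.toAlgebra
  haveI : IsScalarTower (Y.presheaf.stalk (f x)) (X.presheaf.stalk x) (X.residueField x) :=
    IsScalarTower.of_algebraMap_eq (fun a => rfl)
  haveI : IsScalarTower (Y.presheaf.stalk (f x)) (Y.residueField (f x)) (X.residueField x) :=
    IsScalarTower.of_algebraMap_eq (fun a => by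
      have := congrArg (fun g => g.hom a) (Scheme.residue_residueFieldMap f x)
      exact this.symm)
  have h1 : Algebra.EssFiniteType (X.presheaf.stalk x) (X.residueField x) := by
    haveI : Algebra.FiniteType (X.presheaf.stalk x) (X.residueField x) :=
      Algebra.FiniteType.of_surjective (Algebra.ofId _ _) IsLocalRing.residue_surjective
    infer_instance
  have h2 : Algebra.EssFiniteType (Y.presheaf.stalk (f x)) (X.residueField x) :=
    Algebra.EssFiniteType.comp _ (X.presheaf.stalk x) _
  have h3 : Algebra.EssFiniteType (Y.residueField (f x)) (X.residueField x) :=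
    Algebra.EssFiniteType.of_comp (Y.presheaf.stalk (f x)) _ _
  have halg : Algebra.IsAlgebraic (Y.residueField (f x)) (X.residueField x) :=
    trdeg_eq_zero_iff.mp h
  exact Algebra.finite_of_essFiniteType_of_isAlgebraic

/-- In a Noetherian quasi-sober `T0` space the set of maximal points of a closed subset is finite. -/
theorem finite_maximal_points {T : Type*} [TopologicalSpace T] [NoetherianSpace T] [QuasiSober T]
    [T0Space T] (Z : Set T) (hZ : IsClosed Z) :
    {x : T | x ∈ Z ∧ ∀ z ∈ Z, z ⤳ x → z = x}.Finite := by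
  obtain ⟨𝒮, hSf, hSc, hSi, hSU⟩ := NoetherianSpace.exists_finite_set_isClosed_irreducible hZ
  refine (Set.Finite.biUnion hSf (fun t _ => (show {x : T | IsGenericPoint x t}.Subsingleton from
    fun a ha b hb => IsGenericPoint.eq ha hb).finite)).subset ?_
  rintro x ⟨hxZ, hmax⟩
  rw [hSU] at hxZ
  obtain ⟨t, htS, hxt⟩ := hxZ
  obtain ⟨g, hg⟩ := QuasiSober.sober (hSi t htS) (hSc t htS)
  have hgZ : g ∈ Z := by
    rw [hSU]
    exact ⟨t, htS, hg.mem⟩
  have hgx : g ⤳ x := hg.specializes hxt
  have hgeq := hmax g hgZ hgx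
  subst hgeq
  exact Set.mem_biUnion htS hg

/-- In a locally Noetherian scheme, a quasi-compact open contains only finitely many maximal points
of a given closed subset. -/
theorem finite_maximal_points_of_isCompact [IsLocallyNoetherian X] (U : X.Opens)
    (hU : IsCompact (U : Set X)) (Z : Set X) (hZ : IsClosed Z) :
    {x : X | x ∈ U ∧ x ∈ Z ∧ ∀ z ∈ Z, z ⤳ x → z = x}.Finite := by
  haveI : CompactSpace ↥(U : Scheme.{u}) := isCompact_iff_compactSpace.mp hU
  haveI : IsNoetherian (U : Scheme.{u}) := {}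
  haveI : NoetherianSpace ↥(U : Set X) := inferInstanceAs (NoetherianSpace ↥(U : Scheme.{u}))
  haveI : QuasiSober ↥(U : Set X) := inferInstanceAs (QuasiSober ↥(U : Scheme.{u}))
  haveI : T0Space ↥(U : Set X) := inferInstanceAs (T0Space ↥(U : Scheme.{u}))
  have h1 := finite_maximal_points ((Subtype.val : ↥(U : Set X) → X) ⁻¹' Z)
    (hZ.preimage continuous_subtype_val)
  refine (h1.image Subtype.val).subset ?_
  rintro x ⟨hxU, hxZ, hmax⟩
  refine ⟨⟨x, hxU⟩, ⟨hxZ, ?_⟩, rfl⟩
  intro z hz hsp
  exact Subtype.ext (hmax z.1 hz (hsp.map continuous_subtype_val))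

/-- **`f_* [F]_k = [f_* F]_k`** for a proper morphism `f`, pointwise and on coefficient
functions. -/
theorem mapFun_sheafFun_apply (δX : X → ℤ) (δY : Y → ℤ) [IsLocallyNoetherian X]
    (hXdim : Cyc.IsDimFun X δX)
    [IsProper f] (hδ : Cyc.DeltaCompat f δX δY) (k : ℤ) (F : X.Modules) (hF : Coh.IsCoh F)
    (hdim : ∀ x : X, Nontrivial (F.presheaf.stalk x) → δX x ≤ k) (y : Y) :
    ∑ᶠ x ∈ f ⁻¹' {y}, Cyc.sheafFun δX k F x * ((AlgebraicCycle.mapCoeff f δX δY x : ℕ) : ℤ) =
      Cyc.sheafFun δY k ((Coh.push f).obj F) y := by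
  classical
  set α : X → ℤ := Cyc.sheafFun δX k F with hα
  have hαx : ∀ x, α x = if δX x = k then
      ((Module.length (X.presheaf.stalk x) (F.presheaf.stalk x)).toNat : ℤ) else 0 := by
    intro x
    rfl
  show _ = if δY y = k then ((Module.length (Y.presheaf.stalk y)
    (((Coh.push f).obj F).presheaf.stalk y)).toNat : ℤ) else 0
  by_cases hyk : δY y = k
  swap
  · rw [if_neg hyk]
    apply finsum_mem_eq_zero_of_forall_eq_zero
    intro x hx
    have hfx : f x = y := hx
    rw [hαx]
    by_cases hxk : δX x = k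
    · have h2 : AlgebraicCycle.mapCoeff f δX δY x = 0 := by
        unfold AlgebraicCycle.mapCoeff
        rw [if_neg]
        rw [hfx, hxk]
        exact fun h => hyk h.symm
      rw [h2]
      simp
    · rw [if_neg hxk, zero_mul]
  rw [if_pos hyk]
  -- facts about the points of the fibre in the support
  have hfacts : ∀ x : X, f x = y → Nontrivial (F.presheaf.stalk x) →
      δX x = k ∧ (letI := (f.residueFieldMap x).hom.toAlgebra
        Algebra.trdeg (Y.residueField (f x)) (X.residueField x)) = 0 := by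
    intro x hfx hnt
    obtain ⟨n, hn, hδx⟩ := hδ x
    have h1 := hdim x hnt
    rw [hfx, hyk] at hδx
    have hn0 : n = 0 := by omega
    subst hn0
    refine ⟨by simpa using hδx, ?_⟩
    rw [hn]
    simp
  have hge : ∀ x : X, f x = y → k ≤ δX x := by
    intro x hfx
    obtain ⟨n, -, hδx⟩ := hδ x
    rw [hfx, hyk] at hδx
    omega
  have hfl : ∀ x : X, f x = y → Nontrivial (F.presheaf.stalk x) →
      IsFiniteLength (X.presheaf.stalk x) (F.presheaf.stalk x) := by
    intro x hfx hnt
    have hk := (hfacts x hfx hnt).1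
    haveI := Groth.Agent.Lib.Helper12.QuasiFlat.finite_stalk_of_isCoh F hF x
    have hsd := Groth.Agent.Lib.Helper85.SerreFormula.supportDim_stalk_le δX hXdim x F hF k hdim
      (le_of_eq hk)
    rw [hk, sub_self] at hsd
    exact Groth.Agent.Lib.Helper85.HS.isFiniteLength_of_supportDim_le_zero _ (by simpa using hsd)
  -- the finite set of points
  have hZcl : IsClosed (CohB1.support F) :=
    Groth.Agent.Lib.Helper1.isClosed_support_of_isFiniteType F hF.2
  have hSfin : {x : X | f x = y ∧ Nontrivial (F.presheaf.stalk x)}.Finite := by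
    obtain ⟨V, hV, hyV, -⟩ := exists_isAffineOpen_mem_and_subset (X := Y) (x := y) (U := ⊤) trivial
    have hc : IsCompact ((f ⁻¹ᵁ V : X.Opens) : Set X) :=
      f.isSpectralMap.2 V.isOpen hV.isCompact
    refine (finite_maximal_points_of_isCompact (f ⁻¹ᵁ V) hc (CohB1.support F) hZcl).subset ?_
    rintro x ⟨hfx, hnt⟩
    refine ⟨mem_preimage_of_eq hfx hyV, not_subsingleton_iff_nontrivial.mpr hnt, ?_⟩
    intro z hz hsp
    by_contra hne
    have h1 := (hXdim z x hsp hne).1
    have h2 := hdim z (not_subsingleton_iff_nontrivial.mp hz)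
    have h3 := (hfacts x hfx hnt).1
    omega
  set S : Finset X := hSfin.toFinset with hSdef
  have hSmem : ∀ x, x ∈ S ↔ f x = y ∧ Nontrivial (F.presheaf.stalk x) := by
    intro x
    rw [hSdef, Set.Finite.mem_toFinset]
    rfl
  have hS : ∀ x ∈ S, f x = y := fun x hx => ((hSmem x).mp hx).1
  have hSnt : ∀ x ∈ S, Nontrivial (F.presheaf.stalk x) := fun x hx => ((hSmem x).mp hx).2
  have h0 : ∀ x, f x = y → x ∉ S → Subsingleton (F.presheaf.stalk x) := by
    intro x hfx hxS
    by_contra hcon
    exact hxS ((hSmem x).mpr ⟨hfx, not_subsingleton_iff_nontrivial.mp hcon⟩)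
  have hsep : ∀ x₀ ∈ S, ∃ W W' : X.Opens, x₀ ∈ W ∧ (∀ x, f x = y → x ≠ x₀ → x ∈ W') ∧
      ∀ z, z ∈ W → z ∈ W' → Subsingleton (F.presheaf.stalk z) := by
    intro x₀ hx₀
    have hk₀ := (hfacts x₀ (hS x₀ hx₀) (hSnt x₀ hx₀)).1
    obtain ⟨W, hxW, hWZ⟩ := exists_opens_subset_closure (CohB1.support F) hZcl x₀ (by
      intro z hz hsp
      by_contra hne
      have h1 := (hXdim z x₀ hsp hne).1
      have h2 := hdim z (not_subsingleton_iff_nontrivial.mp hz)
      omega)
    refine ⟨W, ⟨(closure {x₀})ᶜ, isClosed_closure.isOpen_compl⟩, hxW, ?_, ?_⟩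
    · intro x hfx hne hmem
      have hsp : x₀ ⤳ x := specializes_iff_mem_closure.mpr hmem
      have h1 := (hXdim x₀ x hsp (Ne.symm hne)).1
      have h2 := hge x hfx
      omega
    · intro z hzW hzW'
      by_contra hcon
      exact hzW' (specializes_iff_mem_closure.mp (hWZ z hzW hcon))
  have hlen := length_stalk_pushforward_eq_sum f F f.isClosedMap y S hS h0 hsep
    (fun x hx => hfl x (hS x hx) (hSnt x hx))
  -- the left hand side as a sum over `S`
  have hLHS : ∑ᶠ x ∈ f ⁻¹' {y}, α x * ((AlgebraicCycle.mapCoeff f δX δY x : ℕ) : ℤ) =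
      ∑ x ∈ S, α x * ((AlgebraicCycle.mapCoeff f δX δY x : ℕ) : ℤ) := by
    apply finsum_mem_eq_sum_of_inter_support_eq
    ext x
    constructor
    · rintro ⟨hfx, hsupp⟩
      refine ⟨?_, hsupp⟩
      rw [Finset.mem_coe, hSmem]
      refine ⟨hfx, ?_⟩
      by_contra hcon
      rw [not_nontrivial_iff_subsingleton] at hcon
      apply hsupp
      show α x * _ = 0
      rw [hαx]
      split_ifs
      · rw [Module.length_eq_zero]
        simp
      · simp
    · rintro ⟨hxS, hsupp⟩
      exact ⟨hS x hxS, hsupp⟩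
  rw [hLHS, ← Finset.sum_coe_sort S]
  -- the right hand side
  have hterm : ∀ x : S, lenDeg f x.1 *
      Module.length (X.presheaf.stalk x.1) (F.presheaf.stalk x.1) =
      (((f.residueDegree x.1 *
        (Module.length (X.presheaf.stalk x.1) (F.presheaf.stalk x.1)).toNat : ℕ)) : ℕ∞) := by
    intro x
    have hfin := finite_residueField_of_trdeg_eq_zero f x.1
      (hfacts x.1 (hS x.1 x.2) (hSnt x.1 x.2)).2
    rw [lenDeg_eq_residueDegree f x.1 hfin]
    have h1 : Module.length (X.presheaf.stalk x.1) (F.presheaf.stalk x.1) ≠ ⊤ :=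
      Module.length_ne_top_iff.mpr (hfl x.1 (hS x.1 x.2) (hSnt x.1 x.2))
    conv_lhs => rw [← ENat.natCast_toNat h1]
    push_cast
    rfl
  have hRHS : (Module.length (Y.presheaf.stalk y)
      (((Coh.push f).obj F).presheaf.stalk y)).toNat =
      ∑ x : S, f.residueDegree x.1 *
        (Module.length (X.presheaf.stalk x.1) (F.presheaf.stalk x.1)).toNat := by
    have : Module.length (Y.presheaf.stalk y) (((Coh.push f).obj F).presheaf.stalk y) =
        ((∑ x : S, f.residueDegree x.1 *
          (Module.length (X.presheaf.stalk x.1) (F.presheaf.stalk x.1)).toNat : ℕ) : ℕ∞) := by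
      rw [hlen, Finset.sum_congr rfl (fun x _ => hterm x)]
      push_cast
      rfl
    rw [this, ENat.toNat_natCast]
  rw [hRHS]
  push_cast
  refine Finset.sum_congr rfl (fun x _ => ?_)
  have hk := (hfacts x.1 (hS x.1 x.2) (hSnt x.1 x.2)).1
  rw [hαx, if_pos hk]
  have h2 : AlgebraicCycle.mapCoeff f δX δY x.1 = f.residueDegree x.1 := by
    unfold AlgebraicCycle.mapCoeff
    rw [if_pos]
    rw [hk, hS x.1 x.2, hyk]
  rw [h2]
  ring

/-- **`f_* [F]_k = [f_* F]_k`** for a proper morphism `f`. -/
theorem map_sheafFun_eq (δX : X → ℤ) (δY : Y → ℤ) (hX : Cyc.IsSetup X δX)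
    [IsProper f] (hδ : Cyc.DeltaCompat f δX δY) (k : ℤ) (F : X.Modules) (hF : Coh.IsCoh F)
    (hdim : ∀ x : X, Nontrivial (F.presheaf.stalk x) → δX x ≤ k) (α : AlgebraicCycle X ℤ)
    (hα : ⇑α = Cyc.sheafFun δX k F) :
    ⇑(AlgebraicCycle.map f δX δY α) = Cyc.sheafFun δY k ((Coh.push f).obj F) := by
  obtain ⟨hXn, -, hXdim⟩ := hX
  haveI : IsLocallyNoetherian X := hXn
  funext y
  have hL : AlgebraicCycle.map f δX δY α y =
      ∑ᶠ x ∈ f ⁻¹' {y}, α x * ((AlgebraicCycle.mapCoeff f δX δY x : ℕ) : ℤ) := rfl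
  rw [hL, hα]
  exact mapFun_sheafFun_apply f δX δY hXdim hδ k F hF hdim y

end Groth.Agent.Lib.Helper85.PushSheafFun
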