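import Mathlib
import Groth.Prelude.Def_Cyc
import Groth.Agent.Lib.Helper85.IntMult.DivPull
import Groth.Agent.Lib.Helper85.IntMult.PushSheafFun

/-!
# Principal divisors and open subschemes (helper85)
-/

set_option autoImplicit false
set_option linter.style.haveILetI false
set_option linter.unusedSectionVars false
set_option linter.unusedVariables false
universe u

namespace Groth.Agent.Lib.Helper85.DivOpen

open AlgebraicGeometry CategoryTheory IsLocalRing
open Groth.Agent.Lib.Helper85.DivPullDict Groth.Agent.Lib.Helper85.DivPull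
open Groth.Agent.Lib.Helper85.DivPullAlg

section Alg

variable {A B : Type u} [CommRing A] [CommRing B] [IsLocalRing A] [IsLocalRing B]
  [IsNoetherianRing B]

/-- lengths of cyclic modules are preserved by an isomorphism of local rings -/
theorem length_quot_map_of_bijective (φ : A →+* B) (hφ : Function.Bijective φ) (J : Ideal A) :
    Module.length B (B ⧸ J.map φ) = Module.length A (A ⧸ J) := by
  letI := φ.toAlgebra
  haveI hloc : IsLocalHom (algebraMap A B) := by
    refine ⟨fun a ha => ?_⟩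
    obtain ⟨b, hb⟩ := ha.exists_right_inv
    obtain ⟨a', rfl⟩ := hφ.2 b
    have h1 : φ (a * a') = φ 1 := by rw [map_mul, map_one]; exact hb
    exact IsUnit.of_mul_eq_one a' (hφ.1 h1)
  haveI hflat : Module.Flat A B :=
    Module.Flat.of_linearEquiv (LinearEquiv.ofBijective (Algebra.linearMap A B) hφ).symm
  have h1 := length_quot_map (A := A) (B := B) J
  have h2 : (maximalIdeal A).map (algebraMap A B) = maximalIdeal B := by
    apply le_antisymm
    · exact ((IsLocalRing.local_hom_TFAE (algebraMap A B)).out 0 2).mp hloc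
    · intro b hb
      obtain ⟨a, rfl⟩ := hφ.2 b
      apply Ideal.mem_map_of_mem
      rw [mem_maximalIdeal, mem_nonunits_iff] at hb ⊢
      exact fun ha => hb (ha.map φ)
  have h3 : Module.length B (B ⧸ maximalIdeal B) = 1 := by
    rw [Module.length_eq_one_iff, isSimpleModule_iff_isCoatom]
    exact (Ideal.isMaximal_def.mp (maximalIdeal.isMaximal B))
  rw [h2, h3, mul_one] at h1
  exact h1

end Alg

section Open

variable {Z X : Scheme.{u}} (j : Z ⟶ X) [IsOpenImmersion j]

theorem specializes_iff (a b : Z) : j a ⤳ j b ↔ a ⤳ b :=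
  j.isOpenEmbedding.toIsInducing.specializes_iff

/-- a dimension function restricts to open subschemes -/
theorem isDimFun_comp (δ : X → ℤ) (hdim : Cyc.IsDimFun X δ) :
    Cyc.IsDimFun Z (fun z => δ (j z)) := by
  intro x y hxy hne
  have hxy' : j x ⤳ j y := hxy.map j.continuous
  have hne' : j x ≠ j y := fun h => hne (j.isOpenEmbedding.injective h)
  obtain ⟨h1, h2⟩ := hdim (j x) (j y) hxy' hne'
  refine ⟨h1, fun himm => h2 ?_⟩
  intro z' hz1 hz2
  have hz'mem : z' ∈ Set.range j := hz2.mem_open j.isOpenEmbedding.isOpen_range ⟨y, rfl⟩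
  obtain ⟨z, rfl⟩ := hz'mem
  rcases himm z ((specializes_iff j x z).mp hz1) ((specializes_iff j z y).mp hz2) with h | h
  · exact Or.inl (congrArg j h)
  · exact Or.inr (congrArg j h)

theorem ordAt_zero {x ξ : X} (h : ξ ⤳ x) : Cyc.ordAt x ξ h 0 = 0 := by
  unfold Cyc.ordAt CycAlg.ordFrac
  split_ifs with hc
  · rw [map_zero]
    rfl
  · rfl

variable [IsLocallyNoetherian X] (δ : X → ℤ) (hdim : Cyc.IsDimFun X δ)

include hdim in
/-- the order of a rational function along a specialization can be computed on an open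
subscheme -/
theorem ordAt_openImmersion {u ξ₀ : Z} (h₀ : ξ₀ ⤳ u) (h1 : δ (j u) + 1 = δ (j ξ₀))
    (g : X.residueField (j ξ₀)) :
    Cyc.ordAt u ξ₀ h₀ ((j.residueFieldMap ξ₀).hom g) =
      Cyc.ordAt (j u) (j ξ₀) (h₀.map j.continuous) g := by
  haveI : IsLocallyNoetherian Z := isLocallyNoetherian_of_isOpenImmersion j
  by_cases hg : g = 0
  · subst hg
    rw [map_zero, ordAt_zero, ordAt_zero]
  obtain ⟨a, b, hb, hz⟩ := exists_specMap_div (h₀.map j.continuous) g
  have hb0 : Cyc.specMap (j u) (j ξ₀) (h₀.map j.continuous) b ≠ 0 :=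
    fun h0 => hb (RingHom.mem_ker.mpr h0)
  have ha0 : Cyc.specMap (j u) (j ξ₀) (h₀.map j.continuous) a ≠ 0 := by
    intro h0
    apply hg
    rw [hz, h0, zero_div]
  have ha : a ∉ RingHom.ker (Cyc.specMap (j u) (j ξ₀) (h₀.map j.continuous)) :=
    fun hm => ha0 (RingHom.mem_ker.mp hm)
  have hinj : Function.Injective (j.residueFieldMap ξ₀).hom :=
    (j.residueFieldMap ξ₀).hom.injective
  have e1 : (j.residueFieldMap ξ₀).hom g =
      Cyc.specMap u ξ₀ h₀ ((j.stalkMap u).hom a) / Cyc.specMap u ξ₀ h₀ ((j.stalkMap u).hom b) := by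
    rw [hz, map_div₀, residueFieldMap_specMap j h₀ a, residueFieldMap_specMap j h₀ b]
  have ha' : (j.stalkMap u).hom a ∉ RingHom.ker (Cyc.specMap u ξ₀ h₀) := by
    intro hm
    apply ha0
    apply hinj
    rw [residueFieldMap_specMap j h₀ a, map_zero]
    exact RingHom.mem_ker.mp hm
  have hb' : (j.stalkMap u).hom b ∉ RingHom.ker (Cyc.specMap u ξ₀ h₀) := by
    intro hm
    apply hb0
    apply hinj
    rw [residueFieldMap_specMap j h₀ b, map_zero]
    exact RingHom.mem_ker.mp hm
  rw [e1, ordAt_div (fun z => δ (j z)) (isDimFun_comp j δ hdim) h₀ h1 _ _ ha' hb']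
  conv_rhs => rw [hz]
  rw [ordAt_div δ hdim (h₀.map j.continuous) h1 a b ha hb]
  -- compare the lengths
  have hbij : Function.Bijective (j.stalkMap u).hom :=
    ConcreteCategory.bijective_of_isIso (j.stalkMap u)
  have hker : (RingHom.ker (Cyc.specMap (j u) (j ξ₀) (h₀.map j.continuous))).map
      (j.stalkMap u).hom = RingHom.ker (Cyc.specMap u ξ₀ h₀) := by
    rw [← comap_ker_specMap j h₀]
    exact Ideal.map_comap_of_surjective _ hbij.2 _
  have hlen : ∀ c : X.presheaf.stalk (j u),
      Module.length (Z.presheaf.stalk u) (Z.presheaf.stalk u ⧸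
        (RingHom.ker (Cyc.specMap u ξ₀ h₀) ⊔ Ideal.span {(j.stalkMap u).hom c})) =
      Module.length (X.presheaf.stalk (j u)) (X.presheaf.stalk (j u) ⧸
        (RingHom.ker (Cyc.specMap (j u) (j ξ₀) (h₀.map j.continuous)) ⊔ Ideal.span {c})) := by
    intro c
    rw [← length_quot_map_of_bijective (j.stalkMap u).hom hbij, Ideal.map_sup, hker,
      Ideal.map_span, Set.image_singleton]
  rw [hlen a, hlen b]

include hdim in
/-- the principal divisor of a rational function restricts to open subschemes -/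
theorem divFun_openImmersion (ξ₀ u : Z) (g : X.residueField (j ξ₀)) :
    Cyc.divFun (fun z => δ (j z)) ξ₀ ((j.residueFieldMap ξ₀).hom g) u =
      Cyc.divFun δ (j ξ₀) g (j u) := by
  unfold Cyc.divFun
  by_cases h : ξ₀ ⤳ u ∧ δ (j u) + 1 = δ (j ξ₀)
  · rw [dif_pos h, dif_pos ⟨h.1.map j.continuous, h.2⟩]
    exact ordAt_openImmersion j δ hdim h.1 h.2 g
  · rw [dif_neg h, dif_neg]
    rintro ⟨h1, h2⟩
    exact h ⟨(specializes_iff j ξ₀ u).mp h1, h2⟩

end Open

section Finite

variable {X : Scheme.{u}} [IsLocallyNoetherian X] (δ : X → ℤ) (hdim : Cyc.IsDimFun X δ)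

include hdim in
/-- the support of a principal divisor meets an affine open in a finite set -/
theorem finite_support_divFun_inter (W : X.Opens) (hW : IsAffineOpen W) (ξ : X)
    (f : X.residueField ξ) (hf : f ≠ 0) :
    {x : X | x ∈ W ∧ Cyc.divFun δ ξ f x ≠ 0}.Finite := by
  by_cases hξW : ξ ∈ W
  swap
  · convert Set.finite_empty
    ext x
    simp only [Set.mem_ofPred_eq, Set.mem_empty_iff_false, iff_false, not_and, not_not]
    intro hxW
    unfold Cyc.divFun
    rw [dif_neg]
    rintro ⟨h1, -⟩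
    exact hξW (h1.mem_open W.isOpen hxW)
  -- write `f` as a fraction of sections over `W`
  letI aW : Algebra Γ(X, W) (X.presheaf.stalk ξ) :=
    TopCat.Presheaf.algebra_section_stalk X.presheaf ⟨ξ, hξW⟩
  haveI locW : IsLocalization.AtPrime (X.presheaf.stalk ξ) (hW.primeIdealOf ⟨ξ, hξW⟩).asIdeal :=
    hW.isLocalization_stalk ⟨ξ, hξW⟩
  obtain ⟨w, rfl⟩ := Scheme.residue_surjective X ξ f
  obtain ⟨⟨a, b⟩, hab⟩ := IsLocalization.surj (hW.primeIdealOf ⟨ξ, hξW⟩).asIdeal.primeCompl w
  have hbu : IsUnit ((X.presheaf.germ W ξ hξW).hom b.1) := IsLocalization.map_units _ b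
  have hwu : IsUnit w := by
    by_contra hnu
    apply hf
    have : w ∈ maximalIdeal (X.presheaf.stalk ξ) := hnu
    exact (IsLocalRing.residue_eq_zero_iff w).mpr this
  have hau : IsUnit ((X.presheaf.germ W ξ hξW).hom a) := by
    have : (X.presheaf.germ W ξ hξW).hom a = w * (X.presheaf.germ W ξ hξW).hom b.1 := hab.symm
    rw [this]
    exact hwu.mul hbu
  have hξa : ξ ∈ X.basicOpen a := (Scheme.mem_basicOpen X a ξ hξW).mpr hau
  have hξb : ξ ∈ X.basicOpen b.1 := (Scheme.mem_basicOpen X b.1 ξ hξW).mpr hbu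
  -- the closed set
  have hZcl : IsClosed (closure {ξ} ∩ ((X.basicOpen a ⊓ X.basicOpen b.1 : X.Opens) : Set X)ᶜ) :=
    isClosed_closure.inter (X.basicOpen a ⊓ X.basicOpen b.1).isOpen.isClosed_compl
  refine (Groth.Agent.Lib.Helper85.PushSheafFun.finite_maximal_points_of_isCompact W hW.isCompact _
    hZcl).subset ?_
  rintro x ⟨hxW, hx⟩
  have hcond : ξ ⤳ x ∧ δ x + 1 = δ ξ := by
    by_contra hc
    apply hx
    unfold Cyc.divFun
    rw [dif_neg hc]
  have hdiv : Cyc.divFun δ ξ ((X.residue ξ).hom w) x = Cyc.ordAt x ξ hcond.1 ((X.residue ξ).hom w) := by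
    unfold Cyc.divFun
    rw [dif_pos hcond]
  rw [hdiv] at hx
  have hsa : Cyc.specMap x ξ hcond.1 ((X.presheaf.germ W x hxW).hom a) =
      (X.residue ξ).hom ((X.presheaf.germ W ξ hξW).hom a) := by
    unfold Cyc.specMap
    rw [CommRingCat.hom_comp, RingHom.comp_apply]
    congr 1
    exact congrArg (fun t => t.hom a) (X.presheaf.germ_stalkSpecializes hxW hcond.1)
  have hsb : Cyc.specMap x ξ hcond.1 ((X.presheaf.germ W x hxW).hom b.1) =
      (X.residue ξ).hom ((X.presheaf.germ W ξ hξW).hom b.1) := by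
    unfold Cyc.specMap
    rw [CommRingCat.hom_comp, RingHom.comp_apply]
    congr 1
    exact congrArg (fun t => t.hom b.1) (X.presheaf.germ_stalkSpecializes hxW hcond.1)
  have hrb0 : (X.residue ξ).hom ((X.presheaf.germ W ξ hξW).hom b.1) ≠ 0 := by
    intro h0
    have h1 : IsLocalRing.residue (X.presheaf.stalk ξ) ((X.presheaf.germ W ξ hξW).hom b.1) = 0 := h0
    rw [IsLocalRing.residue_eq_zero_iff] at h1
    exact h1 hbu
  have hra0 : (X.residue ξ).hom ((X.presheaf.germ W ξ hξW).hom a) ≠ 0 := by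
    intro h0
    have h1 : IsLocalRing.residue (X.presheaf.stalk ξ) ((X.presheaf.germ W ξ hξW).hom a) = 0 := h0
    rw [IsLocalRing.residue_eq_zero_iff] at h1
    exact h1 hau
  have hfrac : (X.residue ξ).hom w =
      Cyc.specMap x ξ hcond.1 ((X.presheaf.germ W x hxW).hom a) /
        Cyc.specMap x ξ hcond.1 ((X.presheaf.germ W x hxW).hom b.1) := by
    rw [hsa, hsb, eq_div_iff hrb0, ← map_mul]
    exact congrArg (X.residue ξ).hom hab
  refine ⟨hxW, ⟨specializes_iff_mem_closure.mp hcond.1, ?_⟩, ?_⟩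
  · -- not both units
    intro hmem
    have hxa : IsUnit ((X.presheaf.germ W x hxW).hom a) :=
      (Scheme.mem_basicOpen X a x hxW).mp hmem.1
    have hxb : IsUnit ((X.presheaf.germ W x hxW).hom b.1) :=
      (Scheme.mem_basicOpen X b.1 x hxW).mp hmem.2
    apply hx
    have ha' : (X.presheaf.germ W x hxW).hom a ∉ RingHom.ker (Cyc.specMap x ξ hcond.1) := by
      intro hm
      apply hra0
      rw [← hsa]
      exact RingHom.mem_ker.mp hm
    have hb' : (X.presheaf.germ W x hxW).hom b.1 ∉ RingHom.ker (Cyc.specMap x ξ hcond.1) := by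
      intro hm
      apply hrb0
      rw [← hsb]
      exact RingHom.mem_ker.mp hm
    rw [hfrac, ordAt_div δ hdim hcond.1 hcond.2 _ _ ha' hb']
    have h0 : ∀ c : X.presheaf.stalk x, IsUnit c →
        Module.length (X.presheaf.stalk x) (X.presheaf.stalk x ⧸
          (RingHom.ker (Cyc.specMap x ξ hcond.1) ⊔ Ideal.span {c})) = 0 := by
      intro c hc
      rw [Ideal.span_singleton_eq_top.mpr hc, sup_top_eq, Module.length_eq_zero_iff]
      exact Submodule.Quotient.subsingleton_iff.mpr rfl
    rw [h0 _ hxa, h0 _ hxb]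
    simp
  · -- maximality
    rintro z ⟨hz1, hz2⟩ hzx
    by_contra hne
    have hξz : ξ ⤳ z := specializes_iff_mem_closure.mpr hz1
    have hzξ : ξ ≠ z := by
      intro he
      apply hz2
      rw [← he]
      exact ⟨hξa, hξb⟩
    have h1 := (hdim z x hzx hne).1
    have h2 := (hdim ξ z hξz hzξ).1
    omega

end Finite

end Groth.Agent.Lib.Helper85.DivOpen
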