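import Mathlib
import Groth.Prelude.Def_Tame
import Groth.Agent.S14503
import Groth.Agent.S6320
import Groth.Agent.Lib.Helper85.IntMult.DivPullLoc
import Groth.Agent.Lib.Helper85.IntMult.PushLenAlg

/-!
# The order of a norm as a sum of local lengths (helper85)

For a finite injective map of domains `A' → B'`, a prime `𝔭` of `A'` with `A = A'_𝔭` of dimension
one, and `r ∈ B'`, the order at `A` of the norm of `r` is the sum over the primes `𝔮` of `B'` over
`𝔭` of `[κ(𝔮) : κ(𝔭)] · length (B'_𝔮 / r)`.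
-/

set_option autoImplicit false
set_option linter.style.haveILetI false
set_option linter.unusedSectionVars false
set_option linter.unusedVariables false
universe u v

namespace Groth.Agent.Lib.Helper85.NormPushAlg

open IsLocalRing

section Single

variable {A' : Type u} [CommRing A'] {B' : Type u} [CommRing B'] [Algebra A' B']
  (𝔭 : Ideal A') [𝔭.IsPrime]
  (A : Type u) [CommRing A] [IsLocalRing A] [Algebra A' A] [IsLocalization.AtPrime A 𝔭]
  (Bm : Type u) [CommRing Bm] [Algebra B' Bm]
  [IsLocalization (Algebra.algebraMapSubmonoid B' 𝔭.primeCompl) Bm]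
  [Algebra A Bm] [Algebra A' Bm] [IsScalarTower A' A Bm] [IsScalarTower A' B' Bm]
  (𝔮 : Ideal B') [𝔮.IsPrime] (h𝔮 : 𝔮.comap (algebraMap A' B') = 𝔭)
  (T : Type u) [CommRing T] [IsLocalRing T] [Algebra B' T] [IsLocalization.AtPrime T 𝔮]
  [Algebra Bm T] [IsScalarTower B' Bm T]
  (ψ : A →+* T) (hψ : ∀ a', ψ (algebraMap A' A a') = algebraMap B' T (algebraMap A' B' a'))

/-- the maximal ideal of the semilocalization attached to a model of the local ring -/
def nOf : Ideal Bm := (maximalIdeal T).comap (algebraMap Bm T)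

instance nOf_isPrime : (nOf Bm T).IsPrime := Ideal.comap_isPrime _ _

theorem nOf_comap : (nOf Bm T).comap (algebraMap B' Bm) = 𝔮 := by
  unfold nOf
  rw [Ideal.comap_comap, ← IsScalarTower.algebraMap_eq]
  exact IsLocalization.AtPrime.under_maximalIdeal T 𝔮

include 𝔭 hψ in
theorem algebraMap_comp_eq : (algebraMap Bm T).comp (algebraMap A Bm) = ψ := by
  apply IsLocalization.ringHom_ext 𝔭.primeCompl
  ext a'
  simp only [RingHom.comp_apply]
  rw [hψ, ← IsScalarTower.algebraMap_apply A' A Bm, IsScalarTower.algebraMap_apply A' B' Bm,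
    ← IsScalarTower.algebraMap_apply B' Bm T]

include 𝔭 h𝔮 hψ in
theorem nOf_comap_base : (nOf Bm T).comap (algebraMap A Bm) = maximalIdeal A := by
  have h1 : (nOf Bm T).comap (algebraMap A Bm) = (maximalIdeal T).comap ψ := by
    unfold nOf
    rw [Ideal.comap_comap, algebraMap_comp_eq 𝔭 A Bm T ψ hψ]
  have h2 : ((maximalIdeal T).comap ψ).comap (algebraMap A' A) = 𝔭 := by
    rw [Ideal.comap_comap]
    have : ψ.comp (algebraMap A' A) = (algebraMap B' T).comp (algebraMap A' B') := by
      ext a'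
      exact hψ a'
    rw [this, ← Ideal.comap_comap]
    have h3 : (maximalIdeal T).comap (algebraMap B' T) = 𝔮 :=
      IsLocalization.AtPrime.under_maximalIdeal T 𝔮
    rw [h3, h𝔮]
  have h4 : (maximalIdeal A).comap (algebraMap A' A) = 𝔭 :=
    IsLocalization.AtPrime.under_maximalIdeal A 𝔭
  rw [h1, ← IsLocalization.map_under 𝔭.primeCompl A ((maximalIdeal T).comap ψ),
    ← IsLocalization.map_under 𝔭.primeCompl A (maximalIdeal A)]
  show Ideal.map _ (Ideal.comap _ _) = Ideal.map _ (Ideal.comap _ _)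
  rw [h2, h4]

include 𝔭 h𝔮 hψ in
theorem nOf_isMaximal [Algebra.IsIntegral A Bm] : (nOf Bm T).IsMaximal := by
  apply Ideal.isMaximal_of_isIntegral_of_isMaximal_comap (R := A) (nOf Bm T)
  rw [nOf_comap_base 𝔭 A Bm 𝔮 h𝔮 T ψ hψ]
  exact maximalIdeal.isMaximal A

include 𝔭 h𝔮 in
theorem nOf_isLocalization : IsLocalization.AtPrime T (nOf Bm T) := by
  have hle : Algebra.algebraMapSubmonoid B' 𝔭.primeCompl ≤ 𝔮.primeCompl := by
    rintro _ ⟨a', ha', rfl⟩
    intro hmem
    apply ha'
    rw [← h𝔮]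
    exact hmem
  haveI := IsLocalization.isLocalization_of_submonoid_le Bm T
    (Algebra.algebraMapSubmonoid B' 𝔭.primeCompl) 𝔮.primeCompl hle
  exact Groth.Agent.Lib.Helper85.DivPullLoc.isLocalization_atPrime_of_isLocalRing
    (𝔮.primeCompl.map (algebraMap B' Bm)) T

include 𝔭 h𝔮 hψ in
/-- the residue degree of the semilocalization at `nOf` is the length of the residue field of the
model over `A` -/
theorem finrank_eq_length [Algebra.IsIntegral A Bm]
    (hfin : Module.Finite (A ⧸ (nOf Bm T).comap (algebraMap A Bm)) (Bm ⧸ nOf Bm T)) :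
    (Module.finrank (A ⧸ (nOf Bm T).comap (algebraMap A Bm)) (Bm ⧸ nOf Bm T) : ℕ∞) =
      @Module.length A (ResidueField T) _ _
        (Module.compHom (ResidueField T) ((IsLocalRing.residue T).comp ψ)) := by
  have hmaxA : ((nOf Bm T).comap (algebraMap A Bm)).IsMaximal := by
    rw [nOf_comap_base 𝔭 A Bm 𝔮 h𝔮 T ψ hψ]
    exact maximalIdeal.isMaximal A
  haveI hmax : (nOf Bm T).IsMaximal := nOf_isMaximal 𝔭 A Bm 𝔮 h𝔮 T ψ hψ
  letI fk : Field (A ⧸ (nOf Bm T).comap (algebraMap A Bm)) := Ideal.Quotient.field _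
  haveI hloc : IsLocalization.AtPrime T (nOf Bm T) := nOf_isLocalization 𝔭 Bm 𝔮 h𝔮 T
  rw [← Module.length_eq_finrank]
  rw [← Module.length_eq_of_surjective (S := A)
    (R := A ⧸ (nOf Bm T).comap (algebraMap A Bm)) (M := Bm ⧸ nOf Bm T)
    Ideal.Quotient.mk_surjective]
  letI mA : Module A (ResidueField T) :=
    Module.compHom (ResidueField T) ((IsLocalRing.residue T).comp ψ)
  let e0 : (Bm ⧸ nOf Bm T) ≃+* ResidueField T :=
    IsLocalization.AtPrime.equivQuotMaximalIdeal (nOf Bm T) T
  let e : (Bm ⧸ nOf Bm T) ≃ₗ[A] ResidueField T :=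
    { e0.toAddEquiv with
      map_smul' := by
        intro a x
        obtain ⟨b, rfl⟩ := Ideal.Quotient.mk_surjective x
        show e0 (a • Ideal.Quotient.mk _ b) = ((IsLocalRing.residue T).comp ψ) a * e0 _
        have h1 : a • Ideal.Quotient.mk (nOf Bm T) b =
            Ideal.Quotient.mk (nOf Bm T) (algebraMap A Bm a * b) := by
          rw [Algebra.smul_def]
          rfl
        rw [h1, map_mul, map_mul]
        congr 1
        show Ideal.Quotient.mk _ (algebraMap Bm T (algebraMap A Bm a)) = _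
        have h2 := congrArg (fun g => g a) (algebraMap_comp_eq 𝔭 A Bm T ψ hψ)
        simp only [RingHom.comp_apply] at h2
        rw [h2]
        rfl }
  exact e.length_eq

end Single

section Main

variable {A' : Type u} [CommRing A'] {B' : Type u} [CommRing B'] [IsDomain B'] [Algebra A' B']
  [Module.Finite A' B'] (hinj : Function.Injective (algebraMap A' B'))
  (𝔭 : Ideal A') [𝔭.IsPrime]
  (A : Type u) [CommRing A] [IsDomain A] [IsNoetherianRing A] [IsLocalRing A] [Algebra A' A]
  [IsLocalization.AtPrime A 𝔭] (hA : ringKrullDim A = 1)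
  (K L : Type u) [Field K] [Field L] [Algebra A K] [IsFractionRing A K] [Algebra B' L]
  [IsFractionRing B' L] [Algebra K L] [FiniteDimensional K L]
  (hcomm : ∀ a' : A', algebraMap K L (algebraMap A K (algebraMap A' A a')) =
    algebraMap B' L (algebraMap A' B' a'))
  {ι : Type v} [Finite ι] (𝔮 : ι → Ideal B') [∀ i, (𝔮 i).IsPrime]
  (h𝔮 : ∀ i, (𝔮 i).comap (algebraMap A' B') = 𝔭) (h𝔮inj : Function.Injective 𝔮)
  (h𝔮surj : ∀ 𝔮' : Ideal B', 𝔮'.IsPrime → 𝔮'.comap (algebraMap A' B') = 𝔭 → ∃ i, 𝔮 i = 𝔮')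
  (T : ι → Type u) [∀ i, CommRing (T i)] [∀ i, IsLocalRing (T i)] [∀ i, Algebra B' (T i)]
  [∀ i, IsLocalization.AtPrime (T i) (𝔮 i)]
  (ψ : ∀ i, A →+* T i)
  (hψ : ∀ i a', ψ i (algebraMap A' A a') = algebraMap B' (T i) (algebraMap A' B' a'))

include hinj hA hcomm h𝔮 h𝔮inj h𝔮surj hψ in
/-- **The order of a norm as a sum of local lengths.** -/
theorem ordFrac_norm_eq_finsum (r : B') (hr : r ≠ 0) :
    CycAlg.ordFrac A K (Algebra.norm K (algebraMap B' L r)) =
      ∑ᶠ i, (((@Module.length A (ResidueField (T i)) _ _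
          (Module.compHom (ResidueField (T i)) ((IsLocalRing.residue (T i)).comp (ψ i)))).toNat
            : ℕ) : ℤ) *
        (((Module.length (T i) (T i ⧸ Ideal.span {algebraMap B' (T i) r})).toNat : ℕ) : ℤ) := by
  classical
  have hMle : Algebra.algebraMapSubmonoid B' 𝔭.primeCompl ≤ nonZeroDivisors B' := by
    rintro _ ⟨a', ha', rfl⟩
    rw [mem_nonZeroDivisors_iff_ne_zero]
    intro h0
    have : a' = 0 := hinj (by rw [h0, map_zero])
    exact ha' (this ▸ 𝔭.zero_mem)
  let Bm := Localization (Algebra.algebraMapSubmonoid B' 𝔭.primeCompl)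
  letI aABm : Algebra A Bm := localizationAlgebra 𝔭.primeCompl B'
  haveI tw1 : IsScalarTower A' A Bm := isScalarTower_localizationAlgebra _ _
  haveI finABm : Module.Finite A Bm := Module.Finite.of_isLocalization A' B' 𝔭.primeCompl
  haveI intABm : Algebra.IsIntegral A Bm := Algebra.IsIntegral.of_finite A Bm
  have hinjm : Function.Injective (algebraMap A Bm) := localizationAlgebra_injective A Bm hinj
  haveI domBm : IsDomain Bm := IsLocalization.isDomain_localization hMle
  -- the fraction field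
  have hunitL : ∀ m : Algebra.algebraMapSubmonoid B' 𝔭.primeCompl,
      IsUnit (algebraMap B' L (m : B')) := by
    intro m
    apply IsUnit.mk0
    rw [Ne, FaithfulSMul.algebraMap_eq_zero_iff]
    exact nonZeroDivisors.ne_zero (hMle m.2)
  letI aBmL : Algebra Bm L := (IsLocalization.lift hunitL).toAlgebra
  haveI tw2 : IsScalarTower B' Bm L := IsScalarTower.of_algebraMap_eq (fun b => by
    show algebraMap B' L b = IsLocalization.lift hunitL (algebraMap B' Bm b)
    rw [IsLocalization.lift_eq])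
  haveI frBm : IsFractionRing Bm L :=
    IsFractionRing.isFractionRing_of_isDomain_of_isLocalization
      (Algebra.algebraMapSubmonoid B' 𝔭.primeCompl) Bm L
  letI aAL : Algebra A L := ((algebraMap K L).comp (algebraMap A K)).toAlgebra
  haveI tw3 : IsScalarTower A K L := IsScalarTower.of_algebraMap_eq (fun a => rfl)
  haveI tw4 : IsScalarTower A Bm L := by
    apply IsScalarTower.of_algebraMap_eq'
    apply IsLocalization.ringHom_ext 𝔭.primeCompl
    ext a'
    show algebraMap K L (algebraMap A K (algebraMap A' A a')) =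
      algebraMap Bm L (algebraMap A Bm (algebraMap A' A a'))
    rw [hcomm, ← IsScalarTower.algebraMap_apply A' A Bm, IsScalarTower.algebraMap_apply A' B' Bm,
      ← IsScalarTower.algebraMap_apply B' Bm L]
  -- the element
  set r₁ : Bm := algebraMap B' Bm r with hr₁def
  have hr₁ : r₁ ≠ 0 := by
    rw [hr₁def, Ne, IsLocalization.to_map_eq_zero_iff Bm hMle]
    exact hr
  obtain ⟨hlt, heq⟩ := Groth.Agent.S14503.result A hA Bm hinjm K L r₁ hr₁
  have hrL : algebraMap Bm L r₁ = algebraMap B' L r := by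
    rw [hr₁def, ← IsScalarTower.algebraMap_apply]
  rw [hrL] at heq
  rw [← heq]
  -- the models
  have hunitT : ∀ i (m : Algebra.algebraMapSubmonoid B' 𝔭.primeCompl),
      IsUnit (algebraMap B' (T i) (m : B')) := by
    intro i m
    obtain ⟨a', ha', hm⟩ := m.2
    apply IsLocalization.map_units (T i) (⟨(m : B'), ?_⟩ : (𝔮 i).primeCompl)
    intro hmem
    apply ha'
    rw [← h𝔮 i]
    show a' ∈ Ideal.comap (algebraMap A' B') (𝔮 i)
    rw [Ideal.mem_comap, hm]
    exact hmem
  letI aBmT : ∀ i, Algebra Bm (T i) := fun i => (IsLocalization.lift (hunitT i)).toAlgebra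
  haveI tw5 : ∀ i, IsScalarTower B' Bm (T i) := fun i =>
    IsScalarTower.of_algebraMap_eq (fun b => by
      show algebraMap B' (T i) b = IsLocalization.lift (hunitT i) (algebraMap B' Bm b)
      rw [IsLocalization.lift_eq])
  have hmax : ∀ i, (nOf Bm (T i)).IsMaximal := fun i =>
    nOf_isMaximal 𝔭 A Bm (𝔮 i) (h𝔮 i) (T i) (ψ i) (hψ i)
  let ν : ι → MaximalSpectrum Bm := fun i => ⟨nOf Bm (T i), hmax i⟩
  have hνinj : Function.Injective ν := by
    intro i j hij
    apply h𝔮inj
    have h1 : nOf Bm (T i) = nOf Bm (T j) := congrArg MaximalSpectrum.asIdeal hij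
    rw [← nOf_comap Bm (𝔮 i) (T i), ← nOf_comap Bm (𝔮 j) (T j), h1]
  have hνsurj : Function.Surjective ν := by
    intro n
    haveI := n.isMaximal
    have h1 : (n.asIdeal.comap (algebraMap A Bm)).IsMaximal :=
      Ideal.isMaximal_comap_of_isIntegral_of_isMaximal n.asIdeal
    have h2 : n.asIdeal.comap (algebraMap A Bm) = maximalIdeal A := IsLocalRing.eq_maximalIdeal h1
    have h3 : ((n.asIdeal.comap (algebraMap B' Bm)).comap (algebraMap A' B')) = 𝔭 := by
      rw [Ideal.comap_comap, ← IsScalarTower.algebraMap_eq, IsScalarTower.algebraMap_eq A' A Bm,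
        ← Ideal.comap_comap, h2]
      exact IsLocalization.AtPrime.under_maximalIdeal A 𝔭
    obtain ⟨i, hi⟩ := h𝔮surj (n.asIdeal.comap (algebraMap B' Bm)) (Ideal.comap_isPrime _ _) h3
    refine ⟨i, MaximalSpectrum.ext ?_⟩
    show nOf Bm (T i) = n.asIdeal
    rw [← IsLocalization.map_under (Algebra.algebraMapSubmonoid B' 𝔭.primeCompl) Bm (nOf Bm (T i)),
      ← IsLocalization.map_under (Algebra.algebraMapSubmonoid B' 𝔭.primeCompl) Bm n.asIdeal]
    show Ideal.map _ (Ideal.comap _ _) = Ideal.map _ (Ideal.comap _ _)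
    rw [nOf_comap Bm (𝔮 i) (T i), hi]
  haveI finMax : Finite (MaximalSpectrum Bm) := Finite.of_surjective ν hνsurj
  -- the semilocal length formula
  have hover : ∀ n : MaximalSpectrum Bm,
      n.asIdeal.comap (algebraMap A Bm) = IsLocalRing.maximalIdeal A := by
    intro n
    haveI := n.isMaximal
    exact IsLocalRing.eq_maximalIdeal (Ideal.isMaximal_comap_of_isIntegral_of_isMaximal n.asIdeal)
  have hfin : ∀ n : MaximalSpectrum Bm,
      Module.Finite (A ⧸ n.asIdeal.comap (algebraMap A Bm)) (Bm ⧸ n.asIdeal) := by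
    intro n
    exact Module.Finite.of_restrictScalars_finite A _ _
  have hflA : IsFiniteLength A (Bm ⧸ Ideal.span {r₁}) :=
    Module.length_ne_top_iff.mp hlt.ne
  have hflB : IsFiniteLength Bm (Bm ⧸ Ideal.span {r₁}) := by
    rw [isFiniteLength_iff_isNoetherian_isArtinian] at hflA ⊢
    exact ⟨isNoetherian_of_tower A hflA.1, isArtinian_of_tower A hflA.2⟩
  have hsemi := Groth.Agent.S6320.result (A := A) (B := Bm) hover hfin
    (Bm ⧸ Ideal.span {r₁}) hflB
  rw [← finsum_comp_equiv (Equiv.ofBijective ν ⟨hνinj, hνsurj⟩)] at hsemi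
  -- the terms
  have hterm : ∀ i, (Module.finrank (A ⧸ (ν i).asIdeal.comap (algebraMap A Bm))
        (Bm ⧸ (ν i).asIdeal) : ℕ∞) *
      Module.length (Localization.AtPrime (ν i).asIdeal)
        (LocalizedModule (ν i).asIdeal.primeCompl (Bm ⧸ Ideal.span {r₁})) =
      @Module.length A (ResidueField (T i)) _ _
          (Module.compHom (ResidueField (T i)) ((IsLocalRing.residue (T i)).comp (ψ i))) *
        Module.length (T i) (T i ⧸ Ideal.span {algebraMap B' (T i) r}) := by
    intro i
    show (Module.finrank (A ⧸ (nOf Bm (T i)).comap (algebraMap A Bm)) (Bm ⧸ nOf Bm (T i)) : ℕ∞) *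
      Module.length (Localization.AtPrime (nOf Bm (T i)))
        (LocalizedModule (nOf Bm (T i)).primeCompl (Bm ⧸ Ideal.span {r₁})) = _
    rw [finrank_eq_length 𝔭 A Bm (𝔮 i) (h𝔮 i) (T i) (ψ i) (hψ i) (hfin (ν i))]
    haveI := nOf_isLocalization 𝔭 Bm (𝔮 i) (h𝔮 i) (T i)
    rw [Groth.Agent.Lib.Helper85.DivPullLoc.length_localizedModule_quotient (nOf Bm (T i)) (T i)
      (Ideal.span {r₁})]
    rw [Ideal.map_span, Set.image_singleton, hr₁def, ← IsScalarTower.algebraMap_apply]
  have hsemi' : Module.length A (Bm ⧸ Ideal.span {r₁}) =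
      ∑ᶠ i, @Module.length A (ResidueField (T i)) _ _
          (Module.compHom (ResidueField (T i)) ((IsLocalRing.residue (T i)).comp (ψ i))) *
        Module.length (T i) (T i ⧸ Ideal.span {algebraMap B' (T i) r}) := by
    rw [hsemi]
    exact finsum_congr (fun i => hterm i)
  haveI := Fintype.ofFinite ι
  rw [finsum_eq_sum_of_fintype] at hsemi' ⊢
  have hne : ∀ i ∈ (Finset.univ : Finset ι), @Module.length A (ResidueField (T i)) _ _
          (Module.compHom (ResidueField (T i)) ((IsLocalRing.residue (T i)).comp (ψ i))) *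
        Module.length (T i) (T i ⧸ Ideal.span {algebraMap B' (T i) r}) ≠ ⊤ := by
    rw [← ENat.sum_ne_top, ← hsemi']
    exact hlt.ne
  rw [hsemi', ENat.toNat_sum hne]
  push_cast
  refine Finset.sum_congr rfl (fun i _ => ?_)
  rw [ENat.toNat_mul]
  push_cast
  rfl

end Main

end Groth.Agent.Lib.Helper85.NormPushAlg
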