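import Mathlib
import Groth.Prelude.Def_Cyc
import Groth.Agent.Lib.Helper85.IntMult.NormPushAlg
import Groth.Agent.Lib.Helper85.IntMult.DivPull
import Groth.Agent.Lib.Helper85.IntMult.PushSheafFun
import Groth.Agent.Lib.Helper69.GenericFinite3

/-!
# Proper pushforward of a principal divisor is the divisor of the norm (helper85)
-/

set_option autoImplicit false
set_option linter.style.haveILetI false
set_option linter.unusedSectionVars false
set_option linter.unusedVariables false
universe u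

namespace Groth.Agent.Lib.Helper85.NormPush

open AlgebraicGeometry CategoryTheory IsLocalRing
open Groth.Agent.Lib.Helper85.DivPullDict Groth.Agent.Lib.Helper85.DivPull
open Groth.Agent.Lib.Helper85.DivPullAlg Groth.Agent.Lib.Helper74

section Generic

variable {Y : Scheme.{u}} [IsIntegral Y]

/-- on an integral scheme, the map from a local ring to the residue field of the generic point is
injective -/
theorem specMap_injective_generic (y ξ : Y) (hξ : ξ = genericPoint Y) (h : ξ ⤳ y) :
    Function.Injective (Cyc.specMap y ξ h) := by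
  subst hξ
  unfold Cyc.specMap
  rw [CommRingCat.hom_comp]
  have h1 : Function.Injective (Y.presheaf.stalkSpecializes h).hom :=
    IsFractionRing.injective (Y.presheaf.stalk y) Y.functionField
  have h2 : Function.Injective (Y.residue (genericPoint Y)).hom :=
    RingHom.injective (R := Y.functionField) _
  exact h2.comp h1

theorem ker_specMap_generic (y ξ : Y) (hξ : ξ = genericPoint Y) (h : ξ ⤳ y) :
    RingHom.ker (Cyc.specMap y ξ h) = ⊥ :=
  (RingHom.injective_iff_ker_eq_bot _).mp (specMap_injective_generic y ξ hξ h)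

/-- the residue field of the generic point as the fraction field of a local ring -/
theorem isFractionRing_specMap_generic (y ξ : Y) (hξ : ξ = genericPoint Y) (h : ξ ⤳ y) :
    letI := (Cyc.specMap y ξ h).toAlgebra
    IsFractionRing (Y.presheaf.stalk y) (Y.residueField ξ) := by
  letI := (Cyc.specMap y ξ h).toAlgebra
  haveI : FaithfulSMul (Y.presheaf.stalk y) (Y.residueField ξ) :=
    (faithfulSMul_iff_algebraMap_injective _ _).mpr (specMap_injective_generic y ξ hξ h)
  refine IsFractionRing.of_field (Y.presheaf.stalk y) (Y.residueField ξ) ?_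
  intro z
  obtain ⟨s, t, -, hz⟩ := exists_specMap_div h z
  exact ⟨s, t, hz⟩

theorem ringKrullDim_stalk_generic [IsLocallyNoetherian Y] (δ : Y → ℤ) (hdim : Cyc.IsDimFun Y δ)
    (y ξ : Y) (hξ : ξ = genericPoint Y) (h : ξ ⤳ y) (h1 : δ y + 1 = δ ξ) :
    ringKrullDim (Y.presheaf.stalk y) = 1 := by
  have h2 := Groth.Agent.Lib.Helper89.DimFunJacobson.ringKrullDim_locQuot Y δ hdim h
  have h3 : (δ ξ - δ y).toNat = 1 := by omega
  rw [h3] at h2
  have hker := ker_specMap_generic y ξ hξ h
  let e : Cyc.LocQuot y ξ h ≃+* Y.presheaf.stalk y :=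
    (Ideal.quotEquivOfEq hker).trans (RingEquiv.quotientBot _)
  rw [← ringKrullDim_eq_of_ringEquiv e, h2]
  rfl

/-- the order along the generic specialization as an order over the local ring itself -/
theorem ordAt_eq_ordFrac_generic [IsLocallyNoetherian Y] (δ : Y → ℤ) (hdim : Cyc.IsDimFun Y δ)
    (y ξ : Y) (hξ : ξ = genericPoint Y) (h : ξ ⤳ y) (h1 : δ y + 1 = δ ξ)
    (g : Y.residueField ξ) :
    Cyc.ordAt y ξ h g =
      @CycAlg.ordFrac (Y.presheaf.stalk y) _ (Y.residueField ξ) _ (Cyc.specMap y ξ h).toAlgebra g := by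
  letI aK := (Cyc.specMap y ξ h).toAlgebra
  haveI frK := isFractionRing_specMap_generic y ξ hξ h
  have hker := ker_specMap_generic y ξ hξ h
  have hd1 : ringKrullDim (Y.presheaf.stalk y) = 1 := ringKrullDim_stalk_generic δ hdim y ξ hξ h h1
  haveI : Ring.KrullDimLE 1 (Y.presheaf.stalk y) := by
    rw [Ring.krullDimLE_iff, hd1]
    rfl
  by_cases hg : g = 0
  · subst hg
    have e1 : Cyc.ordAt y ξ h 0 = 0 := by
      unfold Cyc.ordAt CycAlg.ordFrac
      split_ifs with hc
      · rw [map_zero]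
        rfl
      · rfl
    have e2 : CycAlg.ordFrac (Y.presheaf.stalk y) (Y.residueField ξ) 0 = 0 := by
      unfold CycAlg.ordFrac
      split_ifs with hc
      · rw [map_zero]
        rfl
      · rfl
    rw [e1, e2]
  obtain ⟨a, b, hb, hz⟩ := exists_specMap_div h g
  have hb0 : Cyc.specMap y ξ h b ≠ 0 := fun h0 => hb (RingHom.mem_ker.mpr h0)
  have ha0 : Cyc.specMap y ξ h a ≠ 0 := by
    intro h0
    apply hg
    rw [hz, h0, zero_div]
  have ha : a ∉ RingHom.ker (Cyc.specMap y ξ h) := fun hm => ha0 (RingHom.mem_ker.mp hm)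
  have ha' : a ≠ 0 := fun h0 => ha0 (by rw [h0, map_zero])
  have hb' : b ≠ 0 := fun h0 => hb0 (by rw [h0, map_zero])
  rw [hz, ordAt_div δ hdim h h1 a b ha hb]
  have e3 : Cyc.specMap y ξ h a / Cyc.specMap y ξ h b =
      algebraMap (Y.presheaf.stalk y) (Y.residueField ξ) a *
        (algebraMap (Y.presheaf.stalk y) (Y.residueField ξ) b)⁻¹ := by
    rw [div_eq_mul_inv]
    rfl
  rw [e3, ordFracInt_mul (Y.presheaf.stalk y) (Y.residueField ξ)
      (x := algebraMap (Y.presheaf.stalk y) (Y.residueField ξ) a)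
      (y := (algebraMap (Y.presheaf.stalk y) (Y.residueField ξ) b)⁻¹) ha0 (inv_ne_zero hb0),
    ordFracInt_inv (Y.presheaf.stalk y) (Y.residueField ξ)
      (x := algebraMap (Y.presheaf.stalk y) (Y.residueField ξ) b) hb0,
    ordFracInt_algebraMap _ _ ha', ordFracInt_algebraMap _ _ hb', hker, bot_sup_eq, bot_sup_eq]
  ring

/-- additivity of the order along the generic specialization -/
theorem ordAt_div_generic [IsLocallyNoetherian Y] (δ : Y → ℤ) (hdim : Cyc.IsDimFun Y δ)
    (y ξ : Y) (hξ : ξ = genericPoint Y) (h : ξ ⤳ y) (h1 : δ y + 1 = δ ξ)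
    (g₁ g₂ : Y.residueField ξ) (hg₁ : g₁ ≠ 0) (hg₂ : g₂ ≠ 0) :
    Cyc.ordAt y ξ h (g₁ / g₂) = Cyc.ordAt y ξ h g₁ - Cyc.ordAt y ξ h g₂ := by
  rw [ordAt_eq_ordFrac_generic δ hdim y ξ hξ h h1, ordAt_eq_ordFrac_generic δ hdim y ξ hξ h h1,
    ordAt_eq_ordFrac_generic δ hdim y ξ hξ h h1]
  letI aK := (Cyc.specMap y ξ h).toAlgebra
  haveI frK := isFractionRing_specMap_generic y ξ hξ h
  have hd1 : ringKrullDim (Y.presheaf.stalk y) = 1 := ringKrullDim_stalk_generic δ hdim y ξ hξ h h1
  haveI : Ring.KrullDimLE 1 (Y.presheaf.stalk y) := by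
    rw [Ring.krullDimLE_iff, hd1]
    rfl
  rw [div_eq_mul_inv, ordFracInt_mul (Y.presheaf.stalk y) (Y.residueField ξ) hg₁ (inv_ne_zero hg₂),
    ordFracInt_inv (Y.presheaf.stalk y) (Y.residueField ξ) hg₂]
  ring

end Generic

section Sections

variable {X : Scheme.{u}} [IsIntegral X] (U : X.Opens) (hη : genericPoint X ∈ U)

/-- sections over an open containing the generic point, mapped to its residue field -/
noncomputable def secToGen : Γ(X, U) →+* X.residueField (genericPoint X) :=
  (X.presheaf.germ U (genericPoint X) hη ≫ X.residue (genericPoint X)).hom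

theorem secToGen_injective : Function.Injective (secToGen U hη) := by
  unfold secToGen
  rw [CommRingCat.hom_comp]
  have h1 : Function.Injective (X.presheaf.germ U (genericPoint X) hη).hom :=
    germ_injective_of_isIntegral X (genericPoint X) hη
  have h2 : Function.Injective (X.residue (genericPoint X)).hom :=
    RingHom.injective (R := X.functionField) _
  exact h2.comp h1

theorem specMap_germ (x : X) (hx : x ∈ U) (h : genericPoint X ⤳ x) (r : Γ(X, U)) :
    Cyc.specMap x (genericPoint X) h (X.presheaf.germ U x hx r) = secToGen U hη r := by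
  unfold Cyc.specMap secToGen
  have h1 := X.presheaf.germ_stalkSpecializes hx h
  rw [CommRingCat.hom_comp, CommRingCat.hom_comp, RingHom.comp_apply, RingHom.comp_apply]
  congr 1
  exact congrArg (fun t => t.hom r) h1

theorem isFractionRing_secToGen (hU : IsAffineOpen U) :
    letI := (secToGen U hη).toAlgebra
    IsFractionRing Γ(X, U) (X.residueField (genericPoint X)) := by
  letI := (secToGen U hη).toAlgebra
  haveI : Nonempty U := ⟨⟨_, hη⟩⟩
  haveI : FaithfulSMul Γ(X, U) (X.residueField (genericPoint X)) :=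
    (faithfulSMul_iff_algebraMap_injective _ _).mpr (secToGen_injective U hη)
  haveI := functionField_isFractionRing_of_isAffineOpen X U hU
  refine IsFractionRing.of_field Γ(X, U) (X.residueField (genericPoint X)) ?_
  intro z
  obtain ⟨w, rfl⟩ := Scheme.residue_surjective X (genericPoint X) z
  obtain ⟨a, b, hb, hw⟩ := IsFractionRing.div_surjective Γ(X, U) (K := X.functionField) w
  refine ⟨a, b, ?_⟩
  rw [← hw]
  have := map_div₀ (X.residue (genericPoint X)).hom (algebraMap Γ(X, U) X.functionField a)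
    (algebraMap Γ(X, U) X.functionField b)
  exact this

end Sections

section Fibre

variable {X Y : Scheme.{u}} [IsIntegral X] [IsIntegral Y] (δX : X → ℤ) (δY : Y → ℤ)
  (p : X ⟶ Y)

/-- the map of local rings at a point of the fibre over `y` -/
noncomputable def fibMap (y : Y) (x : X) (hx : p x = y) :
    Y.presheaf.stalk y →+* X.presheaf.stalk x :=
  (Y.presheaf.stalkSpecializes (specializes_of_eq hx) ≫ p.stalkMap x).hom

theorem fibMap_germ (y : Y) (x : X) (hx : p x = y) (V : Y.Opens) (hy : y ∈ V) (a : Γ(Y, V)) :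
    fibMap p y x hx (Y.presheaf.germ V y hy a) =
      X.presheaf.germ (p ⁻¹ᵁ V) x (show p x ∈ V from hx ▸ hy) ((p.app V).hom a) := by
  subst hx
  unfold fibMap
  rw [TopCat.Presheaf.stalkSpecializes_refl, Category.id_comp]
  exact congrArg (fun t => t.hom a) (Scheme.Hom.germ_stalkMap p V x hy)

/-- the length over `O_{Y,y}` of the residue field of a point of the fibre is the residue degree -/
theorem length_residueField_fibMap (y : Y) (x : X) (hx : p x = y)
    (hfin : @Module.Finite (Y.residueField (p x)) (X.residueField x) _ _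
      (p.residueFieldMap x).hom.toAlgebra.toModule) :
    @Module.length (Y.presheaf.stalk y) (ResidueField (X.presheaf.stalk x)) _ _
        (Module.compHom (ResidueField (X.presheaf.stalk x))
          ((IsLocalRing.residue (X.presheaf.stalk x)).comp (fibMap p y x hx))) =
      (p.residueDegree x : ℕ∞) := by
  subst hx
  have h1 : fibMap p (p x) x rfl = (p.stalkMap x).hom := by
    unfold fibMap
    rw [TopCat.Presheaf.stalkSpecializes_refl, Category.id_comp]
  rw [h1, Groth.Agent.Lib.Helper85.PushLenAlg.length_residueField_compHom (p.stalkMap x).hom]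
  exact Groth.Agent.Lib.Helper85.PushLen.lenDeg_eq_residueDegree p x hfin

end Fibre

section Local

variable {X Y : Scheme.{u}} [IsIntegral X] [IsIntegral Y] [IsLocallyNoetherian X]
  [IsLocallyNoetherian Y] (δY : Y → ℤ) (hYdim : Cyc.IsDimFun Y δY) (p : X ⟶ Y)
  (hdom : p (genericPoint X) = genericPoint Y)
  (y : Y) (hξy : p (genericPoint X) ⤳ y) (hy1 : δY y + 1 = δY (p (genericPoint X)))
  (V : Y.Opens) (hV : IsAffineOpen V) (hyV : y ∈ V) (hfinV : IsFinite (p ∣_ V))
  (hfib : (p ⁻¹' {y}).Finite)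
  (hres : ∀ x : X, p x = y → @Module.Finite (Y.residueField (p x)) (X.residueField x) _ _
    (p.residueFieldMap x).hom.toAlgebra.toModule)
  (hKL : @Module.Finite (Y.residueField (p (genericPoint X))) (X.residueField (genericPoint X)) _ _
    (p.residueFieldMap (genericPoint X)).hom.toAlgebra.toModule)
  (hηU : genericPoint X ∈ p ⁻¹ᵁ V)

include hyV in
theorem fib_mem (x : ↥(p ⁻¹' {y})) : x.1 ∈ p ⁻¹ᵁ V := by
  have h : p x.1 = y := x.2
  show p x.1 ∈ V
  rw [h]
  exact hyV

include hYdim hdom hy1 hV hyV hfinV hfib hres hKL in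
set_option maxHeartbeats 800000 in
set_option backward.isDefEq.respectTransparency.types false in
/-- the order at `y` of the norm of a section over `p⁻¹ V` as a sum of lengths over the fibre -/
theorem ordAt_norm_section (r : Γ(X, p ⁻¹ᵁ V)) (hr : r ≠ 0) :
    Cyc.ordAt y (p (genericPoint X)) hξy
        (Cyc.normGen p (genericPoint X) (secToGen (p ⁻¹ᵁ V) hηU r)) =
      ∑ᶠ x : ↥(p ⁻¹' {y}), ((p.residueDegree x.1 : ℕ) : ℤ) *
        (((Module.length (X.presheaf.stalk x.1) (X.presheaf.stalk x.1 ⧸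
          Ideal.span {(X.presheaf.germ (p ⁻¹ᵁ V) x.1
            (fib_mem p y V hyV x)).hom r})).toNat : ℕ) : ℤ) := by
  classical
  have hmemU : ∀ x : ↥(p ⁻¹' {y}), x.1 ∈ p ⁻¹ᵁ V := fun x => fib_mem p y V hyV x
  haveI hVaff : IsAffine (V : Scheme.{u}) := hV
  have hUaff : IsAffineOpen (p ⁻¹ᵁ V) :=
    ((HasAffineProperty.iff_of_isAffine (P := @IsFinite)).mp hfinV).1
  haveI hne : Nonempty (p ⁻¹ᵁ V) := ⟨⟨_, hηU⟩⟩
  haveI domB : IsDomain Γ(X, p ⁻¹ᵁ V) := AlgebraicGeometry.IsIntegral.component_integral _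
  -- the finite map on sections
  have happ : p.appLE V (p ⁻¹ᵁ V) le_rfl = p.app V := by simp [Scheme.Hom.appLE]
  have hφfin : (p.app V).hom.Finite := by
    rw [← happ]
    rw [← Groth.Agent.Lib.Helper69.isFinite_resLE_iff_finite_appLE p (p ⁻¹ᵁ V) V hUaff hV le_rfl,
      Scheme.Hom.resLE_eq_morphismRestrict]
    exact hfinV
  letI aAB : Algebra Γ(Y, V) Γ(X, p ⁻¹ᵁ V) := (p.app V).hom.toAlgebra
  haveI finAB : Module.Finite Γ(Y, V) Γ(X, p ⁻¹ᵁ V) := hφfin
  -- the local ring downstairs
  letI aAs : Algebra Γ(Y, V) (Y.presheaf.stalk y) :=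
    TopCat.Presheaf.algebra_section_stalk Y.presheaf ⟨y, hyV⟩
  haveI locA : IsLocalization.AtPrime (Y.presheaf.stalk y) (hV.primeIdealOf ⟨y, hyV⟩).asIdeal :=
    hV.isLocalization_stalk ⟨y, hyV⟩
  have hA : ringKrullDim (Y.presheaf.stalk y) = 1 :=
    ringKrullDim_stalk_generic δY hYdim y _ hdom hξy hy1
  letI aAK : Algebra (Y.presheaf.stalk y) (Y.residueField (p (genericPoint X))) :=
    (Cyc.specMap y (p (genericPoint X)) hξy).toAlgebra
  haveI frAK : IsFractionRing (Y.presheaf.stalk y) (Y.residueField (p (genericPoint X))) :=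
    isFractionRing_specMap_generic y _ hdom hξy
  letI aBL : Algebra Γ(X, p ⁻¹ᵁ V) (X.residueField (genericPoint X)) :=
    (secToGen (p ⁻¹ᵁ V) hηU).toAlgebra
  haveI frBL : IsFractionRing Γ(X, p ⁻¹ᵁ V) (X.residueField (genericPoint X)) :=
    isFractionRing_secToGen (p ⁻¹ᵁ V) hηU hUaff
  letI aKL : Algebra (Y.residueField (p (genericPoint X))) (X.residueField (genericPoint X)) :=
    (p.residueFieldMap (genericPoint X)).hom.toAlgebra
  haveI finKL : FiniteDimensional (Y.residueField (p (genericPoint X)))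
      (X.residueField (genericPoint X)) := hKL
  -- compatibility of the two routes to `κ(η_X)`
  have hcomm : ∀ a' : Γ(Y, V),
      algebraMap (Y.residueField (p (genericPoint X))) (X.residueField (genericPoint X))
        (algebraMap (Y.presheaf.stalk y) (Y.residueField (p (genericPoint X)))
          (algebraMap Γ(Y, V) (Y.presheaf.stalk y) a')) =
      algebraMap Γ(X, p ⁻¹ᵁ V) (X.residueField (genericPoint X))
        (algebraMap Γ(Y, V) Γ(X, p ⁻¹ᵁ V) a') := by
    intro a'
    show (p.residueFieldMap (genericPoint X)).hom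
        (Cyc.specMap y (p (genericPoint X)) hξy ((Y.presheaf.germ V y hyV).hom a')) =
      secToGen (p ⁻¹ᵁ V) hηU ((p.app V).hom a')
    have hξV : p (genericPoint X) ∈ V := hηU
    have h1 : Cyc.specMap y (p (genericPoint X)) hξy ((Y.presheaf.germ V y hyV).hom a') =
        (Y.residue (p (genericPoint X))).hom
          ((Y.presheaf.germ V (p (genericPoint X)) hξV).hom a') := by
      unfold Cyc.specMap
      rw [CommRingCat.hom_comp, RingHom.comp_apply]
      congr 1
      exact congrArg (fun t => t.hom a') (Y.presheaf.germ_stalkSpecializes hyV hξy)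
    rw [h1]
    have h2 := congrArg (fun t => t.hom ((Y.presheaf.germ V (p (genericPoint X)) hξV).hom a'))
      (Scheme.residue_residueFieldMap p (genericPoint X))
    simp only [CommRingCat.hom_comp, RingHom.comp_apply] at h2
    rw [h2]
    unfold secToGen
    rw [CommRingCat.hom_comp, RingHom.comp_apply]
    congr 1
    exact congrArg (fun t => t.hom a') (Scheme.Hom.germ_stalkMap p V (genericPoint X) hξV)
  -- injectivity on sections
  have hinjAK : Function.Injective (fun a' : Γ(Y, V) =>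
      algebraMap (Y.presheaf.stalk y) (Y.residueField (p (genericPoint X)))
        (algebraMap Γ(Y, V) (Y.presheaf.stalk y) a')) := by
    have h1 : Function.Injective (Y.presheaf.germ V y hyV).hom :=
      germ_injective_of_isIntegral Y y hyV
    exact (specMap_injective_generic y _ hdom hξy).comp h1
  have hinj : Function.Injective (algebraMap Γ(Y, V) Γ(X, p ⁻¹ᵁ V)) := by
    intro a b hab
    apply hinjAK
    apply (algebraMap (Y.residueField (p (genericPoint X)))
      (X.residueField (genericPoint X))).injective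
    show algebraMap _ _ (algebraMap _ _ (algebraMap _ _ a)) =
      algebraMap _ _ (algebraMap _ _ (algebraMap _ _ b))
    rw [hcomm, hcomm, hab]
  -- the primes over `y`
  haveI finι : Finite ↥(p ⁻¹' {y}) := Set.finite_coe_iff.mpr hfib
  let 𝔮 : ↥(p ⁻¹' {y}) → Ideal Γ(X, p ⁻¹ᵁ V) := fun x =>
    (hUaff.primeIdealOf ⟨x.1, hmemU x⟩).asIdeal
  haveI h𝔮prime : ∀ x, (𝔮 x).IsPrime := fun x => (hUaff.primeIdealOf ⟨x.1, hmemU x⟩).isPrime
  have h𝔮 : ∀ x, (𝔮 x).comap (algebraMap Γ(Y, V) Γ(X, p ⁻¹ᵁ V)) =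
      (hV.primeIdealOf ⟨y, hyV⟩).asIdeal := by
    intro x
    have h1 := IsAffineOpen.comap_primeIdealOf_appLE (f := p) V hV (p ⁻¹ᵁ V) hUaff le_rfl (hmemU x)
    have h2 : (hV.primeIdealOf ⟨p x.1, hmemU x⟩) = hV.primeIdealOf ⟨y, hyV⟩ := by
      congr 1
      exact Subtype.ext x.2
    rw [h2, happ] at h1
    exact congrArg PrimeSpectrum.asIdeal h1
  have h𝔮inj : Function.Injective 𝔮 := by
    intro x x' hxx'
    have h1 : hUaff.primeIdealOf ⟨x.1, hmemU x⟩ = hUaff.primeIdealOf ⟨x'.1, hmemU x'⟩ :=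
      PrimeSpectrum.ext hxx'
    have h2 := congrArg hUaff.fromSpec h1
    rw [hUaff.fromSpec_primeIdealOf, hUaff.fromSpec_primeIdealOf] at h2
    exact Subtype.ext h2
  have h𝔮surj : ∀ 𝔮' : Ideal Γ(X, p ⁻¹ᵁ V), 𝔮'.IsPrime →
      𝔮'.comap (algebraMap Γ(Y, V) Γ(X, p ⁻¹ᵁ V)) = (hV.primeIdealOf ⟨y, hyV⟩).asIdeal →
      ∃ x, 𝔮 x = 𝔮' := by
    intro 𝔮' h𝔮' hcomap
    set x₀ : X := hUaff.fromSpec ⟨𝔮', h𝔮'⟩ with hx₀
    have hx₀U : x₀ ∈ p ⁻¹ᵁ V := by
      have : x₀ ∈ Set.range hUaff.fromSpec := ⟨_, rfl⟩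
      rw [hUaff.range_fromSpec] at this
      exact this
    have hprime : hUaff.primeIdealOf ⟨x₀, hx₀U⟩ = ⟨𝔮', h𝔮'⟩ := by
      apply hUaff.fromSpec.isOpenEmbedding.injective
      rw [hUaff.fromSpec_primeIdealOf]
    have h1 := IsAffineOpen.comap_primeIdealOf_appLE (f := p) V hV (p ⁻¹ᵁ V) hUaff le_rfl hx₀U
    rw [hprime, happ] at h1
    have h2 : hV.primeIdealOf ⟨p x₀, hx₀U⟩ = hV.primeIdealOf ⟨y, hyV⟩ := by
      rw [← h1]
      exact PrimeSpectrum.ext hcomap
    have h3 := congrArg hV.fromSpec h2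
    rw [hV.fromSpec_primeIdealOf, hV.fromSpec_primeIdealOf] at h3
    refine ⟨⟨x₀, h3⟩, ?_⟩
    show (hUaff.primeIdealOf ⟨x₀, _⟩).asIdeal = 𝔮'
    rw [hprime]
  -- the models of the local rings upstairs
  letI aT : ∀ x : ↥(p ⁻¹' {y}), Algebra Γ(X, p ⁻¹ᵁ V) (X.presheaf.stalk x.1) := fun x =>
    TopCat.Presheaf.algebra_section_stalk X.presheaf ⟨x.1, hmemU x⟩
  haveI locT : ∀ x : ↥(p ⁻¹' {y}), IsLocalization.AtPrime (X.presheaf.stalk x.1) (𝔮 x) := fun x =>
    hUaff.isLocalization_stalk ⟨x.1, hmemU x⟩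
  have hψ : ∀ (x : ↥(p ⁻¹' {y})) (a' : Γ(Y, V)),
      fibMap p y x.1 x.2 (algebraMap Γ(Y, V) (Y.presheaf.stalk y) a') =
        algebraMap Γ(X, p ⁻¹ᵁ V) (X.presheaf.stalk x.1) (algebraMap Γ(Y, V) Γ(X, p ⁻¹ᵁ V) a') :=
    fun x a' => fibMap_germ p y x.1 x.2 V hyV a'
  have key := Groth.Agent.Lib.Helper85.NormPushAlg.ordFrac_norm_eq_finsum
    (A' := Γ(Y, V)) (B' := Γ(X, p ⁻¹ᵁ V)) hinj (hV.primeIdealOf ⟨y, hyV⟩).asIdeal
    (Y.presheaf.stalk y) hA (Y.residueField (p (genericPoint X))) (X.residueField (genericPoint X))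
    hcomm 𝔮 h𝔮 h𝔮inj h𝔮surj (fun x : ↥(p ⁻¹' {y}) => X.presheaf.stalk x.1)
    (fun x => fibMap p y x.1 x.2) hψ r hr
  rw [ordAt_eq_ordFrac_generic δY hYdim y _ hdom hξy hy1]
  refine Eq.trans ?_ (key.trans ?_)
  · rfl
  · refine finsum_congr (fun x => ?_)
    rw [length_residueField_fibMap p y x.1 x.2 (hres x.1 x.2), ENat.toNat_natCast]
    rfl

end Local

section Main

variable {X Y : Scheme.{u}} [IsIntegral X] [IsIntegral Y] (δX : X → ℤ) (δY : Y → ℤ)
  (hX : Cyc.IsSetup X δX) (hY : Cyc.IsSetup Y δY) (p : X ⟶ Y) [IsProper p]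
  (hδ : Cyc.DeltaCompat p δX δY) (hdom : p (genericPoint X) = genericPoint Y)
  (hn : δX (genericPoint X) = δY (genericPoint Y))

include hX hY hδ hdom hn in
set_option maxHeartbeats 800000 in
set_option backward.isDefEq.respectTransparency.types false in
/-- the coefficient of `p_*(div f)` at a point of codimension one -/
theorem map_divFun_apply (f : X.residueField (genericPoint X)) (hf : f ≠ 0) (y : Y)
    (hξy : p (genericPoint X) ⤳ y) (hy1 : δY y + 1 = δY (p (genericPoint X))) :
    ∑ᶠ x ∈ p ⁻¹' {y}, Cyc.divFun δX (genericPoint X) f x *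
        ((AlgebraicCycle.mapCoeff p δX δY x : ℕ) : ℤ) =
      Cyc.ordAt y (p (genericPoint X)) hξy (Cyc.normGen p (genericPoint X) f) := by
  classical
  obtain ⟨hXn, -, hXdim⟩ := hX
  obtain ⟨hYn, -, hYdim⟩ := hY
  haveI := hXn
  haveI := hYn
  have hηsp : ∀ x : X, genericPoint X ⤳ x := fun x => genericPoint_specializes x
  -- the points of the fibre
  have hfacts : ∀ x : X, p x = y → δX x = δY y ∧
      (letI := (p.residueFieldMap x).hom.toAlgebra
       Algebra.trdeg (Y.residueField (p x)) (X.residueField x)) = 0 := by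
    intro x hx
    obtain ⟨n, hn1, hn2⟩ := hδ x
    rw [hx] at hn2
    have hle := Groth.Agent.Lib.Helper89.DimFunJacobson.delta_le_of_specializes X δX hXdim (hηsp x)
    have hn0 : n = 0 := by
      by_contra hne
      have hpos : 1 ≤ (n : ℤ) := by
        have : 1 ≤ n := Nat.one_le_iff_ne_zero.mpr hne
        exact_mod_cast this
      have heq : δX x = δX (genericPoint X) := by
        rw [hdom] at hy1
        omega
      have hxe : genericPoint X = x := by
        by_contra hne'
        have := (hXdim (genericPoint X) x (hηsp x) hne').1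
        omega
      rw [← hxe] at hx
      rw [hx] at hy1
      omega
    subst hn0
    refine ⟨by simpa using hn2, ?_⟩
    rw [hn1]
    simp
  have hres : ∀ x : X, p x = y → @Module.Finite (Y.residueField (p x)) (X.residueField x) _ _
      (p.residueFieldMap x).hom.toAlgebra.toModule := fun x hx =>
    Groth.Agent.Lib.Helper85.PushSheafFun.finite_residueField_of_trdeg_eq_zero p x (hfacts x hx).2
  have hKL : @Module.Finite (Y.residueField (p (genericPoint X))) (X.residueField (genericPoint X))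
      _ _ (p.residueFieldMap (genericPoint X)).hom.toAlgebra.toModule := by
    apply Groth.Agent.Lib.Helper85.PushSheafFun.finite_residueField_of_trdeg_eq_zero
    obtain ⟨n, hn1, hn2⟩ := hδ (genericPoint X)
    rw [hdom] at hn2
    have hn0 : n = 0 := by omega
    rw [hn1, hn0]
    simp
  -- finiteness of the fibre
  have hfib : (p ⁻¹' {y}).Finite := by
    obtain ⟨V₀, hV₀, hyV₀, -⟩ := exists_isAffineOpen_mem_and_subset (X := Y) (x := y) (U := ⊤) trivial
    have hc : IsCompact ((p ⁻¹ᵁ V₀ : X.Opens) : Set X) :=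
      p.isSpectralMap.2 V₀.isOpen hV₀.isCompact
    have hZcl : IsClosed (p ⁻¹' (closure {y})) := isClosed_closure.preimage p.continuous
    refine (Groth.Agent.Lib.Helper85.PushSheafFun.finite_maximal_points_of_isCompact (p ⁻¹ᵁ V₀) hc
      (p ⁻¹' (closure {y})) hZcl).subset ?_
    intro x hx
    have hpx : p x = y := hx
    refine ⟨?_, ?_, ?_⟩
    · show p x ∈ V₀
      rw [hpx]
      exact hyV₀
    · show p x ∈ closure {y}
      rw [hpx]
      exact subset_closure rfl
    · intro z hz hsp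
      by_contra hne
      have h1 := (hXdim z x hsp hne).1
      have h2 := (hfacts x hpx).1
      have hzη : genericPoint X ≠ z := by
        intro he
        rw [← he] at hz
        have hsp' : y ⤳ p (genericPoint X) := specializes_iff_mem_closure.mpr hz
        have := Groth.Agent.Lib.Helper89.DimFunJacobson.delta_le_of_specializes Y δY hYdim hsp'
        omega
      have h3 := (hXdim (genericPoint X) z (hηsp z) hzη).1
      rw [hdom] at hy1
      omega
  -- the affine neighbourhood
  obtain ⟨V₁, hyV₁, hV₁⟩ := exists_isFinite_morphismRestrict_of_finite_preimage_singleton p y hfib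
  obtain ⟨V, hV, hyV, hVV₁⟩ := exists_isAffineOpen_mem_and_subset (x := y) (U := V₁) hyV₁
  have hfinV : IsFinite (p ∣_ V) :=
    Groth.Agent.Lib.Helper69.restrict_of_le (P := @IsFinite) p hVV₁ hV₁
  have hηU : genericPoint X ∈ p ⁻¹ᵁ V := hξy.mem_open V.isOpen hyV
  haveI hVaff : IsAffine (V : Scheme.{u}) := hV
  have hUaff : IsAffineOpen (p ⁻¹ᵁ V) :=
    ((HasAffineProperty.iff_of_isAffine (P := @IsFinite)).mp hfinV).1
  -- write `f` as a fraction of sections
  letI aBL : Algebra Γ(X, p ⁻¹ᵁ V) (X.residueField (genericPoint X)) :=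
    (secToGen (p ⁻¹ᵁ V) hηU).toAlgebra
  haveI frBL : IsFractionRing Γ(X, p ⁻¹ᵁ V) (X.residueField (genericPoint X)) :=
    isFractionRing_secToGen (p ⁻¹ᵁ V) hηU hUaff
  obtain ⟨r, s, hs, hfrs⟩ := IsFractionRing.div_surjective Γ(X, p ⁻¹ᵁ V)
    (K := X.residueField (genericPoint X)) f
  have hfrs' : f = secToGen (p ⁻¹ᵁ V) hηU r / secToGen (p ⁻¹ᵁ V) hηU s := hfrs.symm
  have hιs : secToGen (p ⁻¹ᵁ V) hηU s ≠ 0 := by
    intro h0
    apply hf
    rw [hfrs', h0, div_zero]
  have hιr : secToGen (p ⁻¹ᵁ V) hηU r ≠ 0 := by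
    intro h0
    apply hf
    rw [hfrs', h0, zero_div]
  have hr : r ≠ 0 := fun h0 => hιr (by rw [h0, map_zero])
  have hs0 : s ≠ 0 := fun h0 => hιs (by rw [h0, map_zero])
  -- the right hand side
  have hNs : Cyc.normGen p (genericPoint X) (secToGen (p ⁻¹ᵁ V) hηU s) ≠ 0 := by
    unfold Cyc.normGen
    letI := (p.residueFieldMap (genericPoint X)).hom.toAlgebra
    haveI : FiniteDimensional (Y.residueField (p (genericPoint X)))
      (X.residueField (genericPoint X)) := hKL
    exact Algebra.norm_ne_zero_iff.mpr hιs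
  have hNr : Cyc.normGen p (genericPoint X) (secToGen (p ⁻¹ᵁ V) hηU r) ≠ 0 := by
    unfold Cyc.normGen
    letI := (p.residueFieldMap (genericPoint X)).hom.toAlgebra
    haveI : FiniteDimensional (Y.residueField (p (genericPoint X)))
      (X.residueField (genericPoint X)) := hKL
    exact Algebra.norm_ne_zero_iff.mpr hιr
  have hNdiv : Cyc.normGen p (genericPoint X) f =
      Cyc.normGen p (genericPoint X) (secToGen (p ⁻¹ᵁ V) hηU r) /
        Cyc.normGen p (genericPoint X) (secToGen (p ⁻¹ᵁ V) hηU s) := by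
    rw [eq_div_iff hNs]
    unfold Cyc.normGen
    letI := (p.residueFieldMap (genericPoint X)).hom.toAlgebra
    rw [← map_mul, hfrs', div_mul_cancel₀ _ hιs]
  rw [hNdiv, ordAt_div_generic δY hYdim y _ hdom hξy hy1 _ _ hNr hNs,
    ordAt_norm_section δY hYdim p hdom y hξy hy1 V hV hyV hfinV hfib hres hKL hηU r hr,
    ordAt_norm_section δY hYdim p hdom y hξy hy1 V hV hyV hfinV hfib hres hKL hηU s hs0]
  -- the left hand side
  rw [← finsum_set_coe_eq_finsum_mem]
  haveI finι : Finite ↥(p ⁻¹' {y}) := Set.finite_coe_iff.mpr hfib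
  haveI := Fintype.ofFinite ↥(p ⁻¹' {y})
  rw [finsum_eq_sum_of_fintype, finsum_eq_sum_of_fintype, finsum_eq_sum_of_fintype,
    ← Finset.sum_sub_distrib]
  refine Finset.sum_congr rfl (fun x _ => ?_)
  have hpx : p x.1 = y := x.2
  have hxU : x.1 ∈ p ⁻¹ᵁ V := fib_mem p y V hyV x
  have hδx : δX x.1 + 1 = δX (genericPoint X) := by
    have := (hfacts x.1 hpx).1
    rw [hdom] at hy1
    omega
  have hdiv : Cyc.divFun δX (genericPoint X) f x.1 =
      Cyc.ordAt x.1 (genericPoint X) (hηsp x.1) f := by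
    unfold Cyc.divFun
    rw [dif_pos ⟨hηsp x.1, hδx⟩]
  have hcoeff : AlgebraicCycle.mapCoeff p δX δY x.1 = p.residueDegree x.1 := by
    unfold AlgebraicCycle.mapCoeff
    rw [if_pos]
    show δX x.1 = δY (p x.1)
    rw [hpx]
    exact (hfacts x.1 hpx).1
  rw [hdiv, hcoeff]
  have hker := ker_specMap_generic x.1 (genericPoint X) rfl (hηsp x.1)
  have e1 := specMap_germ (p ⁻¹ᵁ V) hηU x.1 hxU (hηsp x.1) r
  have e2 := specMap_germ (p ⁻¹ᵁ V) hηU x.1 hxU (hηsp x.1) s
  have ha : (X.presheaf.germ (p ⁻¹ᵁ V) x.1 hxU).hom r ∉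
      RingHom.ker (Cyc.specMap x.1 (genericPoint X) (hηsp x.1)) := by
    intro hm
    apply hιr
    rw [← e1]
    exact RingHom.mem_ker.mp hm
  have hb : (X.presheaf.germ (p ⁻¹ᵁ V) x.1 hxU).hom s ∉
      RingHom.ker (Cyc.specMap x.1 (genericPoint X) (hηsp x.1)) := by
    intro hm
    apply hιs
    rw [← e2]
    exact RingHom.mem_ker.mp hm
  rw [hfrs', ← e1, ← e2, ordAt_div δX hXdim (hηsp x.1) hδx _ _ ha hb, hker, bot_sup_eq, bot_sup_eq]
  ring

end Main

end Groth.Agent.Lib.Helper85.NormPush
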