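import Groth.Agent.Lib.Helper85.IntMult.DivPull
import Groth.Agent.Lib.Helper85.IntMult.PushSheafFun

/-!
# Flat pullback preserves rational equivalence (helper85)
-/

set_option autoImplicit false
set_option linter.style.haveILetI false
set_option linter.unusedSectionVars false
universe u

namespace Groth.Agent.Lib.Helper85.DivPullRat

open AlgebraicGeometry CategoryTheory IsLocalRing Groth.Agent.Lib.Helper55
open Groth.Agent.Lib.Helper85.DivPull Groth.Agent.Lib.Helper74

/-- the order of a power -/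
theorem ordFrac_pow (R : Type u) [CommRing R] (K : Type u) [Field K] [Algebra R K] (h : K)
    (hh : h ≠ 0) (n : ℕ) : CycAlg.ordFrac R K (h ^ n) = n * CycAlg.ordFrac R K h := by
  by_cases hcond : IsNoetherianRing R ∧ Ring.KrullDimLE 1 R ∧ Nontrivial R ∧ IsFractionRing R K
  · haveI := hcond.1; haveI := hcond.2.1; haveI := hcond.2.2.1; haveI := hcond.2.2.2
    haveI : IsDomain R :=
      Function.Injective.isDomain (algebraMap R K) (IsFractionRing.injective R K)
    induction n with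
    | zero => simpa using ordFracInt_one R K
    | succ n ih =>
      rw [pow_succ, ordFracInt_mul R K (pow_ne_zero n hh) hh, ih]
      push_cast
      ring
  · unfold CycAlg.ordFrac
    rw [dif_neg hcond, dif_neg hcond, mul_zero]

variable {X : Scheme.{u}}

theorem divFun_pow (δ : X → ℤ) (ξ : X) (h : X.residueField ξ) (hh : h ≠ 0) (n : ℕ) (x : X) :
    Cyc.divFun δ ξ (h ^ n) x = n * Cyc.divFun δ ξ h x := by
  unfold Cyc.divFun
  split_ifs with hc
  · exact ordFrac_pow _ _ h hh n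
  · rw [mul_zero]

/-- a `finsum` over a sigma type as an iterated `finsum` -/
theorem finsum_sigma' {ι : Type*} {β : ι → Type*} {M : Type*} [AddCommMonoid M]
    (f : (Σ i, β i) → M) (hf : (Function.support f).Finite) :
    ∑ᶠ j, f j = ∑ᶠ i, ∑ᶠ b, f ⟨i, b⟩ := by
  classical
  set s := hf.toFinset with hs
  have hmem : ∀ j, f j ≠ 0 → j ∈ s := fun j hj => hf.mem_toFinset.mpr hj
  have h1 : ∑ᶠ j, f j = ∑ j ∈ s, f j :=
    finsum_eq_sum_of_support_subset _ (fun j hj => Finset.mem_coe.mpr (hmem j hj))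
  have h2 : ∀ i, ∑ᶠ b, f ⟨i, b⟩ =
      ∑ b ∈ s.preimage (Sigma.mk i) sigma_mk_injective.injOn, f ⟨i, b⟩ := by
    intro i
    apply finsum_eq_sum_of_support_subset
    intro b hb
    rw [Finset.coe_preimage, Set.mem_preimage, Finset.mem_coe]
    exact hmem _ hb
  have h3 : ∑ᶠ i, ∑ᶠ b, f ⟨i, b⟩ = ∑ i ∈ s.image Sigma.fst, ∑ᶠ b, f ⟨i, b⟩ := by
    apply finsum_eq_sum_of_support_subset
    intro i hi
    rw [Function.mem_support] at hi
    rw [Finset.mem_coe, Finset.mem_image]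
    by_contra hcon
    apply hi
    apply finsum_eq_zero_of_forall_eq_zero
    intro b
    by_contra hb
    exact hcon ⟨⟨i, b⟩, hmem _ hb, rfl⟩
  rw [h1, h3]
  simp_rw [h2]
  rw [← Finset.sum_sigma, Finset.sigma_image_fst_preimage_mk]

/-- linearity of the flat pullback of functions -/
theorem pullFun_finsum {X X' : Scheme.{u}} (p : X' ⟶ X) (δ : X → ℤ) (δ' : X' → ℤ) (c : ℤ)
    {ι : Type*} (β : ι → X → ℤ) (x' : X') :
    Cyc.pullFun p δ' δ c (fun x => ∑ᶠ i, β i x) x' = ∑ᶠ i, Cyc.pullFun p δ' δ c (β i) x' := by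
  unfold Cyc.pullFun
  by_cases h : δ' x' = δ (p x') + c
  · simp only [if_pos h]
    rw [finsum_mul]
  · simp only [if_neg h]
    rw [finsum_zero]

/-- **Flat pullback preserves rational equivalence to zero.** -/
theorem ratEquivZero_pullFun {X X' : Scheme.{u}} (δ : X → ℤ) (δ' : X' → ℤ)
    (hX : Cyc.IsSetup X δ) (hX' : Cyc.IsSetup X' δ') (p : X' ⟶ X) [Flat p] (c : ℤ)
    (hc : ∀ x' : X', GenFib p x' → δ' x' = δ (p x') + c) (k : ℤ) (α : AlgebraicCycle X ℤ)
    (h0 : Cyc.RatEquivZero δ k α) (α' : AlgebraicCycle X' ℤ)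
    (hα' : ⇑α' = Cyc.pullFun p δ' δ c ⇑α) : Cyc.RatEquivZero δ' (k + c) α' := by
  obtain ⟨ι, ξ, f, hδξ, hf0, hlf, hsum⟩ := h0
  haveI hN' : IsLocallyNoetherian X' := hX'.1
  let S : ι → Type u := fun i => {ξ' : X' // p ξ' = ξ i ∧ GenFib p ξ'}
  let ξ'' : (Σ i, S i) → X' := fun j => j.2.1
  let f' : (j : Σ i, S i) → X'.residueField (ξ'' j) := fun j =>
    ((p.residueFieldMap j.2.1).hom ((X.residueFieldCongr j.2.2.1.symm).hom (f j.1))) ^
      (fibMult p j.2.1)
  have hres0 : ∀ j : Σ i, S i,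
      (p.residueFieldMap j.2.1).hom ((X.residueFieldCongr j.2.2.1.symm).hom (f j.1)) ≠ 0 := by
    intro j
    rw [Ne, map_eq_zero_iff _ (RingHom.injective _), map_eq_zero_iff _ (RingHom.injective _)]
    exact hf0 j.1
  -- local finiteness
  have hlf' : ∀ x' : X', ∃ U' : Set X', IsOpen U' ∧ x' ∈ U' ∧
      {j : Σ i, S i | (closure {ξ'' j} ∩ U').Nonempty}.Finite := by
    intro x'
    obtain ⟨U, hUo, hxU, hfin⟩ := hlf (p x')
    obtain ⟨_, ⟨V, hV, rfl⟩, hx'V, -⟩ :=
      X'.isBasis_affineOpens.exists_subset_of_mem_open (Set.mem_univ x') isOpen_univ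
    refine ⟨p ⁻¹' U ∩ V, (hUo.preimage p.continuous).inter V.isOpen, ⟨hxU, hx'V⟩, ?_⟩
    have hFin : ∀ i : ι, {x : X' | x ∈ V ∧ x ∈ p ⁻¹' closure {ξ i} ∧
        ∀ z ∈ p ⁻¹' closure {ξ i}, z ⤳ x → z = x}.Finite := fun i =>
      Groth.Agent.Lib.Helper85.PushSheafFun.finite_maximal_points_of_isCompact V hV.isCompact _
        (isClosed_closure.preimage p.continuous)
    refine (Set.Finite.biUnion hfin (fun i _ => Set.Finite.image (Sigma.mk i)
      ((hFin i).preimage (f := (Subtype.val : S i → X')) Subtype.val_injective.injOn))).subset ?_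
    rintro ⟨i, ⟨ξ', hpξ', hgen⟩⟩ ⟨y, hy1, hy2⟩
    have hsp : ξ' ⤳ y := specializes_iff_mem_closure.mpr hy1
    have hξ'U : ξ' ∈ p ⁻¹' U ∩ (V : Set X') :=
      hsp.mem_open ((hUo.preimage p.continuous).inter V.isOpen) hy2
    have hiU : (closure {ξ i} ∩ U).Nonempty :=
      ⟨ξ i, subset_closure rfl, by rw [← hpξ']; exact hξ'U.1⟩
    simp only [Set.mem_iUnion]
    refine ⟨i, hiU, ⟨ξ', hpξ', hgen⟩, ?_, rfl⟩
    refine ⟨hξ'U.2, ?_, ?_⟩
    · show p ξ' ∈ closure {ξ i}
      rw [hpξ']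
      exact subset_closure rfl
    · intro z hz hzs
      have h1 : ξ i ⤳ p z := specializes_iff_mem_closure.mpr hz
      have h2 : p z ⤳ ξ i := hpξ' ▸ hzs.map p.continuous
      have h3 : p z = p ξ' := (h2.antisymm h1).eq.trans hpξ'.symm
      exact hgen z h3 hzs
  refine ⟨Σ i, S i, ξ'', f', ?_, ?_, hlf', ?_⟩
  · intro j
    have h1 := hc j.2.1 j.2.2.2
    rw [j.2.2.1, hδξ j.1] at h1
    show δ' j.2.1 = k + c + 1
    omega
  · intro j
    exact pow_ne_zero _ (hres0 j)
  · intro x'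
    -- finite supports
    have hsupp1 : (Function.support fun j : Σ i, S i => Cyc.divFun δ' (ξ'' j) (f' j) x').Finite := by
      obtain ⟨U', hU'o, hx'U', hfin'⟩ := hlf' x'
      refine hfin'.subset ?_
      intro j hj
      rw [Function.mem_support] at hj
      have hsp : ξ'' j ⤳ x' := by
        by_contra hns
        apply hj
        unfold Cyc.divFun
        rw [dif_neg (fun h => hns h.1)]
      exact ⟨x', specializes_iff_mem_closure.mp hsp, hx'U'⟩
    rw [finsum_sigma' _ hsupp1, hα']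
    have hα : (⇑α : X → ℤ) = fun x => ∑ᶠ i, Cyc.divFun δ (ξ i) (f i) x := funext hsum
    rw [hα, pullFun_finsum p δ δ' c _ x']
    apply finsum_congr
    intro i
    rw [pullFun_divFun_eq p δ δ' hX hX' c hc (ξ i) (f i) (hf0 i) x']
    apply finsum_congr
    intro s
    exact (divFun_pow δ' _ _ (hres0 ⟨i, s⟩) _ x').symm

end Groth.Agent.Lib.Helper85.DivPullRat
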