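import Mathlib
import Groth.Prelude.Def_Cyc
import Groth.Agent.Lib.Helper55.DimSup
import Groth.Agent.Lib.Helper55.FiberTrdeg
import Groth.Agent.Lib.Helper55.FiberCompDim
import Groth.Agent.S9358

/-!
# Generic points of fibres of morphisms of relative dimension `r` (helper85)
-/

set_option autoImplicit false
set_option linter.style.haveILetI false
set_option linter.unusedSectionVars false
universe u

namespace Groth.Agent.Lib.Helper85.RelDimGeneric

open AlgebraicGeometry CategoryTheory CategoryTheory.Limits Groth.Agent.Lib.Helper55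

variable {X Y : Scheme.{u}} (f : X ⟶ Y)

/-- for a morphism of relative dimension `r`, the residue field of a maximal point of a fibre has
transcendence degree `r` over the residue field of the image point -/
theorem trdeg_eq_of_generic_in_fibre [LocallyOfFiniteType f] (r : ℕ) (hr : Cyc.HasRelDim f r)
    (x : X) (hmax : ∀ z : X, f z = f x → z ⤳ x → z = x) :
    @Algebra.trdeg (Y.residueField (f x)) (X.residueField x) _ _
      (f.residueFieldMap x).hom.toAlgebra = r := by
  have hmaxz : ∀ z : ↥(f.fiber (f x)), z ⤳ f.asFiber x → f.asFiber x ⤳ z := by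
    intro z hz
    have h1 : f.fiberι (f x) z ⤳ x := by
      have := hz.map (f.fiberι (f x)).continuous
      rwa [f.fiberι_asFiber] at this
    have h2 : f (f.fiberι (f x) z) = f x := by
      have : f.fiberι (f x) z ∈ Set.range (f.fiberι (f x)) := ⟨z, rfl⟩
      rw [f.range_fiberι] at this
      exact this
    have h3 : f.fiberι (f x) z = x := hmax _ h2 h1
    have h4 : z = f.asFiber x := by
      apply (f.fiberι (f x)).isEmbedding.injective
      rw [h3, f.fiberι_asFiber]
    rw [h4]
  have hcomp := closure_mem_irreducibleComponents_of_maximal (f.asFiber x) hmaxz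
  have hdim := hr (f x) _ hcomp
  obtain ⟨n, hn1, hn2⟩ := exists_dim_closure_asFiber_eq_trdeg f x
  have hnr : n = r := by
    have : ((n : ℕ) : WithBot ℕ∞) = ((r : ℕ) : WithBot ℕ∞) := by
      rw [← hn1, ← hdim]
    exact_mod_cast this
  rw [hn2, hnr]

/-- the transcendence degree of the residue field extension only depends on the morphism -/
theorem trdeg_congr {a b : X ⟶ Y} (h : a = b) (x : X) :
    @Algebra.trdeg (Y.residueField (a x)) (X.residueField x) _ _
      (a.residueFieldMap x).hom.toAlgebra =
    @Algebra.trdeg (Y.residueField (b x)) (X.residueField x) _ _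
      (b.residueFieldMap x).hom.toAlgebra := by
  subst h
  rfl

/-- generic points of the fibres of a morphism of relative dimension `r`: `δX = δY + r` -/
theorem delta_eq_add_of_generic [LocallyOfFiniteType f] (r : ℕ) (hr : Cyc.HasRelDim f r)
    (δX : X → ℤ) (δY : Y → ℤ) (hδ : Cyc.DeltaCompat f δX δY)
    (x : X) (hmax : ∀ z : X, f z = f x → z ⤳ x → z = x) : δX x = δY (f x) + r := by
  obtain ⟨n, hn1, hn2⟩ := hδ x
  have h := trdeg_eq_of_generic_in_fibre f r hr x hmax
  have : ((n : ℕ) : Cardinal) = ((r : ℕ) : Cardinal) := by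
    rw [← hn1, ← h]
  have hnr : n = r := by exact_mod_cast this
  rw [hn2, hnr]

section BC

variable {X Y Y' : Scheme.{u}} (f : X ⟶ Y) (g : Y' ⟶ Y) [LocallyOfFiniteType g]
  (δX : X → ℤ) (δY : Y → ℤ) (δY' : Y' → ℤ) (δX' : ↥(pullback f g) → ℤ) (r : ℕ)
  (hr : Cyc.HasRelDim g r)
  (hf : Cyc.DeltaCompat f δX δY) (hg : Cyc.DeltaCompat g δY' δY)
  (hX' : Cyc.DeltaCompat (pullback.snd f g) δX' δY')

include hr hf hg hX' in
/-- generic points of the fibres of the base change of a morphism of relative dimension `r` -/
theorem delta_eq_add_of_generic_baseChange (x' : ↥(pullback f g))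
    (hmax : ∀ z, pullback.fst f g z = pullback.fst f g x' → z ⤳ x' → z = x') :
    δX' x' = δX (pullback.fst f g x') + r := by
  have hpb : IsPullback (pullback.snd f g) (pullback.fst f g) g f :=
    (IsPullback.of_hasPullback f g).flip
  have hr' : Cyc.HasRelDim (pullback.fst f g) r := (Groth.Agent.S9358.result g f
    (pullback.snd f g) (pullback.fst f g) hpb r).2.2 hr
  have hN2 := trdeg_eq_of_generic_in_fibre (pullback.fst f g) r hr' x' hmax
  obtain ⟨m2, hm2, hδ2⟩ := hX' x'
  obtain ⟨m1, hm1, hδ1⟩ := hg (pullback.snd f g x')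
  obtain ⟨n1, hn1, hδ3⟩ := hf (pullback.fst f g x')
  have hTa := trdeg_residueField_comp (pullback.fst f g) f x'
  have hTb := trdeg_residueField_comp (pullback.snd f g) g x'
  have hTab := trdeg_congr (pullback.condition (f := f) (g := g)) x'
  have hcomm : f (pullback.fst f g x') = g (pullback.snd f g x') := by
    have := congrArg (fun h : pullback f g ⟶ Y => h x') (pullback.condition (f := f) (g := g))
    simpa using this
  have hcard : ((n1 : ℕ) : Cardinal) + ((r : ℕ) : Cardinal) =
      ((m1 : ℕ) : Cardinal) + ((m2 : ℕ) : Cardinal) := by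
    rw [← hn1, ← hN2, ← hm1, ← hm2, hTa, hTb]
    exact hTab
  have hnat : n1 + r = m1 + m2 := by exact_mod_cast hcard
  rw [hδ2, hδ1, hδ3, hcomm]
  have : ((n1 : ℕ) : ℤ) + r = m1 + m2 := by exact_mod_cast hnat
  linarith

end BC

end Groth.Agent.Lib.Helper85.RelDimGeneric
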