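import Mathlib
import Groth.Prelude.Def_C1
import Groth.Agent.Lib.Helper45.OrdGeneric
import Groth.Agent.Lib.Helper85.IntMult.DivPullRat

/-!
# Orders of rational sections along arbitrary specializations (helper85)

* `secOrdAt_eq_general`: computation of `Cyc.secOrdAt L ξ x h` for an arbitrary specialization
  `ξ ⤳ x` in terms of a generator `t` of `L_x` with zero annihilator whose image in `L(ξ)` is nonzero.
* `oneGerm_notMem`, `secOrdAt_structure`: the case of the structure module.
* `ordFrac_zpow`, `divFun_zpow`: integer powers.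
* `finsum_subtype_of_support_subset`.
-/

set_option autoImplicit false
universe u
open CategoryTheory AlgebraicGeometry

namespace Groth.Agent.Lib.Helper85.SecOrd

open Groth.Agent.Lib.Helper45 Groth.Agent.Lib.Helper74

variable {X : Scheme.{u}}

/-- **Computation of `Cyc.secOrdAt` along an arbitrary specialization.** -/
theorem secOrdAt_eq_general (L : X.Modules) (ξ x : X) (h : ξ ⤳ x) (t : L.presheaf.stalk x)
    (ht : Submodule.span (X.presheaf.stalk x) {t} = ⊤)
    (hann : ∀ a : X.presheaf.stalk x, a • t = 0 → a = 0)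
    (hne : L.presheaf.stalkSpecializes h t ∉
      IsLocalRing.maximalIdeal (X.presheaf.stalk ξ) •
        (⊤ : Submodule (X.presheaf.stalk ξ) (L.presheaf.stalk ξ)))
    (φ : X.presheaf.stalk ξ) :
    Cyc.secOrdAt L ξ x h (Submodule.Quotient.mk (φ • L.presheaf.stalkSpecializes h t)) =
      Cyc.ordAt x ξ h (X.residue ξ φ) := by
  classical
  have hex : ∃ t : L.presheaf.stalk x, Submodule.span (X.presheaf.stalk x) {t} = ⊤ := ⟨t, ht⟩
  have ht' := Classical.choose_spec hex
  obtain ⟨u, hu⟩ : ∃ u : X.presheaf.stalk x, u • t = Classical.choose hex :=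
    Submodule.mem_span_singleton.mp (by rw [ht]; exact Submodule.mem_top)
  obtain ⟨u', hu'⟩ : ∃ u' : X.presheaf.stalk x, u' • Classical.choose hex = t :=
    Submodule.mem_span_singleton.mp (by rw [ht']; exact Submodule.mem_top)
  have huu : u' * u = 1 := by
    have h1 : (u' * u - 1) • t = 0 := by
      rw [sub_smul, mul_smul, hu, hu', one_smul, sub_self]
    exact sub_eq_zero.mp (hann _ h1)
  have hunit : IsUnit u := IsUnit.of_mul_eq_one _ (by rwa [mul_comm] at huu)
  have hspec : L.presheaf.stalkSpecializes h (Classical.choose hex) =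
      X.presheaf.stalkSpecializes h u • L.presheaf.stalkSpecializes h t := by
    rw [← hu, Groth.Agent.Lib.Helper45.HomExtend.stalkSpecializes_smul]
  have hsuu : X.presheaf.stalkSpecializes h u' * X.presheaf.stalkSpecializes h u = 1 := by
    rw [← map_mul, huu, map_one]
  have hφex : ∃ φ' : X.presheaf.stalk ξ,
      (Submodule.Quotient.mk (φ • L.presheaf.stalkSpecializes h t) : Cyc.secFibre L ξ) =
        φ' • (Submodule.Quotient.mk
          ((L.presheaf.stalkSpecializes h) (Classical.choose hex)) : Cyc.secFibre L ξ) := by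
    refine ⟨φ * X.presheaf.stalkSpecializes h u', ?_⟩
    rw [← Submodule.Quotient.mk_smul, hspec, smul_smul, mul_assoc, hsuu, mul_one]
  unfold Cyc.secOrdAt
  rw [dif_pos hex, dif_pos hφex]
  have hφ' := Classical.choose_spec hφex
  generalize Classical.choose hφex = φ'' at hφ' ⊢
  rw [← Submodule.Quotient.mk_smul, hspec, smul_smul, Submodule.Quotient.eq, ← sub_smul] at hφ'
  have hmem : φ - φ'' * X.presheaf.stalkSpecializes h u ∈
      IsLocalRing.maximalIdeal (X.presheaf.stalk ξ) := by
    by_contra hnm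
    have hU : IsUnit (φ - φ'' * X.presheaf.stalkSpecializes h u) :=
      IsLocalRing.notMem_maximalIdeal.mp hnm
    obtain ⟨v, hv⟩ := hU
    apply hne
    have h7 := Submodule.smul_mem _ ((↑v⁻¹ : X.presheaf.stalk ξ)) hφ'
    rwa [← hv, smul_smul, Units.inv_mul, one_smul] at h7
  have h5 : X.residue ξ φ =
      algebraMap (Cyc.LocQuot x ξ h) (X.residueField ξ)
        (algebraMap (X.presheaf.stalk x) (Cyc.LocQuot x ξ h) u) * X.residue ξ φ'' := by
    have h6 : X.residue ξ (φ - φ'' * X.presheaf.stalkSpecializes h u) = 0 :=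
      (IsLocalRing.residue_eq_zero_iff _).mpr hmem
    rw [map_sub, sub_eq_zero, map_mul, mul_comm] at h6
    rw [h6]
    rfl
  rw [h5]
  unfold Cyc.ordAt
  exact (OrdGeneric.cycOrdFrac_unit_mul _ (hunit.map _) _).symm

open Groth.Agent.Lib.Helper45.RefHullStalk in
theorem exists_eq_smul_oneGerm (x : X) (z : (Coh.structureModule X).presheaf.stalk x) :
    ∃ a : X.presheaf.stalk x, z = a • oneGerm x := by
  obtain ⟨a, ha⟩ := (unitStalkMap_bijective x).2 z
  exact ⟨a, by rw [← ha, unitStalkMap, LinearMap.toSpanSingleton_apply]⟩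

open Groth.Agent.Lib.Helper45.RefHullStalk in
theorem smul_oneGerm_injective (x : X) (a b : X.presheaf.stalk x)
    (h : a • oneGerm x = b • oneGerm x) : a = b :=
  (unitStalkMap_bijective x).1 (by
    rw [unitStalkMap, LinearMap.toSpanSingleton_apply, LinearMap.toSpanSingleton_apply]
    exact h)

open Groth.Agent.Lib.Helper45.RefHullStalk in
/-- membership in `𝔪 L_ξ` for the structure module -/
theorem smul_oneGerm_mem_iff (ξ : X) (a : X.presheaf.stalk ξ) :
    a • oneGerm ξ ∈ IsLocalRing.maximalIdeal (X.presheaf.stalk ξ) •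
        (⊤ : Submodule (X.presheaf.stalk ξ) ((Coh.structureModule X).presheaf.stalk ξ)) ↔
      a ∈ IsLocalRing.maximalIdeal (X.presheaf.stalk ξ) := by
  constructor
  · intro hmem
    have key : ∀ z ∈ IsLocalRing.maximalIdeal (X.presheaf.stalk ξ) •
        (⊤ : Submodule (X.presheaf.stalk ξ) ((Coh.structureModule X).presheaf.stalk ξ)),
        ∃ b ∈ IsLocalRing.maximalIdeal (X.presheaf.stalk ξ), z = b • oneGerm ξ := by
      intro z hz
      refine Submodule.smul_induction_on hz ?_ ?_
      · intro r hr n _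
        obtain ⟨c, rfl⟩ := exists_eq_smul_oneGerm ξ n
        exact ⟨r * c, Ideal.mul_mem_right _ _ hr, by rw [smul_smul]⟩
      · rintro y z ⟨b, hb, rfl⟩ ⟨c, hc, rfl⟩
        exact ⟨b + c, Ideal.add_mem _ hb hc, by rw [add_smul]⟩
    obtain ⟨b, hb, hab⟩ := key _ hmem
    rw [smul_oneGerm_injective ξ a b hab]
    exact hb
  · intro ha
    exact Submodule.smul_mem_smul ha Submodule.mem_top

open Groth.Agent.Lib.Helper45.RefHullStalk in
theorem stalkSpecializes_oneGerm {x' x : X} (h : x' ⤳ x) :
    (Coh.structureModule X).presheaf.stalkSpecializes h (oneGerm x) = oneGerm x' :=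
  TopCat.Presheaf.germ_stalkSpecializes_apply _ _ _ _

open Groth.Agent.Lib.Helper45.RefHullStalk in
/-- orders of rational sections of the structure module -/
theorem secOrdAt_structure (ξ x : X) (h : ξ ⤳ x) (w : X.presheaf.stalk ξ) :
    Cyc.secOrdAt (Coh.structureModule X) ξ x h (Submodule.Quotient.mk (w • oneGerm ξ)) =
      Cyc.ordAt x ξ h (X.residue ξ w) := by
  have hspan : Submodule.span (X.presheaf.stalk x) {oneGerm x} = ⊤ := by
    rw [eq_top_iff]
    intro z _
    obtain ⟨a, rfl⟩ := exists_eq_smul_oneGerm x z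
    exact Submodule.mem_span_singleton.mpr ⟨a, rfl⟩
  have hann : ∀ a : X.presheaf.stalk x, a • oneGerm x = 0 → a = 0 := by
    intro a ha
    exact smul_oneGerm_injective x a 0 (by rw [ha, zero_smul])
  have hne : (Coh.structureModule X).presheaf.stalkSpecializes h (oneGerm x) ∉
      IsLocalRing.maximalIdeal (X.presheaf.stalk ξ) •
        (⊤ : Submodule (X.presheaf.stalk ξ) ((Coh.structureModule X).presheaf.stalk ξ)) := by
    rw [stalkSpecializes_oneGerm h]
    intro hmem
    rw [← one_smul (X.presheaf.stalk ξ) (oneGerm ξ), smul_oneGerm_mem_iff] at hmem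
    exact (Ideal.ne_top_iff_one _).mp (IsLocalRing.maximalIdeal.isMaximal _).ne_top hmem
  have := secOrdAt_eq_general (Coh.structureModule X) ξ x h (oneGerm x) hspan hann hne w
  rwa [stalkSpecializes_oneGerm h] at this

/-- the order of an integer power -/
theorem ordFrac_zpow (R : Type u) [CommRing R] (K : Type u) [Field K] [Algebra R K] (h : K)
    (hh : h ≠ 0) (n : ℤ) : CycAlg.ordFrac R K (h ^ n) = n * CycAlg.ordFrac R K h := by
  by_cases hcond : IsNoetherianRing R ∧ Ring.KrullDimLE 1 R ∧ Nontrivial R ∧ IsFractionRing R K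
  · have := hcond.1; have := hcond.2.1; have := hcond.2.2.1; have := hcond.2.2.2
    have : IsDomain R :=
      Function.Injective.isDomain (algebraMap R K) (IsFractionRing.injective R K)
    obtain ⟨m, rfl | rfl⟩ := Int.eq_nat_or_neg n
    · rw [zpow_natCast]
      exact Groth.Agent.Lib.Helper85.DivPullRat.ordFrac_pow R K h hh m
    · rw [zpow_neg, zpow_natCast, ordFracInt_inv R K (pow_ne_zero m hh),
        Groth.Agent.Lib.Helper85.DivPullRat.ordFrac_pow R K h hh m]
      push_cast
      ring
  · unfold CycAlg.ordFrac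
    rw [dif_neg hcond, dif_neg hcond, mul_zero]

theorem divFun_zpow (δ : X → ℤ) (ξ : X) (h : X.residueField ξ) (hh : h ≠ 0) (n : ℤ) (x : X) :
    Cyc.divFun δ ξ (h ^ n) x = n * Cyc.divFun δ ξ h x := by
  unfold Cyc.divFun
  split_ifs with hc
  · exact ordFrac_zpow _ _ h hh n
  · rw [mul_zero]

/-- a `finsum` restricted to a subtype containing the support -/
theorem finsum_subtype_of_support_subset {α : Type*} {M : Type*} [AddCommMonoid M] (f : α → M)
    (p : α → Prop) (hp : ∀ a, f a ≠ 0 → p a) :
    ∑ᶠ i : {a // p a}, f i.1 = ∑ᶠ a, f a := by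
  have h1 : ∑ᶠ i : {a // p a}, f i.1 = ∑ᶠ a ∈ {a | p a}, f a :=
    finsum_set_coe_eq_finsum_mem (f := f) {a | p a}
  rw [h1, finsum_mem_def]
  congr 1
  exact Set.indicator_eq_self.mpr (fun a ha => hp a ha)

end Groth.Agent.Lib.Helper85.SecOrd
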