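import Mathlib
import Groth.Prelude.Def_C1
import Groth.Agent.Lib.Helper45.InvOrd
import Groth.Agent.Lib.Helper11.TensorBasis
import Groth.Agent.Lib.Helper85.IntMult.SecOrd

/-!
# Rational sections of invertible modules via local bases; additivity of `c_1` (helper85)
-/

set_option autoImplicit false
universe u
open CategoryTheory AlgebraicGeometry

namespace Groth.Agent.Lib.Helper85.C1Tensor

open Groth.Agent.Lib.Helper45 Groth.Agent.Lib.Helper49 Groth.Agent.Lib.Helper45.InvOrd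
open Groth.Agent.Lib.Helper11.GenLocus Groth.Agent.Lib.Helper85.SecOrd

variable {X : Scheme.{u}}

/-- for a generator `e` of `M_ξ` with zero annihilator: `a • e ∈ 𝔪 M_ξ ↔ a ∈ 𝔪` -/
theorem smul_gen_mem_iff (M : X.Modules) (ξ : X) (e : M.presheaf.stalk ξ)
    (hspan : Submodule.span (X.presheaf.stalk ξ) {e} = ⊤)
    (hann : ∀ a : X.presheaf.stalk ξ, a • e = 0 → a = 0) (a : X.presheaf.stalk ξ) :
    a • e ∈ IsLocalRing.maximalIdeal (X.presheaf.stalk ξ) •
        (⊤ : Submodule (X.presheaf.stalk ξ) (M.presheaf.stalk ξ)) ↔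
      a ∈ IsLocalRing.maximalIdeal (X.presheaf.stalk ξ) := by
  constructor
  · intro hmem
    have key : ∀ z ∈ IsLocalRing.maximalIdeal (X.presheaf.stalk ξ) •
        (⊤ : Submodule (X.presheaf.stalk ξ) (M.presheaf.stalk ξ)),
        ∃ b ∈ IsLocalRing.maximalIdeal (X.presheaf.stalk ξ), z = b • e := by
      intro z hz
      refine Submodule.smul_induction_on hz ?_ ?_
      · intro r hr n _
        obtain ⟨c, rfl⟩ := Submodule.mem_span_singleton.mp
          (show n ∈ Submodule.span (X.presheaf.stalk ξ) {e} by rw [hspan]; exact Submodule.mem_top)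
        exact ⟨r * c, Ideal.mul_mem_right _ _ hr, by rw [smul_smul]⟩
      · rintro y z ⟨b, hb, rfl⟩ ⟨c, hc, rfl⟩
        exact ⟨b + c, Ideal.add_mem _ hb hc, by rw [add_smul]⟩
    obtain ⟨b, hb, hab⟩ := key _ hmem
    have h1 : a - b = 0 := hann _ (by rw [sub_smul, hab, sub_self])
    rw [sub_eq_zero.mp h1]
    exact hb
  · intro ha
    exact Submodule.smul_mem_smul ha Submodule.mem_top

variable {M : X.Modules} {V : X.Opens} {τ : Γ(M, V)}

/-- coordinates of a rational section with respect to a local basis -/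
theorem exists_coord (hτ : IsBasisOn M V τ) (ξ : X) (hξ : ξ ∈ V) (s : Cyc.secFibre M ξ) :
    ∃ a : X.presheaf.stalk ξ, s = Submodule.Quotient.mk (a • M.presheaf.germ V ξ hξ τ) := by
  obtain ⟨z, hz⟩ := Submodule.Quotient.mk_surjective _ s
  obtain ⟨a, ha⟩ := Submodule.mem_span_singleton.mp
    (show z ∈ Submodule.span (X.presheaf.stalk ξ) {M.presheaf.germ V ξ hξ τ} by
      rw [germ_basis_span hτ ξ hξ]; exact Submodule.mem_top)
  exact ⟨a, by rw [ha, hz]⟩

theorem residue_coord_ne_zero (hτ : IsBasisOn M V τ) (ξ : X) (hξ : ξ ∈ V)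
    (a : X.presheaf.stalk ξ)
    (hs : (Submodule.Quotient.mk (a • M.presheaf.germ V ξ hξ τ) : Cyc.secFibre M ξ) ≠ 0) :
    X.residue ξ a ≠ 0 := by
  intro h0
  apply hs
  rw [Submodule.Quotient.mk_eq_zero]
  exact (smul_gen_mem_iff M ξ _ (germ_basis_span hτ ξ hξ) (germ_basis_ann hτ ξ hξ) a).mpr
    ((IsLocalRing.residue_eq_zero_iff _).mp h0)

/-- the order of a rational section in terms of its coordinate with respect to a local basis -/
theorem secOrdAt_basis (hτ : IsBasisOn M V τ) (x : X) (hx : x ∈ V) (ξ : X) (h : ξ ⤳ x)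
    (a : X.presheaf.stalk ξ) :
    Cyc.secOrdAt M ξ x h (Submodule.Quotient.mk
      (a • M.presheaf.germ V ξ (h.mem_open V.isOpen hx) τ)) =
      Cyc.ordAt x ξ h (X.residue ξ a) := by
  have hξ : ξ ∈ V := h.mem_open V.isOpen hx
  have hspec : M.presheaf.stalkSpecializes h (M.presheaf.germ V x hx τ) =
      M.presheaf.germ V ξ hξ τ := TopCat.Presheaf.germ_stalkSpecializes_apply _ _ _ _
  have hne : M.presheaf.stalkSpecializes h (M.presheaf.germ V x hx τ) ∉
      IsLocalRing.maximalIdeal (X.presheaf.stalk ξ) •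
        (⊤ : Submodule (X.presheaf.stalk ξ) (M.presheaf.stalk ξ)) := by
    rw [hspec]
    intro hmem
    rw [← one_smul (X.presheaf.stalk ξ) (M.presheaf.germ V ξ hξ τ),
      smul_gen_mem_iff M ξ _ (germ_basis_span hτ ξ hξ) (germ_basis_ann hτ ξ hξ)] at hmem
    exact (Ideal.ne_top_iff_one _).mp (IsLocalRing.maximalIdeal.isMaximal _).ne_top hmem
  have := secOrdAt_eq_general M ξ x h (M.presheaf.germ V x hx τ) (germ_basis_span hτ x hx)
    (germ_basis_ann hτ x hx) hne a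
  rwa [hspec] at this

/-- a cycle of the form `Σ α(ξ) div(F ξ)` is rationally equivalent to zero -/
theorem ratEquivZero_of_finsum_divFun (δ : X → ℤ) (k : ℤ) (α : AlgebraicCycle X ℤ)
    (hα : α ∈ Cyc.Zk X δ (k + 1)) (F : (ξ : X) → X.residueField ξ) (hF : ∀ ξ, F ξ ≠ 0)
    (γ : AlgebraicCycle X ℤ) (hγ : ∀ x, γ x = ∑ᶠ ξ, α ξ * Cyc.divFun δ ξ (F ξ) x) :
    Cyc.RatEquivZero δ k γ := by
  classical
  refine ⟨{ξ : X // α ξ ≠ 0}, fun i => i.1, fun i => (F i.1) ^ (α i.1), ?_, ?_, ?_, ?_⟩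
  · intro i
    by_contra hne
    exact i.2 (hα i.1 hne)
  · intro i
    exact zpow_ne_zero _ (hF i.1)
  · intro x
    obtain ⟨t, ht, hfin⟩ := α.supportLocallyFiniteWithinDomain' x (Set.mem_univ x)
    obtain ⟨U, hUt, hUo, hxU⟩ := mem_nhds_iff.mp ht
    refine ⟨U, hUo, hxU, ?_⟩
    apply Set.Finite.of_finite_image (f := Subtype.val) ?_ Subtype.val_injective.injOn
    apply hfin.subset
    rintro _ ⟨i, ⟨y, hy, hyU⟩, rfl⟩
    have hsp : i.1 ⤳ y := specializes_iff_mem_closure.mpr hy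
    exact ⟨hUt (hsp.mem_open hUo hyU), i.2⟩
  · intro x
    rw [hγ]
    rw [← finsum_subtype_of_support_subset
      (fun ξ => α ξ * Cyc.divFun δ ξ (F ξ) x) (fun ξ => α ξ ≠ 0)
      (fun ξ hne h0 => hne (by rw [h0, zero_mul]))]
    apply finsum_congr
    intro i
    rw [divFun_zpow _ _ _ (hF i.1)]

/-- finiteness of the support of the summands of `c1CapFun` -/
theorem finite_support_c1Cap (δ : X → ℤ) (L : X.Modules) (α : AlgebraicCycle X ℤ)
    (s : (ξ : X) → Cyc.secFibre L ξ) (x : X) :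
    (Function.support fun ξ => α ξ * Cyc.secDivFun δ L ξ (s ξ) x).Finite := by
  obtain ⟨t, ht, hfin⟩ := α.supportLocallyFiniteWithinDomain' x (Set.mem_univ x)
  obtain ⟨U, hUt, hUo, hxU⟩ := mem_nhds_iff.mp ht
  apply hfin.subset
  intro ξ hξ
  have h1 : α ξ ≠ 0 := fun h0 => hξ (by simp only; rw [h0, zero_mul])
  have h2 : Cyc.secDivFun δ L ξ (s ξ) x ≠ 0 := fun h0 => hξ (by simp only; rw [h0, mul_zero])
  have h3 : ξ ⤳ x := by
    by_contra hns
    apply h2
    unfold Cyc.secDivFun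
    rw [dif_neg (fun h => hns h.1)]
  exact ⟨hUt (h3.mem_open hUo hxU), h1⟩


/-- **Additivity of orders of rational sections under tensor product.** -/
theorem secOrdAt_tensor {L N : X.Modules} {V : X.Opens} {τL : Γ(L, V)} {τN : Γ(N, V)}
    (hτL : IsBasisOn L V τL) (hτN : IsBasisOn N V τN)
    {V' : X.Opens} {τL' : Γ(L, V')} {τN' : Γ(N, V')}
    (hτL' : IsBasisOn L V' τL') (hτN' : IsBasisOn N V' τN')
    (x : X) (hx : x ∈ V) (ξ : X) (hξ' : ξ ∈ V') (h : ξ ⤳ x)
    (a b c : X.presheaf.stalk ξ) (ha : X.residue ξ a ≠ 0) (hb : X.residue ξ b ≠ 0)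
    (hc : X.residue ξ c ≠ 0) :
    Cyc.secOrdAt (CohB1.tensorMod L N) ξ x h (Submodule.Quotient.mk
        (c • (CohB1.tensorMod L N).presheaf.germ V' ξ hξ' (tm L N V' τL' τN'))) =
      Cyc.secOrdAt L ξ x h (Submodule.Quotient.mk (a • L.presheaf.germ V' ξ hξ' τL')) +
      Cyc.secOrdAt N ξ x h (Submodule.Quotient.mk (b • N.presheaf.germ V' ξ hξ' τN')) +
      Cyc.ordAt x ξ h (X.residue ξ c / (X.residue ξ a * X.residue ξ b)) := by
  have hξ : ξ ∈ V := h.mem_open V.isOpen hx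
  have hξW : ξ ∈ V ⊓ V' := ⟨hξ, hξ'⟩
  have hWV : V ⊓ V' ≤ V := inf_le_left
  have hWV' : V ⊓ V' ≤ V' := inf_le_right
  obtain ⟨g, hg⟩ := (hτL.mono hWV).exists_eq_smul (mres L hWV' τL')
  obtain ⟨k, hk⟩ := (hτN.mono hWV).exists_eq_smul (mres N hWV' τN')
  have hgu : IsUnit g :=
    isUnit_of_isBasisOn_smul (hτL.mono hWV) g (by rw [hg]; exact hτL'.mono hWV')
  have hku : IsUnit k :=
    isUnit_of_isBasisOn_smul (hτN.mono hWV) k (by rw [hk]; exact hτN'.mono hWV')
  have eL : L.presheaf.germ V' ξ hξ' τL' =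
      X.presheaf.germ (V ⊓ V') ξ hξW g • L.presheaf.germ V ξ hξ τL := by
    rw [← germ_mres hWV' ξ hξW τL', ← hg, Mero.germ_smul, germ_mres]
  have eN : N.presheaf.germ V' ξ hξ' τN' =
      X.presheaf.germ (V ⊓ V') ξ hξW k • N.presheaf.germ V ξ hξ τN := by
    rw [← germ_mres hWV' ξ hξW τN', ← hk, Mero.germ_smul, germ_mres]
  have eT : (CohB1.tensorMod L N).presheaf.germ V' ξ hξ' (tm L N V' τL' τN') =
      (X.presheaf.germ (V ⊓ V') ξ hξW g * X.presheaf.germ (V ⊓ V') ξ hξW k) •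
        (CohB1.tensorMod L N).presheaf.germ V ξ hξ (tm L N V τL τN) := by
    rw [← germ_mres hWV' ξ hξW (tm L N V' τL' τN'), tm_res, ← hg, ← hk, tm_smul_left,
      tm_smul_right, Mero.germ_smul, Mero.germ_smul, ← tm_res, germ_mres, smul_smul]
  rw [eL, eN, eT, smul_smul, smul_smul, smul_smul]
  rw [secOrdAt_basis hτL x hx ξ h, secOrdAt_basis hτN x hx ξ h,
    secOrdAt_basis (isBasisOn_tm hτL hτN) x hx ξ h]
  have hgres : X.residue ξ (X.presheaf.germ (V ⊓ V') ξ hξW g) ≠ 0 := by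
    have h1 : IsUnit (X.presheaf.germ (V ⊓ V') ξ hξW g) := hgu.map _
    have h2 : IsUnit (X.residue ξ (X.presheaf.germ (V ⊓ V') ξ hξW g)) := h1.map _
    exact h2.ne_zero
  have hkres : X.residue ξ (X.presheaf.germ (V ⊓ V') ξ hξW k) ≠ 0 := by
    have h1 : IsUnit (X.presheaf.germ (V ⊓ V') ξ hξW k) := hku.map _
    have h2 : IsUnit (X.residue ξ (X.presheaf.germ (V ⊓ V') ξ hξW k)) := h1.map _
    exact h2.ne_zero
  have hprod : X.residue ξ (c * (X.presheaf.germ (V ⊓ V') ξ hξW g *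
        X.presheaf.germ (V ⊓ V') ξ hξW k)) =
      X.residue ξ (a * X.presheaf.germ (V ⊓ V') ξ hξW g) *
        (X.residue ξ (b * X.presheaf.germ (V ⊓ V') ξ hξW k) *
          (X.residue ξ c / (X.residue ξ a * X.residue ξ b))) := by
    rw [map_mul, map_mul, map_mul, map_mul]
    field_simp
  rw [hprod]
  unfold Cyc.ordAt
  have h1 : X.residue ξ (a * X.presheaf.germ (V ⊓ V') ξ hξW g) ≠ 0 := by
    rw [map_mul]
    exact mul_ne_zero ha hgres
  have h2 : X.residue ξ (b * X.presheaf.germ (V ⊓ V') ξ hξW k) ≠ 0 := by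
    rw [map_mul]
    exact mul_ne_zero hb hkres
  have h3 : X.residue ξ c / (X.residue ξ a * X.residue ξ b) ≠ 0 :=
    div_ne_zero hc (mul_ne_zero ha hb)
  rw [OrdGeneric.cycOrdFrac_mul _ _ h1 (mul_ne_zero h2 h3), OrdGeneric.cycOrdFrac_mul _ _ h2 h3]
  ring

end Groth.Agent.Lib.Helper85.C1Tensor
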