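import Mathlib
import Groth.Prelude.Def_Tame
import Groth.Agent.S1848
import Groth.Agent.Lib.Helper74.LatticeDet

/-!
# The tame symbol on the fraction field of a one-dimensional Noetherian local domain (helper85)
-/

set_option autoImplicit false
set_option linter.unusedSectionVars false
universe u

namespace Groth.Agent.Lib.Helper85.TameFrac

open IsLocalRing Groth.Agent.Lib.Helper74

section laws

variable (R : Type u) [CommRing R] [IsDomain R] [IsNoetherianRing R] [IsLocalRing R]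
  (hR : ringKrullDim R = 1)

local notation "∂" => CycAlg.tameSymbol R

omit [IsNoetherianRing R] [IsLocalRing R] in
theorem mem_nzd {a : R} (ha : a ≠ 0) : a ∈ nonZeroDivisors R := mem_nonZeroDivisors_of_ne_zero ha

include hR

theorem ts_ne_zero {a b : R} (ha : a ≠ 0) (hb : b ≠ 0) : ∂ a b ≠ 0 :=
  (Groth.Agent.S1848.result R hR).1 a b (mem_nzd R ha) (mem_nzd R hb)

theorem ts_mul_left {a a' b : R} (ha : a ≠ 0) (ha' : a' ≠ 0) (hb : b ≠ 0) :
    ∂ (a * a') b = ∂ a b * ∂ a' b :=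
  ((Groth.Agent.S1848.result R hR).2.1 a a' b (mem_nzd R ha) (mem_nzd R ha') (mem_nzd R hb)).1

theorem ts_mul_right {a a' b : R} (ha : a ≠ 0) (ha' : a' ≠ 0) (hb : b ≠ 0) :
    ∂ b (a * a') = ∂ b a * ∂ b a' :=
  ((Groth.Agent.S1848.result R hR).2.1 a a' b (mem_nzd R ha) (mem_nzd R ha') (mem_nzd R hb)).2

theorem ts_self {b : R} (hb : b ≠ 0) :
    ∂ b b = (-1) ^ (Module.length R (R ⧸ Ideal.span {b})).toNat :=
  (Groth.Agent.S1848.result R hR).2.2.1 b (mem_nzd R hb)

theorem ts_unit_left (c : Rˣ) {b : R} (hb : b ≠ 0) :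
    ∂ (c : R) b = residue R (c : R) ^ (Module.length R (R ⧸ Ideal.span {b})).toNat :=
  (Groth.Agent.S1848.result R hR).2.2.2.1 c b (mem_nzd R hb)

omit hR in
theorem length_unit (c : Rˣ) : Module.length R (R ⧸ Ideal.span {(c : R)}) = 0 := by
  rw [Module.length_eq_zero_iff, Ideal.span_singleton_eq_top.mpr c.isUnit]
  exact Ideal.Quotient.subsingleton_iff.mpr rfl

theorem ts_unit_right (c : Rˣ) {a : R} (ha : a ≠ 0) :
    ∂ a (c : R) * residue R (c : R) ^ (Module.length R (R ⧸ Ideal.span {a})).toNat = 1 := by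
  have hc : (c : R) ≠ 0 := c.ne_zero
  have hac : a * (c : R) ≠ 0 := mul_ne_zero ha hc
  have hspan : Ideal.span {a * (c : R)} = Ideal.span {a} :=
    Ideal.span_singleton_mul_right_unit c.isUnit a
  have h1 := ts_self R hR hac
  rw [hspan, ts_mul_left R hR ha hc hac, ts_mul_right R hR ha hc ha, ts_mul_right R hR ha hc hc,
    ts_self R hR ha, ts_unit_left R hR c ha, ts_unit_left R hR c hc, length_unit R c] at h1
  simp only [ENat.toNat_zero, pow_zero, mul_one] at h1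
  have hne : ((-1 : ResidueField R)) ^ (Module.length R (R ⧸ Ideal.span {a})).toNat ≠ 0 :=
    pow_ne_zero _ (neg_ne_zero.mpr one_ne_zero)
  have h2 : (-1 : ResidueField R) ^ (Module.length R (R ⧸ Ideal.span {a})).toNat *
      (∂ a (c : R) * residue R (c : R) ^ (Module.length R (R ⧸ Ideal.span {a})).toNat) =
      (-1 : ResidueField R) ^ (Module.length R (R ⧸ Ideal.span {a})).toNat * 1 := by
    rw [mul_one, ← mul_assoc]
    exact h1
  exact mul_left_cancel₀ hne h2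

theorem ts_one_left {b : R} (hb : b ≠ 0) : ∂ 1 b = 1 := by
  have := ts_unit_left R hR (1 : Rˣ) hb
  simpa using this

theorem ts_one_right {a : R} (ha : a ≠ 0) : ∂ a 1 = 1 := by
  have := ts_unit_right R hR (1 : Rˣ) ha
  simpa using this

/-- if `a b' = a' b` then `∂(a,e)∂(b',e) = ∂(a',e)∂(b,e)` -/
theorem ratio_left {a b a' b' e : R} (ha : a ≠ 0) (hb : b ≠ 0) (ha' : a' ≠ 0) (hb' : b' ≠ 0)
    (he : e ≠ 0) (h : a * b' = a' * b) : ∂ a e * ∂ b' e = ∂ a' e * ∂ b e := by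
  rw [← ts_mul_left R hR ha hb' he, ← ts_mul_left R hR ha' hb he, h]

theorem ratio_right {a b a' b' e : R} (ha : a ≠ 0) (hb : b ≠ 0) (ha' : a' ≠ 0) (hb' : b' ≠ 0)
    (he : e ≠ 0) (h : a * b' = a' * b) : ∂ e a * ∂ e b' = ∂ e a' * ∂ e b := by
  rw [← ts_mul_right R hR ha hb' he, ← ts_mul_right R hR ha' hb he, h]

end laws


section frac

variable (R : Type u) [CommRing R] [IsDomain R] [IsNoetherianRing R] [IsLocalRing R]
  (K : Type u) [Field K] [Algebra R K] [IsFractionRing R K]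

local notation "∂" => CycAlg.tameSymbol R

/-- the tame symbol extended to the fraction field by bilinearity -/
noncomputable def tameK (f g : K) : ResidueField R :=
  ∂ (IsLocalization.sec (nonZeroDivisors R) f).1 (IsLocalization.sec (nonZeroDivisors R) g).1 *
    ∂ (IsLocalization.sec (nonZeroDivisors R) f).2 (IsLocalization.sec (nonZeroDivisors R) g).2 /
  (∂ (IsLocalization.sec (nonZeroDivisors R) f).1 (IsLocalization.sec (nonZeroDivisors R) g).2 *
    ∂ (IsLocalization.sec (nonZeroDivisors R) f).2 (IsLocalization.sec (nonZeroDivisors R) g).1)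

variable {R K}

omit [IsNoetherianRing R] [IsLocalRing R] in
theorem cross_of_div_eq {a b a' b' : R} (hb : b ≠ 0) (hb' : b' ≠ 0)
    (h : algebraMap R K a / algebraMap R K b = algebraMap R K a' / algebraMap R K b') :
    a * b' = a' * b := by
  have hb1 : algebraMap R K b ≠ 0 := by
    rwa [Ne, FaithfulSMul.algebraMap_eq_zero_iff]
  have hb1' : algebraMap R K b' ≠ 0 := by
    rwa [Ne, FaithfulSMul.algebraMap_eq_zero_iff]
  rw [div_eq_div_iff hb1 hb1'] at h
  apply IsFractionRing.injective R K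
  rw [map_mul, map_mul, h]

omit [IsNoetherianRing R] [IsLocalRing R] in
theorem sec_div (f : K) :
    algebraMap R K (IsLocalization.sec (nonZeroDivisors R) f).1 /
      algebraMap R K ((IsLocalization.sec (nonZeroDivisors R) f).2 : R) = f := by
  have h := IsLocalization.sec_spec (nonZeroDivisors R) f
  have h2 : algebraMap R K ((IsLocalization.sec (nonZeroDivisors R) f).2 : R) ≠ 0 := by
    rw [Ne, FaithfulSMul.algebraMap_eq_zero_iff]
    exact nonZeroDivisors.ne_zero (IsLocalization.sec (nonZeroDivisors R) f).2.2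
  rw [div_eq_iff h2]
  exact h.symm

variable (hR : ringKrullDim R = 1)
include hR

/-- the value of `tameK` on any representation by fractions -/
theorem tameK_eq {a b c d : R} (ha : a ≠ 0) (hb : b ≠ 0) (hc : c ≠ 0) (hd : d ≠ 0) :
    tameK R K (algebraMap R K a / algebraMap R K b) (algebraMap R K c / algebraMap R K d) =
      ∂ a c * ∂ b d / (∂ a d * ∂ b c) := by
  set f : K := algebraMap R K a / algebraMap R K b with hf
  set g : K := algebraMap R K c / algebraMap R K d with hg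
  set a₀ := (IsLocalization.sec (nonZeroDivisors R) f).1 with ha₀
  set b₀ : R := ((IsLocalization.sec (nonZeroDivisors R) f).2 : R) with hb₀
  set c₀ := (IsLocalization.sec (nonZeroDivisors R) g).1 with hc₀
  set d₀ : R := ((IsLocalization.sec (nonZeroDivisors R) g).2 : R) with hd₀
  have hb₀0 : b₀ ≠ 0 := nonZeroDivisors.ne_zero (IsLocalization.sec (nonZeroDivisors R) f).2.2
  have hd₀0 : d₀ ≠ 0 := nonZeroDivisors.ne_zero (IsLocalization.sec (nonZeroDivisors R) g).2.2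
  have hfe : algebraMap R K a / algebraMap R K b = algebraMap R K a₀ / algebraMap R K b₀ :=
    (sec_div (R := R) f).symm
  have hge : algebraMap R K c / algebraMap R K d = algebraMap R K c₀ / algebraMap R K d₀ :=
    (sec_div (R := R) g).symm
  have hx1 : a * b₀ = a₀ * b := cross_of_div_eq hb hb₀0 hfe
  have hx2 : c * d₀ = c₀ * d := cross_of_div_eq hd hd₀0 hge
  have ha₀0 : a₀ ≠ 0 := by
    intro h0
    rw [h0, zero_mul] at hx1
    exact (mul_ne_zero ha hb₀0) hx1
  have hc₀0 : c₀ ≠ 0 := by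
    intro h0
    rw [h0, zero_mul] at hx2
    exact (mul_ne_zero hc hd₀0) hx2
  have e1 := ratio_left R hR ha hb ha₀0 hb₀0 hc₀0 hx1
  have e2 := ratio_left R hR ha hb ha₀0 hb₀0 hd₀0 hx1
  have e3 := ratio_right R hR hc hd hc₀0 hd₀0 ha hx2
  have e4 := ratio_right R hR hc hd hc₀0 hd₀0 hb hx2
  show ∂ a₀ c₀ * ∂ b₀ d₀ / (∂ a₀ d₀ * ∂ b₀ c₀) = _
  have n1 := ts_ne_zero R hR ha₀0 hd₀0
  have n2 := ts_ne_zero R hR hb₀0 hc₀0
  have n3 := ts_ne_zero R hR ha hd
  have n4 := ts_ne_zero R hR hb hc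
  have n5 := ts_ne_zero R hR ha hc₀0
  have n6 := ts_ne_zero R hR hb hd₀0
  have n7 := ts_ne_zero R hR ha hd₀0
  have n8 := ts_ne_zero R hR hb hc₀0
  have n9 := ts_ne_zero R hR hb₀0 hd₀0
  have n10 := ts_ne_zero R hR ha₀0 hc₀0
  have n11 := ts_ne_zero R hR ha hc
  have n12 := ts_ne_zero R hR hb hd
  rw [div_eq_div_iff (mul_ne_zero n1 n2) (mul_ne_zero n3 n4)]
  -- multiply out using the four relations
  have s1 : ∂ a₀ c₀ * ∂ b c₀ * (∂ a d₀ * ∂ b₀ d₀) = ∂ a c₀ * ∂ b₀ c₀ * (∂ a₀ d₀ * ∂ b d₀) := by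
    rw [← e1, ← e2]
  have s2 : ∂ a c * ∂ a d₀ * (∂ b c₀ * ∂ b d) = ∂ a c₀ * ∂ a d * (∂ b c * ∂ b d₀) := by
    rw [e3, ← e4]
  have hk : (∂ a₀ c₀ * ∂ b₀ d₀ * (∂ a d * ∂ b c)) * (∂ b c₀ * ∂ a d₀ * (∂ a c₀ * ∂ b d₀)) =
      (∂ a c * ∂ b d * (∂ a₀ d₀ * ∂ b₀ c₀)) * (∂ b c₀ * ∂ a d₀ * (∂ a c₀ * ∂ b d₀)) := by
    calc (∂ a₀ c₀ * ∂ b₀ d₀ * (∂ a d * ∂ b c)) * (∂ b c₀ * ∂ a d₀ * (∂ a c₀ * ∂ b d₀))
        = (∂ a₀ c₀ * ∂ b c₀ * (∂ a d₀ * ∂ b₀ d₀)) * (∂ a c₀ * ∂ a d * (∂ b c * ∂ b d₀)) := by ring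
      _ = (∂ a c₀ * ∂ b₀ c₀ * (∂ a₀ d₀ * ∂ b d₀)) * (∂ a c * ∂ a d₀ * (∂ b c₀ * ∂ b d)) := by
          rw [s1, s2]
      _ = (∂ a c * ∂ b d * (∂ a₀ d₀ * ∂ b₀ c₀)) * (∂ b c₀ * ∂ a d₀ * (∂ a c₀ * ∂ b d₀)) := by ring
  exact mul_right_cancel₀ (mul_ne_zero (mul_ne_zero n8 n7) (mul_ne_zero n5 n6)) hk

omit hR in
theorem exists_rep (f : K) (hf : f ≠ 0) :
    ∃ a b : R, a ≠ 0 ∧ b ≠ 0 ∧ f = algebraMap R K a / algebraMap R K b := by
  obtain ⟨a, b, hb, rfl⟩ := IsFractionRing.div_surjective (A := R) f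
  refine ⟨a, b, ?_, nonZeroDivisors.ne_zero hb, rfl⟩
  rintro rfl
  simp at hf

theorem tameK_ne_zero {f g : K} (hf : f ≠ 0) (hg : g ≠ 0) : tameK R K f g ≠ 0 := by
  obtain ⟨a, b, ha, hb, rfl⟩ := exists_rep (R := R) f hf
  obtain ⟨c, d, hc, hd, rfl⟩ := exists_rep (R := R) g hg
  rw [tameK_eq hR ha hb hc hd]
  exact div_ne_zero (mul_ne_zero (ts_ne_zero R hR ha hc) (ts_ne_zero R hR hb hd))
    (mul_ne_zero (ts_ne_zero R hR ha hd) (ts_ne_zero R hR hb hc))

theorem tameK_mul_left {f f' g : K} (hf : f ≠ 0) (hf' : f' ≠ 0) (hg : g ≠ 0) :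
    tameK R K (f * f') g = tameK R K f g * tameK R K f' g := by
  obtain ⟨a, b, ha, hb, rfl⟩ := exists_rep (R := R) f hf
  obtain ⟨a', b', ha', hb', rfl⟩ := exists_rep (R := R) f' hf'
  obtain ⟨c, d, hc, hd, rfl⟩ := exists_rep (R := R) g hg
  have e : algebraMap R K a / algebraMap R K b * (algebraMap R K a' / algebraMap R K b') =
      algebraMap R K (a * a') / algebraMap R K (b * b') := by
    rw [map_mul, map_mul, div_mul_div_comm]
  rw [e, tameK_eq hR (mul_ne_zero ha ha') (mul_ne_zero hb hb') hc hd, tameK_eq hR ha hb hc hd,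
    tameK_eq hR ha' hb' hc hd, ts_mul_left R hR ha ha' hc, ts_mul_left R hR hb hb' hd,
    ts_mul_left R hR ha ha' hd, ts_mul_left R hR hb hb' hc]
  rw [div_mul_div_comm]
  congr 1 <;> ring

theorem tameK_mul_right {f g g' : K} (hf : f ≠ 0) (hg : g ≠ 0) (hg' : g' ≠ 0) :
    tameK R K f (g * g') = tameK R K f g * tameK R K f g' := by
  obtain ⟨a, b, ha, hb, rfl⟩ := exists_rep (R := R) f hf
  obtain ⟨c, d, hc, hd, rfl⟩ := exists_rep (R := R) g hg
  obtain ⟨c', d', hc', hd', rfl⟩ := exists_rep (R := R) g' hg'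
  have e : algebraMap R K c / algebraMap R K d * (algebraMap R K c' / algebraMap R K d') =
      algebraMap R K (c * c') / algebraMap R K (d * d') := by
    rw [map_mul, map_mul, div_mul_div_comm]
  rw [e, tameK_eq hR ha hb (mul_ne_zero hc hc') (mul_ne_zero hd hd'), tameK_eq hR ha hb hc hd,
    tameK_eq hR ha hb hc' hd', ts_mul_right R hR hc hc' ha, ts_mul_right R hR hd hd' hb,
    ts_mul_right R hR hd hd' ha, ts_mul_right R hR hc hc' hb]
  rw [div_mul_div_comm]
  congr 1 <;> ring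

omit hR in
theorem ordFrac_rep [Ring.KrullDimLE 1 R] {c d : R} (hc : c ≠ 0) (hd : d ≠ 0) :
    CycAlg.ordFrac R K (algebraMap R K c / algebraMap R K d) =
      ((Module.length R (R ⧸ Ideal.span {c})).toNat : ℤ) -
        ((Module.length R (R ⧸ Ideal.span {d})).toNat : ℤ) := by
  have hc1 : algebraMap R K c ≠ 0 := by rwa [Ne, FaithfulSMul.algebraMap_eq_zero_iff]
  have hd1 : algebraMap R K d ≠ 0 := by rwa [Ne, FaithfulSMul.algebraMap_eq_zero_iff]
  rw [div_eq_mul_inv, ordFracInt_mul R K hc1 (inv_ne_zero hd1), ordFracInt_inv R K hd1,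
    ordFracInt_algebraMap R K hc, ordFracInt_algebraMap R K hd]
  ring

theorem tameK_unit_left (l : Rˣ) {g : K} (hg : g ≠ 0) :
    tameK R K (algebraMap R K (l : R)) g = residue R (l : R) ^ (CycAlg.ordFrac R K g) := by
  have : Ring.KrullDimLE 1 R := by
    rw [Ring.krullDimLE_iff, hR]
    rfl
  obtain ⟨c, d, hc, hd, rfl⟩ := exists_rep (R := R) g hg
  have e : algebraMap R K (l : R) = algebraMap R K (l : R) / algebraMap R K 1 := by
    rw [map_one, div_one]
  have hl : (l : R) ≠ 0 := l.ne_zero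
  have hres : residue R (l : R) ≠ 0 := (l.isUnit.map (residue R)).ne_zero
  rw [e, tameK_eq hR hl one_ne_zero hc hd, ts_unit_left R hR l hc, ts_unit_left R hR l hd,
    ts_one_left R hR hc, ts_one_left R hR hd, ordFrac_rep hc hd, zpow_sub₀ hres, zpow_natCast,
    zpow_natCast, mul_one, mul_one]

theorem tameK_unit_right {f : K} (hf : f ≠ 0) (l : Rˣ) :
    tameK R K f (algebraMap R K (l : R)) = residue R (l : R) ^ (-CycAlg.ordFrac R K f) := by
  have : Ring.KrullDimLE 1 R := by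
    rw [Ring.krullDimLE_iff, hR]
    rfl
  obtain ⟨a, b, ha, hb, rfl⟩ := exists_rep (R := R) f hf
  have e : algebraMap R K (l : R) = algebraMap R K (l : R) / algebraMap R K 1 := by
    rw [map_one, div_one]
  have hl : (l : R) ≠ 0 := l.ne_zero
  have hres : residue R (l : R) ≠ 0 := (l.isUnit.map (residue R)).ne_zero
  have ua := ts_unit_right R hR l ha
  have ub := ts_unit_right R hR l hb
  have ua' : ∂ a (l : R) = (residue R (l : R) ^ (Module.length R (R ⧸ Ideal.span {a})).toNat)⁻¹ :=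
    eq_inv_of_mul_eq_one_left ua
  have ub' : ∂ b (l : R) = (residue R (l : R) ^ (Module.length R (R ⧸ Ideal.span {b})).toNat)⁻¹ :=
    eq_inv_of_mul_eq_one_left ub
  rw [e, tameK_eq hR ha hb hl one_ne_zero, ts_one_right R hR ha, ts_one_right R hR hb, ua', ub',
    ordFrac_rep ha hb, neg_sub, zpow_sub₀ hres, zpow_natCast, zpow_natCast, mul_one, one_mul]
  field_simp

end frac

end Groth.Agent.Lib.Helper85.TameFrac
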