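import Mathlib
import Groth.Prelude.Def_Tame
import Groth.Agent.S1851
import Groth.Agent.Lib.Helper71.Dim3A
import Groth.Agent.Lib.Helper45.OrdGeneric
import Groth.Agent.Lib.Helper85.IntMult.TameFrac

/-!
# The key lemma for fractions (helper85)
-/

set_option autoImplicit false
set_option linter.unusedSectionVars false
universe u

namespace Groth.Agent.Lib.Helper85.TameKey

open IsLocalRing Groth.Agent.Lib.Helper85.TameFrac Groth.Agent.Lib.Helper45

/-- `ordFrac` of `1` is `0`, unconditionally -/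
theorem ordFrac_one' (R : Type u) [CommRing R] (K : Type u) [Field K] [Algebra R K] :
    CycAlg.ordFrac R K (1 : K) = 0 := by
  have h := OrdGeneric.cycOrdFrac_mul (R := R) (1 : K) 1 one_ne_zero one_ne_zero
  rw [mul_one] at h
  linarith

/-- `ordFrac` of a quotient, unconditionally -/
theorem ordFrac_div' (R : Type u) [CommRing R] (K : Type u) [Field K] [Algebra R K] {x y : K}
    (hx : x ≠ 0) (hy : y ≠ 0) :
    CycAlg.ordFrac R K (x / y) = CycAlg.ordFrac R K x - CycAlg.ordFrac R K y := by
  have h := OrdGeneric.cycOrdFrac_mul (R := R) (x / y) y (div_ne_zero hx hy) hy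
  rw [div_mul_cancel₀ x hy] at h
  linarith

theorem finsum_mem_sub'' {α : Type*} (s : Set α) (f g : α → ℤ)
    (hf : (s ∩ Function.support f).Finite) (hg : (s ∩ Function.support g).Finite) :
    ∑ᶠ i ∈ s, (f i - g i) = ∑ᶠ i ∈ s, f i - ∑ᶠ i ∈ s, g i := by
  have hfg : (s ∩ Function.support fun i => f i - g i).Finite := by
    apply (hf.union hg).subset
    rintro i ⟨hi, hne⟩
    by_contra hnot
    simp only [Set.mem_union, Set.mem_inter_iff, Function.mem_support, not_or, not_and,
      not_not] at hnot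
    apply hne
    simp only
    rw [hnot.1 hi, hnot.2 hi, sub_zero]
  have h := finsum_mem_add_distrib' hfg hg
  simp only [sub_add_cancel] at h
  linarith

variable (A : Type u) [CommRing A] [IsDomain A] [IsNoetherianRing A] [IsLocalRing A]

/-- the tame symbol at a prime of (the images of) two elements -/
noncomputable def T (q : PrimeSpectrum A) (x y : A) : q.asIdeal.ResidueField :=
  CycAlg.tameSymbol (Localization.AtPrime q.asIdeal)
    (algebraMap A (Localization.AtPrime q.asIdeal) x)
    (algebraMap A (Localization.AtPrime q.asIdeal) y)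

variable {A}

theorem algebraMap_loc_ne_zero (q : PrimeSpectrum A) {x : A} (hx : x ≠ 0) :
    algebraMap A (Localization.AtPrime q.asIdeal) x ≠ 0 := by
  rw [Ne, IsLocalization.to_map_eq_zero_iff (Localization.AtPrime q.asIdeal)
    q.asIdeal.primeCompl_le_nonZeroDivisors]
  exact hx

theorem T_ne_zero (q : PrimeSpectrum A) (hq1 : q.asIdeal.height = 1) {x y : A} (hx : x ≠ 0)
    (hy : y ≠ 0) : T A q x y ≠ 0 :=
  ts_ne_zero (Localization.AtPrime q.asIdeal)
    (Groth.Agent.Lib.Helper71.Dim3.dim_loc_eq_one q.asIdeal hq1)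
    (algebraMap_loc_ne_zero q hx) (algebraMap_loc_ne_zero q hy)

theorem T_eq_one (q : PrimeSpectrum A) (hq1 : q.asIdeal.height = 1) {x y : A}
    (hx : x ∉ q.asIdeal) (hy : y ∉ q.asIdeal) : T A q x y = 1 := by
  have hR := Groth.Agent.Lib.Helper71.Dim3.dim_loc_eq_one q.asIdeal hq1
  have ux : IsUnit (algebraMap A (Localization.AtPrime q.asIdeal) x) :=
    IsLocalization.map_units (Localization.AtPrime q.asIdeal) (⟨x, hx⟩ : q.asIdeal.primeCompl)
  have uy : IsUnit (algebraMap A (Localization.AtPrime q.asIdeal) y) :=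
    IsLocalization.map_units (Localization.AtPrime q.asIdeal) (⟨y, hy⟩ : q.asIdeal.primeCompl)
  obtain ⟨ux', hux⟩ := ux
  obtain ⟨uy', huy⟩ := uy
  unfold T
  rw [← hux, ← huy, ts_unit_left (Localization.AtPrime q.asIdeal) hR ux' uy'.ne_zero,
    length_unit (Localization.AtPrime q.asIdeal) uy']
  simp

/-- **The key lemma for fractions.** -/
theorem key_frac (hA : ringKrullDim A = 2) {a b c d : A} (ha : a ≠ 0) (hb : b ≠ 0) (hc : c ≠ 0)
    (hd : d ≠ 0) :
    ∑ᶠ (q : PrimeSpectrum A) (_ : q.asIdeal.height = 1),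
      CycAlg.ordFrac (A ⧸ q.asIdeal) q.asIdeal.ResidueField
        (T A q a c * T A q b d / (T A q a d * T A q b c)) = 0 := by
  have hterm : ∀ q : PrimeSpectrum A, q.asIdeal.height = 1 →
      CycAlg.ordFrac (A ⧸ q.asIdeal) q.asIdeal.ResidueField
        (T A q a c * T A q b d / (T A q a d * T A q b c)) =
      CycAlg.ordFrac (A ⧸ q.asIdeal) q.asIdeal.ResidueField (T A q a c) +
        CycAlg.ordFrac (A ⧸ q.asIdeal) q.asIdeal.ResidueField (T A q b d) -
        (CycAlg.ordFrac (A ⧸ q.asIdeal) q.asIdeal.ResidueField (T A q a d) +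
          CycAlg.ordFrac (A ⧸ q.asIdeal) q.asIdeal.ResidueField (T A q b c)) := by
    intro q hq1
    rw [ordFrac_div' _ _ (mul_ne_zero (T_ne_zero q hq1 ha hc) (T_ne_zero q hq1 hb hd))
      (mul_ne_zero (T_ne_zero q hq1 ha hd) (T_ne_zero q hq1 hb hc)),
      OrdGeneric.cycOrdFrac_mul _ _ (T_ne_zero q hq1 ha hc) (T_ne_zero q hq1 hb hd),
      OrdGeneric.cycOrdFrac_mul _ _ (T_ne_zero q hq1 ha hd) (T_ne_zero q hq1 hb hc)]
  show ∑ᶠ (q : PrimeSpectrum A) (_ : q ∈ {q : PrimeSpectrum A | q.asIdeal.height = 1}),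
      CycAlg.ordFrac (A ⧸ q.asIdeal) q.asIdeal.ResidueField
        (T A q a c * T A q b d / (T A q a d * T A q b c)) = 0
  rw [finsum_mem_congr (s := {q : PrimeSpectrum A | q.asIdeal.height = 1}) rfl
    (fun q hq => hterm q hq)]
  have hfin : ∀ x y : A, x ≠ 0 → y ≠ 0 →
      ({q : PrimeSpectrum A | q.asIdeal.height = 1} ∩ Function.support fun q : PrimeSpectrum A =>
        CycAlg.ordFrac (A ⧸ q.asIdeal) q.asIdeal.ResidueField (T A q x y)).Finite := by
    intro x y hx hy
    have f1 := Groth.Agent.Lib.Helper71.Dim3.finite_height_one_mem (A := A)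
      (mem_nonZeroDivisors_of_ne_zero hx)
    have f2 := Groth.Agent.Lib.Helper71.Dim3.finite_height_one_mem (A := A)
      (mem_nonZeroDivisors_of_ne_zero hy)
    apply (f1.union f2).subset
    rintro q ⟨hq1, hq⟩
    by_contra hnot
    simp only [Set.mem_union, Set.mem_setOf_eq, not_or, not_and] at hnot
    apply hq
    simp only
    rw [T_eq_one q hq1 (hnot.1 hq1) (hnot.2 hq1), ordFrac_one']
  have hkey : ∀ x y : A, x ≠ 0 → y ≠ 0 →
      ∑ᶠ (q : PrimeSpectrum A) (_ : q ∈ {q : PrimeSpectrum A | q.asIdeal.height = 1}),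
        CycAlg.ordFrac (A ⧸ q.asIdeal) q.asIdeal.ResidueField (T A q x y) = 0 := by
    intro x y hx hy
    exact Groth.Agent.S1851.result A hA x y (mem_nonZeroDivisors_of_ne_zero hx)
      (mem_nonZeroDivisors_of_ne_zero hy)
  have h1 := finsum_mem_add_distrib' (hfin a c ha hc) (hfin b d hb hd)
  have h2 := finsum_mem_add_distrib' (hfin a d ha hd) (hfin b c hb hc)
  have hfs1 : ({q : PrimeSpectrum A | q.asIdeal.height = 1} ∩ Function.support
      fun q : PrimeSpectrum A =>
        CycAlg.ordFrac (A ⧸ q.asIdeal) q.asIdeal.ResidueField (T A q a c) +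
          CycAlg.ordFrac (A ⧸ q.asIdeal) q.asIdeal.ResidueField (T A q b d)).Finite := by
    apply ((hfin a c ha hc).union (hfin b d hb hd)).subset
    rintro q ⟨hq1, hq⟩
    by_contra hnot
    simp only [Set.mem_union, Set.mem_inter_iff, Function.mem_support, not_or, not_and,
      not_not] at hnot
    apply hq
    simp only
    rw [hnot.1 hq1, hnot.2 hq1, add_zero]
  have hfs2 : ({q : PrimeSpectrum A | q.asIdeal.height = 1} ∩ Function.support
      fun q : PrimeSpectrum A =>
        CycAlg.ordFrac (A ⧸ q.asIdeal) q.asIdeal.ResidueField (T A q a d) +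
          CycAlg.ordFrac (A ⧸ q.asIdeal) q.asIdeal.ResidueField (T A q b c)).Finite := by
    apply ((hfin a d ha hd).union (hfin b c hb hc)).subset
    rintro q ⟨hq1, hq⟩
    by_contra hnot
    simp only [Set.mem_union, Set.mem_inter_iff, Function.mem_support, not_or, not_and,
      not_not] at hnot
    apply hq
    simp only
    rw [hnot.1 hq1, hnot.2 hq1, add_zero]
  rw [finsum_mem_sub'' _ _ _ hfs1 hfs2, h1, h2, hkey a c ha hc, hkey b d hb hd, hkey a d ha hd,
    hkey b c hb hc]
  ring

end Groth.Agent.Lib.Helper85.TameKey
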