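import Mathlib
import Groth.Prelude.Def_Tame
import Groth.Agent.Lib.Helper71.Dim3H
import Groth.Agent.Lib.Helper45.OrdGeneric
import Groth.Agent.Lib.Helper85.IntMult.TameKey
import Groth.Agent.Lib.Helper85.IntMult.DivPullLoc

/-!
# Transport of the terms of the key lemma to a model of the localization (helper85)
-/

set_option autoImplicit false
set_option linter.unusedSectionVars false
set_option linter.style.haveILetI false
universe u

namespace Groth.Agent.Lib.Helper85.TameTransport

open IsLocalRing Groth.Agent.Lib.Helper85.TameFrac Groth.Agent.Lib.Helper85.TameKey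
open Groth.Agent.Lib.Helper45 Groth.Agent.Lib.Helper74

section prelim

variable {O' : Type u} [CommRing O'] [IsLocalRing O'] {K : Type u} [Field K] (ψ' : O' →+* K)

instance ker_isPrime' : (RingHom.ker ψ').IsPrime := RingHom.ker_isPrime ψ'

instance isLocalRing_quot_ker : IsLocalRing (O' ⧸ RingHom.ker ψ') :=
  IsLocalRing.of_surjective' (Ideal.Quotient.mk (RingHom.ker ψ')) Ideal.Quotient.mk_surjective

instance isLocalHom_mk_ker : IsLocalHom (Ideal.Quotient.mk (RingHom.ker ψ')) :=
  IsLocalHom.of_surjective _ Ideal.Quotient.mk_surjective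

/-- the algebra structure of `K` over `O'/ker ψ'` -/
@[reducible] noncomputable def quotKerAlgebra : Algebra (O' ⧸ RingHom.ker ψ') K :=
  (Ideal.Quotient.lift (RingHom.ker ψ') ψ' (fun _ ha => RingHom.mem_ker.mp ha)).toAlgebra

/-- the residue field of `O'/ker ψ'` is the residue field of `O'` -/
noncomputable def resIso : ResidueField (O' ⧸ RingHom.ker ψ') ≃+* ResidueField O' :=
  (RingEquiv.ofBijective (ResidueField.map (Ideal.Quotient.mk (RingHom.ker ψ')))
    ⟨RingHom.injective _, by
      intro z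
      obtain ⟨w, rfl⟩ := residue_surjective z
      obtain ⟨v, rfl⟩ := Ideal.Quotient.mk_surjective w
      exact ⟨residue O' v, ResidueField.map_residue _ _⟩⟩).symm

theorem resIso_residue (w : O') :
    resIso ψ' (residue _ (Ideal.Quotient.mk (RingHom.ker ψ') w)) = residue O' w := by
  unfold resIso
  rw [RingEquiv.symm_apply_eq]
  exact (ResidueField.map_residue _ _).symm

end prelim


section main

variable {O O' K : Type u} [CommRing O] [IsLocalRing O] [IsNoetherianRing O]
  [CommRing O'] [IsLocalRing O'] [Algebra O O'] [Field K]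

/-- the prime of `O/ker ψ` defined by `ker ψ₂` -/
noncomputable def qPrime (ψ : O →+* K) (ψ₂ : O →+* ResidueField O') (hle : RingHom.ker ψ ≤ RingHom.ker ψ₂) :
    PrimeSpectrum (O ⧸ RingHom.ker ψ) :=
  ⟨(RingHom.ker ψ₂).map (Ideal.Quotient.mk (RingHom.ker ψ)),
    Ideal.map_isPrime_of_surjective Ideal.Quotient.mk_surjective (by rwa [Ideal.mk_ker])⟩

theorem ker_le_of_comp (ψ' : O' →+* K) :
    RingHom.ker (ψ'.comp (algebraMap O O')) ≤
      RingHom.ker ((residue O').comp (algebraMap O O')) := by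
  intro a ha
  rw [RingHom.mem_ker, RingHom.comp_apply] at ha ⊢
  rw [residue_eq_zero_iff]
  by_contra hu
  have hunit : IsUnit (algebraMap O O' a) := IsLocalRing.notMem_maximalIdeal.mp hu
  exact (hunit.map ψ').ne_zero ha

theorem height_qPrime (ψ : O →+* K) (ψ' : O' →+* K) (hψ : ψ = ψ'.comp (algebraMap O O'))
    (ψ₂ : O →+* ResidueField O') (hψ₂ : ψ₂ = (residue O').comp (algebraMap O O'))
    [IsLocalization.AtPrime O' (RingHom.ker ψ₂)]
    (hfrac' : ∀ z : K, ∃ s t : O', z = ψ' s / ψ' t)
    (hdimR' : ringKrullDim (O' ⧸ RingHom.ker ψ') = 1)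
    (hle : RingHom.ker ψ ≤ RingHom.ker ψ₂) :
    (qPrime ψ ψ₂ hle).asIdeal.height = 1 := by
  subst hψ hψ₂
  letI algR'K := quotKerAlgebra ψ'
  letI algQ := quotKerAlgebra ((residue O').comp (algebraMap O O'))
  haveI frR' : IsFractionRing (O' ⧸ RingHom.ker ψ') K :=
    Groth.Agent.Lib.Helper85.DivPullLoc.isFractionRing_quot_ker ψ' hfrac'
  have hN' : IsNoetherianRing O' :=
    IsLocalization.isNoetherianRing
      (RingHom.ker ((residue O').comp (algebraMap O O'))).primeCompl O' inferInstance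
  have hPcomap : RingHom.ker (ψ'.comp (algebraMap O O')) ≤
      (RingHom.ker ψ').comap (algebraMap O O') := fun x hx => hx
  let ρ : O ⧸ RingHom.ker (ψ'.comp (algebraMap O O')) →+* O' ⧸ RingHom.ker ψ' :=
    Ideal.quotientMap (RingHom.ker ψ') (algebraMap O O') hPcomap
  letI algAR' : Algebra (O ⧸ RingHom.ker (ψ'.comp (algebraMap O O'))) (O' ⧸ RingHom.ker ψ') :=
    ρ.toAlgebra
  have hloc0 : IsLocalization
      ((RingHom.ker ((residue O').comp (algebraMap O O'))).primeCompl.map
        (Ideal.Quotient.mk (RingHom.ker (ψ'.comp (algebraMap O O')))))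
      (O' ⧸ RingHom.ker ψ') := by
    refine IsLocalization.of_surjective
      (RingHom.ker ((residue O').comp (algebraMap O O'))).primeCompl O'
      (Ideal.Quotient.mk (RingHom.ker (ψ'.comp (algebraMap O O')))) Ideal.Quotient.mk_surjective
      (Ideal.Quotient.mk (RingHom.ker ψ')) Ideal.Quotient.mk_surjective ?_ ?_
    · rfl
    · rw [Ideal.mk_ker, Ideal.mk_ker]
      have h1 := IsLocalization.map_comap
        (RingHom.ker ((residue O').comp (algebraMap O O'))).primeCompl O' (RingHom.ker ψ')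
      rw [← h1]
      apply Ideal.map_mono
      intro x hx
      exact hx
  have hsub : (RingHom.ker ((residue O').comp (algebraMap O O'))).primeCompl.map
      (Ideal.Quotient.mk (RingHom.ker (ψ'.comp (algebraMap O O')))) =
      (qPrime (ψ'.comp (algebraMap O O')) ((residue O').comp (algebraMap O O'))
        hle).asIdeal.primeCompl := by
    ext y
    constructor
    · rintro ⟨x, hx, rfl⟩ hy
      apply hx
      obtain ⟨x', hx', hxx'⟩ :=
        (Ideal.mem_map_iff_of_surjective _ Ideal.Quotient.mk_surjective).mp hy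
      have h2 : x - x' ∈ RingHom.ker (ψ'.comp (algebraMap O O')) := Ideal.Quotient.eq.mp hxx'.symm
      have h3 : x = x' + (x - x') := by ring
      rw [h3]
      exact Ideal.add_mem _ hx' (hle h2)
    · intro hy
      obtain ⟨x, rfl⟩ := Ideal.Quotient.mk_surjective y
      exact ⟨x, fun hx => hy (Ideal.mem_map_of_mem _ hx), rfl⟩
  haveI hloc : IsLocalization.AtPrime (O' ⧸ RingHom.ker ψ')
      (qPrime (ψ'.comp (algebraMap O O')) ((residue O').comp (algebraMap O O')) hle).asIdeal := by
    show IsLocalization (qPrime (ψ'.comp (algebraMap O O'))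
      ((residue O').comp (algebraMap O O')) hle).asIdeal.primeCompl _
    rw [← hsub]
    exact hloc0
  set q := qPrime (ψ'.comp (algebraMap O O')) ((residue O').comp (algebraMap O O')) hle with hq
  let φ : Localization.AtPrime q.asIdeal ≃ₐ[O ⧸ RingHom.ker (ψ'.comp (algebraMap O O'))]
      (O' ⧸ RingHom.ker ψ') := IsLocalization.algEquiv q.asIdeal.primeCompl _ _
  have hdimL : ringKrullDim (Localization.AtPrime q.asIdeal) = 1 := by
    rw [ringKrullDim_eq_of_ringEquiv φ.toRingEquiv]
    exact hdimR'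
  have hq1 : q.asIdeal.height = 1 := by
    have h1 := IsLocalization.AtPrime.ringKrullDim_eq_height q.asIdeal
      (Localization.AtPrime q.asIdeal)
    rw [hdimL] at h1
    exact_mod_cast h1.symm
  exact hq1

theorem term_transport (ψ : O →+* K) (ψ' : O' →+* K) (hψ : ψ = ψ'.comp (algebraMap O O'))
    (ψ₂ : O →+* ResidueField O') (hψ₂ : ψ₂ = (residue O').comp (algebraMap O O'))
    [IsLocalization.AtPrime O' (RingHom.ker ψ₂)]
    (hfrac' : ∀ z : K, ∃ s t : O', z = ψ' s / ψ' t)
    (hdimA : ringKrullDim (O ⧸ RingHom.ker ψ) = 2)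
    (hdimR' : ringKrullDim (O' ⧸ RingHom.ker ψ') = 1)
    (hle : RingHom.ker ψ ≤ RingHom.ker ψ₂)
    (a b c d : O) (ha : ψ a ≠ 0) (hb : ψ b ≠ 0) (hc : ψ c ≠ 0) (hd : ψ d ≠ 0) :
    letI := quotKerAlgebra ψ'
    letI := quotKerAlgebra ψ₂
    haveI : IsFractionRing (O' ⧸ RingHom.ker ψ') K :=
      Groth.Agent.Lib.Helper85.DivPullLoc.isFractionRing_quot_ker ψ' hfrac'
    CycAlg.ordFrac ((O ⧸ RingHom.ker ψ) ⧸ (qPrime ψ ψ₂ hle).asIdeal)
        (qPrime ψ ψ₂ hle).asIdeal.ResidueField
        (T (O ⧸ RingHom.ker ψ) (qPrime ψ ψ₂ hle) (Ideal.Quotient.mk _ a) (Ideal.Quotient.mk _ c) *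
          T (O ⧸ RingHom.ker ψ) (qPrime ψ ψ₂ hle) (Ideal.Quotient.mk _ b) (Ideal.Quotient.mk _ d) /
          (T (O ⧸ RingHom.ker ψ) (qPrime ψ ψ₂ hle) (Ideal.Quotient.mk _ a) (Ideal.Quotient.mk _ d) *
            T (O ⧸ RingHom.ker ψ) (qPrime ψ ψ₂ hle) (Ideal.Quotient.mk _ b)
              (Ideal.Quotient.mk _ c))) =
      CycAlg.ordFrac (O ⧸ RingHom.ker ψ₂) (ResidueField O')
        (resIso ψ' (tameK (O' ⧸ RingHom.ker ψ') K (ψ a / ψ b) (ψ c / ψ d))) := by
  subst hψ hψ₂
  letI algR'K := quotKerAlgebra ψ'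
  letI algQ := quotKerAlgebra ((residue O').comp (algebraMap O O'))
  haveI frR' : IsFractionRing (O' ⧸ RingHom.ker ψ') K :=
    Groth.Agent.Lib.Helper85.DivPullLoc.isFractionRing_quot_ker ψ' hfrac'
  have hN' : IsNoetherianRing O' :=
    IsLocalization.isNoetherianRing
      (RingHom.ker ((residue O').comp (algebraMap O O'))).primeCompl O' inferInstance
  have hPcomap : RingHom.ker (ψ'.comp (algebraMap O O')) ≤
      (RingHom.ker ψ').comap (algebraMap O O') := fun x hx => hx
  let ρ : O ⧸ RingHom.ker (ψ'.comp (algebraMap O O')) →+* O' ⧸ RingHom.ker ψ' :=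
    Ideal.quotientMap (RingHom.ker ψ') (algebraMap O O') hPcomap
  letI algAR' : Algebra (O ⧸ RingHom.ker (ψ'.comp (algebraMap O O'))) (O' ⧸ RingHom.ker ψ') :=
    ρ.toAlgebra
  have hloc0 : IsLocalization
      ((RingHom.ker ((residue O').comp (algebraMap O O'))).primeCompl.map
        (Ideal.Quotient.mk (RingHom.ker (ψ'.comp (algebraMap O O')))))
      (O' ⧸ RingHom.ker ψ') := by
    refine IsLocalization.of_surjective
      (RingHom.ker ((residue O').comp (algebraMap O O'))).primeCompl O'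
      (Ideal.Quotient.mk (RingHom.ker (ψ'.comp (algebraMap O O')))) Ideal.Quotient.mk_surjective
      (Ideal.Quotient.mk (RingHom.ker ψ')) Ideal.Quotient.mk_surjective ?_ ?_
    · rfl
    · rw [Ideal.mk_ker, Ideal.mk_ker]
      have h1 := IsLocalization.map_comap
        (RingHom.ker ((residue O').comp (algebraMap O O'))).primeCompl O' (RingHom.ker ψ')
      rw [← h1]
      apply Ideal.map_mono
      intro x hx
      exact hx
  have hsub : (RingHom.ker ((residue O').comp (algebraMap O O'))).primeCompl.map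
      (Ideal.Quotient.mk (RingHom.ker (ψ'.comp (algebraMap O O')))) =
      (qPrime (ψ'.comp (algebraMap O O')) ((residue O').comp (algebraMap O O'))
        hle).asIdeal.primeCompl := by
    ext y
    constructor
    · rintro ⟨x, hx, rfl⟩ hy
      apply hx
      obtain ⟨x', hx', hxx'⟩ :=
        (Ideal.mem_map_iff_of_surjective _ Ideal.Quotient.mk_surjective).mp hy
      have h2 : x - x' ∈ RingHom.ker (ψ'.comp (algebraMap O O')) := Ideal.Quotient.eq.mp hxx'.symm
      have h3 : x = x' + (x - x') := by ring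
      rw [h3]
      exact Ideal.add_mem _ hx' (hle h2)
    · intro hy
      obtain ⟨x, rfl⟩ := Ideal.Quotient.mk_surjective y
      exact ⟨x, fun hx => hy (Ideal.mem_map_of_mem _ hx), rfl⟩
  haveI hloc : IsLocalization.AtPrime (O' ⧸ RingHom.ker ψ')
      (qPrime (ψ'.comp (algebraMap O O')) ((residue O').comp (algebraMap O O')) hle).asIdeal := by
    show IsLocalization (qPrime (ψ'.comp (algebraMap O O'))
      ((residue O').comp (algebraMap O O')) hle).asIdeal.primeCompl _
    rw [← hsub]
    exact hloc0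
  set q := qPrime (ψ'.comp (algebraMap O O')) ((residue O').comp (algebraMap O O')) hle with hq
  let φ : Localization.AtPrime q.asIdeal ≃ₐ[O ⧸ RingHom.ker (ψ'.comp (algebraMap O O'))]
      (O' ⧸ RingHom.ker ψ') := IsLocalization.algEquiv q.asIdeal.primeCompl _ _
  have hdimL : ringKrullDim (Localization.AtPrime q.asIdeal) = 1 := by
    rw [ringKrullDim_eq_of_ringEquiv φ.toRingEquiv]
    exact hdimR'
  have hq1 : q.asIdeal.height = 1 := by
    have h1 := IsLocalization.AtPrime.ringKrullDim_eq_height q.asIdeal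
      (Localization.AtPrime q.asIdeal)
    rw [hdimL] at h1
    exact_mod_cast h1.symm
  have hρmk : ∀ w : O, algebraMap (O' ⧸ RingHom.ker ψ') K
      (ρ (Ideal.Quotient.mk _ w)) = ψ' (algebraMap O O' w) := fun w => rfl
  have hρne : ∀ w : O, ψ' (algebraMap O O' w) ≠ 0 → ρ (Ideal.Quotient.mk _ w) ≠ 0 := by
    intro w hw h0
    apply hw
    rw [← hρmk w, h0, map_zero]
  have hmkne : ∀ w : O, ψ' (algebraMap O O' w) ≠ 0 →
      (Ideal.Quotient.mk (RingHom.ker (ψ'.comp (algebraMap O O'))) w) ≠ 0 := by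
    intro w hw h0
    apply hρne w hw
    rw [h0, map_zero]
  have hT : ∀ x y : O ⧸ RingHom.ker (ψ'.comp (algebraMap O O')), x ≠ 0 → y ≠ 0 →
      CycAlg.tameSymbol (O' ⧸ RingHom.ker ψ') (ρ x) (ρ y) =
        ResidueField.mapEquiv φ.toRingEquiv (T _ q x y) := by
    intro x y hx hy
    have h1 := Groth.Agent.Lib.Helper71.Dim3.tameSymbol_ringEquiv hdimL φ.toRingEquiv
      (x := algebraMap _ _ x) (y := algebraMap _ _ y)
      (mem_nzd _ (algebraMap_loc_ne_zero q hx)) (mem_nzd _ (algebraMap_loc_ne_zero q hy))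
    have e1 : φ.toRingEquiv (algebraMap _ (Localization.AtPrime q.asIdeal) x) = ρ x :=
      φ.commutes x
    have e2 : φ.toRingEquiv (algebraMap _ (Localization.AtPrime q.asIdeal) y) = ρ y :=
      φ.commutes y
    rw [e1, e2] at h1
    exact h1
  have ha' := hmkne a ha
  have hb' := hmkne b hb
  have hc' := hmkne c hc
  have hd' := hmkne d hd
  have hK := tameK_eq (R := O' ⧸ RingHom.ker ψ') (K := K) hdimR' (hρne a ha) (hρne b hb)
    (hρne c hc) (hρne d hd)
  rw [hρmk, hρmk, hρmk, hρmk] at hK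
  have hK' : tameK (O' ⧸ RingHom.ker ψ') K
      ((ψ'.comp (algebraMap O O')) a / (ψ'.comp (algebraMap O O')) b)
      ((ψ'.comp (algebraMap O O')) c / (ψ'.comp (algebraMap O O')) d) =
      ResidueField.mapEquiv φ.toRingEquiv
        (T _ q (Ideal.Quotient.mk _ a) (Ideal.Quotient.mk _ c) *
          T _ q (Ideal.Quotient.mk _ b) (Ideal.Quotient.mk _ d) /
          (T _ q (Ideal.Quotient.mk _ a) (Ideal.Quotient.mk _ d) *
            T _ q (Ideal.Quotient.mk _ b) (Ideal.Quotient.mk _ c))) := by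
    rw [map_div₀, map_mul, map_mul, ← hT _ _ ha' hc', ← hT _ _ hb' hd', ← hT _ _ ha' hd',
      ← hT _ _ hb' hc']
    exact hK
  rw [hK']
  generalize T _ q (Ideal.Quotient.mk _ a) (Ideal.Quotient.mk _ c) *
          T _ q (Ideal.Quotient.mk _ b) (Ideal.Quotient.mk _ d) /
          (T _ q (Ideal.Quotient.mk _ a) (Ideal.Quotient.mk _ d) *
            T _ q (Ideal.Quotient.mk _ b) (Ideal.Quotient.mk _ c)) = z
  -- the comparison of `ordFrac`
  let e : ((O ⧸ RingHom.ker (ψ'.comp (algebraMap O O'))) ⧸ q.asIdeal) ≃+*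
      (O ⧸ RingHom.ker ((residue O').comp (algebraMap O O'))) :=
    DoubleQuot.quotQuotEquivQuotOfLE hle
  letI algE : Algebra ((O ⧸ RingHom.ker (ψ'.comp (algebraMap O O'))) ⧸ q.asIdeal)
      (O ⧸ RingHom.ker ((residue O').comp (algebraMap O O'))) := e.toRingHom.toAlgebra
  have hbij : Function.Bijective (algebraMap
      ((O ⧸ RingHom.ker (ψ'.comp (algebraMap O O'))) ⧸ q.asIdeal)
      (O ⧸ RingHom.ker ((residue O').comp (algebraMap O O')))) := e.bijective
  let σ : q.asIdeal.ResidueField →+* ResidueField O' :=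
    (resIso ψ').toRingHom.comp (ResidueField.mapEquiv φ.toRingEquiv).toRingHom
  have hσ : ∀ r : (O ⧸ RingHom.ker (ψ'.comp (algebraMap O O'))) ⧸ q.asIdeal,
      σ (algebraMap _ q.asIdeal.ResidueField r) =
        algebraMap (O ⧸ RingHom.ker ((residue O').comp (algebraMap O O'))) (ResidueField O')
          (algebraMap _ _ r) := by
    intro r
    obtain ⟨r', rfl⟩ := Ideal.Quotient.mk_surjective r
    obtain ⟨w, rfl⟩ := Ideal.Quotient.mk_surjective r'
    have h1 : algebraMap ((O ⧸ RingHom.ker (ψ'.comp (algebraMap O O'))) ⧸ q.asIdeal)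
        q.asIdeal.ResidueField (Ideal.Quotient.mk _ (Ideal.Quotient.mk (RingHom.ker (ψ'.comp (algebraMap O O'))) w)) =
        residue _ (algebraMap _ (Localization.AtPrime q.asIdeal) (Ideal.Quotient.mk (RingHom.ker (ψ'.comp (algebraMap O O'))) w)) := rfl
    rw [h1]
    show resIso ψ' (ResidueField.mapEquiv φ.toRingEquiv (residue _ _)) = _
    have h2 : ResidueField.mapEquiv φ.toRingEquiv
        (residue _ (algebraMap _ (Localization.AtPrime q.asIdeal) (Ideal.Quotient.mk (RingHom.ker (ψ'.comp (algebraMap O O'))) w))) =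
        residue _ (φ.toRingEquiv (algebraMap _ (Localization.AtPrime q.asIdeal)
          (Ideal.Quotient.mk (RingHom.ker (ψ'.comp (algebraMap O O'))) w))) := rfl
    rw [h2]
    have h3 : φ.toRingEquiv (algebraMap _ (Localization.AtPrime q.asIdeal)
        (Ideal.Quotient.mk (RingHom.ker (ψ'.comp (algebraMap O O'))) w)) = ρ (Ideal.Quotient.mk (RingHom.ker (ψ'.comp (algebraMap O O'))) w) := φ.commutes _
    rw [h3]
    have h4 : ρ (Ideal.Quotient.mk (RingHom.ker (ψ'.comp (algebraMap O O'))) w) = Ideal.Quotient.mk _ (algebraMap O O' w) := rfl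
    rw [h4, resIso_residue]
    rfl
  -- instances on the left
  have hdomA : IsDomain (O ⧸ RingHom.ker (ψ'.comp (algebraMap O O'))) := Ideal.Quotient.isDomain _
  haveI kL : Ring.KrullDimLE 1 ((O ⧸ RingHom.ker (ψ'.comp (algebraMap O O'))) ⧸ q.asIdeal) :=
    Groth.Agent.Lib.Helper71.Dim3.krullDimLE_one_quot hdimA q.asIdeal hq1
  -- instances on the right
  haveI kR : Ring.KrullDimLE 1 (O ⧸ RingHom.ker ((residue O').comp (algebraMap O O'))) := by
    rw [Ring.krullDimLE_iff, ← ringKrullDim_eq_of_ringEquiv e]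
    exact Ring.krullDimLE_iff.mp kL
  have hfrac₂ : ∀ z : ResidueField O', ∃ s t : O,
      z = ((residue O').comp (algebraMap O O')) s / ((residue O').comp (algebraMap O O')) t := by
    intro z
    obtain ⟨w, rfl⟩ := residue_surjective z
    obtain ⟨⟨s, t⟩, hst⟩ := IsLocalization.surj
      (RingHom.ker ((residue O').comp (algebraMap O O'))).primeCompl w
    have ht : ((residue O').comp (algebraMap O O')) (t : O) ≠ 0 := fun h0 => t.2 (RingHom.mem_ker.mpr h0)
    refine ⟨s, t, ?_⟩
    rw [eq_div_iff ht]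
    have h5 := congrArg (residue O') hst
    rw [map_mul] at h5
    exact h5
  haveI frR : IsFractionRing (O ⧸ RingHom.ker ((residue O').comp (algebraMap O O')))
      (ResidueField O') :=
    Groth.Agent.Lib.Helper85.DivPullLoc.isFractionRing_quot_ker _ hfrac₂
  rw [ordFracInt_eq ((O ⧸ RingHom.ker (ψ'.comp (algebraMap O O'))) ⧸ q.asIdeal)
      q.asIdeal.ResidueField z,
    ordFracInt_eq (O ⧸ RingHom.ker ((residue O').comp (algebraMap O O'))) (ResidueField O')]
  have hfin := OrdGeneric.ordFrac_map_of_bijective hbij σ hσ z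
  rw [← hfin]
  rfl

end main

end Groth.Agent.Lib.Helper85.TameTransport
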