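import Mathlib
import Groth.Prelude.Def_Cyc
import Groth.Agent.Lib.Helper85.IntMult.TameTransport
import Groth.Agent.Lib.Helper85.IntMult.DivPullDict
import Groth.Agent.Lib.Helper85.IntMult.SecOrd

/-!
# Tame symbols along immediate specializations on a scheme (helper85)
-/

set_option autoImplicit false
set_option linter.unusedSectionVars false
set_option linter.style.haveILetI false
universe u
open CategoryTheory AlgebraicGeometry

namespace Groth.Agent.Lib.Helper85.TameScheme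

open IsLocalRing Groth.Agent.Lib.Helper85.TameFrac Groth.Agent.Lib.Helper85.TameKey
open Groth.Agent.Lib.Helper85.TameTransport Groth.Agent.Lib.Helper85.DivPullDict
open Groth.Agent.Lib.Helper55

variable {X : Scheme.{u}}

/-- the tame symbol of two rational functions on the closure of `ξ` along `ξ ⤳ ξ'`,
as a rational function on the closure of `ξ'` -/
noncomputable def resIsoX {ξ ξ' : X} (h₁ : ξ ⤳ ξ') :
    ResidueField (Cyc.LocQuot ξ' ξ h₁) ≃+* X.residueField ξ' :=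
  resIso (Cyc.specMap ξ' ξ h₁)

theorem resIsoX_residue {ξ ξ' : X} (h₁ : ξ ⤳ ξ') (w : X.presheaf.stalk ξ') :
    resIsoX h₁ (residue _ (Ideal.Quotient.mk (RingHom.ker (Cyc.specMap ξ' ξ h₁)) w)) =
      X.residue ξ' w :=
  resIso_residue _ w

noncomputable def tameAt {ξ ξ' : X} (h₁ : ξ ⤳ ξ') (f g : X.residueField ξ) : X.residueField ξ' :=
  resIsoX h₁ (tameK (Cyc.LocQuot ξ' ξ h₁) (X.residueField ξ) f g)

variable [IsLocallyNoetherian X] (δ : X → ℤ) (hdim : Cyc.IsDimFun X δ)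

include hdim in
theorem dim_locQuot_eq_one {ξ ξ' : X} (h₁ : ξ ⤳ ξ') (hδ : δ ξ' + 1 = δ ξ) :
    ringKrullDim (Cyc.LocQuot ξ' ξ h₁) = 1 := by
  rw [Groth.Agent.Lib.Helper89.DimFunJacobson.ringKrullDim_locQuot X δ hdim h₁]
  have h2 : (δ ξ - δ ξ').toNat = 1 := by omega
  rw [h2]
  rfl

include hdim in
theorem tameAt_ne_zero {ξ ξ' : X} (h₁ : ξ ⤳ ξ') (hδ : δ ξ' + 1 = δ ξ) {f g : X.residueField ξ}
    (hf : f ≠ 0) (hg : g ≠ 0) : tameAt h₁ f g ≠ 0 := by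
  unfold tameAt
  rw [Ne, map_eq_zero_iff _ (resIsoX h₁).injective]
  exact tameK_ne_zero (dim_locQuot_eq_one δ hdim h₁ hδ) hf hg

include hdim in
theorem tameAt_mul_left {ξ ξ' : X} (h₁ : ξ ⤳ ξ') (hδ : δ ξ' + 1 = δ ξ)
    {f f' g : X.residueField ξ} (hf : f ≠ 0) (hf' : f' ≠ 0) (hg : g ≠ 0) :
    tameAt h₁ (f * f') g = tameAt h₁ f g * tameAt h₁ f' g := by
  unfold tameAt
  rw [tameK_mul_left (dim_locQuot_eq_one δ hdim h₁ hδ) hf hf' hg, map_mul]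

include hdim in
theorem tameAt_mul_right {ξ ξ' : X} (h₁ : ξ ⤳ ξ') (hδ : δ ξ' + 1 = δ ξ)
    {f g g' : X.residueField ξ} (hf : f ≠ 0) (hg : g ≠ 0) (hg' : g' ≠ 0) :
    tameAt h₁ f (g * g') = tameAt h₁ f g * tameAt h₁ f g' := by
  unfold tameAt
  rw [tameK_mul_right (dim_locQuot_eq_one δ hdim h₁ hδ) hf hg hg', map_mul]

include hdim in
theorem tameAt_unit_left {ξ ξ' : X} (h₁ : ξ ⤳ ξ') (hδ : δ ξ' + 1 = δ ξ)
    (w : X.presheaf.stalk ξ') (hw : IsUnit w) {g : X.residueField ξ} (hg : g ≠ 0) :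
    tameAt h₁ (Cyc.specMap ξ' ξ h₁ w) g = (X.residue ξ' w) ^ (Cyc.ordAt ξ' ξ h₁ g) := by
  unfold tameAt
  have hu : IsUnit (Ideal.Quotient.mk (RingHom.ker (Cyc.specMap ξ' ξ h₁)) w) := hw.map _
  obtain ⟨l, hl⟩ := hu
  have e1 : Cyc.specMap ξ' ξ h₁ w =
      algebraMap (Cyc.LocQuot ξ' ξ h₁) (X.residueField ξ) (l : Cyc.LocQuot ξ' ξ h₁) := by
    rw [hl]
    rfl
  rw [e1, tameK_unit_left (dim_locQuot_eq_one δ hdim h₁ hδ) l hg, map_zpow₀, hl, resIsoX_residue]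
  rfl

include hdim in
theorem tameAt_unit_right {ξ ξ' : X} (h₁ : ξ ⤳ ξ') (hδ : δ ξ' + 1 = δ ξ)
    {f : X.residueField ξ} (hf : f ≠ 0) (w : X.presheaf.stalk ξ') (hw : IsUnit w) :
    tameAt h₁ f (Cyc.specMap ξ' ξ h₁ w) = (X.residue ξ' w) ^ (-Cyc.ordAt ξ' ξ h₁ f) := by
  unfold tameAt
  have hu : IsUnit (Ideal.Quotient.mk (RingHom.ker (Cyc.specMap ξ' ξ h₁)) w) := hw.map _
  obtain ⟨l, hl⟩ := hu
  have e1 : Cyc.specMap ξ' ξ h₁ w =
      algebraMap (Cyc.LocQuot ξ' ξ h₁) (X.residueField ξ) (l : Cyc.LocQuot ξ' ξ h₁) := by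
    rw [hl]
    rfl
  rw [e1, tameK_unit_right (dim_locQuot_eq_one δ hdim h₁ hδ) hf l, map_zpow₀, hl, resIsoX_residue]
  rfl


omit [IsLocallyNoetherian X] in
/-- functoriality of `specMap` -/
theorem specMap_comp {ξ ξ' x : X} (h₁ : ξ ⤳ ξ') (h₂ : ξ' ⤳ x) :
    Cyc.specMap x ξ (h₁.trans h₂) =
      (Cyc.specMap ξ' ξ h₁).comp (X.presheaf.stalkSpecializes h₂).hom := by
  unfold Cyc.specMap
  rw [← TopCat.Presheaf.stalkSpecializes_comp X.presheaf h₁ h₂]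
  rfl

omit [IsLocallyNoetherian X] in
theorem ker_specMap_le {ξ ξ' x : X} (h₁ : ξ ⤳ ξ') (h₂ : ξ' ⤳ x) :
    RingHom.ker (Cyc.specMap x ξ (h₁.trans h₂)) ≤ RingHom.ker (Cyc.specMap x ξ' h₂) := by
  intro a ha
  rw [RingHom.mem_ker] at ha ⊢
  rw [specMap_comp h₁ h₂, RingHom.comp_apply] at ha
  by_contra hne
  have hu : IsUnit ((X.presheaf.stalkSpecializes h₂).hom a) := by
    have h3 : (X.presheaf.stalkSpecializes h₂).hom a ∉
        IsLocalRing.maximalIdeal (X.presheaf.stalk ξ') := by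
      intro hmem
      exact hne ((IsLocalRing.residue_eq_zero_iff _).mpr hmem)
    exact IsLocalRing.notMem_maximalIdeal.mp h3
  exact (hu.map (Cyc.specMap ξ' ξ h₁)).ne_zero ha

include hdim in
/-- the term of the key lemma at the prime of `ξ'`, on the scheme -/
theorem term_eq {ξ ξ' x : X} (h₁ : ξ ⤳ ξ') (h₂ : ξ' ⤳ x) (hδ₁ : δ ξ' + 1 = δ ξ)
    (hδ₂ : δ x + 1 = δ ξ') (a b c d : X.presheaf.stalk x)
    (ha : Cyc.specMap x ξ (h₁.trans h₂) a ≠ 0) (hb : Cyc.specMap x ξ (h₁.trans h₂) b ≠ 0)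
    (hc : Cyc.specMap x ξ (h₁.trans h₂) c ≠ 0) (hd : Cyc.specMap x ξ (h₁.trans h₂) d ≠ 0) :
    CycAlg.ordFrac ((Cyc.LocQuot x ξ (h₁.trans h₂)) ⧸
        (qPrime (Cyc.specMap x ξ (h₁.trans h₂)) (Cyc.specMap x ξ' h₂)
          (ker_specMap_le h₁ h₂)).asIdeal)
      (qPrime (Cyc.specMap x ξ (h₁.trans h₂)) (Cyc.specMap x ξ' h₂)
          (ker_specMap_le h₁ h₂)).asIdeal.ResidueField
      (T _ (qPrime (Cyc.specMap x ξ (h₁.trans h₂)) (Cyc.specMap x ξ' h₂) (ker_specMap_le h₁ h₂))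
          (Ideal.Quotient.mk _ a) (Ideal.Quotient.mk _ c) *
        T _ (qPrime (Cyc.specMap x ξ (h₁.trans h₂)) (Cyc.specMap x ξ' h₂) (ker_specMap_le h₁ h₂))
          (Ideal.Quotient.mk _ b) (Ideal.Quotient.mk _ d) /
        (T _ (qPrime (Cyc.specMap x ξ (h₁.trans h₂)) (Cyc.specMap x ξ' h₂) (ker_specMap_le h₁ h₂))
            (Ideal.Quotient.mk _ a) (Ideal.Quotient.mk _ d) *
          T _ (qPrime (Cyc.specMap x ξ (h₁.trans h₂)) (Cyc.specMap x ξ' h₂)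
            (ker_specMap_le h₁ h₂)) (Ideal.Quotient.mk _ b) (Ideal.Quotient.mk _ c))) =
    Cyc.ordAt x ξ' h₂ (tameAt h₁
      (Cyc.specMap x ξ (h₁.trans h₂) a / Cyc.specMap x ξ (h₁.trans h₂) b)
      (Cyc.specMap x ξ (h₁.trans h₂) c / Cyc.specMap x ξ (h₁.trans h₂) d)) := by
  letI := (X.presheaf.stalkSpecializes h₂).hom.toAlgebra
  haveI hlocst : IsLocalization.AtPrime (X.presheaf.stalk ξ') (RingHom.ker (Cyc.specMap x ξ' h₂)) :=
    isLocalization_atPrime_stalk h₂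
  have hA : ringKrullDim (Cyc.LocQuot x ξ (h₁.trans h₂)) = 2 := by
    rw [Groth.Agent.Lib.Helper89.DimFunJacobson.ringKrullDim_locQuot X δ hdim (h₁.trans h₂)]
    have h2 : (δ ξ - δ x).toNat = 2 := by omega
    rw [h2]
    rfl
  exact @term_transport (X.presheaf.stalk x) (X.presheaf.stalk ξ')
    (X.residueField ξ) _ _ _ _ _ _ _ (Cyc.specMap x ξ (h₁.trans h₂)) (Cyc.specMap ξ' ξ h₁)
    (specMap_comp h₁ h₂) (Cyc.specMap x ξ' h₂) rfl hlocst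
    (fun z => by
      obtain ⟨s, t, -, hz⟩ := exists_specMap_div h₁ z
      exact ⟨s, t, hz⟩)
    hA (dim_locQuot_eq_one δ hdim h₁ hδ₁) (ker_specMap_le h₁ h₂) a b c d ha hb hc hd


include hdim in
theorem height_qPrime_scheme {ξ ξ' x : X} (h₁ : ξ ⤳ ξ') (h₂ : ξ' ⤳ x) (hδ₁ : δ ξ' + 1 = δ ξ) :
    (qPrime (Cyc.specMap x ξ (h₁.trans h₂)) (Cyc.specMap x ξ' h₂)
      (ker_specMap_le h₁ h₂)).asIdeal.height = 1 := by
  letI := (X.presheaf.stalkSpecializes h₂).hom.toAlgebra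
  haveI hlocst : IsLocalization.AtPrime (X.presheaf.stalk ξ') (RingHom.ker (Cyc.specMap x ξ' h₂)) :=
    isLocalization_atPrime_stalk h₂
  exact @height_qPrime (X.presheaf.stalk x) (X.presheaf.stalk ξ')
    (X.residueField ξ) _ _ _ _ _ _ _ (Cyc.specMap x ξ (h₁.trans h₂)) (Cyc.specMap ξ' ξ h₁)
    (specMap_comp h₁ h₂) (Cyc.specMap x ξ' h₂) rfl hlocst
    (fun z => by
      obtain ⟨s, t, -, hz⟩ := exists_specMap_div h₁ z
      exact ⟨s, t, hz⟩)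
    (dim_locQuot_eq_one δ hdim h₁ hδ₁) (ker_specMap_le h₁ h₂)

open scoped Classical in
include hdim in
/-- **The key lemma on a scheme**: the orders of the tame symbols of two rational functions on
the closure of `ξ`, along the chains `ξ ⤳ ξ' ⤳ x` of immediate specializations, sum to zero. -/
theorem key_scheme {ξ x : X} (h : ξ ⤳ x) (hδ : δ x + 2 = δ ξ) {f g : X.residueField ξ}
    (hf : f ≠ 0) (hg : g ≠ 0) :
    ∑ᶠ ξ' : X, (if hc : (ξ ⤳ ξ' ∧ δ ξ' + 1 = δ ξ) ∧ (ξ' ⤳ x ∧ δ x + 1 = δ ξ') then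
      Cyc.ordAt x ξ' hc.2.1 (tameAt hc.1.1 f g) else 0) = 0 := by
  classical
  obtain ⟨a, b, hb, hfab⟩ := exists_specMap_div h f
  obtain ⟨c, d, hd, hgcd⟩ := exists_specMap_div h g
  have ha : a ∉ RingHom.ker (Cyc.specMap x ξ h) := by
    intro ha
    apply hf
    rw [hfab, RingHom.mem_ker.mp ha, zero_div]
  have hc : c ∉ RingHom.ker (Cyc.specMap x ξ h) := by
    intro hc
    apply hg
    rw [hgcd, RingHom.mem_ker.mp hc, zero_div]
  have hA : ringKrullDim (Cyc.LocQuot x ξ h) = 2 := by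
    rw [Groth.Agent.Lib.Helper89.DimFunJacobson.ringKrullDim_locQuot X δ hdim h]
    have h2 : (δ ξ - δ x).toNat = 2 := by omega
    rw [h2]
    rfl
  have hdom : IsDomain (Cyc.LocQuot x ξ h) := Ideal.Quotient.isDomain _
  have hmk : ∀ w : X.presheaf.stalk x, w ∉ RingHom.ker (Cyc.specMap x ξ h) →
      (Ideal.Quotient.mk (RingHom.ker (Cyc.specMap x ξ h)) w) ≠ 0 :=
    fun w hw h0 => hw (Ideal.Quotient.eq_zero_iff_mem.mp h0)
  have hkey := key_frac hA (hmk a ha) (hmk b hb) (hmk c hc) (hmk d hd)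
  set G : X → ℤ := fun ξ' =>
    if hc : (ξ ⤳ ξ' ∧ δ ξ' + 1 = δ ξ) ∧ (ξ' ⤳ x ∧ δ x + 1 = δ ξ') then
      Cyc.ordAt x ξ' hc.2.1 (tameAt hc.1.1 f g) else 0 with hG
  set Φ : PrimeSpectrum (Cyc.LocQuot x ξ h) → X := fun q =>
    stalkPoint x (PrimeSpectrum.comap (Ideal.Quotient.mk (RingHom.ker (Cyc.specMap x ξ h))) q)
    with hΦ
  have hΦinj : Function.Injective Φ :=
    (stalkPoint_injective x).comp
      (PrimeSpectrum.comap_injective_of_surjective _ Ideal.Quotient.mk_surjective)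
  -- the prime attached to an intermediate point
  have hpt : ∀ (ξ' : X) (h₁ : ξ ⤳ ξ') (h₂ : ξ' ⤳ x),
      Φ (qPrime (Cyc.specMap x ξ h) (Cyc.specMap x ξ' h₂) (ker_specMap_le h₁ h₂)) = ξ' := by
    intro ξ' h₁ h₂
    have h3 := stalkPoint_ker_specMap h₂
    refine Eq.trans ?_ h3
    show stalkPoint x _ = stalkPoint x _
    congr 1
    apply PrimeSpectrum.ext
    show Ideal.comap (Ideal.Quotient.mk (RingHom.ker (Cyc.specMap x ξ h)))
      (Ideal.map (Ideal.Quotient.mk (RingHom.ker (Cyc.specMap x ξ h)))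
        (RingHom.ker (Cyc.specMap x ξ' h₂))) = RingHom.ker (Cyc.specMap x ξ' h₂)
    rw [Ideal.comap_map_of_surjective _ Ideal.Quotient.mk_surjective, ← RingHom.ker_eq_comap_bot,
      Ideal.mk_ker]
    exact sup_eq_left.mpr (ker_specMap_le h₁ h₂)
  have hterm : ∀ (ξ' : X) (h₁ : ξ ⤳ ξ') (h₂ : ξ' ⤳ x) (hδ₁ : δ ξ' + 1 = δ ξ)
      (hδ₂ : δ x + 1 = δ ξ'),
      CycAlg.ordFrac ((Cyc.LocQuot x ξ h) ⧸
          (qPrime (Cyc.specMap x ξ h) (Cyc.specMap x ξ' h₂) (ker_specMap_le h₁ h₂)).asIdeal)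
        (qPrime (Cyc.specMap x ξ h) (Cyc.specMap x ξ' h₂)
          (ker_specMap_le h₁ h₂)).asIdeal.ResidueField
        (T _ (qPrime (Cyc.specMap x ξ h) (Cyc.specMap x ξ' h₂) (ker_specMap_le h₁ h₂))
            (Ideal.Quotient.mk _ a) (Ideal.Quotient.mk _ c) *
          T _ (qPrime (Cyc.specMap x ξ h) (Cyc.specMap x ξ' h₂) (ker_specMap_le h₁ h₂))
            (Ideal.Quotient.mk _ b) (Ideal.Quotient.mk _ d) /
          (T _ (qPrime (Cyc.specMap x ξ h) (Cyc.specMap x ξ' h₂) (ker_specMap_le h₁ h₂))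
              (Ideal.Quotient.mk _ a) (Ideal.Quotient.mk _ d) *
            T _ (qPrime (Cyc.specMap x ξ h) (Cyc.specMap x ξ' h₂) (ker_specMap_le h₁ h₂))
              (Ideal.Quotient.mk _ b) (Ideal.Quotient.mk _ c))) = G ξ' := by
    intro ξ' h₁ h₂ hδ₁ hδ₂
    have hcnd : (ξ ⤳ ξ' ∧ δ ξ' + 1 = δ ξ) ∧ (ξ' ⤳ x ∧ δ x + 1 = δ ξ') := ⟨⟨h₁, hδ₁⟩, ⟨h₂, hδ₂⟩⟩
    rw [hG]
    simp only
    rw [dif_pos hcnd, hfab, hgcd]
    exact term_eq δ hdim h₁ h₂ hδ₁ hδ₂ a b c d (fun h0 => ha (RingHom.mem_ker.mpr h0))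
      (fun h0 => hb (RingHom.mem_ker.mpr h0)) (fun h0 => hc (RingHom.mem_ker.mpr h0))
      (fun h0 => hd (RingHom.mem_ker.mpr h0))
  set S : Set (PrimeSpectrum (Cyc.LocQuot x ξ h)) := {q | q.asIdeal.height = 1} with hS
  have hq_data : ∀ q ∈ S, ∃ (ξ' : X) (h₁ : ξ ⤳ ξ') (h₂ : ξ' ⤳ x) (_ : δ ξ' + 1 = δ ξ)
      (_ : δ x + 1 = δ ξ'),
      q = qPrime (Cyc.specMap x ξ h) (Cyc.specMap x ξ' h₂) (ker_specMap_le h₁ h₂) := by
    intro q hq
    have h₂ : stalkPoint x (PrimeSpectrum.comap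
        (Ideal.Quotient.mk (RingHom.ker (Cyc.specMap x ξ h))) q) ⤳ x :=
      stalkPoint_specializes x _
    have hker₂ := ker_specMap_stalkPoint x (PrimeSpectrum.comap
        (Ideal.Quotient.mk (RingHom.ker (Cyc.specMap x ξ h))) q)
    have hPQ : RingHom.ker (Cyc.specMap x ξ h) ≤ (PrimeSpectrum.comap
        (Ideal.Quotient.mk (RingHom.ker (Cyc.specMap x ξ h))) q).asIdeal := by
      intro w hw
      show Ideal.Quotient.mk _ w ∈ q.asIdeal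
      rw [Ideal.Quotient.eq_zero_iff_mem.mpr hw]
      exact q.asIdeal.zero_mem
    have h₁ : ξ ⤳ stalkPoint x (PrimeSpectrum.comap
        (Ideal.Quotient.mk (RingHom.ker (Cyc.specMap x ξ h))) q) := by
      have h3 := stalkPoint_ker_specMap h
      have h4 := (stalkPoint_specializes_iff x ⟨RingHom.ker (Cyc.specMap x ξ h),
        RingHom.ker_isPrime _⟩ (PrimeSpectrum.comap
        (Ideal.Quotient.mk (RingHom.ker (Cyc.specMap x ξ h))) q)).mpr hPQ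
      rwa [h3] at h4
    have hqeq : q = qPrime (Cyc.specMap x ξ h) (Cyc.specMap x _ h₂) (ker_specMap_le h₁ h₂) := by
      apply PrimeSpectrum.ext
      show q.asIdeal = Ideal.map (Ideal.Quotient.mk (RingHom.ker (Cyc.specMap x ξ h)))
        (RingHom.ker (Cyc.specMap x _ h₂))
      rw [hker₂]
      exact (Ideal.map_comap_of_surjective _ Ideal.Quotient.mk_surjective q.asIdeal).symm
    have hd1 := Groth.Agent.Lib.Helper71.Dim3.dim_quot_eq_one hA q.asIdeal hq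
    have hd2 := Groth.Agent.Lib.Helper89.DimFunJacobson.ringKrullDim_locQuot X δ hdim h₂
    have hd3 : ringKrullDim (Cyc.LocQuot x ξ h ⧸ (qPrime (Cyc.specMap x ξ h)
        (Cyc.specMap x _ h₂) (ker_specMap_le h₁ h₂)).asIdeal) = 1 := hqeq ▸ hd1
    have hd4 := ringKrullDim_eq_of_ringEquiv
      (DoubleQuot.quotQuotEquivQuotOfLE (ker_specMap_le h₁ h₂))
    have hd5 : ((δ (stalkPoint x (PrimeSpectrum.comap
        (Ideal.Quotient.mk (RingHom.ker (Cyc.specMap x ξ h))) q)) - δ x).toNat : WithBot ℕ∞) = 1 := by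
      rw [← hd2, ← hd3]
      exact hd4.symm
    have hd6 : (δ (stalkPoint x (PrimeSpectrum.comap
        (Ideal.Quotient.mk (RingHom.ker (Cyc.specMap x ξ h))) q)) - δ x).toNat = 1 := by
      exact_mod_cast hd5
    exact ⟨_, h₁, h₂, by omega, by omega, hqeq⟩
  have hGsupp : ∀ ξ', G ξ' ≠ 0 → ξ' ∈ Φ '' S := by
    intro ξ' hne
    have hcnd : (ξ ⤳ ξ' ∧ δ ξ' + 1 = δ ξ) ∧ (ξ' ⤳ x ∧ δ x + 1 = δ ξ') := by
      by_contra hc
      exact hne (dif_neg hc)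
    exact ⟨qPrime (Cyc.specMap x ξ h) (Cyc.specMap x ξ' hcnd.2.1)
      (ker_specMap_le hcnd.1.1 hcnd.2.1),
      height_qPrime_scheme δ hdim hcnd.1.1 hcnd.2.1 hcnd.1.2, hpt ξ' hcnd.1.1 hcnd.2.1⟩
  have hS2 : ∑ᶠ ξ', G ξ' = ∑ᶠ ξ' ∈ Φ '' S, G ξ' := by
    rw [finsum_mem_def]
    congr 1
    symm
    exact Set.indicator_eq_self.mpr (fun ξ' hξ' => hGsupp ξ' hξ')
  have hS3 : ∑ᶠ ξ' ∈ Φ '' S, G ξ' = ∑ᶠ q ∈ S, G (Φ q) := finsum_mem_image hΦinj.injOn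
  rw [hS2, hS3]
  refine Eq.trans ?_ hkey
  apply finsum_mem_congr rfl
  intro q hq
  obtain ⟨ξ', h₁, h₂, hδ₁, hδ₂, hqeq⟩ := hq_data q hq
  subst hqeq
  rw [hpt ξ' h₁ h₂]
  exact (hterm ξ' h₁ h₂ hδ₁ hδ₂).symm

end Groth.Agent.Lib.Helper85.TameScheme
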