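import Mathlib
import Groth.Prelude.Def_C1
import Groth.Agent.Lib.Helper85.IntMult.C1Tensor
import Groth.Agent.Lib.Helper85.IntMult.TameScheme
import Groth.Agent.Lib.Helper85.IntMult.DivOpen

/-!
# Commutativity of `c_1` on divisors of rational sections (helper85)
-/

set_option autoImplicit false
set_option linter.unusedSectionVars false
universe u
open CategoryTheory AlgebraicGeometry

namespace Groth.Agent.Lib.Helper85.C1Comm

open Groth.Agent.Lib.Helper45 Groth.Agent.Lib.Helper49 Groth.Agent.Lib.Helper45.InvOrd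
open Groth.Agent.Lib.Helper11.GenLocus Groth.Agent.Lib.Helper85.SecOrd
open Groth.Agent.Lib.Helper85.C1Tensor Groth.Agent.Lib.Helper85.TameScheme

variable {X : Scheme.{u}}

section Transition

variable {M : X.Modules} {V V' : X.Opens} {τ : Γ(M, V)} {τ' : Γ(M, V')}

/-- the transition unit between two local bases, at a point -/
theorem exists_transition (hτ : IsBasisOn M V τ) (hτ' : IsBasisOn M V' τ') (p : X) (hp : p ∈ V)
    (hp' : p ∈ V') :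
    ∃ c : X.presheaf.stalk p, IsUnit c ∧
      M.presheaf.germ V' p hp' τ' = c • M.presheaf.germ V p hp τ := by
  have hWV : V ⊓ V' ≤ V := inf_le_left
  have hWV' : V ⊓ V' ≤ V' := inf_le_right
  obtain ⟨g, hg⟩ := (hτ.mono hWV).exists_eq_smul (mres M hWV' τ')
  have hgu : IsUnit g :=
    isUnit_of_isBasisOn_smul (hτ.mono hWV) g (by rw [hg]; exact hτ'.mono hWV')
  have hpW : p ∈ V ⊓ V' := ⟨hp, hp'⟩
  refine ⟨X.presheaf.germ (V ⊓ V') p hpW g, hgu.map _, ?_⟩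
  rw [← germ_mres hWV' p hpW τ', ← hg, Mero.germ_smul, germ_mres]

/-- a transition relation at a point holds at every generization -/
theorem germ_generize {p q : X} (h : q ⤳ p) (hp : p ∈ V) (hp' : p ∈ V')
    (c : X.presheaf.stalk p)
    (hc : M.presheaf.germ V' p hp' τ' = c • M.presheaf.germ V p hp τ) :
    M.presheaf.germ V' q (h.mem_open V'.isOpen hp') τ' =
      X.presheaf.stalkSpecializes h c • M.presheaf.germ V q (h.mem_open V.isOpen hp) τ := by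
  have h1 := congrArg (M.presheaf.stalkSpecializes h) hc
  rw [HomExtend.stalkSpecializes_smul, TopCat.Presheaf.germ_stalkSpecializes_apply,
    TopCat.Presheaf.germ_stalkSpecializes_apply] at h1
  exact h1

theorem specMap_apply {ξ ξ' : X} (h₁ : ξ ⤳ ξ') (c : X.presheaf.stalk ξ') :
    Cyc.specMap ξ' ξ h₁ c = X.residue ξ (X.presheaf.stalkSpecializes h₁ c) := rfl

/-- change of coordinates of a rational section under a change of local basis -/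
theorem coord_change (hτ : IsBasisOn M V τ) {ξ ξ' : X} (h₁ : ξ ⤳ ξ') (hp : ξ' ∈ V)
    (hp' : ξ' ∈ V') (c : X.presheaf.stalk ξ')
    (hc : M.presheaf.germ V' ξ' hp' τ' = c • M.presheaf.germ V ξ' hp τ)
    (a a' : X.presheaf.stalk ξ)
    (hs : (Submodule.Quotient.mk (a • M.presheaf.germ V ξ (h₁.mem_open V.isOpen hp) τ) :
        Cyc.secFibre M ξ) =
      Submodule.Quotient.mk (a' • M.presheaf.germ V' ξ (h₁.mem_open V'.isOpen hp') τ')) :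
    X.residue ξ a = X.residue ξ a' * Cyc.specMap ξ' ξ h₁ c := by
  have hξ : ξ ∈ V := h₁.mem_open V.isOpen hp
  rw [germ_generize h₁ hp hp' c hc, smul_smul, Submodule.Quotient.eq, ← sub_smul,
    smul_gen_mem_iff M ξ _ (germ_basis_span hτ ξ hξ) (germ_basis_ann hτ ξ hξ)] at hs
  have h2 : X.residue ξ (a - a' * X.presheaf.stalkSpecializes h₁ c) = 0 :=
    (IsLocalRing.residue_eq_zero_iff _).mpr hs
  rw [map_sub, sub_eq_zero, map_mul] at h2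
  rw [h2, specMap_apply]

/-- change of coordinates of a rational section at the point itself -/
theorem coord_change_self (hτ : IsBasisOn M V τ) {p : X} (hp : p ∈ V) (hp' : p ∈ V')
    (c : X.presheaf.stalk p)
    (hc : M.presheaf.germ V' p hp' τ' = c • M.presheaf.germ V p hp τ)
    (a a' : X.presheaf.stalk p)
    (hs : (Submodule.Quotient.mk (a • M.presheaf.germ V p hp τ) : Cyc.secFibre M p) =
      Submodule.Quotient.mk (a' • M.presheaf.germ V' p hp' τ')) :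
    X.residue p a = X.residue p a' * X.residue p c := by
  rw [hc, smul_smul, Submodule.Quotient.eq, ← sub_smul,
    smul_gen_mem_iff M p _ (germ_basis_span hτ p hp) (germ_basis_ann hτ p hp)] at hs
  have h2 : X.residue p (a - a' * c) = 0 := (IsLocalRing.residue_eq_zero_iff _).mpr hs
  rw [map_sub, sub_eq_zero, map_mul] at h2
  exact h2

end Transition

section UnitAt

/-- `f ∈ κ(ξ)` is the image of a unit of the local ring at `ξ'` -/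
def UnitAt {ξ ξ' : X} (h₁ : ξ ⤳ ξ') (f : X.residueField ξ) : Prop :=
  ∃ w : X.presheaf.stalk ξ', IsUnit w ∧ Cyc.specMap ξ' ξ h₁ w = f

theorem specMap_unit_ne_zero {ξ ξ' : X} (h₁ : ξ ⤳ ξ') (w : X.presheaf.stalk ξ') (hw : IsUnit w) :
    Cyc.specMap ξ' ξ h₁ w ≠ 0 := (hw.map (Cyc.specMap ξ' ξ h₁)).ne_zero

theorem ordAt_specMap_unit {ξ ξ' : X} (h₁ : ξ ⤳ ξ') (w : X.presheaf.stalk ξ') (hw : IsUnit w) :
    Cyc.ordAt ξ' ξ h₁ (Cyc.specMap ξ' ξ h₁ w) = 0 := by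
  unfold Cyc.ordAt
  have hu : IsUnit (Ideal.Quotient.mk (RingHom.ker (Cyc.specMap ξ' ξ h₁)) w) := hw.map _
  have e1 : Cyc.specMap ξ' ξ h₁ w =
      algebraMap (Cyc.LocQuot ξ' ξ h₁) (X.residueField ξ)
        (Ideal.Quotient.mk (RingHom.ker (Cyc.specMap ξ' ξ h₁)) w) * 1 := by
    rw [mul_one]
    rfl
  rw [e1, OrdGeneric.cycOrdFrac_unit_mul _ hu, Groth.Agent.Lib.Helper85.TameKey.ordFrac_one']

theorem UnitAt.ordAt_eq_zero {ξ ξ' : X} {h₁ : ξ ⤳ ξ'} {f : X.residueField ξ}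
    (hf : UnitAt h₁ f) : Cyc.ordAt ξ' ξ h₁ f = 0 := by
  obtain ⟨w, hw, rfl⟩ := hf
  exact ordAt_specMap_unit h₁ w hw

theorem UnitAt.ne_zero {ξ ξ' : X} {h₁ : ξ ⤳ ξ'} {f : X.residueField ξ}
    (hf : UnitAt h₁ f) : f ≠ 0 := by
  obtain ⟨w, hw, rfl⟩ := hf
  exact specMap_unit_ne_zero h₁ w hw

theorem UnitAt.of_mul_unit {ξ ξ' : X} {h₁ : ξ ⤳ ξ'} {f : X.residueField ξ}
    (c : X.presheaf.stalk ξ') (hc : IsUnit c) (hf : UnitAt h₁ (f * Cyc.specMap ξ' ξ h₁ c)) :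
    UnitAt h₁ f := by
  obtain ⟨w, hw, hwf⟩ := hf
  obtain ⟨c', rfl⟩ := hc
  refine ⟨w * ((c'⁻¹ : (X.presheaf.stalk ξ')ˣ) : X.presheaf.stalk ξ'), hw.mul c'⁻¹.isUnit, ?_⟩
  have hc0 : Cyc.specMap ξ' ξ h₁ (c' : X.presheaf.stalk ξ') ≠ 0 :=
    specMap_unit_ne_zero h₁ _ c'.isUnit
  rw [map_mul, hwf, mul_assoc, ← map_mul, Units.mul_inv, map_one, mul_one]

variable [IsLocallyNoetherian X] (δ : X → ℤ) (hdim : Cyc.IsDimFun X δ)

include hdim in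
theorem tameAt_of_unitAt {ξ ξ' : X} (h₁ : ξ ⤳ ξ') (hδ : δ ξ' + 1 = δ ξ) {f g : X.residueField ξ}
    (hf : UnitAt h₁ f) (hg : UnitAt h₁ g) : tameAt h₁ f g = 1 := by
  obtain ⟨w, hw, rfl⟩ := hf
  rw [tameAt_unit_left δ hdim h₁ hδ w hw hg.ne_zero, hg.ordAt_eq_zero, zpow_zero]

include hdim in
/-- a nonzero rational function on the closure of `ξ` is a unit at all but finitely many
codimension one points of the closure of `ξ` lying in a given affine open -/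
theorem finite_nonunit_inter (W : X.Opens) (hW : IsAffineOpen W) (ξ : X)
    (f : X.residueField ξ) (hf : f ≠ 0) :
    {x : X | x ∈ W ∧ ∃ h : ξ ⤳ x ∧ δ x + 1 = δ ξ, ¬ UnitAt h.1 f}.Finite := by
  by_cases hξW : ξ ∈ W
  swap
  · convert Set.finite_empty
    ext x
    simp only [Set.mem_ofPred_eq, Set.mem_empty_iff_false, iff_false, not_and, not_exists]
    intro hxW h
    exact absurd (h.1.mem_open W.isOpen hxW) hξW
  -- write `f` as a fraction of sections over `W`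
  let aW : Algebra Γ(X, W) (X.presheaf.stalk ξ) :=
    TopCat.Presheaf.algebra_section_stalk X.presheaf ⟨ξ, hξW⟩
  have locW : IsLocalization.AtPrime (X.presheaf.stalk ξ) (hW.primeIdealOf ⟨ξ, hξW⟩).asIdeal :=
    hW.isLocalization_stalk ⟨ξ, hξW⟩
  obtain ⟨w, rfl⟩ := Scheme.residue_surjective X ξ f
  obtain ⟨⟨a, b⟩, hab⟩ := IsLocalization.surj (hW.primeIdealOf ⟨ξ, hξW⟩).asIdeal.primeCompl w
  have hbu : IsUnit ((X.presheaf.germ W ξ hξW).hom b.1) := IsLocalization.map_units _ b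
  have hwu : IsUnit w := by
    by_contra hnu
    apply hf
    have : w ∈ IsLocalRing.maximalIdeal (X.presheaf.stalk ξ) := hnu
    exact (IsLocalRing.residue_eq_zero_iff w).mpr this
  have hau : IsUnit ((X.presheaf.germ W ξ hξW).hom a) := by
    have : (X.presheaf.germ W ξ hξW).hom a = w * (X.presheaf.germ W ξ hξW).hom b.1 := hab.symm
    rw [this]
    exact hwu.mul hbu
  have hξa : ξ ∈ X.basicOpen a := (Scheme.mem_basicOpen X a ξ hξW).mpr hau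
  have hξb : ξ ∈ X.basicOpen b.1 := (Scheme.mem_basicOpen X b.1 ξ hξW).mpr hbu
  -- the closed set
  have hZcl : IsClosed (closure {ξ} ∩ ((X.basicOpen a ⊓ X.basicOpen b.1 : X.Opens) : Set X)ᶜ) :=
    isClosed_closure.inter (X.basicOpen a ⊓ X.basicOpen b.1).isOpen.isClosed_compl
  refine (Groth.Agent.Lib.Helper85.PushSheafFun.finite_maximal_points_of_isCompact W hW.isCompact _
    hZcl).subset ?_
  rintro x ⟨hxW, hcond, hx⟩
  have hsa : Cyc.specMap x ξ hcond.1 ((X.presheaf.germ W x hxW).hom a) =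
      (X.residue ξ).hom ((X.presheaf.germ W ξ hξW).hom a) := by
    unfold Cyc.specMap
    rw [CommRingCat.hom_comp, RingHom.comp_apply]
    congr 1
    exact congrArg (fun t => t.hom a) (X.presheaf.germ_stalkSpecializes hxW hcond.1)
  have hsb : Cyc.specMap x ξ hcond.1 ((X.presheaf.germ W x hxW).hom b.1) =
      (X.residue ξ).hom ((X.presheaf.germ W ξ hξW).hom b.1) := by
    unfold Cyc.specMap
    rw [CommRingCat.hom_comp, RingHom.comp_apply]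
    congr 1
    exact congrArg (fun t => t.hom b.1) (X.presheaf.germ_stalkSpecializes hxW hcond.1)
  have hrb0 : (X.residue ξ).hom ((X.presheaf.germ W ξ hξW).hom b.1) ≠ 0 := by
    intro h0
    have h1 : IsLocalRing.residue (X.presheaf.stalk ξ) ((X.presheaf.germ W ξ hξW).hom b.1) = 0 := h0
    rw [IsLocalRing.residue_eq_zero_iff] at h1
    exact h1 hbu
  have hfrac : (X.residue ξ).hom w =
      Cyc.specMap x ξ hcond.1 ((X.presheaf.germ W x hxW).hom a) /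
        Cyc.specMap x ξ hcond.1 ((X.presheaf.germ W x hxW).hom b.1) := by
    rw [hsa, hsb, eq_div_iff hrb0, ← map_mul]
    exact congrArg (X.residue ξ).hom hab
  refine ⟨hxW, ⟨specializes_iff_mem_closure.mp hcond.1, ?_⟩, ?_⟩
  · -- not both units
    intro hmem
    have hxa : IsUnit ((X.presheaf.germ W x hxW).hom a) :=
      (Scheme.mem_basicOpen X a x hxW).mp hmem.1
    have hxb : IsUnit ((X.presheaf.germ W x hxW).hom b.1) :=
      (Scheme.mem_basicOpen X b.1 x hxW).mp hmem.2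
    apply hx
    obtain ⟨b', hb'⟩ := hxb
    refine ⟨(X.presheaf.germ W x hxW).hom a * ((b'⁻¹ : (X.presheaf.stalk x)ˣ) : X.presheaf.stalk x),
      hxa.mul b'⁻¹.isUnit, ?_⟩
    rw [hfrac, ← hb', map_mul, eq_div_iff (specMap_unit_ne_zero hcond.1 _ b'.isUnit), mul_assoc,
      ← map_mul, Units.inv_mul, map_one, mul_one]
  · -- maximality
    rintro z ⟨hz1, hz2⟩ hzx
    by_contra hne
    have hξz : ξ ⤳ z := specializes_iff_mem_closure.mpr hz1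
    have hzξ : ξ ≠ z := by
      intro he
      apply hz2
      rw [← he]
      exact ⟨hξa, hξb⟩
    have h1 := (hdim z x hzx hne).1
    have h2 := (hdim ξ z hξz hzξ).1
    omega

end UnitAt

section Local

theorem ordAt_mul {x ξ : X} (h : ξ ⤳ x) (f g : X.residueField ξ) (hf : f ≠ 0) (hg : g ≠ 0) :
    Cyc.ordAt x ξ h (f * g) = Cyc.ordAt x ξ h f + Cyc.ordAt x ξ h g :=
  OrdGeneric.cycOrdFrac_mul f g hf hg

theorem ordAt_zpow {x ξ : X} (h : ξ ⤳ x) (f : X.residueField ξ) (hf : f ≠ 0) (n : ℤ) :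
    Cyc.ordAt x ξ h (f ^ n) = n * Cyc.ordAt x ξ h f :=
  ordFrac_zpow _ _ f hf n

theorem ordAt_one {x ξ : X} (h : ξ ⤳ x) : Cyc.ordAt x ξ h (1 : X.residueField ξ) = 0 :=
  Groth.Agent.Lib.Helper85.TameKey.ordFrac_one' _ _

variable [IsLocallyNoetherian X] (δ : X → ℤ) (hdim : Cyc.IsDimFun X δ)
variable {L N : X.Modules} {V V' : X.Opens} {τL : Γ(L, V)} {τN : Γ(N, V)}
  {τL' : Γ(L, V')} {τN' : Γ(N, V')}

include hdim in
/-- the local identity behind the commutativity of `c_1`: a single chain `ξ ⤳ ξ' ⤳ x` -/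
theorem local_identity (hτL : IsBasisOn L V τL) (hτN : IsBasisOn N V τN)
    (hτL' : IsBasisOn L V' τL') (hτN' : IsBasisOn N V' τN')
    {ξ ξ' x : X} (h₁ : ξ ⤳ ξ') (h₂ : ξ' ⤳ x) (hδ₁ : δ ξ' + 1 = δ ξ)
    (hx : x ∈ V) (hξ' : ξ' ∈ V')
    (aF aG aFx aGx : X.presheaf.stalk ξ) (ub va : X.presheaf.stalk ξ')
    (haF : X.residue ξ aF ≠ 0) (haG : X.residue ξ aG ≠ 0)
    (hub : X.residue ξ' ub ≠ 0) (hva : X.residue ξ' va ≠ 0)
    (hsF : (Submodule.Quotient.mk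
        (aFx • L.presheaf.germ V ξ ((h₁.trans h₂).mem_open V.isOpen hx) τL) : Cyc.secFibre L ξ) =
      Submodule.Quotient.mk (aF • L.presheaf.germ V' ξ (h₁.mem_open V'.isOpen hξ') τL'))
    (hsG : (Submodule.Quotient.mk
        (aGx • N.presheaf.germ V ξ ((h₁.trans h₂).mem_open V.isOpen hx) τN) : Cyc.secFibre N ξ) =
      Submodule.Quotient.mk (aG • N.presheaf.germ V' ξ (h₁.mem_open V'.isOpen hξ') τN')) :
    Cyc.secOrdAt L ξ ξ' h₁ (Submodule.Quotient.mk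
        (aF • L.presheaf.germ V' ξ (h₁.mem_open V'.isOpen hξ') τL')) *
      Cyc.secOrdAt N ξ' x h₂ (Submodule.Quotient.mk (ub • N.presheaf.germ V' ξ' hξ' τN')) -
    Cyc.secOrdAt N ξ ξ' h₁ (Submodule.Quotient.mk
        (aG • N.presheaf.germ V' ξ (h₁.mem_open V'.isOpen hξ') τN')) *
      Cyc.secOrdAt L ξ' x h₂ (Submodule.Quotient.mk (va • L.presheaf.germ V' ξ' hξ' τL')) =
    Cyc.ordAt x ξ' h₂ (X.residue ξ' ub ^ (Cyc.ordAt ξ' ξ h₁ (X.residue ξ aF)) *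
        X.residue ξ' va ^ (-Cyc.ordAt ξ' ξ h₁ (X.residue ξ aG)) *
        tameAt h₁ (X.residue ξ aF) (X.residue ξ aG)) -
      Cyc.ordAt x ξ' h₂ (tameAt h₁ (X.residue ξ aFx) (X.residue ξ aGx)) := by
  have hξ'V : ξ' ∈ V := h₂.mem_open V.isOpen hx
  obtain ⟨cL, hcLu, hcL⟩ := exists_transition hτL hτL' ξ' hξ'V hξ'
  obtain ⟨cN, hcNu, hcN⟩ := exists_transition hτN hτN' ξ' hξ'V hξ'
  have eF := coord_change hτL h₁ hξ'V hξ' cL hcL aFx aF hsF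
  have eG := coord_change hτN h₁ hξ'V hξ' cN hcN aGx aG hsG
  rw [secOrdAt_basis hτL' ξ' hξ' ξ h₁ aF, secOrdAt_basis hτN' ξ' hξ' ξ h₁ aG]
  rw [hcN, hcL, smul_smul, smul_smul, secOrdAt_basis hτN x hx ξ' h₂,
    secOrdAt_basis hτL x hx ξ' h₂]
  have hsL0 := specMap_unit_ne_zero h₁ cL hcLu
  have hsN0 := specMap_unit_ne_zero h₁ cN hcNu
  have hrL0 : X.residue ξ' cL ≠ 0 := (hcLu.map (X.residue ξ').hom).ne_zero
  have hrN0 : X.residue ξ' cN ≠ 0 := (hcNu.map (X.residue ξ').hom).ne_zero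
  have hT0 := tameAt_ne_zero δ hdim h₁ hδ₁ haF haG
  have hT : tameAt h₁ (X.residue ξ aFx) (X.residue ξ aGx) =
      tameAt h₁ (X.residue ξ aF) (X.residue ξ aG) *
        X.residue ξ' cN ^ (-Cyc.ordAt ξ' ξ h₁ (X.residue ξ aF)) *
        X.residue ξ' cL ^ (Cyc.ordAt ξ' ξ h₁ (X.residue ξ aG)) := by
    rw [eF, eG, tameAt_mul_left δ hdim h₁ hδ₁ haF hsL0 (mul_ne_zero haG hsN0),
      tameAt_mul_right δ hdim h₁ hδ₁ haF haG hsN0,
      tameAt_mul_right δ hdim h₁ hδ₁ hsL0 haG hsN0,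
      tameAt_unit_right δ hdim h₁ hδ₁ haF cN hcNu,
      tameAt_unit_left δ hdim h₁ hδ₁ cL hcLu haG,
      tameAt_unit_left δ hdim h₁ hδ₁ cL hcLu hsN0, ordAt_specMap_unit h₁ cN hcNu, zpow_zero,
      mul_one]
  rw [hT, map_mul, map_mul,
    ordAt_mul h₂ _ _ hub hrN0, ordAt_mul h₂ _ _ hva hrL0,
    ordAt_mul h₂ _ _ (mul_ne_zero (zpow_ne_zero _ hub) (zpow_ne_zero _ hva)) hT0,
    ordAt_mul h₂ _ _ (zpow_ne_zero _ hub) (zpow_ne_zero _ hva),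
    ordAt_mul h₂ _ _ (mul_ne_zero hT0 (zpow_ne_zero _ hrN0)) (zpow_ne_zero _ hrL0),
    ordAt_mul h₂ _ _ hT0 (zpow_ne_zero _ hrN0),
    ordAt_zpow h₂ _ hub, ordAt_zpow h₂ _ hva, ordAt_zpow h₂ _ hrN0, ordAt_zpow h₂ _ hrL0]
  ring

include hdim in
/-- the effect of a change of local bases on the tame symbol of the coordinates -/
theorem tameAt_change {ξ ξ' : X} (h₁ : ξ ⤳ ξ') (hδ₁ : δ ξ' + 1 = δ ξ) {F G : X.residueField ξ}
    (hF : F ≠ 0) (hG : G ≠ 0) (cL cN : X.presheaf.stalk ξ') (hcLu : IsUnit cL)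
    (hcNu : IsUnit cN) :
    tameAt h₁ (F * Cyc.specMap ξ' ξ h₁ cL) (G * Cyc.specMap ξ' ξ h₁ cN) =
      tameAt h₁ F G * X.residue ξ' cN ^ (-Cyc.ordAt ξ' ξ h₁ F) *
        X.residue ξ' cL ^ (Cyc.ordAt ξ' ξ h₁ G) := by
  have hsL0 := specMap_unit_ne_zero h₁ cL hcLu
  have hsN0 := specMap_unit_ne_zero h₁ cN hcNu
  rw [tameAt_mul_left δ hdim h₁ hδ₁ hF hsL0 (mul_ne_zero hG hsN0),
    tameAt_mul_right δ hdim h₁ hδ₁ hF hG hsN0,
    tameAt_mul_right δ hdim h₁ hδ₁ hsL0 hG hsN0,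
    tameAt_unit_right δ hdim h₁ hδ₁ hF cN hcNu,
    tameAt_unit_left δ hdim h₁ hδ₁ cL hcLu hG,
    tameAt_unit_left δ hdim h₁ hδ₁ cL hcLu hsN0, ordAt_specMap_unit h₁ cN hcNu, zpow_zero,
    mul_one]

include hdim in
/-- the rational function attached to a chain `ξ ⤳ ξ'` by the commutativity argument does not
depend on the local bases used to compute it -/
theorem formula_indep (hτL : IsBasisOn L V τL) (hτN : IsBasisOn N V τN)
    (hτL' : IsBasisOn L V' τL') (hτN' : IsBasisOn N V' τN')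
    {ξ ξ' : X} (h₁ : ξ ⤳ ξ') (hδ₁ : δ ξ' + 1 = δ ξ) (hξV : ξ' ∈ V) (hξV' : ξ' ∈ V')
    (aF aG aF' aG' : X.presheaf.stalk ξ) (ub va ub' va' : X.presheaf.stalk ξ')
    (haF' : X.residue ξ aF' ≠ 0) (haG' : X.residue ξ aG' ≠ 0)
    (hub' : X.residue ξ' ub' ≠ 0) (hva' : X.residue ξ' va' ≠ 0)
    (hsF : (Submodule.Quotient.mk
        (aF • L.presheaf.germ V ξ (h₁.mem_open V.isOpen hξV) τL) : Cyc.secFibre L ξ) =
      Submodule.Quotient.mk (aF' • L.presheaf.germ V' ξ (h₁.mem_open V'.isOpen hξV') τL'))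
    (hsG : (Submodule.Quotient.mk
        (aG • N.presheaf.germ V ξ (h₁.mem_open V.isOpen hξV) τN) : Cyc.secFibre N ξ) =
      Submodule.Quotient.mk (aG' • N.presheaf.germ V' ξ (h₁.mem_open V'.isOpen hξV') τN'))
    (hu : (Submodule.Quotient.mk (ub • N.presheaf.germ V ξ' hξV τN) : Cyc.secFibre N ξ') =
      Submodule.Quotient.mk (ub' • N.presheaf.germ V' ξ' hξV' τN'))
    (hv : (Submodule.Quotient.mk (va • L.presheaf.germ V ξ' hξV τL) : Cyc.secFibre L ξ') =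
      Submodule.Quotient.mk (va' • L.presheaf.germ V' ξ' hξV' τL')) :
    X.residue ξ' ub ^ (Cyc.ordAt ξ' ξ h₁ (X.residue ξ aF)) *
        X.residue ξ' va ^ (-Cyc.ordAt ξ' ξ h₁ (X.residue ξ aG)) *
        tameAt h₁ (X.residue ξ aF) (X.residue ξ aG) =
      X.residue ξ' ub' ^ (Cyc.ordAt ξ' ξ h₁ (X.residue ξ aF')) *
        X.residue ξ' va' ^ (-Cyc.ordAt ξ' ξ h₁ (X.residue ξ aG')) *
        tameAt h₁ (X.residue ξ aF') (X.residue ξ aG') := by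
  obtain ⟨cL, hcLu, hcL⟩ := exists_transition hτL hτL' ξ' hξV hξV'
  obtain ⟨cN, hcNu, hcN⟩ := exists_transition hτN hτN' ξ' hξV hξV'
  have eF := coord_change hτL h₁ hξV hξV' cL hcL aF aF' hsF
  have eG := coord_change hτN h₁ hξV hξV' cN hcN aG aG' hsG
  have eU := coord_change_self hτN hξV hξV' cN hcN ub ub' hu
  have eV := coord_change_self hτL hξV hξV' cL hcL va va' hv
  have hsL0 := specMap_unit_ne_zero h₁ cL hcLu
  have hsN0 := specMap_unit_ne_zero h₁ cN hcNu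
  have hrL0 : X.residue ξ' cL ≠ 0 := (hcLu.map (X.residue ξ').hom).ne_zero
  have hrN0 : X.residue ξ' cN ≠ 0 := (hcNu.map (X.residue ξ').hom).ne_zero
  have hm : Cyc.ordAt ξ' ξ h₁ (X.residue ξ aF' * Cyc.specMap ξ' ξ h₁ cL) =
      Cyc.ordAt ξ' ξ h₁ (X.residue ξ aF') := by
    rw [ordAt_mul h₁ _ _ haF' hsL0, ordAt_specMap_unit h₁ cL hcLu, add_zero]
  have hn : Cyc.ordAt ξ' ξ h₁ (X.residue ξ aG' * Cyc.specMap ξ' ξ h₁ cN) =
      Cyc.ordAt ξ' ξ h₁ (X.residue ξ aG') := by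
    rw [ordAt_mul h₁ _ _ haG' hsN0, ordAt_specMap_unit h₁ cN hcNu, add_zero]
  rw [eF, eG, eU, eV, tameAt_change δ hdim h₁ hδ₁ haF' haG' cL cN hcLu hcNu, hm, hn,
    mul_zpow, mul_zpow, zpow_neg, zpow_neg, zpow_neg]
  field_simp

end Local

section Global

variable [IsLocallyNoetherian X] (δ : X → ℤ) (hdim : Cyc.IsDimFun X δ)
variable {L N : X.Modules}

open scoped Classical in
include hdim in
/-- **Commutativity of `c_1` on divisors of rational sections**, for rational sections `s`, `t`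
of `L`, `N` on the closure of a point `ξ`: the difference `c_1(N) ∩ div_L(s) - c_1(L) ∩ div_N(t)`
is a locally finite sum of principal divisors on the codimension one points of the closure
of `ξ`. -/
theorem comm_full (hL : PicF.IsInvertible L) (hN : PicF.IsInvertible N) (ξ : X)
    (s : Cyc.secFibre L ξ) (hs : s ≠ 0) (t : Cyc.secFibre N ξ) (ht : t ≠ 0)
    (u : (p : X) → Cyc.secFibre N p) (hu : ∀ p, u p ≠ 0)
    (v : (p : X) → Cyc.secFibre L p) (hv : ∀ p, v p ≠ 0) :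
    ∃ H : (ξ' : X) → X.residueField ξ', (∀ ξ', H ξ' ≠ 0) ∧
      (∀ (ξ' : X) (hc : ξ ⤳ ξ' ∧ δ ξ' + 1 = δ ξ) (V' : X.Opens) (hξ' : ξ' ∈ V')
        (τL' : Γ(L, V')) (τN' : Γ(N, V')), IsBasisOn L V' τL' → IsBasisOn N V' τN' →
        ∀ (aF' aG' : X.presheaf.stalk ξ) (ub' va' : X.presheaf.stalk ξ'),
        s = Submodule.Quotient.mk
          (aF' • L.presheaf.germ V' ξ (hc.1.mem_open V'.isOpen hξ') τL') →
        t = Submodule.Quotient.mk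
          (aG' • N.presheaf.germ V' ξ (hc.1.mem_open V'.isOpen hξ') τN') →
        u ξ' = Submodule.Quotient.mk (ub' • N.presheaf.germ V' ξ' hξ' τN') →
        v ξ' = Submodule.Quotient.mk (va' • L.presheaf.germ V' ξ' hξ' τL') →
        H ξ' = X.residue ξ' ub' ^ (Cyc.ordAt ξ' ξ hc.1 (X.residue ξ aF')) *
          X.residue ξ' va' ^ (-Cyc.ordAt ξ' ξ hc.1 (X.residue ξ aG')) *
          tameAt hc.1 (X.residue ξ aF') (X.residue ξ aG')) ∧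
      (∀ x : X, ∃ U : Set X, IsOpen U ∧ x ∈ U ∧
        {ξ' : X | ξ' ∈ U ∧ (ξ ⤳ ξ' ∧ δ ξ' + 1 = δ ξ) ∧ H ξ' ≠ 1}.Finite) ∧
      ∀ x : X,
        (Function.support fun ξ' : X =>
          Cyc.secDivFun δ L ξ s ξ' * Cyc.secDivFun δ N ξ' (u ξ') x).Finite ∧
        (Function.support fun ξ' : X =>
          Cyc.secDivFun δ N ξ t ξ' * Cyc.secDivFun δ L ξ' (v ξ') x).Finite ∧
        (∑ᶠ ξ' : X, Cyc.secDivFun δ L ξ s ξ' * Cyc.secDivFun δ N ξ' (u ξ') x) -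
          (∑ᶠ ξ' : X, Cyc.secDivFun δ N ξ t ξ' * Cyc.secDivFun δ L ξ' (v ξ') x) =
        ∑ᶠ ξ' : X, (if ξ ⤳ ξ' ∧ δ ξ' + 1 = δ ξ then Cyc.divFun δ ξ' (H ξ') x else 0) := by
  -- local bases
  have hbas : ∀ x : X, ∃ (V : X.Opens) (_ : x ∈ V) (τL : Γ(L, V)) (τN : Γ(N, V)),
      IsBasisOn L V τL ∧ IsBasisOn N V τN := by
    intro x
    obtain ⟨V1, hx1, t1, ht1⟩ := exists_isBasisOn_of_isInvertible hL x
    obtain ⟨V2, hx2, t2, ht2⟩ := exists_isBasisOn_of_isInvertible hN x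
    exact ⟨V1 ⊓ V2, ⟨hx1, hx2⟩, mres L inf_le_left t1, mres N inf_le_right t2,
      ht1.mono _, ht2.mono _⟩
  choose V hxV τL τN hτL hτN using hbas
  -- coordinates
  have hcoF : ∀ (p : X) (hξ : ξ ∈ V p), ∃ a : X.presheaf.stalk ξ,
      s = Submodule.Quotient.mk (a • L.presheaf.germ (V p) ξ hξ (τL p)) :=
    fun p hξ => exists_coord (hτL p) ξ hξ s
  choose aF haF using hcoF
  have hcoG : ∀ (p : X) (hξ : ξ ∈ V p), ∃ a : X.presheaf.stalk ξ,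
      t = Submodule.Quotient.mk (a • N.presheaf.germ (V p) ξ hξ (τN p)) :=
    fun p hξ => exists_coord (hτN p) ξ hξ t
  choose aG haG using hcoG
  have hcoU : ∀ p : X, ∃ b : X.presheaf.stalk p,
      u p = Submodule.Quotient.mk (b • N.presheaf.germ (V p) p (hxV p) (τN p)) :=
    fun p => exists_coord (hτN p) p (hxV p) (u p)
  choose ub hub using hcoU
  have hcoV : ∀ p : X, ∃ b : X.presheaf.stalk p,
      v p = Submodule.Quotient.mk (b • L.presheaf.germ (V p) p (hxV p) (τL p)) :=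
    fun p => exists_coord (hτL p) p (hxV p) (v p)
  choose va hva using hcoV
  have haF0 : ∀ (p : X) (hξ : ξ ∈ V p), X.residue ξ (aF p hξ) ≠ 0 := fun p hξ =>
    residue_coord_ne_zero (hτL p) ξ hξ _ (by rw [← haF p hξ]; exact hs)
  have haG0 : ∀ (p : X) (hξ : ξ ∈ V p), X.residue ξ (aG p hξ) ≠ 0 := fun p hξ =>
    residue_coord_ne_zero (hτN p) ξ hξ _ (by rw [← haG p hξ]; exact ht)
  have hub0 : ∀ p : X, X.residue p (ub p) ≠ 0 := fun p =>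
    residue_coord_ne_zero (hτN p) p (hxV p) _ (by rw [← hub p]; exact hu p)
  have hva0 : ∀ p : X, X.residue p (va p) ≠ 0 := fun p =>
    residue_coord_ne_zero (hτL p) p (hxV p) _ (by rw [← hva p]; exact hv p)
  -- the coordinate functions of `s`, `t` with respect to the basis chosen at `p`
  obtain ⟨F, hFdef⟩ : ∃ F : X → X.residueField ξ,
      ∀ p, F p = if hξ : ξ ∈ V p then X.residue ξ (aF p hξ) else 1 := ⟨_, fun _ => rfl⟩
  obtain ⟨G, hGdef⟩ : ∃ G : X → X.residueField ξ,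
      ∀ p, G p = if hξ : ξ ∈ V p then X.residue ξ (aG p hξ) else 1 := ⟨_, fun _ => rfl⟩
  have hFpos : ∀ (p : X) (hξ : ξ ∈ V p), F p = X.residue ξ (aF p hξ) := fun p hξ => by
    rw [hFdef, dif_pos hξ]
  have hGpos : ∀ (p : X) (hξ : ξ ∈ V p), G p = X.residue ξ (aG p hξ) := fun p hξ => by
    rw [hGdef, dif_pos hξ]
  have hF0 : ∀ p, F p ≠ 0 := fun p => by
    by_cases hξ : ξ ∈ V p
    · rw [hFpos p hξ]; exact haF0 p hξ
    · rw [hFdef, dif_neg hξ]; exact one_ne_zero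
  have hG0 : ∀ p, G p ≠ 0 := fun p => by
    by_cases hξ : ξ ∈ V p
    · rw [hGpos p hξ]; exact haG0 p hξ
    · rw [hGdef, dif_neg hξ]; exact one_ne_zero
  -- the rational functions `H ξ'`
  obtain ⟨H, hHdef⟩ : ∃ H : (ξ' : X) → X.residueField ξ', ∀ ξ', H ξ' =
      if hc : ξ ⤳ ξ' ∧ δ ξ' + 1 = δ ξ then
        X.residue ξ' (ub ξ') ^ (Cyc.ordAt ξ' ξ hc.1 (F ξ')) *
          X.residue ξ' (va ξ') ^ (-Cyc.ordAt ξ' ξ hc.1 (G ξ')) * tameAt hc.1 (F ξ') (G ξ')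
      else 1 := ⟨_, fun _ => rfl⟩
  have hHpos : ∀ (ξ' : X) (hc : ξ ⤳ ξ' ∧ δ ξ' + 1 = δ ξ), H ξ' =
      X.residue ξ' (ub ξ') ^ (Cyc.ordAt ξ' ξ hc.1 (F ξ')) *
        X.residue ξ' (va ξ') ^ (-Cyc.ordAt ξ' ξ hc.1 (G ξ')) * tameAt hc.1 (F ξ') (G ξ') :=
    fun ξ' hc => by rw [hHdef, dif_pos hc]
  have hH0 : ∀ ξ', H ξ' ≠ 0 := fun ξ' => by
    by_cases hc : ξ ⤳ ξ' ∧ δ ξ' + 1 = δ ξ
    · rw [hHpos ξ' hc]
      exact mul_ne_zero (mul_ne_zero (zpow_ne_zero _ (hub0 ξ')) (zpow_ne_zero _ (hva0 ξ')))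
        (tameAt_ne_zero δ hdim hc.1 hc.2 (hF0 ξ') (hG0 ξ'))
    · rw [hHdef, dif_neg hc]; exact one_ne_zero
  -- change of basis
  have K1 : ∀ (p ξ' : X) (h₁ : ξ ⤳ ξ') (hp : ξ' ∈ V p), ∃ cL cN : X.presheaf.stalk ξ',
      IsUnit cL ∧ IsUnit cN ∧ F p = F ξ' * Cyc.specMap ξ' ξ h₁ cL ∧
        G p = G ξ' * Cyc.specMap ξ' ξ h₁ cN := by
    intro p ξ' h₁ hp
    have hξp : ξ ∈ V p := h₁.mem_open (V p).isOpen hp
    have hξξ' : ξ ∈ V ξ' := h₁.mem_open (V ξ').isOpen (hxV ξ')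
    obtain ⟨cL, hcLu, hcL⟩ := exists_transition (hτL p) (hτL ξ') ξ' hp (hxV ξ')
    obtain ⟨cN, hcNu, hcN⟩ := exists_transition (hτN p) (hτN ξ') ξ' hp (hxV ξ')
    refine ⟨cL, cN, hcLu, hcNu, ?_, ?_⟩
    · rw [hFpos p hξp, hFpos ξ' hξξ']
      exact coord_change (hτL p) h₁ hp (hxV ξ') cL hcL (aF p hξp) (aF ξ' hξξ')
        ((haF p hξp).symm.trans (haF ξ' hξξ'))
    · rw [hGpos p hξp, hGpos ξ' hξξ']
      exact coord_change (hτN p) h₁ hp (hxV ξ') cN hcN (aG p hξp) (aG ξ' hξξ')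
        ((haG p hξp).symm.trans (haG ξ' hξξ'))
  have K1F : ∀ (p ξ' : X) (h₁ : ξ ⤳ ξ') (hp : ξ' ∈ V p), UnitAt h₁ (F p) → UnitAt h₁ (F ξ') := by
    intro p ξ' h₁ hp hU
    obtain ⟨cL, cN, hcLu, hcNu, e1, e2⟩ := K1 p ξ' h₁ hp
    rw [e1] at hU
    exact UnitAt.of_mul_unit cL hcLu hU
  have K1G : ∀ (p ξ' : X) (h₁ : ξ ⤳ ξ') (hp : ξ' ∈ V p), UnitAt h₁ (G p) → UnitAt h₁ (G ξ') := by
    intro p ξ' h₁ hp hU
    obtain ⟨cL, cN, hcLu, hcNu, e1, e2⟩ := K1 p ξ' h₁ hp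
    rw [e2] at hU
    exact UnitAt.of_mul_unit cN hcNu hU
  have K2 : ∀ (p ξ' : X) (hc : ξ ⤳ ξ' ∧ δ ξ' + 1 = δ ξ) (hp : ξ' ∈ V p),
      UnitAt hc.1 (F p) → UnitAt hc.1 (G p) → H ξ' = 1 := by
    intro p ξ' hc hp hUF hUG
    have h1 := K1F p ξ' hc.1 hp hUF
    have h2 := K1G p ξ' hc.1 hp hUG
    rw [hHpos ξ' hc, h1.ordAt_eq_zero, h2.ordAt_eq_zero, neg_zero, zpow_zero, zpow_zero, one_mul,
      one_mul, tameAt_of_unitAt δ hdim hc.1 hc.2 h1 h2]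
  -- the finite sets of bad points
  have K3 : ∀ x : X, ∃ W : X.Opens, x ∈ W ∧ (∀ y, y ∈ W → y ∈ V x) ∧
      {ξ' : X | ξ' ∈ W ∧ ∃ h : ξ ⤳ ξ' ∧ δ ξ' + 1 = δ ξ,
        ¬ (UnitAt h.1 (F x) ∧ UnitAt h.1 (G x))}.Finite := by
    intro x
    obtain ⟨W, hW, hxW, hWV⟩ := exists_isAffineOpen_mem_and_subset (hxV x)
    refine ⟨W, hxW, fun y hy => hWV hy, ?_⟩
    refine ((finite_nonunit_inter δ hdim W hW ξ (F x) (hF0 x)).union
      (finite_nonunit_inter δ hdim W hW ξ (G x) (hG0 x))).subset ?_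
    rintro ξ' ⟨hξ'W, h, hnu⟩
    by_cases h1 : UnitAt h.1 (F x)
    · right; exact ⟨hξ'W, h, fun h2 => hnu ⟨h1, h2⟩⟩
    · left; exact ⟨hξ'W, h, h1⟩
  refine ⟨H, hH0, ?_, ?_, ?_⟩
  · intro ξ' hc V' hξ' τL' τN' hτL' hτN' aF' aG' ub' va' e1 e2 e3 e4
    have hξξ' : ξ ∈ V ξ' := hc.1.mem_open (V ξ').isOpen (hxV ξ')
    rw [hHpos ξ' hc, hFpos ξ' hξξ', hGpos ξ' hξξ']
    exact formula_indep δ hdim (hτL ξ') (hτN ξ') hτL' hτN' hc.1 hc.2 (hxV ξ') hξ'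
      (aF ξ' hξξ') (aG ξ' hξξ') aF' aG' (ub ξ') (va ξ') ub' va'
      (residue_coord_ne_zero hτL' ξ _ aF' (by rw [← e1]; exact hs))
      (residue_coord_ne_zero hτN' ξ _ aG' (by rw [← e2]; exact ht))
      (residue_coord_ne_zero hτN' ξ' hξ' ub' (by rw [← e3]; exact hu ξ'))
      (residue_coord_ne_zero hτL' ξ' hξ' va' (by rw [← e4]; exact hv ξ'))
      ((haF ξ' hξξ').symm.trans e1) ((haG ξ' hξξ').symm.trans e2)
      ((hub ξ').symm.trans e3) ((hva ξ').symm.trans e4)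
  · intro x
    obtain ⟨W, hxW, hWV, hfin⟩ := K3 x
    refine ⟨W, W.isOpen, hxW, hfin.subset ?_⟩
    rintro ξ' ⟨hξ'W, hc, hH1⟩
    exact ⟨hξ'W, hc, fun hU => hH1 (K2 x ξ' hc (hWV ξ' hξ'W) hU.1 hU.2)⟩
  · intro x
    obtain ⟨W, hxW, hWV, hfin⟩ := K3 x
    -- the per-point identity
    have I1 : ∀ ξ' : X,
        Cyc.secDivFun δ L ξ s ξ' * Cyc.secDivFun δ N ξ' (u ξ') x -
          Cyc.secDivFun δ N ξ t ξ' * Cyc.secDivFun δ L ξ' (v ξ') x =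
        (if ξ ⤳ ξ' ∧ δ ξ' + 1 = δ ξ then Cyc.divFun δ ξ' (H ξ') x else 0) -
          (if hc : (ξ ⤳ ξ' ∧ δ ξ' + 1 = δ ξ) ∧ (ξ' ⤳ x ∧ δ x + 1 = δ ξ') then
            Cyc.ordAt x ξ' hc.2.1 (tameAt hc.1.1 (F x) (G x)) else 0) := by
      intro ξ'
      by_cases hc1 : ξ ⤳ ξ' ∧ δ ξ' + 1 = δ ξ
      swap
      · have e1 : Cyc.secDivFun δ L ξ s ξ' = 0 := by unfold Cyc.secDivFun; rw [dif_neg hc1]
        have e2 : Cyc.secDivFun δ N ξ t ξ' = 0 := by unfold Cyc.secDivFun; rw [dif_neg hc1]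
        rw [e1, e2, if_neg hc1, dif_neg (fun h => hc1 h.1)]
        ring
      by_cases hc2 : ξ' ⤳ x ∧ δ x + 1 = δ ξ'
      swap
      · have e1 : Cyc.secDivFun δ N ξ' (u ξ') x = 0 := by unfold Cyc.secDivFun; rw [dif_neg hc2]
        have e2 : Cyc.secDivFun δ L ξ' (v ξ') x = 0 := by unfold Cyc.secDivFun; rw [dif_neg hc2]
        have e3 : Cyc.divFun δ ξ' (H ξ') x = 0 := by unfold Cyc.divFun; rw [dif_neg hc2]
        rw [e1, e2, if_pos hc1, e3, dif_neg (fun h => hc2 h.2)]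
        ring
      have hξx : ξ ∈ V x := (hc1.1.trans hc2.1).mem_open (V x).isOpen (hxV x)
      have hξξ' : ξ ∈ V ξ' := hc1.1.mem_open (V ξ').isOpen (hxV ξ')
      have e1 : Cyc.secDivFun δ L ξ s ξ' = Cyc.secOrdAt L ξ ξ' hc1.1 s := by
        unfold Cyc.secDivFun; rw [dif_pos hc1]
      have e2 : Cyc.secDivFun δ N ξ t ξ' = Cyc.secOrdAt N ξ ξ' hc1.1 t := by
        unfold Cyc.secDivFun; rw [dif_pos hc1]
      have e3 : Cyc.secDivFun δ N ξ' (u ξ') x = Cyc.secOrdAt N ξ' x hc2.1 (u ξ') := by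
        unfold Cyc.secDivFun; rw [dif_pos hc2]
      have e4 : Cyc.secDivFun δ L ξ' (v ξ') x = Cyc.secOrdAt L ξ' x hc2.1 (v ξ') := by
        unfold Cyc.secDivFun; rw [dif_pos hc2]
      have e5 : Cyc.divFun δ ξ' (H ξ') x = Cyc.ordAt x ξ' hc2.1 (H ξ') := by
        unfold Cyc.divFun; rw [dif_pos hc2]
      rw [e1, e2, e3, e4, if_pos hc1, e5, dif_pos ⟨hc1, hc2⟩, hHpos ξ' hc1, hFpos x hξx,
        hGpos x hξx, hFpos ξ' hξξ', hGpos ξ' hξξ']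
      have key := local_identity δ hdim (hτL x) (hτN x) (hτL ξ') (hτN ξ') hc1.1 hc2.1 hc1.2
        (hxV x) (hxV ξ') (aF ξ' hξξ') (aG ξ' hξξ') (aF x hξx) (aG x hξx) (ub ξ') (va ξ')
        (haF0 ξ' hξξ') (haG0 ξ' hξξ') (hub0 ξ') (hva0 ξ')
        ((haF x hξx).symm.trans (haF ξ' hξξ')) ((haG x hξx).symm.trans (haG ξ' hξξ'))
      rw [← haF ξ' hξξ', ← haG ξ' hξξ', ← hub ξ', ← hva ξ'] at key
      exact key
    -- finiteness of the supports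
    have S1 : (Function.support fun ξ' : X =>
        Cyc.secDivFun δ L ξ s ξ' * Cyc.secDivFun δ N ξ' (u ξ') x) ⊆
        {ξ' : X | ξ' ∈ W ∧ ∃ h : ξ ⤳ ξ' ∧ δ ξ' + 1 = δ ξ,
          ¬ (UnitAt h.1 (F x) ∧ UnitAt h.1 (G x))} := by
      intro ξ' hne
      have h1 : Cyc.secDivFun δ L ξ s ξ' ≠ 0 := left_ne_zero_of_mul hne
      have h2 : Cyc.secDivFun δ N ξ' (u ξ') x ≠ 0 := right_ne_zero_of_mul hne
      have hc1 : ξ ⤳ ξ' ∧ δ ξ' + 1 = δ ξ := by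
        by_contra hc; apply h1; unfold Cyc.secDivFun; rw [dif_neg hc]
      have hc2 : ξ' ⤳ x ∧ δ x + 1 = δ ξ' := by
        by_contra hc; apply h2; unfold Cyc.secDivFun; rw [dif_neg hc]
      have hξ'W : ξ' ∈ W := hc2.1.mem_open W.isOpen hxW
      have hξξ' : ξ ∈ V ξ' := hc1.1.mem_open (V ξ').isOpen (hxV ξ')
      refine ⟨hξ'W, hc1, fun hU => h1 ?_⟩
      unfold Cyc.secDivFun
      rw [dif_pos hc1, haF ξ' hξξ', secOrdAt_basis (hτL ξ') ξ' (hxV ξ') ξ hc1.1, ← hFpos ξ' hξξ']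
      exact (K1F x ξ' hc1.1 (hWV ξ' hξ'W) hU.1).ordAt_eq_zero
    have S2 : (Function.support fun ξ' : X =>
        Cyc.secDivFun δ N ξ t ξ' * Cyc.secDivFun δ L ξ' (v ξ') x) ⊆
        {ξ' : X | ξ' ∈ W ∧ ∃ h : ξ ⤳ ξ' ∧ δ ξ' + 1 = δ ξ,
          ¬ (UnitAt h.1 (F x) ∧ UnitAt h.1 (G x))} := by
      intro ξ' hne
      have h1 : Cyc.secDivFun δ N ξ t ξ' ≠ 0 := left_ne_zero_of_mul hne
      have h2 : Cyc.secDivFun δ L ξ' (v ξ') x ≠ 0 := right_ne_zero_of_mul hne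
      have hc1 : ξ ⤳ ξ' ∧ δ ξ' + 1 = δ ξ := by
        by_contra hc; apply h1; unfold Cyc.secDivFun; rw [dif_neg hc]
      have hc2 : ξ' ⤳ x ∧ δ x + 1 = δ ξ' := by
        by_contra hc; apply h2; unfold Cyc.secDivFun; rw [dif_neg hc]
      have hξ'W : ξ' ∈ W := hc2.1.mem_open W.isOpen hxW
      have hξξ' : ξ ∈ V ξ' := hc1.1.mem_open (V ξ').isOpen (hxV ξ')
      refine ⟨hξ'W, hc1, fun hU => h1 ?_⟩
      unfold Cyc.secDivFun
      rw [dif_pos hc1, haG ξ' hξξ', secOrdAt_basis (hτN ξ') ξ' (hxV ξ') ξ hc1.1, ← hGpos ξ' hξξ']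
      exact (K1G x ξ' hc1.1 (hWV ξ' hξ'W) hU.2).ordAt_eq_zero
    have SK : (Function.support fun ξ' : X =>
        (if hc : (ξ ⤳ ξ' ∧ δ ξ' + 1 = δ ξ) ∧ (ξ' ⤳ x ∧ δ x + 1 = δ ξ') then
            Cyc.ordAt x ξ' hc.2.1 (tameAt hc.1.1 (F x) (G x)) else 0)) ⊆
        {ξ' : X | ξ' ∈ W ∧ ∃ h : ξ ⤳ ξ' ∧ δ ξ' + 1 = δ ξ,
          ¬ (UnitAt h.1 (F x) ∧ UnitAt h.1 (G x))} := by
      intro ξ' hne
      have hc : (ξ ⤳ ξ' ∧ δ ξ' + 1 = δ ξ) ∧ (ξ' ⤳ x ∧ δ x + 1 = δ ξ') := by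
        by_contra hc; apply hne; simp only; rw [dif_neg hc]
      have hξ'W : ξ' ∈ W := hc.2.1.mem_open W.isOpen hxW
      refine ⟨hξ'W, hc.1, fun hU => hne ?_⟩
      simp only
      rw [dif_pos hc, tameAt_of_unitAt δ hdim hc.1.1 hc.1.2 hU.1 hU.2, ordAt_one]
    have SD : (Function.support fun ξ' : X =>
        (if ξ ⤳ ξ' ∧ δ ξ' + 1 = δ ξ then Cyc.divFun δ ξ' (H ξ') x else 0)) ⊆
        {ξ' : X | ξ' ∈ W ∧ ∃ h : ξ ⤳ ξ' ∧ δ ξ' + 1 = δ ξ,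
          ¬ (UnitAt h.1 (F x) ∧ UnitAt h.1 (G x))} := by
      intro ξ' hne
      have hc1 : ξ ⤳ ξ' ∧ δ ξ' + 1 = δ ξ := by
        by_contra hc; apply hne; simp only; rw [if_neg hc]
      have hd : Cyc.divFun δ ξ' (H ξ') x ≠ 0 := by
        intro h0; apply hne; simp only; rw [if_pos hc1, h0]
      have hc2 : ξ' ⤳ x ∧ δ x + 1 = δ ξ' := by
        by_contra hc; apply hd; unfold Cyc.divFun; rw [dif_neg hc]
      have hξ'W : ξ' ∈ W := hc2.1.mem_open W.isOpen hxW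
      refine ⟨hξ'W, hc1, fun hU => hd ?_⟩
      unfold Cyc.divFun
      rw [dif_pos hc2, K2 x ξ' hc1 (hWV ξ' hξ'W) hU.1 hU.2, ordAt_one]
    have f1 := hfin.subset S1
    have f2 := hfin.subset S2
    have fK := hfin.subset SK
    have fD := hfin.subset SD
    have hK0 : ∑ᶠ ξ' : X, (if hc : (ξ ⤳ ξ' ∧ δ ξ' + 1 = δ ξ) ∧ (ξ' ⤳ x ∧ δ x + 1 = δ ξ') then
            Cyc.ordAt x ξ' hc.2.1 (tameAt hc.1.1 (F x) (G x)) else 0) = 0 := by
      by_cases hx : ξ ⤳ x ∧ δ x + 2 = δ ξ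
      · exact key_scheme δ hdim hx.1 hx.2 (hF0 x) (hG0 x)
      · apply finsum_eq_zero_of_forall_eq_zero
        intro ξ'
        rw [dif_neg]
        rintro ⟨⟨h1, h2⟩, h3, h4⟩
        exact hx ⟨h1.trans h3, by omega⟩
    refine ⟨f1, f2, ?_⟩
    rw [← finsum_sub_distrib f1 f2, finsum_congr I1, finsum_sub_distrib fD fK, hK0, sub_zero]

open scoped Classical in
include hdim in
theorem comm_general' (hL : PicF.IsInvertible L) (hN : PicF.IsInvertible N) (ξ : X)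
    (s : Cyc.secFibre L ξ) (hs : s ≠ 0) (t : Cyc.secFibre N ξ) (ht : t ≠ 0)
    (u : (p : X) → Cyc.secFibre N p) (hu : ∀ p, u p ≠ 0)
    (v : (p : X) → Cyc.secFibre L p) (hv : ∀ p, v p ≠ 0) :
    ∃ H : (ξ' : X) → X.residueField ξ', (∀ ξ', H ξ' ≠ 0) ∧
      (∀ x : X, ∃ U : Set X, IsOpen U ∧ x ∈ U ∧
        {ξ' : X | ξ' ∈ U ∧ (ξ ⤳ ξ' ∧ δ ξ' + 1 = δ ξ) ∧ H ξ' ≠ 1}.Finite) ∧
      ∀ x : X,
        (Function.support fun ξ' : X =>
          Cyc.secDivFun δ L ξ s ξ' * Cyc.secDivFun δ N ξ' (u ξ') x).Finite ∧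
        (Function.support fun ξ' : X =>
          Cyc.secDivFun δ N ξ t ξ' * Cyc.secDivFun δ L ξ' (v ξ') x).Finite ∧
        (∑ᶠ ξ' : X, Cyc.secDivFun δ L ξ s ξ' * Cyc.secDivFun δ N ξ' (u ξ') x) -
          (∑ᶠ ξ' : X, Cyc.secDivFun δ N ξ t ξ' * Cyc.secDivFun δ L ξ' (v ξ') x) =
        ∑ᶠ ξ' : X, (if ξ ⤳ ξ' ∧ δ ξ' + 1 = δ ξ then Cyc.divFun δ ξ' (H ξ') x else 0) := by
  obtain ⟨H, h1, -, h2, h3⟩ := comm_full δ hdim hL hN ξ s hs t ht u hu v hv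
  exact ⟨H, h1, h2, h3⟩

open scoped Classical in
include hdim in
theorem comm_general (hL : PicF.IsInvertible L) (hN : PicF.IsInvertible N) (ξ : X)
    (s : Cyc.secFibre L ξ) (hs : s ≠ 0) (t : Cyc.secFibre N ξ) (ht : t ≠ 0)
    (u : (p : X) → Cyc.secFibre N p) (hu : ∀ p, u p ≠ 0)
    (v : (p : X) → Cyc.secFibre L p) (hv : ∀ p, v p ≠ 0) :
    ∃ H : (ξ' : X) → X.residueField ξ', (∀ ξ', H ξ' ≠ 0) ∧
      (∀ x : X, ∃ U : Set X, IsOpen U ∧ x ∈ U ∧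
        {ξ' : X | ξ' ∈ U ∧ (ξ ⤳ ξ' ∧ δ ξ' + 1 = δ ξ) ∧ H ξ' ≠ 1}.Finite) ∧
      ∀ x : X, (∑ᶠ ξ' : X, Cyc.secDivFun δ L ξ s ξ' * Cyc.secDivFun δ N ξ' (u ξ') x) -
          (∑ᶠ ξ' : X, Cyc.secDivFun δ N ξ t ξ' * Cyc.secDivFun δ L ξ' (v ξ') x) =
        ∑ᶠ ξ' : X, (if ξ ⤳ ξ' ∧ δ ξ' + 1 = δ ξ then Cyc.divFun δ ξ' (H ξ') x else 0) := by
  obtain ⟨H, h1, h2, h3⟩ := comm_general' δ hdim hL hN ξ s hs t ht u hu v hv
  exact ⟨H, h1, h2, fun x => (h3 x).2.2⟩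

open scoped Classical in
omit [IsLocallyNoetherian X] in
/-- the explicit locally finite family of principal divisors attached to the rational functions
`H ξ'` on the codimension one points of the closure of `ξ` -/
theorem single_family_data (ξ : X) (k : ℤ) (hk : δ ξ = k + 2)
    (H : (ξ' : X) → X.residueField ξ') (hH0 : ∀ ξ', H ξ' ≠ 0)
    (hHfin : ∀ x : X, ∃ U : Set X, IsOpen U ∧ x ∈ U ∧
        {ξ' : X | ξ' ∈ U ∧ (ξ ⤳ ξ' ∧ δ ξ' + 1 = δ ξ) ∧ H ξ' ≠ 1}.Finite) :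
    (∀ p : {ξ' : X // (ξ ⤳ ξ' ∧ δ ξ' + 1 = δ ξ) ∧ H ξ' ≠ 1}, δ p.1 = k + 1) ∧
    (∀ p : {ξ' : X // (ξ ⤳ ξ' ∧ δ ξ' + 1 = δ ξ) ∧ H ξ' ≠ 1}, H p.1 ≠ 0) ∧
    (∀ x : X, ∃ U : Set X, IsOpen U ∧ x ∈ U ∧
      {p : {ξ' : X // (ξ ⤳ ξ' ∧ δ ξ' + 1 = δ ξ) ∧ H ξ' ≠ 1} |
        (closure {p.1} ∩ U).Nonempty}.Finite) ∧
    ∀ x : X, ∑ᶠ ξ' : X, (if ξ ⤳ ξ' ∧ δ ξ' + 1 = δ ξ then Cyc.divFun δ ξ' (H ξ') x else 0) =
      ∑ᶠ p : {ξ' : X // (ξ ⤳ ξ' ∧ δ ξ' + 1 = δ ξ) ∧ H ξ' ≠ 1}, Cyc.divFun δ p.1 (H p.1) x := by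
  refine ⟨?_, ?_, ?_, ?_⟩
  · intro i
    have := i.2.1.2
    omega
  · intro i
    exact hH0 i.1
  · intro x
    obtain ⟨U, hUo, hxU, hfin⟩ := hHfin x
    refine ⟨U, hUo, hxU, ?_⟩
    apply Set.Finite.of_finite_image (f := Subtype.val) ?_ Subtype.val_injective.injOn
    apply hfin.subset
    rintro _ ⟨i, ⟨y, hy, hyU⟩, rfl⟩
    have hsp : i.1 ⤳ y := specializes_iff_mem_closure.mpr hy
    exact ⟨hsp.mem_open hUo hyU, i.2.1, i.2.2⟩
  · intro x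
    have hsub : ∀ ξ' : X,
        (if ξ ⤳ ξ' ∧ δ ξ' + 1 = δ ξ then Cyc.divFun δ ξ' (H ξ') x else 0) ≠ 0 →
          (ξ ⤳ ξ' ∧ δ ξ' + 1 = δ ξ) ∧ H ξ' ≠ 1 := by
      intro ξ' hne
      have hc1 : ξ ⤳ ξ' ∧ δ ξ' + 1 = δ ξ := by
        by_contra hc; apply hne; rw [if_neg hc]
      refine ⟨hc1, fun h1 => hne ?_⟩
      rw [if_pos hc1, h1]
      unfold Cyc.divFun
      split_ifs with hc2
      · exact ordAt_one hc2.1
      · rfl
    have h2 := finsum_subtype_of_support_subset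
      (fun ξ' : X => if ξ ⤳ ξ' ∧ δ ξ' + 1 = δ ξ then Cyc.divFun δ ξ' (H ξ') x else 0)
      (fun ξ' => (ξ ⤳ ξ' ∧ δ ξ' + 1 = δ ξ) ∧ H ξ' ≠ 1) hsub
    rw [← h2]
    apply finsum_congr
    intro i
    rw [if_pos i.2.1]

include hdim in
/-- **Commutativity of `c_1` on divisors of rational sections**, as a rational equivalence. -/
theorem ratEquivZero_comm (hL : PicF.IsInvertible L) (hN : PicF.IsInvertible N) (ξ : X) (k : ℤ)
    (hk : δ ξ = k + 2)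
    (s : Cyc.secFibre L ξ) (hs : s ≠ 0) (t : Cyc.secFibre N ξ) (ht : t ≠ 0)
    (u : (p : X) → Cyc.secFibre N p) (hu : ∀ p, u p ≠ 0)
    (v : (p : X) → Cyc.secFibre L p) (hv : ∀ p, v p ≠ 0) (γ : AlgebraicCycle X ℤ)
    (hγ : ∀ x : X, γ x =
      (∑ᶠ ξ' : X, Cyc.secDivFun δ L ξ s ξ' * Cyc.secDivFun δ N ξ' (u ξ') x) -
        (∑ᶠ ξ' : X, Cyc.secDivFun δ N ξ t ξ' * Cyc.secDivFun δ L ξ' (v ξ') x)) :
    Cyc.RatEquivZero δ k γ := by
  classical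
  obtain ⟨H, hH0, hHfin, hHid⟩ := comm_general δ hdim hL hN ξ s hs t ht u hu v hv
  obtain ⟨d1, d2, d3, d4⟩ := single_family_data δ ξ k hk H hH0 hHfin
  refine ⟨{ξ' : X // (ξ ⤳ ξ' ∧ δ ξ' + 1 = δ ξ) ∧ H ξ' ≠ 1}, fun i => i.1, fun i => H i.1,
    d1, d2, d3, ?_⟩
  intro x
  rw [hγ, hHid x]
  exact d4 x

end Global

end Groth.Agent.Lib.Helper85.C1Comm
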