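import Mathlib
import Groth.Prelude.Def_C1
import Groth.Agent.Lib.Helper85.IntMult.C1Comm

/-!
# Locally finite sums of principal divisors; exchange of summation (helper85)
-/

set_option autoImplicit false
set_option linter.unusedSectionVars false
universe u
open CategoryTheory AlgebraicGeometry

namespace Groth.Agent.Lib.Helper85.C1Sum

open Groth.Agent.Lib.Helper85.SecOrd Groth.Agent.Lib.Helper85.C1Comm

/-- exchange of two `finsum`s when the support on pairs is finite -/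
theorem finsum_comm_of_finite {α β M : Type*} [AddCommMonoid M] (f : α → β → M)
    (h : (Function.support (Function.uncurry f)).Finite) :
    ∑ᶠ a, ∑ᶠ b, f a b = ∑ᶠ b, ∑ᶠ a, f a b := by
  have h' : (Function.support (fun p : β × α => f p.2 p.1)).Finite := by
    refine (h.image Prod.swap).subset ?_
    rintro ⟨b, a⟩ hp
    exact ⟨(a, b), hp, rfl⟩
  have e1 := finsum_curry (Function.uncurry f) h
  have e2 := finsum_curry (fun p : β × α => f p.2 p.1) h'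
  have e3 := finsum_comp_equiv (Equiv.prodComm β α) (f := Function.uncurry f)
  calc ∑ᶠ a, ∑ᶠ b, f a b = ∑ᶠ ab, Function.uncurry f ab := e1.symm
    _ = ∑ᶠ p : β × α, f p.2 p.1 := e3.symm
    _ = ∑ᶠ b, ∑ᶠ a, f a b := e2

/-- exchange of summation for sums along chains of specializations -/
theorem finsum_exchange {X : Type*} [TopologicalSpace X] {J : Type*} (pt : J → X)
    (c : J → X → ℤ) (B : X → ℤ) (x : X)
    (h1 : ∀ j ξ', c j ξ' ≠ 0 → pt j ⤳ ξ') (h2 : ∀ ξ', B ξ' ≠ 0 → ξ' ⤳ x)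
    (h3 : {j | pt j ⤳ x}.Finite)
    (h4 : ∀ j, (Function.support fun ξ' => c j ξ' * B ξ').Finite) :
    ∑ᶠ ξ', (∑ᶠ j, c j ξ') * B ξ' = ∑ᶠ j, ∑ᶠ ξ', c j ξ' * B ξ' := by
  have hfin : (Function.support (Function.uncurry fun j ξ' => c j ξ' * B ξ')).Finite := by
    refine (h3.biUnion (t := fun j => (fun ξ' => (j, ξ')) ''
      (Function.support fun ξ' => c j ξ' * B ξ')) fun j _ => (h4 j).image _).subset ?_
    rintro ⟨j, ξ'⟩ hne
    have hne' : c j ξ' * B ξ' ≠ 0 := hne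
    have hc : c j ξ' ≠ 0 := left_ne_zero_of_mul hne'
    have hB : B ξ' ≠ 0 := right_ne_zero_of_mul hne'
    exact Set.mem_biUnion (show j ∈ {j | pt j ⤳ x} from (h1 j ξ' hc).trans (h2 ξ' hB))
      ⟨ξ', hne', rfl⟩
  rw [finsum_comm_of_finite _ hfin]
  apply finsum_congr
  intro ξ'
  rw [finsum_mul]

variable {X : Scheme.{u}}

theorem divFun_one (δ : X → ℤ) (ξ' x : X) : Cyc.divFun δ ξ' 1 x = 0 := by
  unfold Cyc.divFun
  split_ifs with hc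
  · exact ordAt_one hc.1
  · rfl

open scoped Classical in
/-- a locally finite sum of locally finite families of principal divisors is rationally
equivalent to zero -/
theorem family_data (δ : X → ℤ) (k : ℤ) {J : Type u} (pt : J → X)
    (H : (j : J) → (ξ' : X) → X.residueField ξ')
    (hH0 : ∀ j ξ', H j ξ' ≠ 0) (hδ : ∀ j, δ (pt j) = k + 2)
    (hlf : ∀ x : X, ∃ U : Set X, IsOpen U ∧ x ∈ U ∧ {j | (closure {pt j} ∩ U).Nonempty}.Finite)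
    (hHfin : ∀ (j : J) (x : X), ∃ U : Set X, IsOpen U ∧ x ∈ U ∧
      {ξ' : X | ξ' ∈ U ∧ (pt j ⤳ ξ' ∧ δ ξ' + 1 = δ (pt j)) ∧ H j ξ' ≠ 1}.Finite)
    (γ : X → ℤ)
    (hγ : ∀ x, γ x = ∑ᶠ j, ∑ᶠ ξ' : X,
      (if pt j ⤳ ξ' ∧ δ ξ' + 1 = δ (pt j) then Cyc.divFun δ ξ' (H j ξ') x else 0)) :
    (∀ p : {p : J × X // (pt p.1 ⤳ p.2 ∧ δ p.2 + 1 = δ (pt p.1)) ∧ H p.1 p.2 ≠ 1},
      δ p.1.2 = k + 1) ∧
    (∀ p : {p : J × X // (pt p.1 ⤳ p.2 ∧ δ p.2 + 1 = δ (pt p.1)) ∧ H p.1 p.2 ≠ 1},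
      H p.1.1 p.1.2 ≠ 0) ∧
    (∀ x : X, ∃ U : Set X, IsOpen U ∧ x ∈ U ∧
      {p : {p : J × X // (pt p.1 ⤳ p.2 ∧ δ p.2 + 1 = δ (pt p.1)) ∧ H p.1 p.2 ≠ 1} |
        (closure {p.1.2} ∩ U).Nonempty}.Finite) ∧
    ∀ x : X, γ x =
      ∑ᶠ p : {p : J × X // (pt p.1 ⤳ p.2 ∧ δ p.2 + 1 = δ (pt p.1)) ∧ H p.1 p.2 ≠ 1},
        Cyc.divFun δ p.1.2 (H p.1.1 p.1.2) x := by
  have hkey : ∀ x : X, ∃ U : Set X, IsOpen U ∧ x ∈ U ∧
      {p : J × X | p.2 ∈ U ∧ (pt p.1 ⤳ p.2 ∧ δ p.2 + 1 = δ (pt p.1)) ∧ H p.1 p.2 ≠ 1}.Finite := by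
    intro x
    obtain ⟨U₀, hU₀o, hxU₀, hJ₀⟩ := hlf x
    choose Uj hUjo hxUj hUjfin using fun j => hHfin j x
    refine ⟨U₀ ∩ ⋂ j ∈ {j | (closure {pt j} ∩ U₀).Nonempty}, Uj j,
      hU₀o.inter (hJ₀.isOpen_biInter fun j _ => hUjo j),
      ⟨hxU₀, Set.mem_iInter₂.mpr fun j _ => hxUj j⟩, ?_⟩
    refine (hJ₀.biUnion (t := fun j => (fun ξ' => (j, ξ')) ''
      {ξ' : X | ξ' ∈ Uj j ∧ (pt j ⤳ ξ' ∧ δ ξ' + 1 = δ (pt j)) ∧ H j ξ' ≠ 1})
      fun j _ => (hUjfin j).image _).subset ?_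
    rintro ⟨j, ξ'⟩ ⟨hξ'U, hc, hne⟩
    have hj : j ∈ {j | (closure {pt j} ∩ U₀).Nonempty} :=
      ⟨ξ', specializes_iff_mem_closure.mp hc.1, hξ'U.1⟩
    exact Set.mem_biUnion hj ⟨ξ', ⟨Set.mem_iInter₂.mp hξ'U.2 j hj, hc, hne⟩, rfl⟩
  refine ⟨?_, ?_, ?_, ?_⟩
  · intro p
    have h1 := p.2.1.2
    have h2 := hδ p.1.1
    omega
  · intro p
    exact hH0 p.1.1 p.1.2
  · intro x
    obtain ⟨U, hUo, hxU, hfin⟩ := hkey x
    refine ⟨U, hUo, hxU, ?_⟩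
    apply Set.Finite.of_finite_image (f := Subtype.val) ?_ Subtype.val_injective.injOn
    apply hfin.subset
    rintro _ ⟨i, ⟨y, hy, hyU⟩, rfl⟩
    have hsp : i.1.2 ⤳ y := specializes_iff_mem_closure.mpr hy
    exact ⟨hsp.mem_open hUo hyU, i.2.1, i.2.2⟩
  · intro x
    rw [hγ]
    obtain ⟨U, hUo, hxU, hfin⟩ := hkey x
    have hgsupp : ∀ p : J × X,
        (if pt p.1 ⤳ p.2 ∧ δ p.2 + 1 = δ (pt p.1) then Cyc.divFun δ p.2 (H p.1 p.2) x else 0) ≠ 0 →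
          p.2 ∈ U ∧ (pt p.1 ⤳ p.2 ∧ δ p.2 + 1 = δ (pt p.1)) ∧ H p.1 p.2 ≠ 1 := by
      intro p hne
      have hc1 : pt p.1 ⤳ p.2 ∧ δ p.2 + 1 = δ (pt p.1) := by
        by_contra hc; apply hne; rw [if_neg hc]
      have hd : Cyc.divFun δ p.2 (H p.1 p.2) x ≠ 0 := by
        intro h0; apply hne; rw [if_pos hc1, h0]
      have hc2 : p.2 ⤳ x ∧ δ x + 1 = δ p.2 := by
        by_contra hc; apply hd; unfold Cyc.divFun; rw [dif_neg hc]
      refine ⟨hc2.1.mem_open hUo hxU, hc1, fun h1 => hd ?_⟩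
      rw [h1, divFun_one]
    have hgfin : (Function.support fun p : J × X =>
        (if pt p.1 ⤳ p.2 ∧ δ p.2 + 1 = δ (pt p.1) then Cyc.divFun δ p.2 (H p.1 p.2) x else 0)).Finite :=
      hfin.subset fun p hp => hgsupp p hp
    have e1 := finsum_curry _ hgfin
    have e2 := finsum_subtype_of_support_subset
      (fun p : J × X =>
        (if pt p.1 ⤳ p.2 ∧ δ p.2 + 1 = δ (pt p.1) then Cyc.divFun δ p.2 (H p.1 p.2) x else 0))
      (fun p => (pt p.1 ⤳ p.2 ∧ δ p.2 + 1 = δ (pt p.1)) ∧ H p.1 p.2 ≠ 1)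
      (fun p hp => (hgsupp p hp).2)
    rw [← e1, ← e2]
    apply finsum_congr
    intro i
    rw [if_pos i.2.1]

open scoped Classical in
/-- a locally finite sum of locally finite families of principal divisors is rationally
equivalent to zero -/
theorem ratEquivZero_of_family (δ : X → ℤ) (k : ℤ) {J : Type u} (pt : J → X)
    (H : (j : J) → (ξ' : X) → X.residueField ξ')
    (hH0 : ∀ j ξ', H j ξ' ≠ 0) (hδ : ∀ j, δ (pt j) = k + 2)
    (hlf : ∀ x : X, ∃ U : Set X, IsOpen U ∧ x ∈ U ∧ {j | (closure {pt j} ∩ U).Nonempty}.Finite)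
    (hHfin : ∀ (j : J) (x : X), ∃ U : Set X, IsOpen U ∧ x ∈ U ∧
      {ξ' : X | ξ' ∈ U ∧ (pt j ⤳ ξ' ∧ δ ξ' + 1 = δ (pt j)) ∧ H j ξ' ≠ 1}.Finite)
    (γ : AlgebraicCycle X ℤ)
    (hγ : ∀ x, γ x = ∑ᶠ j, ∑ᶠ ξ' : X,
      (if pt j ⤳ ξ' ∧ δ ξ' + 1 = δ (pt j) then Cyc.divFun δ ξ' (H j ξ') x else 0)) :
    Cyc.RatEquivZero δ k γ := by
  obtain ⟨h1, h2, h3, h4⟩ := family_data δ k pt H hH0 hδ hlf hHfin (⇑γ) hγ
  exact ⟨{p : J × X // (pt p.1 ⤳ p.2 ∧ δ p.2 + 1 = δ (pt p.1)) ∧ H p.1 p.2 ≠ 1},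
    fun p => p.1.2, fun p => H p.1.1 p.1.2, h1, h2, h3, h4⟩

/-- points of the support of a cycle specializing to a given point: a finite set -/
theorem finite_support_specializes (α : AlgebraicCycle X ℤ) (x : X) :
    {j : {ξ : X // α ξ ≠ 0} | j.1 ⤳ x}.Finite := by
  obtain ⟨t, ht, hfin⟩ := α.supportLocallyFiniteWithinDomain' x (Set.mem_univ x)
  obtain ⟨U, hUt, hUo, hxU⟩ := mem_nhds_iff.mp ht
  apply Set.Finite.of_finite_image (f := Subtype.val) ?_ Subtype.val_injective.injOn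
  apply hfin.subset
  rintro _ ⟨j, hj, rfl⟩
  exact ⟨hUt (Specializes.mem_open hj hUo hxU), j.2⟩

theorem locallyFinite_support (α : AlgebraicCycle X ℤ) (x : X) :
    ∃ U : Set X, IsOpen U ∧ x ∈ U ∧
      {j : {ξ : X // α ξ ≠ 0} | (closure {j.1} ∩ U).Nonempty}.Finite := by
  obtain ⟨t, ht, hfin⟩ := α.supportLocallyFiniteWithinDomain' x (Set.mem_univ x)
  obtain ⟨U, hUt, hUo, hxU⟩ := mem_nhds_iff.mp ht
  refine ⟨U, hUo, hxU, ?_⟩
  apply Set.Finite.of_finite_image (f := Subtype.val) ?_ Subtype.val_injective.injOn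
  apply hfin.subset
  rintro _ ⟨i, ⟨y, hy, hyU⟩, rfl⟩
  have hsp : i.1 ⤳ y := specializes_iff_mem_closure.mpr hy
  exact ⟨hUt (hsp.mem_open hUo hyU), i.2⟩

/-- exchange of summation in an iterated cap product -/
theorem capcap_eq (α : AlgebraicCycle X ℤ) (A : X → X → ℤ) (B : X → ℤ) (x : X)
    (h1 : ∀ ξ ξ', A ξ ξ' ≠ 0 → ξ ⤳ ξ') (h2 : ∀ ξ', B ξ' ≠ 0 → ξ' ⤳ x)
    (h4 : ∀ ξ, (Function.support fun ξ' => A ξ ξ' * B ξ').Finite) :
    ∑ᶠ ξ', (∑ᶠ ξ, α ξ * A ξ ξ') * B ξ' =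
      ∑ᶠ j : {ξ : X // α ξ ≠ 0}, α j.1 * ∑ᶠ ξ', A j.1 ξ' * B ξ' := by
  have e1 : ∀ ξ', ∑ᶠ ξ, α ξ * A ξ ξ' = ∑ᶠ j : {ξ : X // α ξ ≠ 0}, α j.1 * A j.1 ξ' := by
    intro ξ'
    exact (finsum_subtype_of_support_subset (fun ξ => α ξ * A ξ ξ') (fun ξ => α ξ ≠ 0)
      (fun ξ hne h0 => hne (by rw [h0, zero_mul]))).symm
  simp only [e1]
  rw [finsum_exchange (fun j : {ξ : X // α ξ ≠ 0} => j.1) (fun j ξ' => α j.1 * A j.1 ξ') B x
    (fun j ξ' hne => h1 j.1 ξ' (right_ne_zero_of_mul hne)) h2 (finite_support_specializes α x)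
    (fun j => (h4 j.1).subset (fun ξ' hne h0 => hne (by
      show α j.1 * A j.1 ξ' * B ξ' = 0
      have h0' : A j.1 ξ' * B ξ' = 0 := h0
      rw [mul_assoc, h0', mul_zero])))]
  apply finsum_congr
  intro j
  rw [mul_finsum]
  apply finsum_congr
  intro ξ'
  rw [mul_assoc]

theorem capcap_support (α : AlgebraicCycle X ℤ) (A : X → X → ℤ) (B : X → ℤ) (x : X)
    (h1 : ∀ ξ ξ', A ξ ξ' ≠ 0 → ξ ⤳ ξ') (h2 : ∀ ξ', B ξ' ≠ 0 → ξ' ⤳ x) :
    (Function.support fun j : {ξ : X // α ξ ≠ 0} => α j.1 * ∑ᶠ ξ', A j.1 ξ' * B ξ').Finite := by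
  refine (finite_support_specializes α x).subset ?_
  intro j hne
  have h3 : ∑ᶠ ξ', A j.1 ξ' * B ξ' ≠ 0 := right_ne_zero_of_mul hne
  obtain ⟨ξ', hξ'⟩ : ∃ ξ', A j.1 ξ' * B ξ' ≠ 0 := by
    by_contra hall
    push Not at hall
    exact h3 (finsum_eq_zero_of_forall_eq_zero hall)
  exact (h1 j.1 ξ' (left_ne_zero_of_mul hξ')).trans (h2 ξ' (right_ne_zero_of_mul hξ'))

theorem secDivFun_ne_zero_specializes {δ : X → ℤ} {M : X.Modules} {ξ ξ' : X}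
    {s : Cyc.secFibre M ξ} (h : Cyc.secDivFun δ M ξ s ξ' ≠ 0) : ξ ⤳ ξ' := by
  by_contra hns
  apply h
  unfold Cyc.secDivFun
  rw [dif_neg (fun hc => hns hc.1)]

section Indep

open Groth.Agent.Lib.Helper45 Groth.Agent.Lib.Helper85.C1Tensor

theorem ordAt_div {x ξ : X} (h : ξ ⤳ x) (f g : X.residueField ξ) (hf : f ≠ 0) (hg : g ≠ 0) :
    Cyc.ordAt x ξ h (f / g) = Cyc.ordAt x ξ h f - Cyc.ordAt x ξ h g :=
  Groth.Agent.Lib.Helper85.TameKey.ordFrac_div' _ _ hf hg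

/-- the class `c_1(L) ∩ α` does not depend on the rational sections used to compute it -/
theorem c1Cap_indep_family (δ : X → ℤ) {L : X.Modules} (hL : PicF.IsInvertible L)
    (α : AlgebraicCycle X ℤ)
    (s t : (ξ : X) → Cyc.secFibre L ξ) (hs : ∀ ξ, s ξ ≠ 0) (ht : ∀ ξ, t ξ ≠ 0) :
    ∃ F : (ξ : X) → X.residueField ξ, (∀ ξ, F ξ ≠ 0) ∧
      ∀ x, Cyc.c1CapFun δ L ⇑α s x - Cyc.c1CapFun δ L ⇑α t x =
        ∑ᶠ ξ, α ξ * Cyc.divFun δ ξ (F ξ) x := by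
  classical
  choose V hxV τ hτ using fun x => exists_isBasisOn_of_isInvertible hL x
  choose a ha using fun ξ => exists_coord (hτ ξ) ξ (hxV ξ) (s ξ)
  choose b hb using fun ξ => exists_coord (hτ ξ) ξ (hxV ξ) (t ξ)
  have ha0 : ∀ ξ, X.residue ξ (a ξ) ≠ 0 := fun ξ =>
    residue_coord_ne_zero (hτ ξ) ξ (hxV ξ) (a ξ) (by rw [← ha ξ]; exact hs ξ)
  have hb0 : ∀ ξ, X.residue ξ (b ξ) ≠ 0 := fun ξ =>
    residue_coord_ne_zero (hτ ξ) ξ (hxV ξ) (b ξ) (by rw [← hb ξ]; exact ht ξ)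
  refine ⟨fun ξ => X.residue ξ (a ξ) / X.residue ξ (b ξ),
    fun ξ => div_ne_zero (ha0 ξ) (hb0 ξ), ?_⟩
  intro x
  unfold Cyc.c1CapFun
  rw [← finsum_sub_distrib (finite_support_c1Cap δ L α s x) (finite_support_c1Cap δ L α t x)]
  apply finsum_congr
  intro ξ
  rw [← mul_sub]
  congr 1
  unfold Cyc.secDivFun Cyc.divFun
  by_cases hc : ξ ⤳ x ∧ δ x + 1 = δ ξ
  · rw [dif_pos hc, dif_pos hc, dif_pos hc]
    have hξx : ξ ∈ V x := hc.1.mem_open (V x).isOpen (hxV x)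
    obtain ⟨c, hcu, hc'⟩ := exists_transition (hτ x) (hτ ξ) ξ hξx (hxV ξ)
    have hc0 : X.residue ξ c ≠ 0 := (hcu.map (X.residue ξ).hom).ne_zero
    rw [ha ξ, hb ξ, hc', smul_smul, smul_smul, secOrdAt_basis (hτ x) x (hxV x) ξ hc.1,
      secOrdAt_basis (hτ x) x (hxV x) ξ hc.1, map_mul, map_mul,
      ordAt_mul hc.1 _ _ (ha0 ξ) hc0, ordAt_mul hc.1 _ _ (hb0 ξ) hc0,
      ordAt_div hc.1 _ _ (ha0 ξ) (hb0 ξ)]
    ring
  · rw [dif_neg hc, dif_neg hc, dif_neg hc]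
    ring

/-- the class `c_1(L) ∩ α` does not depend on the rational sections used to compute it -/
theorem c1Cap_indep (δ : X → ℤ) {L : X.Modules} (hL : PicF.IsInvertible L) (k : ℤ)
    (α : AlgebraicCycle X ℤ) (hα : α ∈ Cyc.Zk X δ (k + 1))
    (s t : (ξ : X) → Cyc.secFibre L ξ) (hs : ∀ ξ, s ξ ≠ 0) (ht : ∀ ξ, t ξ ≠ 0)
    (γ : AlgebraicCycle X ℤ)
    (hγ : ∀ x, γ x = Cyc.c1CapFun δ L ⇑α s x - Cyc.c1CapFun δ L ⇑α t x) :
    Cyc.RatEquivZero δ k γ := by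
  obtain ⟨F, hF0, hF⟩ := c1Cap_indep_family δ hL α s t hs ht
  apply ratEquivZero_of_finsum_divFun δ k α hα F hF0
  intro x
  rw [hγ, hF]

theorem gysinChoice_ne_zero {L : X.Modules} (s : L.presheaf.obj (Opposite.op ⊤))
    (w : (ξ : X) → Cyc.secFibre L ξ) (hw : ∀ ξ, w ξ ≠ 0) (ξ : X) :
    Cyc.gysinChoice L s w ξ ≠ 0 := by
  unfold Cyc.gysinChoice
  split_ifs with h
  · exact h
  · exact hw ξ

end Indep

section Comm

variable [IsLocallyNoetherian X] (δ : X → ℤ) (hdim : Cyc.IsDimFun X δ)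
variable {L N : X.Modules}

open scoped Classical in
omit [IsLocallyNoetherian X] in
/-- the difference `c_1(L) ∩ (c_1(N) ∩ α) - c_1(N) ∩ (c_1(L) ∩ α)` in terms of the rational
functions produced by the commutativity theorem -/
theorem c1Cap_comm_sum (α : AlgebraicCycle X ℤ)
    (sL sL' : (ξ : X) → Cyc.secFibre L ξ) (sN sN' : (ξ : X) → Cyc.secFibre N ξ)
    (H : (ξ : X) → (ξ' : X) → X.residueField ξ') (hH0 : ∀ ξ ξ', H ξ ξ' ≠ 0)
    (hHid : ∀ (ξ x : X),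
      (Function.support fun ξ' : X =>
        Cyc.secDivFun δ N ξ (sN ξ) ξ' * Cyc.secDivFun δ L ξ' (sL ξ') x).Finite ∧
      (Function.support fun ξ' : X =>
        Cyc.secDivFun δ L ξ (sL' ξ) ξ' * Cyc.secDivFun δ N ξ' (sN' ξ') x).Finite ∧
      (∑ᶠ ξ' : X, Cyc.secDivFun δ N ξ (sN ξ) ξ' * Cyc.secDivFun δ L ξ' (sL ξ') x) -
        (∑ᶠ ξ' : X, Cyc.secDivFun δ L ξ (sL' ξ) ξ' * Cyc.secDivFun δ N ξ' (sN' ξ') x) =
      ∑ᶠ ξ' : X, (if ξ ⤳ ξ' ∧ δ ξ' + 1 = δ ξ then Cyc.divFun δ ξ' (H ξ ξ') x else 0))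
    (x : X) :
    Cyc.c1CapFun δ L (Cyc.c1CapFun δ N ⇑α sN) sL x -
        Cyc.c1CapFun δ N (Cyc.c1CapFun δ L ⇑α sL') sN' x =
      ∑ᶠ j : {ξ : X // α ξ ≠ 0}, ∑ᶠ ξ' : X,
        (if j.1 ⤳ ξ' ∧ δ ξ' + 1 = δ j.1 then Cyc.divFun δ ξ' (H j.1 ξ' ^ α j.1) x else 0) := by
  have eA : Cyc.c1CapFun δ L (Cyc.c1CapFun δ N ⇑α sN) sL x =
      ∑ᶠ ξ', (∑ᶠ ξ, α ξ * Cyc.secDivFun δ N ξ (sN ξ) ξ') * Cyc.secDivFun δ L ξ' (sL ξ') x := rfl
  have eB : Cyc.c1CapFun δ N (Cyc.c1CapFun δ L ⇑α sL') sN' x =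
      ∑ᶠ ξ', (∑ᶠ ξ, α ξ * Cyc.secDivFun δ L ξ (sL' ξ) ξ') * Cyc.secDivFun δ N ξ' (sN' ξ') x := rfl
  rw [eA, eB,
    capcap_eq α (fun ξ ξ' => Cyc.secDivFun δ N ξ (sN ξ) ξ')
      (fun ξ' => Cyc.secDivFun δ L ξ' (sL ξ') x) x
      (fun ξ ξ' h => secDivFun_ne_zero_specializes h)
      (fun ξ' h => secDivFun_ne_zero_specializes h) (fun ξ => (hHid ξ x).1),
    capcap_eq α (fun ξ ξ' => Cyc.secDivFun δ L ξ (sL' ξ) ξ')
      (fun ξ' => Cyc.secDivFun δ N ξ' (sN' ξ') x) x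
      (fun ξ ξ' h => secDivFun_ne_zero_specializes h)
      (fun ξ' h => secDivFun_ne_zero_specializes h) (fun ξ => (hHid ξ x).2.1),
    ← finsum_sub_distrib
      (capcap_support α (fun ξ ξ' => Cyc.secDivFun δ N ξ (sN ξ) ξ')
        (fun ξ' => Cyc.secDivFun δ L ξ' (sL ξ') x) x
        (fun ξ ξ' h => secDivFun_ne_zero_specializes h)
        (fun ξ' h => secDivFun_ne_zero_specializes h))
      (capcap_support α (fun ξ ξ' => Cyc.secDivFun δ L ξ (sL' ξ) ξ')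
        (fun ξ' => Cyc.secDivFun δ N ξ' (sN' ξ') x) x
        (fun ξ ξ' h => secDivFun_ne_zero_specializes h)
        (fun ξ' h => secDivFun_ne_zero_specializes h))]
  apply finsum_congr
  intro j
  rw [← mul_sub, (hHid j.1 x).2.2, mul_finsum]
  apply finsum_congr
  intro ξ'
  split_ifs with hc
  · rw [divFun_zpow _ _ _ (hH0 j.1 ξ')]
  · rw [mul_zero]

include hdim in
/-- **Commutativity of the operations `c_1(L) ∩ -` and `c_1(N) ∩ -`** on `(k + 2)`-cycles. -/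
theorem c1Cap_comm (hL : PicF.IsInvertible L) (hN : PicF.IsInvertible N) (k : ℤ)
    (α : AlgebraicCycle X ℤ) (hα : α ∈ Cyc.Zk X δ (k + 2))
    (sL sL' : (ξ : X) → Cyc.secFibre L ξ) (sN sN' : (ξ : X) → Cyc.secFibre N ξ)
    (hsL : ∀ ξ, sL ξ ≠ 0) (hsL' : ∀ ξ, sL' ξ ≠ 0) (hsN : ∀ ξ, sN ξ ≠ 0) (hsN' : ∀ ξ, sN' ξ ≠ 0)
    (γ : AlgebraicCycle X ℤ)
    (hγ : ∀ x, γ x = Cyc.c1CapFun δ L (Cyc.c1CapFun δ N ⇑α sN) sL x -
      Cyc.c1CapFun δ N (Cyc.c1CapFun δ L ⇑α sL') sN' x) :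
    Cyc.RatEquivZero δ k γ := by
  classical
  have hH := fun ξ : X => comm_general' δ hdim hN hL ξ (sN ξ) (hsN ξ) (sL' ξ) (hsL' ξ)
    sL hsL sN' hsN'
  choose H hH0 hHfin hHid using hH
  apply ratEquivZero_of_family δ k (J := {ξ : X // α ξ ≠ 0}) (fun j => j.1)
    (fun j ξ' => H j.1 ξ' ^ α j.1)
  · intro j ξ'
    exact zpow_ne_zero _ (hH0 j.1 ξ')
  · intro j
    by_contra hne
    exact j.2 (hα j.1 hne)
  · exact locallyFinite_support α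
  · intro j x
    obtain ⟨U, hUo, hxU, hfin⟩ := hHfin j.1 x
    refine ⟨U, hUo, hxU, hfin.subset ?_⟩
    rintro ξ' ⟨h1, h2, h3⟩
    refine ⟨h1, h2, fun h4 => h3 ?_⟩
    rw [h4, one_zpow]
  · intro x
    rw [hγ]
    exact c1Cap_comm_sum δ α sL sL' sN sN' H hH0 hHid x

/-- a rational function, as a rational section of the structure sheaf -/
noncomputable def funSec (ξ : X) (w : X.presheaf.stalk ξ) :
    Cyc.secFibre (Coh.structureModule X) ξ :=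
  Submodule.Quotient.mk (w • Groth.Agent.Lib.Helper45.RefHullStalk.oneGerm ξ)

omit [IsLocallyNoetherian X] in
theorem funSec_ne_zero (ξ : X) (w : X.presheaf.stalk ξ) (hw : X.residue ξ w ≠ 0) :
    funSec ξ w ≠ 0 := by
  intro h0
  apply hw
  unfold funSec at h0
  rw [Submodule.Quotient.mk_eq_zero, smul_oneGerm_mem_iff] at h0
  exact (IsLocalRing.residue_eq_zero_iff _).mpr h0

omit [IsLocallyNoetherian X] in
theorem secDivFun_funSec (ξ : X) (w : X.presheaf.stalk ξ) (x : X) :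
    Cyc.secDivFun δ (Coh.structureModule X) ξ (funSec ξ w) x =
      Cyc.divFun δ ξ (X.residue ξ w) x := by
  unfold Cyc.secDivFun Cyc.divFun
  by_cases hc : ξ ⤳ x ∧ δ x + 1 = δ ξ
  · rw [dif_pos hc, dif_pos hc]
    exact secOrdAt_structure ξ x hc.1 w
  · rw [dif_neg hc, dif_neg hc]

open scoped Classical in
omit [IsLocallyNoetherian X] in
/-- `c_1(L) ∩ α` for `α = Σ div(f_i)`, in terms of the rational functions produced by the
commutativity theorem -/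
theorem c1Cap_eq_family {ι : Type*} (ξ : ι → X) (f : (i : ι) → X.residueField (ξ i))
    (hlf : ∀ x : X, ∃ U : Set X, IsOpen U ∧ x ∈ U ∧ {i | (closure {ξ i} ∩ U).Nonempty}.Finite)
    (α : X → ℤ) (hα : ∀ x, α x = ∑ᶠ i, Cyc.divFun δ (ξ i) (f i) x)
    (s : (p : X) → Cyc.secFibre L p) (w : (i : ι) → X.presheaf.stalk (ξ i))
    (hw : ∀ i, X.residue (ξ i) (w i) = f i) (tt : (i : ι) → Cyc.secFibre L (ξ i))
    (H : (i : ι) → (ξ' : X) → X.residueField ξ')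
    (hHid : ∀ (i : ι) (x : X),
      (Function.support fun ξ' : X =>
        Cyc.secDivFun δ (Coh.structureModule X) (ξ i) (funSec (ξ i) (w i)) ξ' *
          Cyc.secDivFun δ L ξ' (s ξ') x).Finite ∧
      (∑ᶠ ξ' : X, Cyc.secDivFun δ (Coh.structureModule X) (ξ i) (funSec (ξ i) (w i)) ξ' *
          Cyc.secDivFun δ L ξ' (s ξ') x) -
        (∑ᶠ ξ' : X, Cyc.secDivFun δ L (ξ i) (tt i) ξ' *
          Cyc.secDivFun δ (Coh.structureModule X) ξ' (funSec ξ' 1) x) =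
      ∑ᶠ ξ' : X, (if ξ i ⤳ ξ' ∧ δ ξ' + 1 = δ (ξ i) then Cyc.divFun δ ξ' (H i ξ') x else 0))
    (x : X) :
    Cyc.c1CapFun δ L α s x = ∑ᶠ i, ∑ᶠ ξ' : X,
      (if ξ i ⤳ ξ' ∧ δ ξ' + 1 = δ (ξ i) then Cyc.divFun δ ξ' (H i ξ') x else 0) := by
  have eA : Cyc.c1CapFun δ L α s x =
      ∑ᶠ ξ', (∑ᶠ i, Cyc.divFun δ (ξ i) (f i) ξ') * Cyc.secDivFun δ L ξ' (s ξ') x := by
    unfold Cyc.c1CapFun
    apply finsum_congr
    intro ξ'
    rw [hα ξ']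
  have h3 : {i | ξ i ⤳ x}.Finite := by
    obtain ⟨U, hUo, hxU, hfin⟩ := hlf x
    exact hfin.subset fun i hi => ⟨x, specializes_iff_mem_closure.mp hi, hxU⟩
  have h4 : ∀ i, (Function.support fun ξ' =>
      Cyc.divFun δ (ξ i) (f i) ξ' * Cyc.secDivFun δ L ξ' (s ξ') x).Finite := by
    intro i
    have := (hHid i x).1
    simp only [secDivFun_funSec, hw] at this
    exact this
  rw [eA, finsum_exchange ξ (fun i ξ' => Cyc.divFun δ (ξ i) (f i) ξ')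
    (fun ξ' => Cyc.secDivFun δ L ξ' (s ξ') x) x
    (fun i ξ' h => by
      by_contra hns
      apply h
      unfold Cyc.divFun
      rw [dif_neg (fun hc => hns hc.1)])
    (fun ξ' h => secDivFun_ne_zero_specializes h) h3 h4]
  apply finsum_congr
  intro i
  have := (hHid i x).2
  simp only [secDivFun_funSec, hw, map_one, divFun_one, mul_zero, finsum_zero, sub_zero] at this
  exact this

include hdim in
/-- **`c_1(L) ∩ -` preserves rational equivalence to zero.** -/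
theorem c1Cap_ratEquivZero (hL : PicF.IsInvertible L) (k : ℤ) (α : AlgebraicCycle X ℤ)
    (h0 : Cyc.RatEquivZero δ (k + 1) α) (s : (ξ : X) → Cyc.secFibre L ξ) (hs : ∀ ξ, s ξ ≠ 0)
    (γ : AlgebraicCycle X ℤ) (hγ : ∀ x, γ x = Cyc.c1CapFun δ L ⇑α s x) :
    Cyc.RatEquivZero δ k γ := by
  classical
  obtain ⟨ι, ξ, f, hδ, hf0, hlf, hα⟩ := h0
  have hw : ∀ i, ∃ w : X.presheaf.stalk (ξ i), X.residue (ξ i) w = f i :=
    fun i => Scheme.residue_surjective X (ξ i) (f i)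
  choose w hw using hw
  have hO := Groth.Agent.Lib.Helper11.GenLocus.isInvertible_structureModule X
  have hH := fun i : ι => comm_general' δ hdim hO hL (ξ i) (funSec (ξ i) (w i))
    (funSec_ne_zero _ _ (by rw [hw i]; exact hf0 i)) (s (ξ i)) (hs (ξ i)) s hs
    (fun p => funSec p 1) (fun p => funSec_ne_zero p 1 (by rw [map_one]; exact one_ne_zero))
  choose H hH0 hHfin hHid using hH
  apply ratEquivZero_of_family δ k ξ H hH0 (fun i => by rw [hδ i]; ring) hlf hHfin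
  intro x
  rw [hγ]
  exact c1Cap_eq_family δ ξ f hlf ⇑α hα s w hw (fun i => s (ξ i)) H
    (fun i x => ⟨(hHid i x).1, (hHid i x).2.2⟩) x

end Comm

end Groth.Agent.Lib.Helper85.C1Sum
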