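import Mathlib
import Groth.Prelude.Def_Coh
import Groth.Agent.Lib.Helper85.IntMult.PushStalk

/-!
# The local ring of a closed subscheme as a quotient of the local ring of the ambient scheme (helper85)

For a closed immersion `i : Z ⟶ X`, a point `z` and `x = i z` (propositionally):
* `stalkKer i z x hx`: the kernel of `O_{X,x} → O_{Z,z}`;
* `(i_* O_Z)_x ≃ₗ O_{X,x} ⧸ stalkKer`, `O_{Z,z} ≃+* O_{X,x} ⧸ stalkKer`;
* for two closed immersions and a point `w` of the fibre product at which the local ring is a field,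
  the two kernels span the maximal ideal.
-/

set_option autoImplicit false
set_option linter.style.haveILetI false
set_option linter.unusedSectionVars false
universe u

namespace Groth.Agent.Lib.Helper85.ClosedStalk

open AlgebraicGeometry CategoryTheory Limits IsLocalRing

section Alg

/-- a bijective additive map to a ring, semilinear over a surjective ring map, presents the module
as a quotient of the ring -/
theorem nonempty_linearEquiv_quotient_ker {A B M : Type u} [CommRing A] [CommRing B]
    [AddCommGroup M] [Module A M] (φ : A →+* B) (hφ : Function.Surjective φ) (σ : M →+ B)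
    (hσ : Function.Bijective σ) (hsemi : ∀ (a : A) (m : M), σ (a • m) = φ a * σ m) :
    Nonempty (M ≃ₗ[A] A ⧸ RingHom.ker φ) := by
  let ρ : A ⧸ RingHom.ker φ ≃+* B := RingHom.quotientKerEquivOfSurjective hφ
  have hρ : ∀ a : A, ρ (Ideal.Quotient.mk _ a) = φ a := fun a => rfl
  let e : M →ₗ[A] A ⧸ RingHom.ker φ :=
    { toFun := fun m => ρ.symm (σ m)
      map_add' := by
        intro m m'
        rw [map_add, map_add]
      map_smul' := by
        intro a m
        simp only [RingHom.id_apply]
        rw [hsemi, map_mul, ← hρ a, ρ.symm_apply_apply, Algebra.smul_def]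
        rfl }
  refine ⟨LinearEquiv.ofBijective e ⟨?_, ?_⟩⟩
  · intro m m' h
    exact hσ.1 (ρ.symm.injective h)
  · intro q
    obtain ⟨m, hm⟩ := hσ.2 (ρ q)
    refine ⟨m, ?_⟩
    show ρ.symm (σ m) = q
    rw [hm, ρ.symm_apply_apply]

end Alg

variable {Z X : Scheme.{u}} (i : Z ⟶ X)

/-- the map on local rings `O_{X,x} → O_{Z,z}` for `x = i z` -/
noncomputable def stalkTo (z : Z) (x : X) (hx : i z = x) :
    X.presheaf.stalk x ⟶ Z.presheaf.stalk z :=
  X.presheaf.stalkSpecializes (specializes_of_eq hx) ≫ i.stalkMap z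

theorem stalkTo_rfl (z : Z) : stalkTo i z (i z) rfl = i.stalkMap z := by
  unfold stalkTo
  have h : X.presheaf.stalkSpecializes (specializes_of_eq (rfl : i z = i z)) = 𝟙 _ :=
    TopCat.Presheaf.stalkSpecializes_refl X.presheaf (i z)
  rw [h, Category.id_comp]

/-- the kernel of `O_{X,x} → O_{Z,z}` -/
noncomputable def stalkKer (z : Z) (x : X) (hx : i z = x) : Ideal (X.presheaf.stalk x) :=
  RingHom.ker (stalkTo i z x hx).hom

theorem stalkTo_surjective [IsClosedImmersion i] (z : Z) (x : X) (hx : i z = x) :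
    Function.Surjective (stalkTo i z x hx).hom := by
  subst hx
  rw [stalkTo_rfl]
  exact i.stalkMap_surjective z

theorem isLocalHom_stalkTo (z : Z) (x : X) (hx : i z = x) :
    IsLocalHom (stalkTo i z x hx).hom := by
  subst hx
  rw [stalkTo_rfl]
  infer_instance

theorem stalkKer_le_maximalIdeal (z : Z) (x : X) (hx : i z = x) :
    stalkKer i z x hx ≤ maximalIdeal (X.presheaf.stalk x) :=
  IsLocalRing.le_maximalIdeal (RingHom.ker_ne_top _)

/-- `O_{Z,z} ≃ O_{X,x} ⧸ stalkKer` -/
theorem nonempty_ringEquiv [IsClosedImmersion i] (z : Z) (x : X) (hx : i z = x) :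
    Nonempty (Z.presheaf.stalk z ≃+* X.presheaf.stalk x ⧸ stalkKer i z x hx) :=
  ⟨(RingHom.quotientKerEquivOfSurjective (stalkTo_surjective i z x hx)).symm⟩

/-- `(i_* O_Z)_x ≃ O_{X,x} ⧸ stalkKer` -/
theorem nonempty_stalk_push_equiv [IsClosedImmersion i] (z : Z) (x : X) (hx : i z = x) :
    Nonempty (((Coh.push i).obj (Coh.structureModule Z)).presheaf.stalk x ≃ₗ[X.presheaf.stalk x]
      X.presheaf.stalk x ⧸ stalkKer i z x hx) := by
  subst hx
  unfold stalkKer
  rw [stalkTo_rfl]
  let σ : ((Coh.push i).obj (Coh.structureModule Z)).presheaf.stalk (i z) →+ Z.presheaf.stalk z :=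
    (Groth.Agent.Lib.Helper45.RefHullStalk.unitStalkEquiv z).toLinearMap.toAddMonoidHom.comp
      (Groth.Agent.Lib.Helper85.PushStalk.stalkPush i (Coh.structureModule Z) z)
  refine nonempty_linearEquiv_quotient_ker (i.stalkMap z).hom (i.stalkMap_surjective z) σ ?_ ?_
  · exact (Groth.Agent.Lib.Helper45.RefHullStalk.unitStalkEquiv z).bijective.comp
      (Groth.Agent.Lib.Helper85.PushStalk.stalkPush_bijective i (Coh.structureModule Z) z)
  · intro a m
    show (Groth.Agent.Lib.Helper45.RefHullStalk.unitStalkEquiv z)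
      (Groth.Agent.Lib.Helper85.PushStalk.stalkPush i (Coh.structureModule Z) z (a • m)) = _
    rw [Groth.Agent.Lib.Helper85.PushStalk.stalkPush_smul, map_smul, smul_eq_mul]
    rfl

section Inter

variable {Y : Scheme.{u}} (j : Y ⟶ X) [IsClosedImmersion i] [IsClosedImmersion j]

/-- at a point of the scheme-theoretic intersection where its local ring is a field, the ideals of
the two closed subschemes span the maximal ideal -/
theorem stalkKer_sup_eq (w : ↑(pullback i j)) (x : X) (hxi : i (pullback.fst i j w) = x)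
    (hxj : j (pullback.snd i j w) = x)
    (hfield : IsField ((pullback i j).presheaf.stalk w)) :
    stalkKer i (pullback.fst i j w) x hxi ⊔ stalkKer j (pullback.snd i j w) x hxj =
      maximalIdeal (X.presheaf.stalk x) := by
  set P := stalkKer i (pullback.fst i j w) x hxi with hP
  set Q := stalkKer j (pullback.snd i j w) x hxj with hQ
  have hPm : P ≤ maximalIdeal (X.presheaf.stalk x) := stalkKer_le_maximalIdeal i _ x hxi
  have hQm : Q ≤ maximalIdeal (X.presheaf.stalk x) := stalkKer_le_maximalIdeal j _ x hxj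
  refine le_antisymm (sup_le hPm hQm) ?_
  have hne : P ⊔ Q ≠ ⊤ := fun h =>
    (maximalIdeal.isMaximal (X.presheaf.stalk x)).ne_top (top_le_iff.mp (h ▸ sup_le hPm hQm))
  let B : CommRingCat.{u} := CommRingCat.of (X.presheaf.stalk x ⧸ (P ⊔ Q))
  haveI : Nontrivial B := Ideal.Quotient.nontrivial_iff.mpr hne
  haveI : IsLocalRing B :=
    IsLocalRing.of_surjective' (Ideal.Quotient.mk (P ⊔ Q)) Ideal.Quotient.mk_surjective
  let π : X.presheaf.stalk x ⟶ B := CommRingCat.ofHom (Ideal.Quotient.mk (P ⊔ Q))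
  haveI hπloc : IsLocalHom π.hom :=
    IsLocalHom.of_surjective (Ideal.Quotient.mk (P ⊔ Q)) Ideal.Quotient.mk_surjective
  -- the two lifts
  have hkerP : RingHom.ker (stalkTo i (pullback.fst i j w) x hxi).hom ≤ RingHom.ker π.hom := by
    intro a ha
    rw [RingHom.mem_ker]
    exact Ideal.Quotient.eq_zero_iff_mem.mpr (le_sup_left (a := P) (b := Q) ha)
  have hkerQ : RingHom.ker (stalkTo j (pullback.snd i j w) x hxj).hom ≤ RingHom.ker π.hom := by
    intro a ha
    rw [RingHom.mem_ker]
    exact Ideal.Quotient.eq_zero_iff_mem.mpr (le_sup_right (a := P) (b := Q) ha)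
  let ψY : Z.presheaf.stalk (pullback.fst i j w) ⟶ B :=
    CommRingCat.ofHom (RingHom.liftOfSurjective (stalkTo i (pullback.fst i j w) x hxi).hom
      (stalkTo_surjective i _ x hxi) ⟨π.hom, hkerP⟩)
  let ψZ : Y.presheaf.stalk (pullback.snd i j w) ⟶ B :=
    CommRingCat.ofHom (RingHom.liftOfSurjective (stalkTo j (pullback.snd i j w) x hxj).hom
      (stalkTo_surjective j _ x hxj) ⟨π.hom, hkerQ⟩)
  have hψY : stalkTo i (pullback.fst i j w) x hxi ≫ ψY = π := by
    ext a
    exact RingHom.liftOfSurjective_comp_apply _ (stalkTo_surjective i _ x hxi) ⟨π.hom, hkerP⟩ a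
  have hψZ : stalkTo j (pullback.snd i j w) x hxj ≫ ψZ = π := by
    ext a
    exact RingHom.liftOfSurjective_comp_apply _ (stalkTo_surjective j _ x hxj) ⟨π.hom, hkerQ⟩ a
  let aY : Spec B ⟶ Z := Spec.map ψY ≫ Z.fromSpecStalk (pullback.fst i j w)
  let aZ : Spec B ⟶ Y := Spec.map ψZ ≫ Y.fromSpecStalk (pullback.snd i j w)
  have haY : aY ≫ i = Spec.map π ≫ X.fromSpecStalk x := by
    simp only [aY, Category.assoc]
    rw [← Scheme.SpecMap_stalkMap_fromSpecStalk,
      ← Scheme.SpecMap_stalkSpecializes_fromSpecStalk (specializes_of_eq hxi),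
      ← Spec.map_comp_assoc, ← Spec.map_comp_assoc, ← hψY]
    rfl
  have haZ : aZ ≫ j = Spec.map π ≫ X.fromSpecStalk x := by
    simp only [aZ, Category.assoc]
    rw [← Scheme.SpecMap_stalkMap_fromSpecStalk,
      ← Scheme.SpecMap_stalkSpecializes_fromSpecStalk (specializes_of_eq hxj),
      ← Spec.map_comp_assoc, ← Spec.map_comp_assoc, ← hψZ]
    rfl
  let b : Spec B ⟶ pullback i j := pullback.lift aY aZ (haY.trans haZ.symm)
  set h : pullback i j ⟶ X := pullback.fst i j ≫ i with hh
  have hb : b ≫ h = Spec.map π ≫ X.fromSpecStalk x := by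
    rw [hh, ← Category.assoc, pullback.lift_fst]
    exact haY
  have e : SpecToEquivOfLocalRing X B (b ≫ h) = ⟨x, π, hπloc⟩ := by
    rw [hb]
    exact (SpecToEquivOfLocalRing X B).right_inv ⟨x, π, hπloc⟩
  obtain ⟨h₁, h₂⟩ := SpecToEquivOfLocalRing_eq_iff.mp e
  -- the closed point goes to `w`
  have hcp : b (closedPoint B) = w := by
    have h3 : h (b (closedPoint B)) = x := h₁
    have h4 : h w = x := hxi
    exact h.isClosedEmbedding.injective (h3.trans h4.symm)
  have hfield' : IsField ((pullback i j).presheaf.stalk (b (closedPoint B))) := hcp ▸ hfield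
  intro a ha
  rw [← Ideal.Quotient.eq_zero_iff_mem]
  show π.hom a = 0
  obtain ⟨c, hc⟩ : ∃ c : X.presheaf.stalk ((b ≫ h) (closedPoint B)) ≅ X.presheaf.stalk x,
      Scheme.stalkClosedPointTo (b ≫ h) = c.hom ≫ π := ⟨_, h₂⟩
  have hca : c.hom.hom (c.inv.hom a) = a := by
    have := congrArg (fun g => g.hom a) c.inv_hom_id
    exact this
  have h5 : π.hom a = (Scheme.stalkClosedPointTo (b ≫ h)).hom (c.inv.hom a) := by
    rw [hc]
    show π.hom a = π.hom (c.hom.hom (c.inv.hom a))
    rw [hca]
  rw [h5, Scheme.stalkClosedPointTo_comp]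
  show (Scheme.stalkClosedPointTo b).hom
    ((h.stalkMap (b (closedPoint B))).hom (c.inv.hom a)) = 0
  have h6 : (h.stalkMap (b (closedPoint B))).hom (c.inv.hom a) = 0 := by
    have hnu : ¬ IsUnit (c.inv.hom a) := by
      intro hu
      have hu' := hu.map c.hom.hom
      rw [hca] at hu'
      exact ha hu'
    have hnu' : ¬ IsUnit ((h.stalkMap (b (closedPoint B))).hom (c.inv.hom a)) :=
      fun hu => hnu (isUnit_of_map_unit (h.stalkMap (b (closedPoint B))).hom _ hu)
    by_contra hne
    obtain ⟨v, hv⟩ := hfield'.mul_inv_cancel hne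
    exact hnu' (isUnit_iff_exists_inv.mpr ⟨v, hv⟩)
  rw [h6, map_zero]

end Inter

end Groth.Agent.Lib.Helper85.ClosedStalk
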