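import Mathlib
import Groth.Prelude.Def_C1
import Groth.Agent.Lib.Helper85.IntMult.DivOpen
import Groth.Agent.Lib.Helper85.IntMult.PushStalk
import Groth.Agent.Lib.Helper85.IntMult.ClosedStalk

/-!
# Principal divisors and closed subschemes (helper85)
-/

set_option autoImplicit false
set_option linter.unusedSectionVars false
universe u

namespace Groth.Agent.Lib.Helper85.ClosedDict

open AlgebraicGeometry CategoryTheory IsLocalRing
open Groth.Agent.Lib.Helper85.DivPullDict Groth.Agent.Lib.Helper85.DivPull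
open Groth.Agent.Lib.Helper85.DivPullAlg

section Alg

/-- lengths of cyclic modules along a surjection of rings -/
theorem length_quot_map_of_surjective {A B : Type u} [CommRing A] [CommRing B] (φ : A →+* B)
    (hφ : Function.Surjective φ) (J : Ideal A) (hJ : RingHom.ker φ ≤ J) :
    Module.length B (B ⧸ J.map φ) = Module.length A (A ⧸ J) := by
  have hcomap : (J.map φ).comap φ ≤ J := by
    rw [Ideal.comap_map_of_surjective φ hφ]
    exact sup_le le_rfl hJ
  have hH : J ≤ (J.map φ).comap φ := Ideal.le_comap_map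
  symm
  apply Groth.Agent.Lib.Helper85.PushStalk.length_eq_of_semilinear_bijective φ hφ
    (Ideal.quotientMap (J.map φ) φ hH).toAddMonoidHom
    ⟨Ideal.quotientMap_injective' (H := hH) hcomap, Ideal.quotientMap_surjective (H := hH) hφ⟩
  intro r m
  obtain ⟨a, rfl⟩ := Ideal.Quotient.mk_surjective m
  show Ideal.quotientMap (J.map φ) φ hH (r • Ideal.Quotient.mk J a) =
    φ r • Ideal.quotientMap (J.map φ) φ hH (Ideal.Quotient.mk J a)
  rw [Algebra.smul_def, map_mul, Algebra.smul_def]
  rfl

end Alg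

section Closed

variable {D X : Scheme.{u}} (i : D ⟶ X) [IsClosedImmersion i]

theorem specializes_iff (a b : D) : i a ⤳ i b ↔ a ⤳ b :=
  i.isClosedEmbedding.toIsInducing.specializes_iff

theorem injective : Function.Injective i := i.isClosedEmbedding.injective

/-- a dimension function restricts to closed subschemes -/
theorem isDimFun_comp (δ : X → ℤ) (hdim : Cyc.IsDimFun X δ) :
    Cyc.IsDimFun D (fun z => δ (i z)) := by
  intro x y hxy hne
  have hxy' : i x ⤳ i y := hxy.map i.continuous
  have hne' : i x ≠ i y := fun h => hne (injective i h)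
  obtain ⟨h1, h2⟩ := hdim (i x) (i y) hxy' hne'
  refine ⟨h1, fun himm => h2 ?_⟩
  intro z' hz1 hz2
  have hz'mem : z' ∈ Set.range i := by
    have hcl : closure {i x} ⊆ Set.range i :=
      closure_minimal (by rintro _ rfl; exact ⟨x, rfl⟩) i.isClosedEmbedding.isClosed_range
    exact hcl (specializes_iff_mem_closure.mp hz1)
  obtain ⟨z, rfl⟩ := hz'mem
  rcases himm z ((specializes_iff i x z).mp hz1) ((specializes_iff i z y).mp hz2) with h | h
  · exact Or.inl (congrArg i h)
  · exact Or.inr (congrArg i h)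

theorem stalkMap_surjective (d : D) : Function.Surjective (i.stalkMap d).hom :=
  i.stalkMap_surjective d

variable [IsLocallyNoetherian X] (δ : X → ℤ) (hdim : Cyc.IsDimFun X δ)

include hdim in
/-- the order of a rational function along a specialization can be computed on a closed
subscheme containing the points -/
theorem ordAt_closedImmersion {u ξ₀ : D} (h₀ : ξ₀ ⤳ u) (h1 : δ (i u) + 1 = δ (i ξ₀))
    (g : X.residueField (i ξ₀)) :
    Cyc.ordAt u ξ₀ h₀ ((i.residueFieldMap ξ₀).hom g) =
      Cyc.ordAt (i u) (i ξ₀) (h₀.map i.continuous) g := by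
  have : IsLocallyNoetherian D := LocallyOfFiniteType.isLocallyNoetherian i
  by_cases hg : g = 0
  · subst hg
    rw [map_zero, Groth.Agent.Lib.Helper85.DivOpen.ordAt_zero,
      Groth.Agent.Lib.Helper85.DivOpen.ordAt_zero]
  obtain ⟨a, b, hb, hz⟩ := exists_specMap_div (h₀.map i.continuous) g
  have hb0 : Cyc.specMap (i u) (i ξ₀) (h₀.map i.continuous) b ≠ 0 :=
    fun h0 => hb (RingHom.mem_ker.mpr h0)
  have ha0 : Cyc.specMap (i u) (i ξ₀) (h₀.map i.continuous) a ≠ 0 := by
    intro h0
    apply hg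
    rw [hz, h0, zero_div]
  have ha : a ∉ RingHom.ker (Cyc.specMap (i u) (i ξ₀) (h₀.map i.continuous)) :=
    fun hm => ha0 (RingHom.mem_ker.mp hm)
  have hinj : Function.Injective (i.residueFieldMap ξ₀).hom :=
    (i.residueFieldMap ξ₀).hom.injective
  have e1 : (i.residueFieldMap ξ₀).hom g =
      Cyc.specMap u ξ₀ h₀ ((i.stalkMap u).hom a) / Cyc.specMap u ξ₀ h₀ ((i.stalkMap u).hom b) := by
    rw [hz, map_div₀, residueFieldMap_specMap i h₀ a, residueFieldMap_specMap i h₀ b]
  have ha' : (i.stalkMap u).hom a ∉ RingHom.ker (Cyc.specMap u ξ₀ h₀) := by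
    intro hm
    apply ha0
    apply hinj
    rw [residueFieldMap_specMap i h₀ a, map_zero]
    exact RingHom.mem_ker.mp hm
  have hb' : (i.stalkMap u).hom b ∉ RingHom.ker (Cyc.specMap u ξ₀ h₀) := by
    intro hm
    apply hb0
    apply hinj
    rw [residueFieldMap_specMap i h₀ b, map_zero]
    exact RingHom.mem_ker.mp hm
  rw [e1, ordAt_div (fun z => δ (i z)) (isDimFun_comp i δ hdim) h₀ h1 _ _ ha' hb']
  conv_rhs => rw [hz]
  rw [ordAt_div δ hdim (h₀.map i.continuous) h1 a b ha hb]
  -- compare the lengths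
  have hsurj : Function.Surjective (i.stalkMap u).hom := stalkMap_surjective i u
  have hker : (RingHom.ker (Cyc.specMap (i u) (i ξ₀) (h₀.map i.continuous))).map
      (i.stalkMap u).hom = RingHom.ker (Cyc.specMap u ξ₀ h₀) := by
    rw [← comap_ker_specMap i h₀]
    exact Ideal.map_comap_of_surjective _ hsurj _
  have hkerle : RingHom.ker (i.stalkMap u).hom ≤
      RingHom.ker (Cyc.specMap (i u) (i ξ₀) (h₀.map i.continuous)) := by
    rw [← comap_ker_specMap i h₀]
    intro c hc
    rw [Ideal.mem_comap, RingHom.mem_ker.mp hc]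
    exact Ideal.zero_mem _
  have hlen : ∀ c : X.presheaf.stalk (i u),
      Module.length (D.presheaf.stalk u) (D.presheaf.stalk u ⧸
        (RingHom.ker (Cyc.specMap u ξ₀ h₀) ⊔ Ideal.span {(i.stalkMap u).hom c})) =
      Module.length (X.presheaf.stalk (i u)) (X.presheaf.stalk (i u) ⧸
        (RingHom.ker (Cyc.specMap (i u) (i ξ₀) (h₀.map i.continuous)) ⊔ Ideal.span {c})) := by
    intro c
    rw [← length_quot_map_of_surjective (i.stalkMap u).hom hsurj _
      (hkerle.trans le_sup_left), Ideal.map_sup, hker, Ideal.map_span, Set.image_singleton]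
  rw [hlen a, hlen b]

include hdim in
/-- the principal divisor of a rational function on a closed subscheme -/
theorem divFun_closedImmersion (ξ₀ u : D) (g : X.residueField (i ξ₀)) :
    Cyc.divFun (fun z => δ (i z)) ξ₀ ((i.residueFieldMap ξ₀).hom g) u =
      Cyc.divFun δ (i ξ₀) g (i u) := by
  unfold Cyc.divFun
  by_cases h : ξ₀ ⤳ u ∧ δ (i u) + 1 = δ (i ξ₀)
  · rw [dif_pos h, dif_pos ⟨h.1.map i.continuous, h.2⟩]
    exact ordAt_closedImmersion i δ hdim h.1 h.2 g
  · rw [dif_neg h, dif_neg]
    rintro ⟨h1, h2⟩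
    exact h ⟨(specializes_iff i ξ₀ u).mp h1, h2⟩

omit [IsClosedImmersion i] [IsLocallyNoetherian X] in
theorem exists_transport (p q : X) (h : p = q) (f : X.residueField q) (hf : f ≠ 0) :
    ∃ g : X.residueField p, g ≠ 0 ∧ ∀ x, Cyc.divFun δ p g x = Cyc.divFun δ q f x := by
  subst h
  exact ⟨f, hf, fun _ => rfl⟩

include hdim in
/-- a family of principal divisors on `X`, all on closures of points of the closed subscheme `D`,
gives a rational equivalence on `D` -/
theorem ratEquivZero_closed (k : ℤ) (γ : AlgebraicCycle D ℤ) {J : Type u} (pt : J → X)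
    (f : (j : J) → X.residueField (pt j))
    (hδ : ∀ j, δ (pt j) = k + 1) (hf : ∀ j, f j ≠ 0)
    (hlf : ∀ x : X, ∃ U : Set X, IsOpen U ∧ x ∈ U ∧ {j | (closure {pt j} ∩ U).Nonempty}.Finite)
    (hrange : ∀ j, pt j ∈ Set.range i)
    (hγ : ∀ d : D, γ d = ∑ᶠ j, Cyc.divFun δ (pt j) (f j) (i d)) :
    Cyc.RatEquivZero (fun d => δ (i d)) k γ := by
  choose dj hdj using hrange
  choose g hg0 hg using fun j => exists_transport δ (i (dj j)) (pt j) (hdj j) (f j) (hf j)
  refine ⟨J, dj, fun j => (i.residueFieldMap (dj j)).hom (g j), ?_, ?_, ?_, ?_⟩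
  · intro j
    show δ (i (dj j)) = k + 1
    rw [hdj j]
    exact hδ j
  · intro j
    exact (map_ne_zero (i.residueFieldMap (dj j)).hom).mpr (hg0 j)
  · intro d
    obtain ⟨U, hUo, hxU, hfin⟩ := hlf (i d)
    refine ⟨i ⁻¹' U, hUo.preimage i.continuous, hxU, hfin.subset ?_⟩
    rintro j ⟨y, hy, hyU⟩
    have hsp : dj j ⤳ y := specializes_iff_mem_closure.mpr hy
    have hsp' : pt j ⤳ i y := by
      rw [← hdj j]
      exact hsp.map i.continuous
    exact ⟨i y, specializes_iff_mem_closure.mp hsp', hyU⟩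
  · intro d
    rw [hγ]
    apply finsum_congr
    intro j
    rw [divFun_closedImmersion i δ hdim, hg]

end Closed

end Groth.Agent.Lib.Helper85.ClosedDict
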