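import Mathlib
import Groth.Prelude.Def_C1
import Groth.Agent.Lib.Helper85.IntMult.C1Sum
import Groth.Agent.Lib.Helper85.IntMult.ClosedDict

/-!
# Gysin maps for zero schemes of sections of invertible modules (helper85)
-/

set_option autoImplicit false
set_option linter.unusedSectionVars false
universe u
open CategoryTheory AlgebraicGeometry

namespace Groth.Agent.Lib.Helper85.Gysin

open Groth.Agent.Lib.Helper45 Groth.Agent.Lib.Helper49 Groth.Agent.Lib.Helper45.InvOrd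
open Groth.Agent.Lib.Helper11.GenLocus Groth.Agent.Lib.Helper85.SecOrd
open Groth.Agent.Lib.Helper85.C1Tensor Groth.Agent.Lib.Helper85.TameScheme
open Groth.Agent.Lib.Helper85.C1Comm Groth.Agent.Lib.Helper85.C1Sum

variable {X : Scheme.{u}}

section Basis

variable {L : X.Modules}

/-- a local basis is nonzero in every fibre -/
theorem mk_germ_basis_ne_zero {V : X.Opens} {τ : Γ(L, V)} (hτ : IsBasisOn L V τ) (x : X)
    (hx : x ∈ V) :
    (Submodule.Quotient.mk (L.presheaf.germ V x hx τ) : Cyc.secFibre L x) ≠ 0 := by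
  intro h0
  rw [Submodule.Quotient.mk_eq_zero, ← one_smul (X.presheaf.stalk x) (L.presheaf.germ V x hx τ),
    smul_gen_mem_iff L x _ (germ_basis_span hτ x hx) (germ_basis_ann hτ x hx)] at h0
  exact (Ideal.ne_top_iff_one _).mp (IsLocalRing.maximalIdeal.isMaximal _).ne_top h0

/-- where a global section of an invertible module does not vanish, it is a local basis -/
theorem exists_isBasisOn_section (hL : PicF.IsInvertible L) (s : Γ(L, ⊤)) (x : X)
    (hx : (Submodule.Quotient.mk (L.presheaf.germ ⊤ x trivial s) : Cyc.secFibre L x) ≠ 0) :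
    ∃ V' : X.Opens, x ∈ V' ∧ IsBasisOn L V' (mres L le_top s) := by
  obtain ⟨V₀, hxV₀, τ, hτ⟩ := exists_isBasisOn_of_isInvertible hL x
  obtain ⟨c, hc⟩ := hτ.exists_eq_smul (mres L le_top s)
  have hgerm : L.presheaf.germ ⊤ x trivial s =
      X.presheaf.germ V₀ x hxV₀ c • L.presheaf.germ V₀ x hxV₀ τ := by
    rw [← germ_mres le_top x hxV₀ s, ← hc, Mero.germ_smul]
  have hcu : IsUnit (X.presheaf.germ V₀ x hxV₀ c) := by
    by_contra hnu
    apply hx
    rw [hgerm, Submodule.Quotient.mk_eq_zero,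
      smul_gen_mem_iff L x _ (germ_basis_span hτ x hxV₀) (germ_basis_ann hτ x hxV₀)]
    exact hnu
  have hxb : x ∈ X.basicOpen c := (Scheme.mem_basicOpen X c x hxV₀).mpr hcu
  have hle : X.basicOpen c ≤ V₀ := X.basicOpen_le c
  refine ⟨X.basicOpen c, hxb, ?_⟩
  have hu : IsUnit (fres hle c) := isUnit_res_of_le_basicOpen c (le_refl (X.basicOpen c))
  have e : mres L (le_top : X.basicOpen c ≤ ⊤) s = fres hle c • mres L hle τ := by
    rw [← mres_smul, hc, mres_mres]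
  rw [e]
  exact (hτ.mono hle).smul_unit _ hu

end Basis

section HOne

variable [IsLocallyNoetherian X] (δ : X → ℤ) (hdim : Cyc.IsDimFun X δ)
variable {L₁ L₂ : X.Modules}

include hdim in
theorem tameAt_one_right {ξ ξ' : X} (h₁ : ξ ⤳ ξ') (hδ : δ ξ' + 1 = δ ξ) {f : X.residueField ξ}
    (hf : f ≠ 0) : tameAt h₁ f 1 = 1 := by
  have h := tameAt_unit_right δ hdim h₁ hδ hf 1 isUnit_one
  rw [map_one, map_one, one_zpow] at h
  exact h

include hdim in
/-- off the zero locus of the global section `s` defining the Gysin map, the rational functions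
produced by the commutativity theorem are trivial -/
theorem H_eq_one_of_section (hL₁ : PicF.IsInvertible L₁) (hL₂ : PicF.IsInvertible L₂)
    (s : Γ(L₂, ⊤)) (ξ : X) (s₁ : Cyc.secFibre L₁ ξ) (hs₁ : s₁ ≠ 0) (s₂ : Cyc.secFibre L₂ ξ)
    (u : (p : X) → Cyc.secFibre L₂ p) (v : (p : X) → Cyc.secFibre L₁ p)
    (H : (ξ' : X) → X.residueField ξ')
    (hP : ∀ (ξ' : X) (hc : ξ ⤳ ξ' ∧ δ ξ' + 1 = δ ξ) (V' : X.Opens) (hξ' : ξ' ∈ V')
        (τL' : Γ(L₁, V')) (τN' : Γ(L₂, V')), IsBasisOn L₁ V' τL' → IsBasisOn L₂ V' τN' →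
        ∀ (aF' aG' : X.presheaf.stalk ξ) (ub' va' : X.presheaf.stalk ξ'),
        s₁ = Submodule.Quotient.mk
          (aF' • L₁.presheaf.germ V' ξ (hc.1.mem_open V'.isOpen hξ') τL') →
        s₂ = Submodule.Quotient.mk
          (aG' • L₂.presheaf.germ V' ξ (hc.1.mem_open V'.isOpen hξ') τN') →
        u ξ' = Submodule.Quotient.mk (ub' • L₂.presheaf.germ V' ξ' hξ' τN') →
        v ξ' = Submodule.Quotient.mk (va' • L₁.presheaf.germ V' ξ' hξ' τL') →
        H ξ' = X.residue ξ' ub' ^ (Cyc.ordAt ξ' ξ hc.1 (X.residue ξ aF')) *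
          X.residue ξ' va' ^ (-Cyc.ordAt ξ' ξ hc.1 (X.residue ξ aG')) *
          tameAt hc.1 (X.residue ξ aF') (X.residue ξ aG'))
    (ξ' : X) (hc : ξ ⤳ ξ' ∧ δ ξ' + 1 = δ ξ)
    (hne : (Submodule.Quotient.mk (L₂.presheaf.germ ⊤ ξ' trivial s) : Cyc.secFibre L₂ ξ') ≠ 0)
    (hs₂ : s₂ = Submodule.Quotient.mk (L₂.presheaf.germ ⊤ ξ trivial s))
    (hu : u ξ' = Submodule.Quotient.mk (L₂.presheaf.germ ⊤ ξ' trivial s)) :
    H ξ' = 1 := by
  obtain ⟨V₂, hξ'V₂, hbas₂⟩ := exists_isBasisOn_section hL₂ s ξ' hne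
  obtain ⟨V₁, hξ'V₁, τ₁, hτ₁⟩ := exists_isBasisOn_of_isInvertible hL₁ ξ'
  have hξ'V : ξ' ∈ V₂ ⊓ V₁ := ⟨hξ'V₂, hξ'V₁⟩
  have hξV : ξ ∈ V₂ ⊓ V₁ := hc.1.mem_open (V₂ ⊓ V₁).isOpen hξ'V
  have hb₁ : IsBasisOn L₁ (V₂ ⊓ V₁) (mres L₁ inf_le_right τ₁) := hτ₁.mono _
  have hb₂ : IsBasisOn L₂ (V₂ ⊓ V₁) (mres L₂ le_top s) := by
    have := hbas₂.mono (inf_le_left : V₂ ⊓ V₁ ≤ V₂)
    rwa [mres_mres] at this
  obtain ⟨aF', haF'⟩ := exists_coord hb₁ ξ hξV s₁
  obtain ⟨va', hva'⟩ := exists_coord hb₁ ξ' hξ'V (v ξ')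
  have e2 : s₂ = Submodule.Quotient.mk
      ((1 : X.presheaf.stalk ξ) • L₂.presheaf.germ (V₂ ⊓ V₁) ξ hξV (mres L₂ le_top s)) := by
    rw [hs₂, one_smul, germ_mres]
  have e3 : u ξ' = Submodule.Quotient.mk
      ((1 : X.presheaf.stalk ξ') • L₂.presheaf.germ (V₂ ⊓ V₁) ξ' hξ'V (mres L₂ le_top s)) := by
    rw [hu, one_smul, germ_mres]
  have haF0 : X.residue ξ aF' ≠ 0 :=
    residue_coord_ne_zero hb₁ ξ hξV aF' (by rw [← haF']; exact hs₁)
  rw [hP ξ' hc (V₂ ⊓ V₁) hξ'V _ _ hb₁ hb₂ aF' 1 1 va' haF' e2 e3 hva', map_one, map_one,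
    one_zpow, ordAt_one, neg_zero, zpow_zero, one_mul, one_mul,
    tameAt_one_right δ hdim hc.1 hc.2 haF0]

end HOne

section GysinRat

variable [IsLocallyNoetherian X] (δ : X → ℤ) (hdim : Cyc.IsDimFun X δ)
variable {L : X.Modules}

omit [IsLocallyNoetherian X] in
theorem section_ne_zero_of_specializes (hL : PicF.IsInvertible L) (s : Γ(L, ⊤)) {ξ ξ' : X}
    (h : ξ ⤳ ξ')
    (hne : (Submodule.Quotient.mk (L.presheaf.germ ⊤ ξ' trivial s) : Cyc.secFibre L ξ') ≠ 0) :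
    (Submodule.Quotient.mk (L.presheaf.germ ⊤ ξ trivial s) : Cyc.secFibre L ξ) ≠ 0 := by
  obtain ⟨V', hξ'V', hbas⟩ := exists_isBasisOn_section hL s ξ' hne
  have hξV' : ξ ∈ V' := h.mem_open V'.isOpen hξ'V'
  have := mk_germ_basis_ne_zero hbas ξ hξV'
  rwa [germ_mres] at this

omit [IsLocallyNoetherian X] in
theorem gysinChoice_eq_of_ne (s : Γ(L, ⊤)) (t : (ξ : X) → Cyc.secFibre L ξ) (ξ : X)
    (hne : (Submodule.Quotient.mk (L.presheaf.germ ⊤ ξ trivial s) : Cyc.secFibre L ξ) ≠ 0) :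
    Cyc.gysinChoice L s t ξ = Submodule.Quotient.mk (L.presheaf.germ ⊤ ξ trivial s) := by
  unfold Cyc.gysinChoice
  rw [if_pos hne]

include hdim in
/-- **The Gysin map of a zero scheme preserves rational equivalence to zero.** -/
theorem gysin_ratEquivZero {D : Scheme.{u}} (hL : PicF.IsInvertible L) (s : Γ(L, ⊤))
    (i : D ⟶ X) [IsClosedImmersion i]
    (hrange : Set.range ⇑i = {x : X |
      (Submodule.Quotient.mk (L.presheaf.germ ⊤ x trivial s) : Cyc.secFibre L x) = 0})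
    (k : ℤ) (α : AlgebraicCycle X ℤ) (h0 : Cyc.RatEquivZero δ (k + 1) α)
    (t : (ξ : X) → Cyc.secFibre L ξ) (ht : ∀ ξ, t ξ ≠ 0) (γ : AlgebraicCycle D ℤ)
    (hγ : ∀ d : D, γ d = Cyc.c1CapFun δ L ⇑α (Cyc.gysinChoice L s t) (i d)) :
    Cyc.RatEquivZero (fun d => δ (i d)) k γ := by
  classical
  obtain ⟨ι, ξ, f, hδ, hf0, hlf, hα⟩ := h0
  have hw : ∀ j, ∃ w : X.presheaf.stalk (ξ j), X.residue (ξ j) w = f j :=
    fun j => Scheme.residue_surjective X (ξ j) (f j)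
  choose w hw using hw
  have hO := Groth.Agent.Lib.Helper11.GenLocus.isInvertible_structureModule X
  have hg0 := gysinChoice_ne_zero s t ht
  have hf0' : ∀ j, funSec (ξ j) (w j) ≠ 0 := fun j =>
    funSec_ne_zero _ _ (by rw [hw j]; exact hf0 j)
  have h10 : ∀ p : X, funSec p (1 : X.presheaf.stalk p) ≠ 0 := fun p =>
    funSec_ne_zero p 1 (by rw [map_one]; exact one_ne_zero)
  have hH := fun j : ι => comm_full δ hdim hO hL (ξ j) (funSec (ξ j) (w j)) (hf0' j)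
    (Cyc.gysinChoice L s t (ξ j)) (hg0 _) (Cyc.gysinChoice L s t) hg0
    (fun p => funSec p 1) h10
  choose H hH0 hHP hHfin hHid using hH
  obtain ⟨d1, d2, d3, d4⟩ := family_data δ k ξ H hH0 (fun j => by rw [hδ j]; ring) hlf hHfin
    (fun x => Cyc.c1CapFun δ L ⇑α (Cyc.gysinChoice L s t) x)
    (fun x => c1Cap_eq_family δ ξ f hlf ⇑α hα _ w hw (fun j => Cyc.gysinChoice L s t (ξ j)) H
      (fun j x => ⟨(hHid j x).1, (hHid j x).2.2⟩) x)
  apply Groth.Agent.Lib.Helper85.ClosedDict.ratEquivZero_closed i δ hdim k γ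
    (J := {p : ι × X // (ξ p.1 ⤳ p.2 ∧ δ p.2 + 1 = δ (ξ p.1)) ∧ H p.1 p.2 ≠ 1})
    (fun p => p.1.2) (fun p => H p.1.1 p.1.2) d1 d2 d3
  · intro p
    by_contra hnr
    apply p.2.2
    have hne : (Submodule.Quotient.mk (L.presheaf.germ ⊤ p.1.2 trivial s) :
        Cyc.secFibre L p.1.2) ≠ 0 := by
      intro h0
      apply hnr
      rw [hrange]
      exact h0
    exact H_eq_one_of_section δ hdim hO hL s (ξ p.1.1) (funSec (ξ p.1.1) (w p.1.1))
      (hf0' p.1.1) (Cyc.gysinChoice L s t (ξ p.1.1)) (Cyc.gysinChoice L s t)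
      (fun p => funSec p 1) (H p.1.1) (hHP p.1.1) p.1.2 p.2.1 hne
      (gysinChoice_eq_of_ne s t _ (section_ne_zero_of_specializes hL s p.2.1.1 hne))
      (gysinChoice_eq_of_ne s t _ hne)
  · intro d
    rw [hγ]
    exact d4 (i d)

end GysinRat

end Groth.Agent.Lib.Helper85.Gysin
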