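import Mathlib
import Groth.Prelude.Def_C1
import Groth.Agent.Lib.Helper11.PullbackBasis
import Groth.Agent.Lib.Helper85.IntMult.Gysin
import Groth.Agent.Lib.Helper85.IntMult.FiniteRank

/-!
# Rational sections of the pullback of an invertible module to a closed subscheme (helper85)
-/

set_option autoImplicit false
set_option linter.unusedSectionVars false
universe u
open CategoryTheory AlgebraicGeometry

namespace Groth.Agent.Lib.Helper85.PullDict

open Groth.Agent.Lib.Helper45 Groth.Agent.Lib.Helper49 Groth.Agent.Lib.Helper45.InvOrd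
open Groth.Agent.Lib.Helper11.GenLocus Groth.Agent.Lib.Helper85.SecOrd
open Groth.Agent.Lib.Helper85.C1Tensor Groth.Agent.Lib.Helper85.C1Comm
open Groth.Agent.Lib.Helper85.C1Sum Groth.Agent.Lib.Helper85.Gysin
open Groth.Agent.Lib.Helper11.PullbackBasis

theorem finsum_comp_injective {α β M : Type*} [AddCommMonoid M] (e : α → β)
    (he : Function.Injective e) (G : β → M) (hG : ∀ b, G b ≠ 0 → b ∈ Set.range e) :
    ∑ᶠ b, G b = ∑ᶠ a, G (e a) := by
  rw [← finsum_mem_range he, finsum_mem_def]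
  congr 1
  exact (Set.indicator_eq_self.mpr (fun b hb => hG b hb)).symm

variable {D X : Scheme.{u}} (i : D ⟶ X) (N : X.Modules)

/-- transition functions of pulled back bases -/
theorem pullS_transition {V V' : X.Opens} {τ : Γ(N, V)} {τ' : Γ(N, V')}
    (hτ : IsBasisOn N V τ) (d₀ : D) (hp : i d₀ ∈ V) (hp' : i d₀ ∈ V')
    (c : X.presheaf.stalk (i d₀))
    (hc : N.presheaf.germ V' (i d₀) hp' τ' = c • N.presheaf.germ V (i d₀) hp τ) :
    ((Scheme.Modules.pullback i).obj N).presheaf.germ (i ⁻¹ᵁ V') d₀ hp' (pullS i N V' τ') =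
      (i.stalkMap d₀ c) •
        ((Scheme.Modules.pullback i).obj N).presheaf.germ (i ⁻¹ᵁ V) d₀ hp (pullS i N V τ) := by
  have hWV : V ⊓ V' ≤ V := inf_le_left
  have hWV' : V ⊓ V' ≤ V' := inf_le_right
  obtain ⟨g, hg⟩ := (hτ.mono hWV).exists_eq_smul (mres N hWV' τ')
  have hpW : i d₀ ∈ V ⊓ V' := ⟨hp, hp'⟩
  have e1 : N.presheaf.germ V' (i d₀) hp' τ' =
      X.presheaf.germ (V ⊓ V') (i d₀) hpW g • N.presheaf.germ V (i d₀) hp τ := by
    rw [← germ_mres hWV' (i d₀) hpW τ', ← hg, Mero.germ_smul, germ_mres]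
  have hcg : c = X.presheaf.germ (V ⊓ V') (i d₀) hpW g := by
    have h0 : (c - X.presheaf.germ (V ⊓ V') (i d₀) hpW g) • N.presheaf.germ V (i d₀) hp τ = 0 := by
      rw [sub_smul, ← hc, ← e1, sub_self]
    exact sub_eq_zero.mp (germ_basis_ann hτ _ hp _ h0)
  have hpW' : d₀ ∈ i ⁻¹ᵁ (V ⊓ V') := hpW
  have e2 : ((Scheme.Modules.pullback i).obj N).presheaf.germ (i ⁻¹ᵁ V') d₀ hp' (pullS i N V' τ') =
      ((Scheme.Modules.pullback i).obj N).presheaf.germ (i ⁻¹ᵁ (V ⊓ V')) d₀ hpW'
        (pullS i N (V ⊓ V') (mres N hWV' τ')) := by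
    rw [← pullS_res N hWV' τ', germ_mres]
  have e3 : ((Scheme.Modules.pullback i).obj N).presheaf.germ (i ⁻¹ᵁ V) d₀ hp (pullS i N V τ) =
      ((Scheme.Modules.pullback i).obj N).presheaf.germ (i ⁻¹ᵁ (V ⊓ V')) d₀ hpW'
        (pullS i N (V ⊓ V') (mres N hWV τ)) := by
    rw [← pullS_res N hWV τ, germ_mres]
  rw [e2, e3, ← hg, pullS_smul, Mero.germ_smul, hcg, Scheme.Hom.germ_stalkMap_apply]

omit i in
/-- a coordinate with nonzero residue gives a nonzero rational section -/
theorem mk_ne_zero_of_residue {M : X.Modules} {V : X.Opens} {τ : Γ(M, V)} (hτ : IsBasisOn M V τ)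
    (ξ : X) (hξ : ξ ∈ V) (a : X.presheaf.stalk ξ) (ha : X.residue ξ a ≠ 0) :
    (Submodule.Quotient.mk (a • M.presheaf.germ V ξ hξ τ) : Cyc.secFibre M ξ) ≠ 0 := by
  intro h0
  apply ha
  rw [Submodule.Quotient.mk_eq_zero,
    smul_gen_mem_iff M ξ _ (germ_basis_span hτ ξ hξ) (germ_basis_ann hτ ξ hξ)] at h0
  exact (IsLocalRing.residue_eq_zero_iff _).mpr h0

theorem residue_stalkMap (d : D) (b : X.presheaf.stalk (i d)) :
    D.residue d (i.stalkMap d b) = (i.residueFieldMap d).hom (X.residue (i d) b) := by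
  have h := Scheme.residue_residueFieldMap i d
  exact (DFunLike.congr_fun (CommRingCat.hom_ext_iff.mp h) b).symm

section Closed

variable [IsClosedImmersion i] [IsLocallyNoetherian X] (δ : X → ℤ) (hdim : Cyc.IsDimFun X δ)

include hdim in
/-- orders of rational sections of the pullback module, computed on `X` -/
theorem secOrdAt_pullback_basis {V : X.Opens} {τ : Γ(N, V)} (hτ : IsBasisOn N V τ) {d' d : D}
    (h : d' ⤳ d) (hδ : δ (i d) + 1 = δ (i d')) (hd : i d ∈ V)
    (b : X.presheaf.stalk (i d')) :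
    Cyc.secOrdAt ((Scheme.Modules.pullback i).obj N) d' d h (Submodule.Quotient.mk
      ((i.stalkMap d' b) • ((Scheme.Modules.pullback i).obj N).presheaf.germ (i ⁻¹ᵁ V) d'
        ((h.map i.continuous).mem_open V.isOpen hd) (pullS i N V τ))) =
    Cyc.secOrdAt N (i d') (i d) (h.map i.continuous) (Submodule.Quotient.mk
      (b • N.presheaf.germ V (i d') ((h.map i.continuous).mem_open V.isOpen hd) τ)) := by
  have hd' : d ∈ i ⁻¹ᵁ V := hd
  have e1 := secOrdAt_basis (isBasisOn_pullS i V N τ hτ) d hd' d' h (i.stalkMap d' b)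
  have e2 := secOrdAt_basis hτ (i d) hd (i d') (h.map i.continuous) b
  rw [e1, e2, residue_stalkMap]
  exact Groth.Agent.Lib.Helper85.ClosedDict.ordAt_closedImmersion i δ hdim h hδ _

include hdim in
/-- every nonzero rational section of the pullback module at a point of `D` corresponds to a
nonzero rational section of the module on `X` with the same orders -/
theorem exists_section_pullback (hN : PicF.IsInvertible N)
    (t : (d : D) → Cyc.secFibre ((Scheme.Modules.pullback i).obj N) d) (ht : ∀ d, t d ≠ 0)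
    (ξ' : X) :
    ∃ n : Cyc.secFibre N ξ', n ≠ 0 ∧ ∀ (d' d : D) (hd : i d' = ξ') (h : d' ⤳ d),
      δ (i d) + 1 = δ (i d') →
      Cyc.secOrdAt ((Scheme.Modules.pullback i).obj N) d' d h (t d') =
        Cyc.secOrdAt N ξ' (i d) (by rw [← hd]; exact h.map i.continuous) n := by
  by_cases hξ' : ξ' ∈ Set.range i
  swap
  · obtain ⟨V, hV, τ, hτ⟩ := exists_isBasisOn_of_isInvertible hN ξ'
    exact ⟨_, mk_germ_basis_ne_zero hτ ξ' hV, fun d' d hd => absurd ⟨d', hd⟩ hξ'⟩
  obtain ⟨d₀, rfl⟩ := hξ'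
  obtain ⟨V', hV', τ', hτ'⟩ := exists_isBasisOn_of_isInvertible hN (i d₀)
  have hV'D : d₀ ∈ i ⁻¹ᵁ V' := hV'
  obtain ⟨b, hb⟩ := exists_coord (isBasisOn_pullS i V' N τ' hτ') d₀ hV'D (t d₀)
  obtain ⟨b', hb'⟩ := Groth.Agent.Lib.Helper85.ClosedDict.stalkMap_surjective i d₀ b
  have hb'' : b = i.stalkMap d₀ b' := hb'.symm
  subst hb''
  have hb0 : X.residue (i d₀) b' ≠ 0 := by
    have h1 := residue_coord_ne_zero (isBasisOn_pullS i V' N τ' hτ') d₀ hV'D _
      (by rw [← hb]; exact ht d₀)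
    rw [residue_stalkMap] at h1
    exact fun h0 => h1 (by rw [h0, map_zero])
  refine ⟨Submodule.Quotient.mk (b' • N.presheaf.germ V' (i d₀) hV' τ'),
    mk_ne_zero_of_residue hτ' _ hV' b' hb0, ?_⟩
  intro d' d hd h hδ
  obtain rfl : d' = d₀ := Groth.Agent.Lib.Helper85.ClosedDict.injective i hd
  obtain ⟨V, hV, τ, hτ⟩ := exists_isBasisOn_of_isInvertible hN (i d)
  have hpV : i d' ∈ V := (h.map i.continuous).mem_open V.isOpen hV
  obtain ⟨c, hcu, hc⟩ := exists_transition hτ hτ' (i d') hpV hV'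
  have e1 := pullS_transition i N hτ d' hpV hV' c hc
  rw [hb, e1, hc, smul_smul, smul_smul, ← map_mul]
  exact secOrdAt_pullback_basis i N δ hdim hτ h hδ hV (b' * c)

omit [IsLocallyNoetherian X] in
open scoped Classical in
/-- extension by zero of a function on the closed subscheme -/
noncomputable def pushFun (γ : D → ℤ) : X → ℤ :=
  fun ξ' => if h : ∃ d', i d' = ξ' then γ h.choose else 0

omit [IsLocallyNoetherian X] in
theorem pushFun_apply (γ : D → ℤ) (d : D) : pushFun i γ (i d) = γ d := by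
  unfold pushFun
  have h : ∃ d', i d' = i d := ⟨d, rfl⟩
  rw [dif_pos h]
  exact congrArg γ (Groth.Agent.Lib.Helper85.ClosedDict.injective i h.choose_spec)

omit [IsLocallyNoetherian X] [IsClosedImmersion i] in
theorem pushFun_of_notMem (γ : D → ℤ) (ξ' : X) (h : ξ' ∉ Set.range i) : pushFun i γ ξ' = 0 := by
  unfold pushFun
  rw [dif_neg]
  rintro ⟨d', hd'⟩
  exact h ⟨d', hd'⟩

omit [IsLocallyNoetherian X] in
/-- the push-forward of a cycle along a closed immersion is its extension by zero -/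
theorem map_eq_pushFun (α : AlgebraicCycle D ℤ) :
    ⇑(AlgebraicCycle.map i (fun d => δ (i d)) δ α) = pushFun i ⇑α := by
  funext ξ'
  have e : (AlgebraicCycle.map i (fun d => δ (i d)) δ α) ξ' =
      ∑ᶠ x ∈ i ⁻¹' {ξ'}, α x *
        ((AlgebraicCycle.mapCoeff i (fun d => δ (i d)) δ x : ℕ) : ℤ) := rfl
  rw [e]
  by_cases hξ' : ξ' ∈ Set.range i
  · obtain ⟨d, rfl⟩ := hξ'
    have hpre : i ⁻¹' {i d} = {d} := by
      ext y
      simp only [Set.mem_preimage, Set.mem_singleton_iff]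
      exact ⟨fun h => Groth.Agent.Lib.Helper85.ClosedDict.injective i h, fun h => by rw [h]⟩
    rw [hpre, finsum_mem_singleton, pushFun_apply]
    have hc : AlgebraicCycle.mapCoeff i (fun d => δ (i d)) δ d = 1 := by
      unfold AlgebraicCycle.mapCoeff
      rw [if_pos rfl]
      exact Groth.Agent.Lib.Helper85.FiniteRank.residueDegree_eq_one_of_stalkMap_surjective i d
        (Groth.Agent.Lib.Helper85.ClosedDict.stalkMap_surjective i d)
    rw [hc]
    simp
  · rw [pushFun_of_notMem i _ ξ' hξ']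
    have hpre : i ⁻¹' {ξ'} = ∅ := by
      ext y
      simp only [Set.mem_preimage, Set.mem_singleton_iff, Set.mem_empty_iff_false, iff_false]
      exact fun h => hξ' ⟨y, h⟩
    rw [hpre, finsum_mem_empty]

include hdim in
/-- `c_1` of the pullback module on `D`, computed on `X` -/
theorem c1Cap_pullback (hN : PicF.IsInvertible N)
    (t : (d : D) → Cyc.secFibre ((Scheme.Modules.pullback i).obj N) d) (ht : ∀ d, t d ≠ 0) :
    ∃ n : (ξ' : X) → Cyc.secFibre N ξ', (∀ ξ', n ξ' ≠ 0) ∧ ∀ (γ : D → ℤ) (d : D),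
      Cyc.c1CapFun (fun d => δ (i d)) ((Scheme.Modules.pullback i).obj N) γ t d =
        Cyc.c1CapFun δ N (pushFun i γ) n (i d) := by
  choose n hn0 hn using exists_section_pullback i N δ hdim hN t ht
  refine ⟨n, hn0, fun γ d => ?_⟩
  unfold Cyc.c1CapFun
  rw [finsum_comp_injective i (Groth.Agent.Lib.Helper85.ClosedDict.injective i)
    (fun ξ' => pushFun i γ ξ' * Cyc.secDivFun δ N ξ' (n ξ') (i d)) (by
      intro b hb
      by_contra hnr
      apply hb
      simp only
      rw [pushFun_of_notMem i γ b hnr, zero_mul])]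
  apply finsum_congr
  intro d'
  rw [pushFun_apply]
  congr 1
  unfold Cyc.secDivFun
  by_cases hc : d' ⤳ d ∧ δ (i d) + 1 = δ (i d')
  · rw [dif_pos hc, dif_pos ⟨hc.1.map i.continuous, hc.2⟩]
    exact hn (i d') d' d rfl hc.1 hc.2
  · rw [dif_neg hc, dif_neg]
    rintro ⟨h1, h2⟩
    exact hc ⟨(Groth.Agent.Lib.Helper85.ClosedDict.specializes_iff i d' d).mp h1, h2⟩

end Closed

end Groth.Agent.Lib.Helper85.PullDict
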