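import Mathlib
import Groth.Prelude.Def_C1
import Groth.Agent.Lib.Helper85.IntMult.PullDict
import Groth.Agent.Lib.Helper85.IntMult.DivPullRat

/-!
# Flat pullback and the first Chern class (helper85)

`g^*(c_1(L) ∩ α) ∼ c_1(p^*L) ∩ g^*α` for a flat morphism `p` in the base change setting.
-/

set_option autoImplicit false
set_option linter.unusedSectionVars false
universe u
open CategoryTheory AlgebraicGeometry

namespace Groth.Agent.Lib.Helper85.FlatC1

open Groth.Agent.Lib.Helper45 Groth.Agent.Lib.Helper49 Groth.Agent.Lib.Helper45.InvOrd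
open Groth.Agent.Lib.Helper85.SecOrd
open Groth.Agent.Lib.Helper85.C1Tensor Groth.Agent.Lib.Helper85.C1Comm
open Groth.Agent.Lib.Helper85.C1Sum Groth.Agent.Lib.Helper85.Gysin
open Groth.Agent.Lib.Helper85.PullDict Groth.Agent.Lib.Helper11.PullbackBasis
open Groth.Agent.Lib.Helper85.DivPull Groth.Agent.Lib.Helper85.DivPullRat

variable {X X' : Scheme.{u}} (p : X' ⟶ X) (L : X.Modules)

/-- the pullback of a nonzero rational section, characterised in local coordinates -/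
theorem exists_pull_section (hL : PicF.IsInvertible L) (ξ' : X')
    (n : Cyc.secFibre L (p ξ')) (hn : n ≠ 0) :
    ∃ u : Cyc.secFibre ((Scheme.Modules.pullback p).obj L) ξ', u ≠ 0 ∧
      ∀ (V : X.Opens) (τ : Γ(L, V)) (_ : IsBasisOn L V τ) (hV : p ξ' ∈ V)
        (b : X.presheaf.stalk (p ξ')),
        n = Submodule.Quotient.mk (b • L.presheaf.germ V (p ξ') hV τ) →
        u = Submodule.Quotient.mk ((p.stalkMap ξ' b) •
          ((Scheme.Modules.pullback p).obj L).presheaf.germ (p ⁻¹ᵁ V) ξ' hV (pullS p L V τ)) := by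
  obtain ⟨V', hV', τ', hτ'⟩ := exists_isBasisOn_of_isInvertible hL (p ξ')
  obtain ⟨b', hb'⟩ := exists_coord hτ' (p ξ') hV' n
  have hb0 : X.residue (p ξ') b' ≠ 0 :=
    residue_coord_ne_zero hτ' (p ξ') hV' b' (by rw [← hb']; exact hn)
  have hV'D : ξ' ∈ p ⁻¹ᵁ V' := hV'
  refine ⟨Submodule.Quotient.mk ((p.stalkMap ξ' b') •
    ((Scheme.Modules.pullback p).obj L).presheaf.germ (p ⁻¹ᵁ V') ξ' hV' (pullS p L V' τ')), ?_, ?_⟩
  · apply mk_ne_zero_of_residue (isBasisOn_pullS p V' L τ' hτ') ξ' hV'D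
    rw [residue_stalkMap]
    intro h0
    apply hb0
    exact (map_eq_zero_iff _ (RingHom.injective _)).mp h0
  · intro V τ hτ hV b hb
    obtain ⟨c, hcu, hc⟩ := exists_transition hτ hτ' (p ξ') hV hV'
    have e1 := pullS_transition p L hτ ξ' hV hV' c hc
    rw [e1, smul_smul, ← map_mul, Submodule.Quotient.eq, ← sub_smul, ← map_sub]
    have hmem : b' * c - b ∈ IsLocalRing.maximalIdeal (X.presheaf.stalk (p ξ')) := by
      rw [← smul_gen_mem_iff L (p ξ') _ (germ_basis_span hτ (p ξ') hV)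
        (germ_basis_ann hτ (p ξ') hV), sub_smul, ← Submodule.Quotient.eq, ← hb, hb', hc, smul_smul]
    have hmem' : (p.stalkMap ξ') (b' * c - b) ∈
        IsLocalRing.maximalIdeal (X'.presheaf.stalk ξ') := by
      have hloc : IsLocalHom (p.stalkMap ξ').hom := inferInstance
      have h4 := ((IsLocalRing.local_hom_TFAE (p.stalkMap ξ').hom).out 0 3).mp hloc
      exact h4 hmem
    exact Submodule.smul_mem_smul hmem' Submodule.mem_top


section Main

variable (δ : X → ℤ) (δ' : X' → ℤ)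

/-- the divisor of the pulled back coordinate is the divisor of the pulled back section -/
theorem divFun_res_eq_secDivFun (ξ' x' : X') {V : X.Opens} {τ : Γ(L, V)} (hτ : IsBasisOn L V τ)
    (hx' : p x' ∈ V) (hξV : p ξ' ∈ V) (b : X.presheaf.stalk (p ξ'))
    (u : Cyc.secFibre ((Scheme.Modules.pullback p).obj L) ξ')
    (hu : u = Submodule.Quotient.mk ((p.stalkMap ξ' b) •
      ((Scheme.Modules.pullback p).obj L).presheaf.germ (p ⁻¹ᵁ V) ξ' hξV (pullS p L V τ))) :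
    Cyc.divFun δ' ξ' ((p.residueFieldMap ξ').hom (X.residue (p ξ') b)) x' =
      Cyc.secDivFun δ' ((Scheme.Modules.pullback p).obj L) ξ' u x' := by
  unfold Cyc.divFun Cyc.secDivFun
  by_cases hc : ξ' ⤳ x' ∧ δ' x' + 1 = δ' ξ'
  · rw [dif_pos hc, dif_pos hc, hu]
    have hx'V : x' ∈ p ⁻¹ᵁ V := hx'
    rw [secOrdAt_basis (isBasisOn_pullS p V L τ hτ) x' hx'V ξ' hc.1 (p.stalkMap ξ' b),
      residue_stalkMap]
  · rw [dif_neg hc, dif_neg hc]

variable [Flat p] (hX : Cyc.IsSetup X δ) (hX' : Cyc.IsSetup X' δ') (c : ℤ)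
  (hc : ∀ x' : X', GenFib p x' → δ' x' = δ (p x') + c)

include hX hX' hc in
/-- **Flat pullback of the divisor of a rational section.** -/
theorem pullFun_secDivFun_eq (hL : PicF.IsInvertible L)
    (v : (ξ : X) → Cyc.secFibre L ξ) (hv : ∀ ξ, v ξ ≠ 0)
    (u₀ : (ξ' : X') → Cyc.secFibre ((Scheme.Modules.pullback p).obj L) ξ')
    (hu₀ : ∀ (ξ' : X') (V : X.Opens) (τ : Γ(L, V)) (_ : IsBasisOn L V τ) (hV : p ξ' ∈ V)
        (b : X.presheaf.stalk (p ξ')),
        v (p ξ') = Submodule.Quotient.mk (b • L.presheaf.germ V (p ξ') hV τ) →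
        u₀ ξ' = Submodule.Quotient.mk ((p.stalkMap ξ' b) •
          ((Scheme.Modules.pullback p).obj L).presheaf.germ (p ⁻¹ᵁ V) ξ' hV (pullS p L V τ)))
    (ξ : X) (x' : X') :
    Cyc.pullFun p δ' δ c (Cyc.secDivFun δ L ξ (v ξ)) x' =
      ∑ᶠ ξ' : {ξ' : X' // p ξ' = ξ ∧ GenFib p ξ'},
        (fibMult p ξ'.1 : ℤ) *
          Cyc.secDivFun δ' ((Scheme.Modules.pullback p).obj L) ξ'.1 (u₀ ξ'.1) x' := by
  by_cases hsp : ξ ⤳ p x'
  · obtain ⟨V, hxV, τ, hτ⟩ := exists_isBasisOn_of_isInvertible hL (p x')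
    have hξV : ξ ∈ V := hsp.mem_open V.isOpen hxV
    obtain ⟨b, hb⟩ := exists_coord hτ ξ hξV (v ξ)
    have hb0 : X.residue ξ b ≠ 0 :=
      residue_coord_ne_zero hτ ξ hξV b (by rw [← hb]; exact hv ξ)
    have e1 : Cyc.secDivFun δ L ξ (v ξ) (p x') = Cyc.divFun δ ξ (X.residue ξ b) (p x') := by
      unfold Cyc.secDivFun Cyc.divFun
      by_cases hcc : ξ ⤳ p x' ∧ δ (p x') + 1 = δ ξ
      · rw [dif_pos hcc, dif_pos hcc, hb, secOrdAt_basis hτ (p x') hxV ξ hcc.1 b]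
      · rw [dif_neg hcc, dif_neg hcc]
    have e2 : Cyc.pullFun p δ' δ c (Cyc.secDivFun δ L ξ (v ξ)) x' =
        Cyc.pullFun p δ' δ c (Cyc.divFun δ ξ (X.residue ξ b)) x' := by
      unfold Cyc.pullFun
      rw [e1]
    rw [e2, pullFun_divFun_eq p δ δ' hX hX' c hc ξ (X.residue ξ b) hb0 x']
    apply finsum_congr
    rintro ⟨ξ', hξ, hgen⟩
    subst hξ
    simp only
    congr 1
    have h0 : (X.residueFieldCongr (rfl : p ξ' = p ξ')).hom = 𝟙 _ := by
      simp [Scheme.residueFieldCongr]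
    rw [h0]
    simp only [CommRingCat.hom_id, RingHom.id_apply]
    exact divFun_res_eq_secDivFun p L δ' ξ' x' hτ hxV hξV b (u₀ ξ')
      (hu₀ ξ' V τ hτ hξV b hb)
  · have e1 : Cyc.pullFun p δ' δ c (Cyc.secDivFun δ L ξ (v ξ)) x' = 0 := by
      unfold Cyc.pullFun Cyc.secDivFun
      rw [dif_neg (fun h => hsp h.1), zero_mul, ite_self]
    rw [e1]
    symm
    apply finsum_eq_zero_of_forall_eq_zero
    rintro ⟨ξ', hξ, hgen⟩
    simp only
    unfold Cyc.secDivFun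
    rw [dif_neg, mul_zero]
    rintro ⟨h1, -⟩
    apply hsp
    rw [← hξ]
    exact h1.map p.continuous

end Main


section Cycle

variable (δ : X → ℤ) (δ' : X' → ℤ) (hX' : Cyc.IsSetup X' δ') (c : ℤ)
  (hc : ∀ x' : X', GenFib p x' → δ' x' = δ (p x') + c)

omit L in
theorem pullFun_ne_zero {α : X → ℤ} {x' : X'} (h : Cyc.pullFun p δ' δ c α x' ≠ 0) :
    δ' x' = δ (p x') + c ∧ α (p x') ≠ 0 := by
  unfold Cyc.pullFun at h
  by_cases h1 : δ' x' = δ (p x') + c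
  · rw [if_pos h1] at h
    exact ⟨h1, fun h0 => h (by rw [h0, zero_mul])⟩
  · rw [if_neg h1] at h
    exact absurd rfl h

omit L in
include hX' hc in
/-- the flat pullback of a cycle is a cycle -/
theorem exists_cycle_pullFun (k : ℤ) (α : AlgebraicCycle X ℤ) (hα : α ∈ Cyc.Zk X δ k) :
    ∃ α' : AlgebraicCycle X' ℤ, ⇑α' = Cyc.pullFun p δ' δ c ⇑α ∧ α' ∈ Cyc.Zk X' δ' (k + c) := by
  have hN' : IsLocallyNoetherian X' := hX'.1
  refine ⟨⟨Cyc.pullFun p δ' δ c ⇑α, fun x _ => Set.mem_univ x, ?_⟩, rfl, ?_⟩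
  · intro x' _
    obtain ⟨t, ht, hfin⟩ := α.supportLocallyFiniteWithinDomain' (p x') (Set.mem_univ _)
    obtain ⟨U, hUt, hUo, hxU⟩ := mem_nhds_iff.mp ht
    obtain ⟨_, ⟨V, hV, rfl⟩, hx'V, hVU⟩ :=
      X'.isBasis_affineOpens.exists_subset_of_mem_open (show x' ∈ p ⁻¹' U from hxU)
        (hUo.preimage p.continuous)
    refine ⟨(V : Set X'), V.isOpen.mem_nhds hx'V, ?_⟩
    have hFin : ∀ ξ : X, {x : X' | x ∈ V ∧ x ∈ p ⁻¹' closure {ξ} ∧
        ∀ z ∈ p ⁻¹' closure {ξ}, z ⤳ x → z = x}.Finite := fun ξ =>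
      Groth.Agent.Lib.Helper85.PushSheafFun.finite_maximal_points_of_isCompact V hV.isCompact _
        (isClosed_closure.preimage p.continuous)
    refine (Set.Finite.biUnion hfin (fun ξ _ => hFin ξ)).subset ?_
    rintro y ⟨hyV, hy⟩
    obtain ⟨h1, h2⟩ := pullFun_ne_zero p δ δ' c hy
    have hgen : GenFib p y := genFib_of_delta_eq p δ δ' hX'.2.2 c hc y h1
    simp only [Set.mem_iUnion]
    refine ⟨p y, ⟨hUt (hVU hyV), h2⟩, hyV, subset_closure rfl, ?_⟩
    intro z hz hzs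
    have h3 : p y ⤳ p z := specializes_iff_mem_closure.mpr hz
    have h4 : p z ⤳ p y := hzs.map p.continuous
    exact hgen z (h4.antisymm h3).eq hzs
  · intro x' hx'
    by_contra hne
    obtain ⟨h1, h2⟩ := pullFun_ne_zero p δ δ' c hne
    apply hx'
    have h3 : δ (p x') = k := by
      by_contra h3
      exact h2 (hα _ h3)
    rw [h1, h3]

end Cycle


section Final

variable [Flat p] (δ : X → ℤ) (δ' : X' → ℤ) (hX : Cyc.IsSetup X δ) (hX' : Cyc.IsSetup X' δ')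
  (c : ℤ) (hc : ∀ x' : X', GenFib p x' → δ' x' = δ (p x') + c)

omit L [Flat p] in
theorem pullFun_const_mul (a : ℤ) (β : X → ℤ) (x' : X') :
    Cyc.pullFun p δ' δ c (fun y => a * β y) x' = a * Cyc.pullFun p δ' δ c β x' := by
  unfold Cyc.pullFun
  by_cases h : δ' x' = δ (p x') + c
  · simp only [if_pos h]
    ring
  · simp only [if_neg h]
    ring

include hX hX' hc in
/-- **`g^*(c_1(L) ∩ α) = c_1(p^*L) ∩ g^*α`** for the pulled back rational sections -/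
theorem c1Cap_pullFun_eq (hL : PicF.IsInvertible L) (α : AlgebraicCycle X ℤ)
    (v : (ξ : X) → Cyc.secFibre L ξ) (hv : ∀ ξ, v ξ ≠ 0)
    (u₀ : (ξ' : X') → Cyc.secFibre ((Scheme.Modules.pullback p).obj L) ξ')
    (hu₀ : ∀ (ξ' : X') (V : X.Opens) (τ : Γ(L, V)) (_ : IsBasisOn L V τ) (hV : p ξ' ∈ V)
        (b : X.presheaf.stalk (p ξ')),
        v (p ξ') = Submodule.Quotient.mk (b • L.presheaf.germ V (p ξ') hV τ) →
        u₀ ξ' = Submodule.Quotient.mk ((p.stalkMap ξ' b) •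
          ((Scheme.Modules.pullback p).obj L).presheaf.germ (p ⁻¹ᵁ V) ξ' hV (pullS p L V τ)))
    (α' : AlgebraicCycle X' ℤ) (hα' : ⇑α' = Cyc.pullFun p δ' δ c ⇑α) (x' : X') :
    Cyc.pullFun p δ' δ c (Cyc.c1CapFun δ L ⇑α v) x' =
      Cyc.c1CapFun δ' ((Scheme.Modules.pullback p).obj L) ⇑α' u₀ x' := by
  classical
  let S : X → Type u := fun ξ => {ξ' : X' // p ξ' = ξ ∧ GenFib p ξ'}
  let e : (Σ ξ, S ξ) → X' := fun j => j.2.1
  have he : Function.Injective e := by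
    rintro ⟨ξ₁, ξ₁', h₁, g₁⟩ ⟨ξ₂, ξ₂', h₂, g₂⟩ h
    have h' : ξ₁' = ξ₂' := h
    subst h'
    subst h₁
    subst h₂
    rfl
  have hα'val : ∀ j : Σ ξ, S ξ, α' (e j) = α j.1 * (fibMult p j.2.1 : ℤ) := by
    rintro ⟨ξ, ξ', h, g⟩
    subst h
    show α' ξ' = _
    rw [hα']
    unfold Cyc.pullFun
    rw [if_pos (hc ξ' g)]
    rfl
  let G : X' → ℤ := fun ξ' => α' ξ' *
    Cyc.secDivFun δ' ((Scheme.Modules.pullback p).obj L) ξ' (u₀ ξ') x'
  have hGsupp : ∀ b, G b ≠ 0 → b ∈ Set.range e := by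
    intro b hb
    have h1 : α' b ≠ 0 := fun h0 => hb (by simp only [G]; rw [h0, zero_mul])
    rw [hα'] at h1
    obtain ⟨h2, -⟩ := pullFun_ne_zero p δ δ' c h1
    exact ⟨⟨p b, b, rfl, genFib_of_delta_eq p δ δ' hX'.2.2 c hc b h2⟩, rfl⟩
  have hfinG : (Function.support G).Finite := by
    have h1 := (finite_support_specializes α' x').image Subtype.val
    refine h1.subset ?_
    intro b hb
    have hb' : G b ≠ 0 := hb
    have h2 : α' b ≠ 0 := fun h0 => hb' (by simp only [G]; rw [h0, zero_mul])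
    have h3 : b ⤳ x' := by
      by_contra hns
      apply hb'
      simp only [G]
      unfold Cyc.secDivFun
      rw [dif_neg (fun h => hns h.1), mul_zero]
    exact ⟨⟨b, h2⟩, h3, rfl⟩
  have hfinF : (Function.support (fun j : Σ ξ, S ξ => G (e j))).Finite :=
    hfinG.preimage he.injOn
  -- the right hand side
  have hR : Cyc.c1CapFun δ' ((Scheme.Modules.pullback p).obj L) ⇑α' u₀ x' =
      ∑ᶠ j : Σ ξ, S ξ, G (e j) := by
    unfold Cyc.c1CapFun
    exact finsum_comp_injective e he G hGsupp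
  rw [hR, finsum_sigma' _ hfinF]
  -- the left hand side
  have hL1 : Cyc.pullFun p δ' δ c (Cyc.c1CapFun δ L ⇑α v) x' =
      ∑ᶠ ξ, Cyc.pullFun p δ' δ c (fun y => α ξ * Cyc.secDivFun δ L ξ (v ξ) y) x' :=
    pullFun_finsum p δ δ' c (fun ξ y => α ξ * Cyc.secDivFun δ L ξ (v ξ) y) x'
  rw [hL1]
  apply finsum_congr
  intro ξ
  rw [pullFun_const_mul, pullFun_secDivFun_eq p L δ δ' hX hX' c hc hL v hv u₀ hu₀ ξ x', mul_finsum]
  apply finsum_congr
  intro ξ''
  show _ = G (e ⟨ξ, ξ''⟩)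
  simp only [G]
  rw [hα'val ⟨ξ, ξ''⟩]
  ring

include hX hX' hc in
/-- **Intersecting with `c_1` commutes with flat base change**, up to rational equivalence. -/
theorem c1Cap_pullFun_ratEquiv (hL : PicF.IsInvertible L) (k : ℤ) (α : AlgebraicCycle X ℤ)
    (hα : α ∈ Cyc.Zk X δ k)
    (v : (ξ : X) → Cyc.secFibre L ξ) (hv : ∀ ξ, v ξ ≠ 0)
    (u : (ξ' : X') → Cyc.secFibre ((Scheme.Modules.pullback p).obj L) ξ') (hu : ∀ ξ', u ξ' ≠ 0)
    (γ₁ γ₂ : AlgebraicCycle X' ℤ)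
    (h₁ : ⇑γ₁ = Cyc.pullFun p δ' δ c (Cyc.c1CapFun δ L ⇑α v))
    (h₂ : ⇑γ₂ = Cyc.c1CapFun δ' ((Scheme.Modules.pullback p).obj L)
      (Cyc.pullFun p δ' δ c ⇑α) u) :
    Cyc.RatEquiv δ' (k + c - 1) γ₁ γ₂ := by
  have hL' : PicF.IsInvertible ((Scheme.Modules.pullback p).obj L) :=
    Groth.Agent.Lib.Helper11.GenLocus.isInvertible_of_forall_exists_isBasisOn (fun d => by
      obtain ⟨V, hV, τ, hτ⟩ := exists_isBasisOn_of_isInvertible hL (p d)
      exact ⟨p ⁻¹ᵁ V, hV, pullS p L V τ, isBasisOn_pullS p V L τ hτ⟩)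
  choose u₀ hu₀0 hu₀ using fun ξ' => exists_pull_section p L hL ξ' (v (p ξ')) (hv (p ξ'))
  obtain ⟨α', hα', hα'k⟩ := exists_cycle_pullFun p δ δ' hX' c hc k α hα
  have hN' : IsLocallyNoetherian X' := hX'.1
  unfold Cyc.RatEquiv
  have hα'k' : α' ∈ Cyc.Zk X' δ' (k + c - 1 + 1) := by
    rw [show k + c - 1 + 1 = k + c by ring]
    exact hα'k
  apply c1Cap_indep δ' hL' (k + c - 1) α' hα'k' u₀ u hu₀0 hu
  intro x'
  rw [Function.locallyFinsuppWithin.coe_sub, Pi.sub_apply, h₁, h₂, ← hα',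
    c1Cap_pullFun_eq p L δ δ' hX hX' c hc hL α v hv u₀ hu₀ α' hα' x']

end Final

end Groth.Agent.Lib.Helper85.FlatC1
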