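import Mathlib
import Groth.Prelude.Def_C1
import Groth.Agent.Lib.Helper85.IntMult.C1Sum
import Groth.Agent.Lib.Helper85.IntMult.DivOpen

/-!
# `c_1(L) ∩ α` is a cycle (helper85)
-/

set_option autoImplicit false
set_option linter.unusedSectionVars false
universe u
open CategoryTheory AlgebraicGeometry

namespace Groth.Agent.Lib.Helper85.C1Cycle

open Groth.Agent.Lib.Helper45 Groth.Agent.Lib.Helper49 Groth.Agent.Lib.Helper45.InvOrd
open Groth.Agent.Lib.Helper85.C1Tensor Groth.Agent.Lib.Helper85.C1Sum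
open Groth.Agent.Lib.Helper85.DivOpen

variable {X : Scheme.{u}} [IsLocallyNoetherian X] (δ : X → ℤ) (hdim : Cyc.IsDimFun X δ)

omit [IsLocallyNoetherian X] in
/-- on a trivialising open the divisor of a rational section is a principal divisor -/
theorem exists_divFun_eq_secDivFun {L : X.Modules} {V : X.Opens} {τ : Γ(L, V)}
    (hτ : IsBasisOn L V τ) (ξ : X) (s : Cyc.secFibre L ξ) (hs : s ≠ 0) :
    ∃ f : X.residueField ξ, f ≠ 0 ∧ ∀ x ∈ V, Cyc.secDivFun δ L ξ s x = Cyc.divFun δ ξ f x := by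
  by_cases hξV : ξ ∈ V
  · obtain ⟨a, ha⟩ := exists_coord hτ ξ hξV s
    have ha0 : X.residue ξ a ≠ 0 := residue_coord_ne_zero hτ ξ hξV a (by rw [← ha]; exact hs)
    refine ⟨X.residue ξ a, ha0, fun x hx => ?_⟩
    unfold Cyc.secDivFun Cyc.divFun
    by_cases hc : ξ ⤳ x ∧ δ x + 1 = δ ξ
    · rw [dif_pos hc, dif_pos hc, ha, secOrdAt_basis hτ x hx ξ hc.1 a]
    · rw [dif_neg hc, dif_neg hc]
  · refine ⟨1, one_ne_zero, fun x hx => ?_⟩
    unfold Cyc.secDivFun Cyc.divFun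
    have hc : ¬ (ξ ⤳ x ∧ δ x + 1 = δ ξ) := fun hc => hξV (hc.1.mem_open V.isOpen hx)
    rw [dif_neg hc, dif_neg hc]

include hdim in
/-- **`c_1(L) ∩ α` is a cycle**: its support is locally finite. -/
theorem exists_cycle_c1Cap {L : X.Modules} (hL : PicF.IsInvertible L) (α : AlgebraicCycle X ℤ)
    (s : (ξ : X) → Cyc.secFibre L ξ) (hs : ∀ ξ, s ξ ≠ 0) :
    ∃ γ : AlgebraicCycle X ℤ, ⇑γ = Cyc.c1CapFun δ L ⇑α s := by
  classical
  refine ⟨⟨Cyc.c1CapFun δ L ⇑α s, fun x _ => Set.mem_univ x, ?_⟩, rfl⟩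
  intro x _
  obtain ⟨V, hxV, τ, hτ⟩ := exists_isBasisOn_of_isInvertible hL x
  obtain ⟨U₁, hU₁o, hxU₁, hfin⟩ := locallyFinite_support α x
  have hxVU : x ∈ V ⊓ (⟨U₁, hU₁o⟩ : X.Opens) := ⟨hxV, hxU₁⟩
  obtain ⟨W, hW, hxW, hWsub⟩ := exists_isAffineOpen_mem_and_subset hxVU
  choose f hf0 hf using fun ξ => exists_divFun_eq_secDivFun δ hτ ξ (s ξ) (hs ξ)
  refine ⟨(W : Set X), W.isOpen.mem_nhds hxW, ?_⟩
  have hfin2 : (⋃ j ∈ {j : {ξ : X // α ξ ≠ 0} | (closure {j.1} ∩ U₁).Nonempty},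
      {x' : X | x' ∈ W ∧ Cyc.divFun δ j.1 (f j.1) x' ≠ 0}).Finite :=
    hfin.biUnion (fun j _ => finite_support_divFun_inter δ hdim W hW j.1 (f j.1) (hf0 j.1))
  refine hfin2.subset ?_
  rintro x' ⟨hx'W, hx'⟩
  have hx'V : x' ∈ V := (hWsub hx'W).1
  have hx'U : x' ∈ U₁ := (hWsub hx'W).2
  have hne : Cyc.c1CapFun δ L ⇑α s x' ≠ 0 := hx'
  unfold Cyc.c1CapFun at hne
  obtain ⟨ξ, hξ⟩ : ∃ ξ, α ξ * Cyc.secDivFun δ L ξ (s ξ) x' ≠ 0 := by
    by_contra hall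
    push Not at hall
    exact hne (finsum_eq_zero_of_forall_eq_zero hall)
  have h1 : α ξ ≠ 0 := left_ne_zero_of_mul hξ
  have h2 : Cyc.secDivFun δ L ξ (s ξ) x' ≠ 0 := right_ne_zero_of_mul hξ
  have hsp : ξ ⤳ x' := secDivFun_ne_zero_specializes h2
  simp only [Set.mem_iUnion]
  refine ⟨⟨ξ, h1⟩, ⟨x', specializes_iff_mem_closure.mp hsp, hx'U⟩, hx'W, ?_⟩
  rw [← hf ξ x' hx'V]
  exact h2

omit [IsLocallyNoetherian X] in
/-- the cap product of a `(k+1)`-cycle is a `k`-cycle -/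
theorem c1Cap_mem_Zk {L : X.Modules} (k : ℤ) (α : X → ℤ) (hα : ∀ x, δ x ≠ k + 1 → α x = 0)
    (s : (ξ : X) → Cyc.secFibre L ξ) (x : X) (hx : δ x ≠ k) : Cyc.c1CapFun δ L α s x = 0 := by
  unfold Cyc.c1CapFun
  apply finsum_eq_zero_of_forall_eq_zero
  intro ξ
  by_cases hξ : δ ξ = k + 1
  · unfold Cyc.secDivFun
    rw [dif_neg, mul_zero]
    rintro ⟨-, h2⟩
    apply hx
    omega
  · rw [hα ξ hξ, zero_mul]

end Groth.Agent.Lib.Helper85.C1Cycle
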