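import Mathlib
import Groth.Prelude.Def_C1
import Groth.Agent.Lib.Helper85.IntMult.SecOrd
import Groth.Agent.Lib.Helper85.IntMult.DivPull

/-!
# The zero scheme of a regular section and `c_1 ∩ [Y]` (helper85)
-/

set_option autoImplicit false
universe u
open CategoryTheory AlgebraicGeometry

namespace Groth.Agent.Lib.Helper85.C1Zero

open Groth.Agent.Lib.Helper55 Groth.Agent.Lib.Helper79.LenMult
open Groth.Agent.Lib.Helper85.DivPullDict Groth.Agent.Lib.Helper85.DivPull
open Groth.Agent.Lib.Helper85.DivPullAlg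
open scoped Pointwise Classical

/-- The length of the localization of `S` at `q`, computed in any model `T` of `S_q`. -/
theorem length_localizedModule_self {S : Type u} [CommRing S] (q : Ideal S) [q.IsPrime]
    (T : Type u) [CommRing T] [Algebra S T] [IsLocalization.AtPrime T q] :
    Module.length (Localization.AtPrime q) (LocalizedModule q.primeCompl S) =
      Module.length T T := by
  have h1 := Groth.Agent.Lib.Helper85.DivPullLoc.length_localizedModule_quotient q T ⊥
  rw [Ideal.map_bot] at h1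
  have e2 : (T ⧸ (⊥ : Ideal T)) ≃ₗ[T] T := Submodule.quotEquivOfEqBot _ rfl
  rw [e2.length_eq] at h1
  rw [← h1]
  let e0 : (S ⧸ (⊥ : Ideal S)) ≃ₗ[S] S := Submodule.quotEquivOfEqBot _ rfl
  exact ((IsLocalizedModule.mapEquiv q.primeCompl
    (LocalizedModule.mkLinearMap q.primeCompl (S ⧸ (⊥ : Ideal S)))
    (LocalizedModule.mkLinearMap q.primeCompl S) (Localization.AtPrime q) e0).length_eq).symm


variable {Y : Scheme.{u}}

/-- `dim O_y ≤ 1` when all generizations of `y` have `δ ≤ δ y + 1` -/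
theorem ringKrullDim_stalk_le_one [IsLocallyNoetherian Y] (δ : Y → ℤ) (hdim : Cyc.IsDimFun Y δ)
    (y : Y) (hle : ∀ ξ : Y, ξ ⤳ y → δ ξ ≤ δ y + 1) :
    ringKrullDim (Y.presheaf.stalk y) ≤ 1 := by
  rw [ringKrullDim, Order.krullDim_eq_iSup_coheight_of_nonempty]
  have h1 : (⨆ a : PrimeSpectrum (Y.presheaf.stalk y), Order.coheight a) ≤ 1 := by
    apply iSup_le
    intro q
    rw [Groth.Agent.Lib.Helper89.DimFunJacobson.coheight_eq_of_isDimFun Y δ hdim y q]
    have h2 := hle _ (stalkPoint_specializes y q)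
    have h3 : (δ (Y.fromSpecStalk y q) - δ y).toNat ≤ 1 := by
      have h4 : δ (Y.fromSpecStalk y q) ≤ δ y + 1 := h2
      omega
    exact_mod_cast h3
  exact_mod_cast h1

/-- **The length of `O_y/(f)` as the sum of orders along the components through `y`.** -/
theorem length_quot_eq_finsum [IsLocallyNoetherian Y] (δ : Y → ℤ) (hdim : Cyc.IsDimFun Y δ)
    (y : Y) (hle : ∀ ξ : Y, ξ ⤳ y → δ ξ ≤ δ y + 1) (f : Y.presheaf.stalk y)
    (hreg : IsSMulRegular (Y.presheaf.stalk y) f)
    (hf : ∀ (ξ : Y) (h : ξ ⤳ y), ξ ≠ y → Cyc.specMap y ξ h f ≠ 0) :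
    ((Module.length (Y.presheaf.stalk y) (Y.presheaf.stalk y ⧸ Ideal.span {f})).toNat : ℤ) =
      ∑ᶠ ξ : Y, if h : ξ ⤳ y ∧ δ y + 1 = δ ξ then
        ((Module.length (Y.presheaf.stalk ξ) (Y.presheaf.stalk ξ)).toNat : ℤ) *
          Cyc.ordAt y ξ h.1 (Cyc.specMap y ξ h.1 f) else 0 := by
  classical
  have hA1 : ringKrullDim (Y.presheaf.stalk y) ≤ 1 := ringKrullDim_stalk_le_one δ hdim y hle
  have h1 : Module.supportDim (Y.presheaf.stalk y) (Y.presheaf.stalk y) ≤ 1 := by
    rw [Module.supportDim_self_eq_ringKrullDim]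
    exact hA1
  have hne_of : ∀ q : PrimeSpectrum (Y.presheaf.stalk y),
      q.asIdeal ≠ IsLocalRing.maximalIdeal (Y.presheaf.stalk y) → stalkPoint y q ≠ y := by
    intro q hq he
    apply hq
    have h2 : stalkPoint y q = stalkPoint y (IsLocalRing.closedPoint (Y.presheaf.stalk y)) := by
      rw [he, stalkPoint_closedPoint]
    exact congrArg PrimeSpectrum.asIdeal (stalkPoint_injective y h2)
  have hfq : ∀ q : PrimeSpectrum (Y.presheaf.stalk y),
      q.asIdeal ≠ IsLocalRing.maximalIdeal (Y.presheaf.stalk y) → f ∉ q.asIdeal := by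
    intro q hq hfq
    apply hf (stalkPoint y q) (stalkPoint_specializes y q) (hne_of q hq)
    have hker := ker_specMap_stalkPoint y q
    rw [← hker] at hfq
    exact RingHom.mem_ker.mp hfq
  have h0 : Module.supportDim (Y.presheaf.stalk y)
      (Y.presheaf.stalk y ⧸ f • (⊤ : Submodule (Y.presheaf.stalk y) (Y.presheaf.stalk y))) ≤ 0 := by
    unfold Module.supportDim
    have hall : ∀ p ∈ Module.support (Y.presheaf.stalk y)
        (Y.presheaf.stalk y ⧸ f • (⊤ : Submodule (Y.presheaf.stalk y) (Y.presheaf.stalk y))),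
        p = IsLocalRing.closedPoint (Y.presheaf.stalk y) := by
      intro p hp
      by_contra hpm
      have hpm' : p.asIdeal ≠ IsLocalRing.maximalIdeal (Y.presheaf.stalk y) :=
        fun h => hpm (PrimeSpectrum.ext h)
      rw [Module.mem_support_iff_of_finite] at hp
      apply hfq p hpm'
      apply hp
      rw [Module.mem_annihilator]
      intro m
      obtain ⟨a, rfl⟩ := Submodule.Quotient.mk_surjective _ m
      rw [← Submodule.Quotient.mk_smul, Submodule.Quotient.mk_eq_zero]
      exact Submodule.smul_mem_pointwise_smul a f ⊤ Submodule.mem_top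
    have hsub : (Module.support (Y.presheaf.stalk y)
        (Y.presheaf.stalk y ⧸
          f • (⊤ : Submodule (Y.presheaf.stalk y) (Y.presheaf.stalk y)))).Subsingleton := by
      intro p hp p' hp'
      rw [hall p hp, hall p' hp']
    have : Subsingleton ↥(Module.support (Y.presheaf.stalk y)
        (Y.presheaf.stalk y ⧸
          f • (⊤ : Submodule (Y.presheaf.stalk y) (Y.presheaf.stalk y)))) := hsub.coe_sort
    exact Order.krullDim_nonpos_of_subsingleton
  have hmain := main_finsum (Y.presheaf.stalk y) f h1 h0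
  have hker : Module.length (Y.presheaf.stalk y)
      (LinearMap.ker (LinearMap.lsmul (Y.presheaf.stalk y) (Y.presheaf.stalk y) f)) = 0 :=
    (length_ker_eq_zero_iff (Y.presheaf.stalk y) f).mpr hreg
  rw [hker, zero_add] at hmain
  have hspan : f • (⊤ : Submodule (Y.presheaf.stalk y) (Y.presheaf.stalk y)) =
      Ideal.span {f} := by
    rw [← Submodule.ideal_span_singleton_smul f ⊤]
    exact Ideal.mul_top _
  have hlen : Module.length (Y.presheaf.stalk y) (Y.presheaf.stalk y ⧸ Ideal.span {f}) =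
      Module.length (Y.presheaf.stalk y) (Y.presheaf.stalk y ⧸
        f • (⊤ : Submodule (Y.presheaf.stalk y) (Y.presheaf.stalk y))) :=
    (Submodule.quotEquivOfEq _ _ hspan.symm).length_eq
  have hfinlen : Module.length (Y.presheaf.stalk y) (Y.presheaf.stalk y ⧸ Ideal.span {f}) ≠ ⊤ := by
    have hd : ringKrullDim (Y.presheaf.stalk y ⧸ Ideal.span {f}) ≤ 0 := by
      rw [← Module.supportDim_quotient_eq_ringKrullDim]
      exact hspan ▸ h0
    have hK0 : Ring.KrullDimLE 0 (Y.presheaf.stalk y ⧸ Ideal.span {f}) :=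
      Ring.krullDimLE_iff.mpr hd
    have hArt : IsArtinianRing (Y.presheaf.stalk y ⧸ Ideal.span {f}) :=
      isArtinianRing_iff_krullDimLE_zero.mpr hK0
    have h3 : Module.length (Y.presheaf.stalk y ⧸ Ideal.span {f})
        (Y.presheaf.stalk y ⧸ Ideal.span {f}) ≠ ⊤ := Module.length_ne_top
    rwa [← Module.length_eq_of_surjective (S := Y.presheaf.stalk y)
      (R := Y.presheaf.stalk y ⧸ Ideal.span {f}) Ideal.Quotient.mk_surjective] at h3
  set T : Set (PrimeSpectrum (Y.presheaf.stalk y)) :=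
    {p | p ∈ Module.support (Y.presheaf.stalk y) (Y.presheaf.stalk y) ∧
      p.asIdeal ≠ IsLocalRing.maximalIdeal (Y.presheaf.stalk y)} with hT
  set g : PrimeSpectrum (Y.presheaf.stalk y) → ℕ∞ := fun p =>
    Ring.ord (Y.presheaf.stalk y ⧸ p.asIdeal) (Ideal.Quotient.mk p.asIdeal f) *
      Module.length (Localization.AtPrime p.asIdeal)
        (LocalizedModule p.asIdeal.primeCompl (Y.presheaf.stalk y)) with hg
  have hTfin : T.Finite := suppT_finite h1
  have hmain' : Module.length (Y.presheaf.stalk y) (Y.presheaf.stalk y ⧸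
      f • (⊤ : Submodule (Y.presheaf.stalk y) (Y.presheaf.stalk y))) = ∑ᶠ p ∈ T, g p := hmain
  have hcast := cast_toNat_finsum_mem g T (hTfin.subset Set.inter_subset_left)
    (by rw [← hmain', ← hlen]; exact hfinlen)
  rw [hlen, hmain', hcast]
  set G : Y → ℤ := fun ξ => if h : ξ ⤳ y ∧ δ y + 1 = δ ξ then
      ((Module.length (Y.presheaf.stalk ξ) (Y.presheaf.stalk ξ)).toNat : ℤ) *
        Cyc.ordAt y ξ h.1 (Cyc.specMap y ξ h.1 f) else 0 with hG
  have hS2 : ∑ᶠ ξ, G ξ = ∑ᶠ ξ ∈ stalkPoint y '' T, G ξ := by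
    rw [finsum_mem_def]
    congr 1
    symm
    apply Set.indicator_eq_self.mpr
    intro ξ hξ
    have hc : ξ ⤳ y ∧ δ y + 1 = δ ξ := by
      by_contra hc
      exact hξ (dif_neg hc)
    obtain ⟨q, rfl⟩ := exists_stalkPoint_eq y ξ hc.1
    refine ⟨q, ⟨?_, ?_⟩, rfl⟩
    · rw [Module.mem_support_iff_of_finite]
      intro a ha
      have h2 := Module.mem_annihilator.mp ha 1
      rw [smul_eq_mul, mul_one] at h2
      rw [h2]
      exact Ideal.zero_mem _
    · intro hq
      have h2 : stalkPoint y q = y := by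
        have h3 : q = IsLocalRing.closedPoint (Y.presheaf.stalk y) := PrimeSpectrum.ext hq
        rw [h3, stalkPoint_closedPoint]
      have h4 := hc.2
      rw [h2] at h4
      omega
  have hS3 : ∑ᶠ ξ ∈ stalkPoint y '' T, G ξ = ∑ᶠ q ∈ T, G (stalkPoint y q) :=
    finsum_mem_image (stalkPoint_injective y).injOn
  rw [hS2, hS3]
  apply finsum_mem_congr rfl
  intro q hq
  have hqm : q.asIdeal ≠ IsLocalRing.maximalIdeal (Y.presheaf.stalk y) := hq.2
  have h' := stalkPoint_specializes y q
  have hkerq : RingHom.ker (Cyc.specMap y (stalkPoint y q) h') = q.asIdeal :=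
    ker_specMap_stalkPoint y q
  have hδ : δ y + 1 = δ (stalkPoint y q) := by
    have hne := hne_of q hqm
    have h2 := (hdim _ _ h' hne).1
    have h3 := hle _ h'
    omega
  rw [hG]
  simp only
  rw [dif_pos ⟨h', hδ⟩]
  have ha : f ∉ RingHom.ker (Cyc.specMap y (stalkPoint y q) h') := by
    rw [hkerq]
    exact hfq q hqm
  have hb : (1 : Y.presheaf.stalk y) ∉ RingHom.ker (Cyc.specMap y (stalkPoint y q) h') := by
    rw [hkerq]
    exact fun h => q.2.ne_top ((Ideal.eq_top_iff_one _).mpr h)
  have hord := ordAt_div δ hdim h' hδ f 1 ha hb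
  rw [map_one, div_one] at hord
  have hone : Module.length (Y.presheaf.stalk y) (Y.presheaf.stalk y ⧸
      (RingHom.ker (Cyc.specMap y (stalkPoint y q) h') ⊔ Ideal.span {(1 : Y.presheaf.stalk y)})) =
      0 := by
    rw [Module.length_eq_zero_iff, Ideal.span_singleton_one, sup_top_eq]
    exact Ideal.Quotient.subsingleton_iff.mpr rfl
  rw [hord, hone, hkerq]
  letI := (Y.presheaf.stalkSpecializes h').hom.toAlgebra
  have hloc := isLocalization_atPrime_stalk h'
  have hloc' : IsLocalization.AtPrime (Y.presheaf.stalk (stalkPoint y q)) q.asIdeal := by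
    convert hloc using 1
    exact hkerq.symm
  have hlenloc := length_localizedModule_self q.asIdeal (Y.presheaf.stalk (stalkPoint y q))
  rw [hg]
  simp only
  rw [ENat.toNat_mul, Nat.cast_mul, ord_eq_length_sup, hlenloc]
  simp only [ENat.toNat_zero, Nat.cast_zero, sub_zero]
  ring

end Groth.Agent.Lib.Helper85.C1Zero
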