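import Mathlib
import Groth.Agent.Lib.Helper85.IntMult.Alg
import Groth.Agent.Lib.Helper82.CMDim

/-!
# Regular sequences on a Cohen–Macaulay quotient (helper85)
-/

set_option autoImplicit false
set_option linter.style.haveILetI false
universe u

namespace Groth.Agent.Lib.Helper85.IntMultAlg

open RingTheory.Sequence

variable {A : Type u} [CommRing A] [IsNoetherianRing A] [IsLocalRing A]

/-- a system of parameters of a Cohen–Macaulay quotient `A/Q` is `A/Q`-regular -/
theorem isWeaklyRegular_quotient_of_cm (Q : Ideal A)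
    [hCM : LocCoh.IsCohenMacaulayLocalRing (A ⧸ Q)] {c : ℕ} (g : Fin c → A)
    (hg : ∀ j, g j ∈ IsLocalRing.maximalIdeal A)
    (h0 : ringKrullDim (A ⧸ (Q ⊔ Ideal.span (Set.range g))) ≤ 0)
    (hdim : (c : WithBot ℕ∞) ≤ ringKrullDim (A ⧸ Q)) :
    IsWeaklyRegular (A ⧸ Q) (List.ofFn g) := by
  rw [← isWeaklyRegular_map_algebraMap_iff (S := A ⧸ Q)]
  have hmax := Groth.Agent.Lib.Helper85.maximalIdeal_map_of_surjective (Ideal.Quotient.mk Q)
    Ideal.Quotient.mk_surjective
  apply Groth.Agent.Lib.Helper82.CMDim.isWeaklyRegular_of_ringKrullDim_quotient_add_le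
    (hCM.supportDim_eq_depth)
  · intro x hx
    rw [List.mem_map] at hx
    obtain ⟨y, hy, rfl⟩ := hx
    rw [List.mem_ofFn] at hy
    obtain ⟨j, rfl⟩ := hy
    rw [← hmax]
    exact Ideal.mem_map_of_mem _ (hg j)
  · have h1 : Ideal.ofList ((List.ofFn g).map (algebraMap A (A ⧸ Q))) =
        (Ideal.span (Set.range g)).map (Ideal.Quotient.mk Q) := by
      rw [← Ideal.map_ofList, Groth.Agent.Lib.Helper85.Serre.ofList_ofFn]
      rfl
    rw [h1, ringKrullDim_eq_of_ringEquiv (DoubleQuot.quotQuotEquivQuotSup Q _), List.length_map,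
      List.length_ofFn]
    calc ringKrullDim (A ⧸ (Q ⊔ Ideal.span (Set.range g))) + (c : WithBot ℕ∞)
        ≤ 0 + (c : WithBot ℕ∞) := by gcongr
      _ = c := zero_add _
      _ ≤ _ := hdim

end Groth.Agent.Lib.Helper85.IntMultAlg
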