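import Mathlib
import Groth.Agent.Lib.Helper85.IntMult.TorVanish
import Groth.Agent.Lib.Helper85.IntMult.Alg
import Groth.Agent.Lib.Helper29.DepthQuot
import Groth.Agent.S0605

/-!
# `χ(A/Q, A/P) = ℓ(A/(P+Q))` for Cohen–Macaulay quotients of complementary dimension (helper85)
-/

set_option autoImplicit false
set_option linter.style.haveILetI false
universe u

namespace Groth.Agent.Lib.Helper85.IntMultAlg

open CategoryTheory IsLocalRing Groth.Agent.Lib.Helper85.TorVanish Groth.Agent.Lib.Helper29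
open Groth.Agent.Lib.Helper85.HS

variable {A : Type u} [CommRing A]

theorem smul_quotient_eq_zero (P : Ideal A) (x : A) (hx : x ∈ P) (z : A ⧸ P) : x • z = 0 := by
  have h : x ∈ Module.annihilator A (A ⧸ P) := by rwa [Ideal.annihilator_quotient]
  exact Module.mem_annihilator.mp h z

/-- `χ` is the length of `Tor₀` when the higher `Tor` vanish -/
theorem intMult_chi_eq_of_tor_vanish (P Q : Ideal A)
    (h : ∀ i : ℕ, Subsingleton (DRing.Tor A (i + 1) (A ⧸ Q) (A ⧸ P))) :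
    IntMult.chi A (A ⧸ Q) (A ⧸ P) = ((Module.length A (A ⧸ (P ⊔ Q))).toNat : ℤ) := by
  unfold IntMult.chi
  rw [finsum_eq_single _ 0]
  · rw [pow_zero, one_mul]
    congr 2
    have e1 : DRing.Tor A 0 (A ⧸ Q) (A ⧸ P) ≃ₗ[A] TensorProduct A (A ⧸ Q) (A ⧸ P) :=
      torZeroEquiv (A ⧸ Q) (A ⧸ P)
    have e2 : TensorProduct A (A ⧸ Q) (A ⧸ P) ≃ₗ[A]
        (A ⧸ P) ⧸ (Q • (⊤ : Submodule A (A ⧸ P))) :=
      TensorProduct.quotTensorEquivQuotSMul (R := A) (A ⧸ P) Q
    exact ((e1.trans e2).trans (quotQuotEquiv P Q)).length_eq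
  · intro i hi
    obtain ⟨j, rfl⟩ := Nat.exists_eq_succ_of_ne_zero hi
    haveI := h j
    rw [Module.length_eq_zero]
    simp

section CM

variable [IsRegularLocalRing A]

/-- depth over `A` of a Cohen–Macaulay quotient is its dimension -/
theorem depth_quotient_of_cm (P : Ideal A) [hCM : LocCoh.IsCohenMacaulayLocalRing (A ⧸ P)] :
    ringKrullDim (A ⧸ P) = ((LocCoh.depth A (A ⧸ P) : ℕ∞) : WithBot ℕ∞) := by
  have h1 := hCM.supportDim_eq_depth
  rw [Module.supportDim_self_eq_ringKrullDim] at h1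
  rw [h1, depth_self_eq_depth_of_surjective (R := A) (R' := A ⧸ P) Ideal.Quotient.mk_surjective]

/-- **Tor-vanishing for Cohen–Macaulay quotients in complementary dimension.** -/
theorem tor_subsingleton_of_cm (P Q : Ideal A) [LocCoh.IsCohenMacaulayLocalRing (A ⧸ P)]
    [LocCoh.IsCohenMacaulayLocalRing (A ⧸ Q)]
    (hfl : ∃ k : ℕ, maximalIdeal A ^ k ≤ P ⊔ Q)
    (hdim : ringKrullDim A ≤ ringKrullDim (A ⧸ P) + ringKrullDim (A ⧸ Q)) (i : ℕ) :
    Subsingleton (DRing.Tor A (i + 1) (A ⧸ Q) (A ⧸ P)) := by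
  obtain ⟨e, he, hsum⟩ := Groth.Agent.S0605.pd_add_depth A (A ⧸ P)
  have hpd : HasProjectiveDimensionLT (ModuleCat.of A (A ⧸ P)) (e + 1) := by
    have : HasProjectiveDimensionLE (ModuleCat.of A (A ⧸ P)) e :=
      (projectiveDimension_le_iff _ e).mp (le_of_eq he)
    exact this
  -- `e ≤ depth (A/Q)`
  have hdepth : (e : ℕ∞) ≤ LocCoh.depth A (A ⧸ Q) := by
    have ha := (IsRegularLocalRing.spanFinrank_maximalIdeal (R := A)).symm
    rw [ha, depth_quotient_of_cm P, depth_quotient_of_cm Q] at hdim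
    have hdim' : ((maximalIdeal A).spanFinrank : ℕ∞) ≤
        LocCoh.depth A (A ⧸ P) + LocCoh.depth A (A ⧸ Q) := by exact_mod_cast hdim
    rw [hsum] at hdim'
    have hne : LocCoh.depth A (A ⧸ P) ≠ ⊤ := by
      intro htop
      rw [htop, add_top] at hsum
      exact ENat.natCast_ne_top _ hsum
    rw [add_comm (e : ℕ∞)] at hdim'
    exact (ENat.add_le_add_iff_left hne).mp hdim'
  -- finite length of the higher `Tor`
  haveI : IsArtinianRing (A ⧸ (P ⊔ Q)) := isArtinianRing_quotient_of_forall_isMaximal (P ⊔ Q)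
    fun p hp hle => isMaximal_of_pow_maximalIdeal_le (P ⊔ Q) hfl p hp hle
  have hflT : ∀ j : ℕ, IsFiniteLength A (DRing.Tor A (j + 1) (A ⧸ Q) (A ⧸ P)) := by
    intro j
    haveI := finite_tor (A := A) (A ⧸ Q) (j + 1) (A ⧸ P)
    refine isFiniteLength_of_finite_of_torsion (P ⊔ Q) _ fun a ha t => ?_
    obtain ⟨x, hx, y, hy, rfl⟩ := Submodule.mem_sup.mp ha
    rw [add_smul, smul_tor_eq_zero_right (A := A) (A ⧸ Q) (A ⧸ P) (j + 1) x (smul_quotient_eq_zero P x hx) t,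
      smul_tor_eq_zero_left (A := A) (A ⧸ Q) (A ⧸ P) (j + 1) y (smul_quotient_eq_zero Q y hy) t, add_zero]
  exact (tor_vanish_aux (A := A) (A ⧸ Q) e (A ⧸ P) hpd hdepth hflT).1 i

/-- the intersection multiplicity of two Cohen–Macaulay quotients of complementary dimension -/
theorem intMult_chi_eq_length_of_cm (P Q : Ideal A) [LocCoh.IsCohenMacaulayLocalRing (A ⧸ P)]
    [LocCoh.IsCohenMacaulayLocalRing (A ⧸ Q)]
    (hfl : ∃ k : ℕ, maximalIdeal A ^ k ≤ P ⊔ Q)
    (hdim : ringKrullDim A ≤ ringKrullDim (A ⧸ P) + ringKrullDim (A ⧸ Q)) :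
    IntMult.chi A (A ⧸ Q) (A ⧸ P) = ((Module.length A (A ⧸ (P ⊔ Q))).toNat : ℤ) :=
  intMult_chi_eq_of_tor_vanish P Q (tor_subsingleton_of_cm P Q hfl hdim)

end CM

end Groth.Agent.Lib.Helper85.IntMultAlg
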