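import Mathlib
import Groth.Prelude.Def_IntMult
import Groth.Prelude.Def_Cyc
import Groth.Prelude.Def_Coh
import Groth.Agent.Lib.Helper85.IntMult.SerreFormula

/-!
# Bilinear expansion of the intersection product on coefficient functions (helper85)
-/

set_option autoImplicit false
set_option linter.style.haveILetI false
set_option linter.unusedSectionVars false
universe u

namespace Groth.Agent.Lib.Helper85.CycBilin

open AlgebraicGeometry CategoryTheory Topology TopologicalSpace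
open Groth.Agent.Lib.Helper55

variable {X : Scheme.{u}}

/-- the local kernel of the intersection product at `ζ` -/
noncomputable def kern (δ : X → ℤ) (n : ℤ) (ζ ξ η : X) : ℤ :=
  open Classical in
  if ξ ⤳ ζ ∧ η ⤳ ζ ∧ δ ξ + δ η - n = δ ζ then
    IntMult.mult (IntMult.ptIdeal ξ) (IntMult.ptIdeal η) ζ else 0

/-- the intersection product at `ζ` as a finite double sum -/
theorem interProd_eq_sum (δ : X → ℤ) (n : ℤ) (α β : X → ℤ) (ζ : X) (S T : Finset X)
    (hS : ∀ ξ, ξ ⤳ ζ → α ξ ≠ 0 → ξ ∈ S) (hT : ∀ η, η ⤳ ζ → β η ≠ 0 → η ∈ T) :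
    IntMult.interProd δ n α β ζ = ∑ ξ ∈ S, ∑ η ∈ T, α ξ * β η * kern δ n ζ ξ η := by
  classical
  unfold IntMult.interProd
  rw [finsum_subtype_eq_finsum_cond (f := fun p : X × X =>
    α p.1 * β p.2 * IntMult.mult (IntMult.ptIdeal p.1) (IntMult.ptIdeal p.2) ζ)
    (fun p : X × X => p.1 ⤳ ζ ∧ p.2 ⤳ ζ ∧ δ p.1 + δ p.2 - n = δ ζ)]
  have hterm : ∀ p : X × X,
      (∑ᶠ (_ : p.1 ⤳ ζ ∧ p.2 ⤳ ζ ∧ δ p.1 + δ p.2 - n = δ ζ),
        α p.1 * β p.2 * IntMult.mult (IntMult.ptIdeal p.1) (IntMult.ptIdeal p.2) ζ) =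
      α p.1 * β p.2 * kern δ n ζ p.1 p.2 := by
    intro p
    rw [finsum_eq_if]
    unfold kern
    split_ifs <;> simp
  rw [finsum_congr hterm]
  rw [finsum_eq_sum_of_support_subset (s := S ×ˢ T)]
  · rw [Finset.sum_product]
  · intro p hp
    rw [Function.mem_support] at hp
    have h1 : α p.1 ≠ 0 := fun h => hp (by simp [h])
    have h2 : β p.2 ≠ 0 := fun h => hp (by simp [h])
    have h3 : kern δ n ζ p.1 p.2 ≠ 0 := fun h => hp (by simp [h])
    have h4 : p.1 ⤳ ζ ∧ p.2 ⤳ ζ ∧ δ p.1 + δ p.2 - n = δ ζ := by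
      by_contra hcon
      exact h3 (by unfold kern; rw [if_neg hcon])
    simp only [Finset.coe_product, Set.mem_prod, Finset.mem_coe]
    exact ⟨hS _ h4.1 h1, hT _ h4.2.1 h2⟩

/-- the indicator function of a point -/
noncomputable def ind (ξ : X) : X → ℤ := fun x => open Classical in if x = ξ then 1 else 0

theorem ind_self (ξ : X) : ind ξ ξ = 1 := by simp [ind]

theorem ind_of_ne {ξ x : X} (h : x ≠ ξ) : ind ξ x = 0 := by simp [ind, h]

/-- the product of two indicator functions is the kernel -/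
theorem interProd_ind (δ : X → ℤ) (n : ℤ) (ξ η ζ : X) :
    IntMult.interProd δ n (ind ξ) (ind η) ζ = kern δ n ζ ξ η := by
  classical
  rw [interProd_eq_sum δ n (ind ξ) (ind η) ζ {ξ} {η}]
  · simp [ind_self]
  · intro x _ hx
    by_contra hne
    exact hx (ind_of_ne (by simpa using hne))
  · intro x _ hx
    by_contra hne
    exact hx (ind_of_ne (by simpa using hne))

/-- the generizations of a point in the support of a cycle are finite in number -/
theorem finite_generizations (α : AlgebraicCycle X ℤ) (y : X) :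
    {ξ : X | ξ ⤳ y ∧ α ξ ≠ 0}.Finite := by
  obtain ⟨t, ht, hfin⟩ := α.locallyFiniteSupport y
  refine hfin.subset ?_
  rintro ξ ⟨h1, h2⟩
  obtain ⟨U, hUt, hU, hyU⟩ := mem_nhds_iff.mp ht
  exact ⟨hUt (h1.mem_open hU hyU), h2⟩

section Pull

variable {Y : Scheme.{u}} (f : X ⟶ Y) (δX : X → ℤ) (δY : Y → ℤ) (e : ℤ)

/-- the weight of the flat pullback at a point -/
noncomputable def wt (x : X) : ℤ :=
  open Classical in
  if δX x = δY (f x) + e then
    ((Module.length (X.presheaf.stalk x)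
      (X.presheaf.stalk x ⧸ Ideal.map (f.stalkMap x).hom
        (IsLocalRing.maximalIdeal (Y.presheaf.stalk (f x))))).toNat : ℤ)
  else 0

theorem pullFun_eq_mul (g : Y → ℤ) (x : X) :
    Cyc.pullFun f δX δY e g x = g (f x) * wt f δX δY e x := by
  classical
  unfold Cyc.pullFun wt
  split_ifs <;> simp

theorem sum_mul_ind (α : Y → ℤ) (S : Finset Y) (y : Y) (hy : α y ≠ 0 → y ∈ S) :
    ∑ ξ ∈ S, α ξ * ind ξ y = α y := by
  classical
  unfold ind
  simp only [mul_ite, mul_one, mul_zero]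
  rw [Finset.sum_ite_eq]
  split_ifs with h
  · rfl
  · by_contra hne
    exact h (hy (Ne.symm hne))

/-- bilinearity: the compatibility of flat pullback with the intersection product follows from
the case of indicator functions -/
theorem pull_interProd_bilin (n m : ℤ) (α β : Y → ℤ) (ζ : X) (S T : Finset Y) (S' T' : Finset X)
    (hS : ∀ ξ, ξ ⤳ f ζ → α ξ ≠ 0 → ξ ∈ S) (hT : ∀ η, η ⤳ f ζ → β η ≠ 0 → η ∈ T)
    (hS'1 : ∀ ξ' ∈ S', ξ' ⤳ ζ) (hT'1 : ∀ η' ∈ T', η' ⤳ ζ)
    (hS' : ∀ ξ ∈ S, ∀ ξ', ξ' ⤳ ζ → Cyc.pullFun f δX δY e (ind ξ) ξ' ≠ 0 → ξ' ∈ S')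
    (hT' : ∀ η ∈ T, ∀ η', η' ⤳ ζ → Cyc.pullFun f δX δY e (ind η) η' ≠ 0 → η' ∈ T')
    (hkey : ∀ ξ ∈ S, ∀ η ∈ T, α ξ ≠ 0 → β η ≠ 0 →
      Cyc.pullFun f δX δY e (IntMult.interProd δY m (ind ξ) (ind η)) ζ =
        IntMult.interProd δX n (Cyc.pullFun f δX δY e (ind ξ))
          (Cyc.pullFun f δX δY e (ind η)) ζ) :
    Cyc.pullFun f δX δY e (IntMult.interProd δY m α β) ζ =
      IntMult.interProd δX n (Cyc.pullFun f δX δY e α) (Cyc.pullFun f δX δY e β) ζ := by
  classical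
  -- the left hand side
  have hL : Cyc.pullFun f δX δY e (IntMult.interProd δY m α β) ζ =
      ∑ ξ ∈ S, ∑ η ∈ T, (α ξ * β η) *
        Cyc.pullFun f δX δY e (IntMult.interProd δY m (ind ξ) (ind η)) ζ := by
    rw [pullFun_eq_mul, interProd_eq_sum δY m α β (f ζ) S T hS hT, Finset.sum_mul]
    refine Finset.sum_congr rfl (fun ξ _ => ?_)
    rw [Finset.sum_mul]
    refine Finset.sum_congr rfl (fun η _ => ?_)
    rw [pullFun_eq_mul, interProd_ind]
    ring
  -- the pulled back cycles in terms of indicator functions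
  have hα : ∀ ξ' ∈ S', Cyc.pullFun f δX δY e α ξ' =
      ∑ ξ ∈ S, α ξ * Cyc.pullFun f δX δY e (ind ξ) ξ' := by
    intro ξ' hξ'
    have h1 : f ξ' ⤳ f ζ := (hS'1 ξ' hξ').map f.continuous
    rw [pullFun_eq_mul, ← sum_mul_ind α S (f ξ') (hS _ h1), Finset.sum_mul]
    refine Finset.sum_congr rfl (fun ξ _ => ?_)
    rw [pullFun_eq_mul]
    ring
  have hβ : ∀ η' ∈ T', Cyc.pullFun f δX δY e β η' =
      ∑ η ∈ T, β η * Cyc.pullFun f δX δY e (ind η) η' := by
    intro η' hη'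
    have h1 : f η' ⤳ f ζ := (hT'1 η' hη').map f.continuous
    rw [pullFun_eq_mul, ← sum_mul_ind β T (f η') (hT _ h1), Finset.sum_mul]
    refine Finset.sum_congr rfl (fun η _ => ?_)
    rw [pullFun_eq_mul]
    ring
  -- supports upstairs
  have hSα : ∀ ξ', ξ' ⤳ ζ → Cyc.pullFun f δX δY e α ξ' ≠ 0 → ξ' ∈ S' := by
    intro ξ' h1 h2
    rw [pullFun_eq_mul] at h2
    have h3 : α (f ξ') ≠ 0 := fun h => h2 (by rw [h, zero_mul])
    have h4 : wt f δX δY e ξ' ≠ 0 := fun h => h2 (by rw [h, mul_zero])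
    refine hS' (f ξ') (hS _ (h1.map f.continuous) h3) ξ' h1 ?_
    rw [pullFun_eq_mul, ind_self, one_mul]
    exact h4
  have hTβ : ∀ η', η' ⤳ ζ → Cyc.pullFun f δX δY e β η' ≠ 0 → η' ∈ T' := by
    intro η' h1 h2
    rw [pullFun_eq_mul] at h2
    have h3 : β (f η') ≠ 0 := fun h => h2 (by rw [h, zero_mul])
    have h4 : wt f δX δY e η' ≠ 0 := fun h => h2 (by rw [h, mul_zero])
    refine hT' (f η') (hT _ (h1.map f.continuous) h3) η' h1 ?_
    rw [pullFun_eq_mul, ind_self, one_mul]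
    exact h4
  -- the right hand side
  have hR : IntMult.interProd δX n (Cyc.pullFun f δX δY e α) (Cyc.pullFun f δX δY e β) ζ =
      ∑ ξ ∈ S, ∑ η ∈ T, (α ξ * β η) *
        IntMult.interProd δX n (Cyc.pullFun f δX δY e (ind ξ))
          (Cyc.pullFun f δX δY e (ind η)) ζ := by
    rw [interProd_eq_sum δX n _ _ ζ S' T' hSα hTβ]
    have h1 : ∀ ξ ∈ S, ∀ η ∈ T,
        IntMult.interProd δX n (Cyc.pullFun f δX δY e (ind ξ))
          (Cyc.pullFun f δX δY e (ind η)) ζ =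
        ∑ ξ' ∈ S', ∑ η' ∈ T', Cyc.pullFun f δX δY e (ind ξ) ξ' *
          Cyc.pullFun f δX δY e (ind η) η' * kern δX n ζ ξ' η' :=
      fun ξ hξ η hη => interProd_eq_sum δX n _ _ ζ S' T' (hS' ξ hξ) (hT' η hη)
    calc ∑ ξ' ∈ S', ∑ η' ∈ T', Cyc.pullFun f δX δY e α ξ' * Cyc.pullFun f δX δY e β η' *
          kern δX n ζ ξ' η'
        = ∑ ξ' ∈ S', ∑ η' ∈ T', ∑ ξ ∈ S, ∑ η ∈ T, (α ξ * β η) *
            (Cyc.pullFun f δX δY e (ind ξ) ξ' * Cyc.pullFun f δX δY e (ind η) η' *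
              kern δX n ζ ξ' η') := by
          refine Finset.sum_congr rfl (fun ξ' hξ' => ?_)
          refine Finset.sum_congr rfl (fun η' hη' => ?_)
          rw [hα ξ' hξ', hβ η' hη', Finset.sum_mul_sum, Finset.sum_mul]
          refine Finset.sum_congr rfl (fun ξ _ => ?_)
          rw [Finset.sum_mul]
          refine Finset.sum_congr rfl (fun η _ => ?_)
          ring
      _ = ∑ ξ' ∈ S', ∑ ξ ∈ S, ∑ η' ∈ T', ∑ η ∈ T, (α ξ * β η) *
            (Cyc.pullFun f δX δY e (ind ξ) ξ' * Cyc.pullFun f δX δY e (ind η) η' *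
              kern δX n ζ ξ' η') := by
          refine Finset.sum_congr rfl (fun ξ' _ => ?_)
          exact Finset.sum_comm
      _ = ∑ ξ ∈ S, ∑ ξ' ∈ S', ∑ η' ∈ T', ∑ η ∈ T, (α ξ * β η) *
            (Cyc.pullFun f δX δY e (ind ξ) ξ' * Cyc.pullFun f δX δY e (ind η) η' *
              kern δX n ζ ξ' η') := Finset.sum_comm
      _ = ∑ ξ ∈ S, ∑ ξ' ∈ S', ∑ η ∈ T, ∑ η' ∈ T', (α ξ * β η) *
            (Cyc.pullFun f δX δY e (ind ξ) ξ' * Cyc.pullFun f δX δY e (ind η) η' *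
              kern δX n ζ ξ' η') := by
          refine Finset.sum_congr rfl (fun ξ _ => ?_)
          refine Finset.sum_congr rfl (fun ξ' _ => ?_)
          exact Finset.sum_comm
      _ = ∑ ξ ∈ S, ∑ η ∈ T, ∑ ξ' ∈ S', ∑ η' ∈ T', (α ξ * β η) *
            (Cyc.pullFun f δX δY e (ind ξ) ξ' * Cyc.pullFun f δX δY e (ind η) η' *
              kern δX n ζ ξ' η') := by
          refine Finset.sum_congr rfl (fun ξ _ => ?_)
          exact Finset.sum_comm
      _ = _ := by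
          refine Finset.sum_congr rfl (fun ξ hξ => ?_)
          refine Finset.sum_congr rfl (fun η hη => ?_)
          rw [h1 ξ hξ η hη, Finset.mul_sum]
          refine Finset.sum_congr rfl (fun ξ' _ => ?_)
          rw [Finset.mul_sum]
  rw [hL, hR]
  refine Finset.sum_congr rfl (fun ξ hξ => ?_)
  refine Finset.sum_congr rfl (fun η hη => ?_)
  by_cases h1 : α ξ = 0
  · rw [h1, zero_mul, zero_mul, zero_mul]
  by_cases h2 : β η = 0
  · rw [h2, mul_zero, zero_mul, zero_mul]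
  rw [hkey ξ hξ η hη h1 h2]

end Pull

end Groth.Agent.Lib.Helper85.CycBilin
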