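import Mathlib
import Groth.Prelude.Def_C1
import Groth.Agent.Lib.Helper85.IntMult.PullDict

/-!
# Gysin maps and restriction of invertible modules (helper85)
-/

set_option autoImplicit false
set_option linter.unusedSectionVars false
universe u
open CategoryTheory AlgebraicGeometry

namespace Groth.Agent.Lib.Helper85.GysinPull

open Groth.Agent.Lib.Helper45 Groth.Agent.Lib.Helper49 Groth.Agent.Lib.Helper45.InvOrd
open Groth.Agent.Lib.Helper85.SecOrd
open Groth.Agent.Lib.Helper85.C1Tensor Groth.Agent.Lib.Helper85.C1Comm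
open Groth.Agent.Lib.Helper85.C1Sum Groth.Agent.Lib.Helper85.Gysin
open Groth.Agent.Lib.Helper85.PullDict Groth.Agent.Lib.Helper85.ClosedDict

variable {D X : Scheme.{u}} (i : D ⟶ X) [IsClosedImmersion i] [IsLocallyNoetherian X]
  (δ : X → ℤ) (hdim : Cyc.IsDimFun X δ)

include hdim in
/-- a cycle on `D` of the form `Σ β(ξ) div(F ξ)` restricted to `D`, with `β` supported on `D` -/
theorem ratEquivZero_closed_of_finsum_divFun (k : ℤ) (β : AlgebraicCycle X ℤ)
    (hβ : β ∈ Cyc.Zk X δ (k + 1)) (hβD : ∀ ξ, β ξ ≠ 0 → ξ ∈ Set.range i)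
    (F : (ξ : X) → X.residueField ξ) (hF : ∀ ξ, F ξ ≠ 0) (γ : AlgebraicCycle D ℤ)
    (hγ : ∀ d, γ d = ∑ᶠ ξ, β ξ * Cyc.divFun δ ξ (F ξ) (i d)) :
    Cyc.RatEquivZero (fun d => δ (i d)) k γ := by
  classical
  apply ratEquivZero_closed i δ hdim k γ (J := {ξ : X // β ξ ≠ 0}) (fun j => j.1)
    (fun j => F j.1 ^ β j.1)
  · intro j
    by_contra hne
    exact j.2 (hβ j.1 hne)
  · intro j
    exact zpow_ne_zero _ (hF j.1)
  · exact locallyFinite_support β
  · intro j
    exact hβD j.1 j.2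
  · intro d
    rw [hγ, ← finsum_subtype_of_support_subset
      (fun ξ => β ξ * Cyc.divFun δ ξ (F ξ) (i d)) (fun ξ => β ξ ≠ 0)
      (fun ξ hne h0 => hne (by rw [h0, zero_mul]))]
    apply finsum_congr
    intro j
    rw [divFun_zpow _ _ _ (hF j.1)]

include hdim in
/-- **`i^* i_* α = c_1(L|_D) ∩ α`** for the Gysin map of a zero scheme -/
theorem gysin_push_self {L : X.Modules} (hL : PicF.IsInvertible L) (s : Γ(L, ⊤)) (k : ℤ)
    (α : AlgebraicCycle D ℤ) (hα : α ∈ Cyc.Zk D (fun d => δ (i d)) k)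
    (w : (ξ : X) → Cyc.secFibre L ξ) (hw : ∀ ξ, w ξ ≠ 0)
    (t : (d : D) → Cyc.secFibre ((Scheme.Modules.pullback i).obj L) d) (ht : ∀ d, t d ≠ 0)
    (γ : AlgebraicCycle D ℤ)
    (hγ : ∀ d, γ d = Cyc.c1CapFun δ L ⇑(AlgebraicCycle.map i (fun d => δ (i d)) δ α)
        (Cyc.gysinChoice L s w) (i d) -
      Cyc.c1CapFun (fun d => δ (i d)) ((Scheme.Modules.pullback i).obj L) ⇑α t d) :
    Cyc.RatEquivZero (fun d => δ (i d)) (k - 1) γ := by
  obtain ⟨n, hn0, hn⟩ := c1Cap_pullback i L δ hdim hL t ht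
  obtain ⟨F, hF0, hF⟩ := c1Cap_indep_family δ hL (AlgebraicCycle.map i (fun d => δ (i d)) δ α)
    (Cyc.gysinChoice L s w) n (gysinChoice_ne_zero s w hw) hn0
  apply ratEquivZero_closed_of_finsum_divFun i δ hdim (k - 1)
    (AlgebraicCycle.map i (fun d => δ (i d)) δ α) ?_ ?_ F hF0
  · intro d
    rw [hγ, hn, ← map_eq_pushFun, hF]
  · intro ξ hξ
    have h1 : (AlgebraicCycle.map i (fun d => δ (i d)) δ α) ξ = pushFun i ⇑α ξ := by
      rw [map_eq_pushFun]
    by_cases hr : ξ ∈ Set.range i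
    · obtain ⟨d, rfl⟩ := hr
      rw [h1, pushFun_apply]
      exact hα d (fun h => hξ (by
        have h' : δ (i d) = k := h
        omega))
    · rw [h1, pushFun_of_notMem i _ ξ hr]
  · intro ξ hξ
    by_contra hr
    apply hξ
    have h1 : (AlgebraicCycle.map i (fun d => δ (i d)) δ α) ξ = pushFun i ⇑α ξ := by
      rw [map_eq_pushFun]
    rw [h1, pushFun_of_notMem i _ ξ hr]

omit [IsClosedImmersion i] [IsLocallyNoetherian X] in
/-- off the zero locus of `s`, divisors of the Gysin choice of sections vanish -/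
theorem secDivFun_gysin_eq_zero {L : X.Modules} (hL : PicF.IsInvertible L) (s : Γ(L, ⊤))
    (w : (ξ : X) → Cyc.secFibre L ξ) (ξ ξ' : X)
    (hne : (Submodule.Quotient.mk (L.presheaf.germ ⊤ ξ' trivial s) : Cyc.secFibre L ξ') ≠ 0) :
    Cyc.secDivFun δ L ξ (Cyc.gysinChoice L s w ξ) ξ' = 0 := by
  unfold Cyc.secDivFun
  split_ifs with hc
  · obtain ⟨V', hξ'V', hbas⟩ := exists_isBasisOn_section hL s ξ' hne
    have hξV' : ξ ∈ V' := hc.1.mem_open V'.isOpen hξ'V'
    rw [gysinChoice_eq_of_ne s w ξ (section_ne_zero_of_specializes hL s hc.1 hne)]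
    have e : (Submodule.Quotient.mk (L.presheaf.germ ⊤ ξ trivial s) : Cyc.secFibre L ξ) =
        Submodule.Quotient.mk ((1 : X.presheaf.stalk ξ) •
          L.presheaf.germ V' ξ hξV' (mres L le_top s)) := by
      rw [one_smul, germ_mres]
    rw [e, secOrdAt_basis hbas ξ' hξ'V' ξ hc.1 1, map_one, ordAt_one]
  · rfl

omit [IsLocallyNoetherian X] in
/-- the Gysin pull-back, pushed forward to `X`, is `c_1(L) ∩ -` with the Gysin choice -/
theorem c1Cap_gysin_eq_pushFun {L : X.Modules} (hL : PicF.IsInvertible L) (s : Γ(L, ⊤))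
    (hrange : Set.range ⇑i = {x : X |
      (Submodule.Quotient.mk (L.presheaf.germ ⊤ x trivial s) : Cyc.secFibre L x) = 0})
    (w : (ξ : X) → Cyc.secFibre L ξ) (α : X → ℤ) :
    pushFun i (fun d => Cyc.c1CapFun δ L α (Cyc.gysinChoice L s w) (i d)) =
      Cyc.c1CapFun δ L α (Cyc.gysinChoice L s w) := by
  funext ξ'
  by_cases hr : ξ' ∈ Set.range i
  · obtain ⟨d, rfl⟩ := hr
    rw [pushFun_apply]
  · rw [pushFun_of_notMem i _ ξ' hr]
    have hne : (Submodule.Quotient.mk (L.presheaf.germ ⊤ ξ' trivial s) : Cyc.secFibre L ξ') ≠ 0 := by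
      intro h0
      apply hr
      rw [hrange]
      exact h0
    unfold Cyc.c1CapFun
    symm
    apply finsum_eq_zero_of_forall_eq_zero
    intro ξ
    rw [secDivFun_gysin_eq_zero δ hL s w ξ ξ' hne, mul_zero]

include hdim in
/-- **`i^*(c_1(N) ∩ α) = c_1(i^*N) ∩ i^*α`** for the Gysin map of a zero scheme -/
theorem gysin_c1Cap_comm {L N : X.Modules} (hL : PicF.IsInvertible L) (hN : PicF.IsInvertible N)
    (s : Γ(L, ⊤))
    (hrange : Set.range ⇑i = {x : X |
      (Submodule.Quotient.mk (L.presheaf.germ ⊤ x trivial s) : Cyc.secFibre L x) = 0})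
    (k : ℤ) (α : AlgebraicCycle X ℤ) (hα : α ∈ Cyc.Zk X δ k)
    (w : (ξ : X) → Cyc.secFibre L ξ) (hw : ∀ ξ, w ξ ≠ 0)
    (v : (ξ : X) → Cyc.secFibre N ξ) (hv : ∀ ξ, v ξ ≠ 0)
    (t : (d : D) → Cyc.secFibre ((Scheme.Modules.pullback i).obj N) d) (ht : ∀ d, t d ≠ 0)
    (ζ : AlgebraicCycle D ℤ)
    (hζ : ∀ d, ζ d = Cyc.c1CapFun δ L (Cyc.c1CapFun δ N ⇑α v) (Cyc.gysinChoice L s w) (i d) -
      Cyc.c1CapFun (fun d => δ (i d)) ((Scheme.Modules.pullback i).obj N)
        (fun d => Cyc.c1CapFun δ L ⇑α (Cyc.gysinChoice L s w) (i d)) t d) :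
    Cyc.RatEquivZero (fun d => δ (i d)) (k - 2) ζ := by
  classical
  obtain ⟨n, hn0, hn⟩ := c1Cap_pullback i N δ hdim hN t ht
  have hg0 := gysinChoice_ne_zero s w hw
  have hH := fun ξ : X => comm_full δ hdim hN hL ξ (v ξ) (hv ξ) (Cyc.gysinChoice L s w ξ)
    (hg0 ξ) (Cyc.gysinChoice L s w) hg0 n hn0
  choose H hH0 hHP hHfin hHid using hH
  obtain ⟨d1, d2, d3, d4⟩ := family_data δ (k - 2) (J := {ξ : X // α ξ ≠ 0}) (fun j => j.1)
    (fun j ξ' => H j.1 ξ' ^ α j.1) (fun j ξ' => zpow_ne_zero _ (hH0 j.1 ξ'))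
    (fun j => by
      by_contra hne
      exact j.2 (hα j.1 (fun h => hne (by rw [h]; ring))))
    (locallyFinite_support α)
    (fun j x => by
      obtain ⟨U, hUo, hxU, hfin⟩ := hHfin j.1 x
      refine ⟨U, hUo, hxU, hfin.subset ?_⟩
      rintro ξ' ⟨h1, h2, h3⟩
      refine ⟨h1, h2, fun h4 => h3 ?_⟩
      rw [h4, one_zpow])
    (fun x => Cyc.c1CapFun δ L (Cyc.c1CapFun δ N ⇑α v) (Cyc.gysinChoice L s w) x -
      Cyc.c1CapFun δ N (Cyc.c1CapFun δ L ⇑α (Cyc.gysinChoice L s w)) n x)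
    (fun x => c1Cap_comm_sum δ α (Cyc.gysinChoice L s w) (Cyc.gysinChoice L s w) v n H hH0
      hHid x)
  apply ratEquivZero_closed i δ hdim (k - 2) ζ
    (J := {p : {ξ : X // α ξ ≠ 0} × X //
      (p.1.1 ⤳ p.2 ∧ δ p.2 + 1 = δ p.1.1) ∧ H p.1.1 p.2 ^ α p.1.1 ≠ 1})
    (fun p => p.1.2) (fun p => H p.1.1.1 p.1.2 ^ α p.1.1.1) d1 d2 d3
  · intro p
    by_contra hnr
    apply p.2.2
    have hne : (Submodule.Quotient.mk (L.presheaf.germ ⊤ p.1.2 trivial s) :
        Cyc.secFibre L p.1.2) ≠ 0 := by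
      intro h0
      apply hnr
      rw [hrange]
      exact h0
    rw [H_eq_one_of_section δ hdim hN hL s p.1.1.1 (v p.1.1.1) (hv _)
      (Cyc.gysinChoice L s w p.1.1.1) (Cyc.gysinChoice L s w) n (H p.1.1.1) (hHP p.1.1.1)
      p.1.2 p.2.1 hne
      (gysinChoice_eq_of_ne s w _ (section_ne_zero_of_specializes hL s p.2.1.1 hne))
      (gysinChoice_eq_of_ne s w _ hne), one_zpow]
  · intro d
    rw [hζ, hn, c1Cap_gysin_eq_pushFun i δ hL s hrange w]
    exact d4 (i d)

include hdim in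
/-- commutativity of `c_1(L)` (with the Gysin choice of sections) and `c_1(N)` on the divisor of
the global section `s` itself, as a rational equivalence on the zero scheme `D` -/
theorem gysin_comm_closed {L N : X.Modules} (hL : PicF.IsInvertible L)
    (hN : PicF.IsInvertible N) (s : Γ(L, ⊤))
    (hrange : Set.range ⇑i = {x : X |
      (Submodule.Quotient.mk (L.presheaf.germ ⊤ x trivial s) : Cyc.secFibre L x) = 0})
    (ξ : X) (k : ℤ) (hk : δ ξ = k + 2) (t : Cyc.secFibre N ξ) (ht : t ≠ 0)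
    (hsξ : (Submodule.Quotient.mk (L.presheaf.germ ⊤ ξ trivial s) : Cyc.secFibre L ξ) ≠ 0)
    (w : (ξ : X) → Cyc.secFibre L ξ) (hw : ∀ ξ, w ξ ≠ 0)
    (n : (ξ : X) → Cyc.secFibre N ξ) (hn0 : ∀ ξ, n ξ ≠ 0) (γ : AlgebraicCycle D ℤ)
    (hγ : ∀ d, γ d =
      (∑ᶠ ξ' : X, Cyc.secDivFun δ N ξ t ξ' *
        Cyc.secDivFun δ L ξ' (Cyc.gysinChoice L s w ξ') (i d)) -
      (∑ᶠ ξ' : X, Cyc.secDivFun δ L ξ (Submodule.Quotient.mk (L.presheaf.germ ⊤ ξ trivial s)) ξ' *
        Cyc.secDivFun δ N ξ' (n ξ') (i d))) :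
    Cyc.RatEquivZero (fun d => δ (i d)) k γ := by
  classical
  have hg0 := gysinChoice_ne_zero s w hw
  obtain ⟨H, hH0, hHP, hHfin, hHid⟩ := comm_full δ hdim hN hL ξ t ht
    (Submodule.Quotient.mk (L.presheaf.germ ⊤ ξ trivial s)) hsξ (Cyc.gysinChoice L s w) hg0 n hn0
  obtain ⟨d1, d2, d3, d4⟩ := single_family_data δ ξ k hk H hH0 hHfin
  apply ratEquivZero_closed i δ hdim k γ
    (J := {ξ' : X // (ξ ⤳ ξ' ∧ δ ξ' + 1 = δ ξ) ∧ H ξ' ≠ 1}) (fun p => p.1) (fun p => H p.1)
    d1 d2 d3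
  · intro p
    by_contra hnr
    apply p.2.2
    have hne : (Submodule.Quotient.mk (L.presheaf.germ ⊤ p.1 trivial s) :
        Cyc.secFibre L p.1) ≠ 0 := by
      intro h0
      apply hnr
      rw [hrange]
      exact h0
    exact H_eq_one_of_section δ hdim hN hL s ξ t ht _ (Cyc.gysinChoice L s w) n H hHP
      p.1 p.2.1 hne rfl (gysinChoice_eq_of_ne s w _ hne)
  · intro d
    rw [hγ, (hHid (i d)).2.2]
    exact d4 (i d)

section ZeroScheme

omit [IsClosedImmersion i] [IsLocallyNoetherian X] in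
/-- a generator of a stalk of an invertible module has zero annihilator -/
theorem ann_of_span_eq_top {L : X.Modules} (hL : PicF.IsInvertible L) (x : X)
    (t : L.presheaf.stalk x) (ht : Submodule.span (X.presheaf.stalk x) {t} = ⊤)
    (a : X.presheaf.stalk x) (ha : a • t = 0) : a = 0 := by
  obtain ⟨V, hxV, τ, hτ⟩ := exists_isBasisOn_of_isInvertible hL x
  have hspan0 := germ_basis_span hτ x hxV
  have hann0 := germ_basis_ann hτ x hxV
  obtain ⟨u, hu⟩ : ∃ u : X.presheaf.stalk x, u • L.presheaf.germ V x hxV τ = t :=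
    Submodule.mem_span_singleton.mp (by rw [hspan0]; exact Submodule.mem_top)
  obtain ⟨u', hu'⟩ : ∃ u' : X.presheaf.stalk x, u' • t = L.presheaf.germ V x hxV τ :=
    Submodule.mem_span_singleton.mp (by rw [ht]; exact Submodule.mem_top)
  have huu : u' * u = 1 := by
    have h1 : (u' * u - 1) • L.presheaf.germ V x hxV τ = 0 := by
      rw [sub_smul, mul_smul, hu, hu', one_smul, sub_self]
    exact sub_eq_zero.mp (hann0 _ h1)
  rw [← hu, smul_smul] at ha
  have h2 := hann0 _ ha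
  calc a = a * (u * u') := by rw [mul_comm u u', huu, mul_one]
    _ = (a * u) * u' := by ring
    _ = 0 := by rw [h2, zero_mul]

omit [IsClosedImmersion i] [IsLocallyNoetherian X] in
/-- the ideal generated by the coefficient of a section on a generator does not depend on the
generator -/
theorem span_coeff_eq {L : X.Modules} (hL : PicF.IsInvertible L) (x : X)
    (t t₀ : L.presheaf.stalk x) (ht : Submodule.span (X.presheaf.stalk x) {t} = ⊤)
    (ht₀ : Submodule.span (X.presheaf.stalk x) {t₀} = ⊤) (f f₀ : X.presheaf.stalk x)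
    (h : f • t = f₀ • t₀) : Ideal.span {f} = Ideal.span {f₀} := by
  obtain ⟨c, hc⟩ : ∃ c : X.presheaf.stalk x, c • t = t₀ :=
    Submodule.mem_span_singleton.mp (by rw [ht]; exact Submodule.mem_top)
  obtain ⟨c', hc'⟩ : ∃ c' : X.presheaf.stalk x, c' • t₀ = t :=
    Submodule.mem_span_singleton.mp (by rw [ht₀]; exact Submodule.mem_top)
  have hcc : c' * c = 1 := by
    have h1 : (c' * c - 1) • t = 0 := by
      rw [sub_smul, mul_smul, hc, hc', one_smul, sub_self]
    exact sub_eq_zero.mp (ann_of_span_eq_top hL x t ht _ h1)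
  have hff : f = f₀ * c := by
    have h1 : (f - f₀ * c) • t = 0 := by
      rw [sub_smul, mul_smul, hc, h, sub_self]
    exact sub_eq_zero.mp (ann_of_span_eq_top hL x t ht _ h1)
  have hcu : IsUnit c := IsUnit.of_mul_eq_one c' ((mul_comm _ _).trans hcc)
  rw [hff]
  exact Ideal.span_singleton_mul_right_unit hcu f₀

omit [IsLocallyNoetherian X] in
/-- the length of the local ring of the zero scheme -/
theorem length_stalk_zeroScheme (d : D) (f₀ : X.presheaf.stalk (i d))
    (hker : RingHom.ker (i.stalkMap d).hom = Ideal.span {f₀}) :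
    Module.length (D.presheaf.stalk d) (D.presheaf.stalk d) =
      Module.length (X.presheaf.stalk (i d)) (X.presheaf.stalk (i d) ⧸ Ideal.span {f₀}) := by
  have h1 := length_quot_map_of_surjective (i.stalkMap d).hom (stalkMap_surjective i d)
    (Ideal.span {f₀}) (le_of_eq hker)
  rw [← h1]
  have hbot : (Ideal.span {f₀}).map (i.stalkMap d).hom = ⊥ := by
    rw [← hker]
    exact (Ideal.map_eq_bot_iff_le_ker _).mpr le_rfl
  rw [hbot]
  exact (LinearEquiv.length_eq (Submodule.quotEquivOfEqBot ⊥ rfl)).symm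

omit [IsLocallyNoetherian X] in
/-- the cycle `[D]_k` of the zero scheme of `s`, pushed forward to `X`, is `[Z(s)]_k` -/
theorem pushFun_subschemeFun_eq_zeroSectionFun {L : X.Modules} (hL : PicF.IsInvertible L)
    (s : Γ(L, ⊤)) (hD : Cyc.IsZeroSchemeOf i L s) (k : ℤ) :
    pushFun i (Cyc.subschemeFun (fun d => δ (i d)) k (𝟙 D)) = Cyc.zeroSectionFun δ k L s := by
  classical
  funext ξ'
  by_cases hr : ξ' ∈ Set.range i
  · obtain ⟨d, rfl⟩ := hr
    rw [pushFun_apply]
    unfold Cyc.subschemeFun Cyc.zeroSectionFun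
    by_cases hk : δ (i d) = k
    · simp only
      rw [if_pos hk, if_pos hk]
      have hset : {z : D | (𝟙 D : D ⟶ D) z = d} = {d} := by
        ext z
        simp
      rw [hset, finsum_mem_singleton]
      obtain ⟨t₀, f₀, ht₀, hf₀, hker⟩ := hD.2 d
      have hex : ∃ t : L.presheaf.stalk (i d),
          Submodule.span (X.presheaf.stalk (i d)) {t} = ⊤ := ⟨t₀, ht₀⟩
      rw [dif_pos hex]
      have ht' := Classical.choose_spec hex
      generalize Classical.choose hex = t at ht'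
      have hf : ∃ f : X.presheaf.stalk (i d), (L.presheaf.germ ⊤ (i d) trivial) s = f • t := by
        obtain ⟨f, hf⟩ := Submodule.mem_span_singleton.mp
          (show (L.presheaf.germ ⊤ (i d) trivial) s ∈
            Submodule.span (X.presheaf.stalk (i d)) {t} by rw [ht']; exact Submodule.mem_top)
        exact ⟨f, hf.symm⟩
      rw [dif_pos hf]
      have hf' := Classical.choose_spec hf
      generalize Classical.choose hf = f at hf'
      have hspan : Ideal.span {f} = Ideal.span {f₀} :=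
        span_coeff_eq hL (i d) t t₀ ht' ht₀ f f₀ (hf'.symm.trans hf₀)
      rw [hspan, length_stalk_zeroScheme i d f₀ hker]
    · simp only
      rw [if_neg hk, if_neg hk]
  · rw [pushFun_of_notMem i _ ξ' hr]
    have hne : (Submodule.Quotient.mk (L.presheaf.germ ⊤ ξ' trivial s) : Cyc.secFibre L ξ') ≠ 0 := by
      intro h0
      apply hr
      rw [hD.1]
      exact h0
    unfold Cyc.zeroSectionFun
    simp only
    split_ifs with h1 h2 h3
    · have ht' := Classical.choose_spec h2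
      have hf' := Classical.choose_spec h3
      generalize Classical.choose h3 = f at hf'
      generalize Classical.choose h2 = t at ht' hf'
      have hfu : IsUnit f := by
        by_contra hnu
        apply hne
        rw [hf', Submodule.Quotient.mk_eq_zero]
        exact Submodule.smul_mem_smul hnu Submodule.mem_top
      rw [Ideal.span_singleton_eq_top.mpr hfu]
      have : Module.length (X.presheaf.stalk ξ')
          (X.presheaf.stalk ξ' ⧸ (⊤ : Ideal (X.presheaf.stalk ξ'))) = 0 := by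
        rw [Module.length_eq_zero_iff]
        exact Submodule.Quotient.subsingleton_iff.mpr rfl
      rw [this]
      rfl
    · rfl
    · rfl
    · rfl

include hdim in
/-- **`i^*(div_N t) = c_1(N|_D) ∩ [D]`** for an effective Cartier divisor `D = Z(s)` on an
integral scheme -/
theorem gysin_divSec [IsIntegral X] {L N : X.Modules} (n : ℤ) (hn : δ (genericPoint X) = n)
    (hL : PicF.IsInvertible L) (hN : PicF.IsInvertible N) (s : Γ(L, ⊤))
    (hsη : L.presheaf.germ ⊤ (genericPoint X) trivial s ≠ 0)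
    (hD : Cyc.IsZeroSchemeOf i L s) (t : Cyc.secFibre N (genericPoint X)) (ht : t ≠ 0)
    (w : (ξ : X) → Cyc.secFibre L ξ) (hw : ∀ ξ, w ξ ≠ 0)
    (u : (d : D) → Cyc.secFibre ((Scheme.Modules.pullback i).obj N) d) (hu : ∀ d, u d ≠ 0)
    (hdiv : Cyc.secDivFun δ L (genericPoint X)
      (Submodule.Quotient.mk (L.presheaf.germ ⊤ (genericPoint X) trivial s)) =
        Cyc.zeroSectionFun δ (n - 1) L s)
    (γ : AlgebraicCycle D ℤ)
    (hγ : ∀ d, γ d = Cyc.c1CapFun δ L (Cyc.secDivFun δ N (genericPoint X) t)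
        (Cyc.gysinChoice L s w) (i d) -
      Cyc.c1CapFun (fun d => δ (i d)) ((Scheme.Modules.pullback i).obj N)
        (Cyc.subschemeFun (fun d => δ (i d)) (n - 1) (𝟙 D)) u d) :
    Cyc.RatEquivZero (fun d => δ (i d)) (n - 2) γ := by
  obtain ⟨n', hn0, hn'⟩ := c1Cap_pullback i N δ hdim hN u hu
  have hsη' : (Submodule.Quotient.mk (L.presheaf.germ ⊤ (genericPoint X) trivial s) :
      Cyc.secFibre L (genericPoint X)) ≠ 0 := by
    intro h0
    apply hsη
    have h1 : (Submodule.Quotient.mk (L.presheaf.germ ⊤ (genericPoint X) trivial s) :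
        Cyc.secFibre L (genericPoint X)) = Submodule.Quotient.mk 0 := by
      rw [h0]
      rfl
    exact (Groth.Agent.Lib.Helper45.OrdGeneric.secFibre_mk_eq_iff L _ _).mp h1
  apply gysin_comm_closed i δ hdim hL hN s hD.1 (genericPoint X) (n - 2) (by omega) t ht hsη'
    w hw n' hn0 γ
  intro d
  rw [hγ, hn', pushFun_subschemeFun_eq_zeroSectionFun i δ hL s hD (n - 1), ← hdiv]
  rfl

end ZeroScheme

end Groth.Agent.Lib.Helper85.GysinPull
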