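import Mathlib
import Groth.Prelude.Def_C1
import Groth.Agent.Lib.Helper85.IntMult.GysinPull

/-!
# The fibre product of two closed subschemes: kernels of stalk maps (helper85)

For a pullback square of closed immersions, the kernel of the stalk map of the projection is
generated by the image of the kernel of the stalk map of the opposite immersion.  Consequence:
the zero scheme of the restriction of a section is the fibre product with its zero scheme.
-/

set_option autoImplicit false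
set_option linter.unusedSectionVars false
universe u
open CategoryTheory AlgebraicGeometry Limits

namespace Groth.Agent.Lib.Helper85.PullbackKer

theorem ker_le_of_isPushout {A B B' C : CommRingCat.{u}} {φ : A ⟶ B} {φ' : A ⟶ B'} {ψ : B ⟶ C}
    {ψ' : B' ⟶ C} (h : IsPushout φ φ' ψ ψ') (hφ : Function.Surjective φ) :
    RingHom.ker ψ'.hom ≤ Ideal.map φ'.hom (RingHom.ker φ.hom) := by
  set J : Ideal B' := Ideal.map φ'.hom (RingHom.ker φ.hom) with hJ
  let q : B' →+* B' ⧸ J := Ideal.Quotient.mk J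
  have hk : ∀ a : A, φ.hom a = 0 → (q.comp φ'.hom) a = 0 := by
    intro a ha
    show q (φ'.hom a) = 0
    rw [Ideal.Quotient.eq_zero_iff_mem]
    exact Ideal.mem_map_of_mem _ (RingHom.mem_ker.mpr ha)
  let r : B →+* B' ⧸ J := RingHom.liftOfSurjective φ.hom hφ ⟨q.comp φ'.hom, hk⟩
  have hr : r.comp φ.hom = q.comp φ'.hom := RingHom.liftOfSurjective_comp _ hφ _
  have w : φ ≫ CommRingCat.ofHom r = φ' ≫ CommRingCat.ofHom q := by
    ext a
    exact DFunLike.congr_fun hr a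
  intro b' hb'
  have h1 : ψ' ≫ h.desc (CommRingCat.ofHom r) (CommRingCat.ofHom q) w = CommRingCat.ofHom q :=
    h.inr_desc _ _ w
  have h2 : q b' = (h.desc (CommRingCat.ofHom r) (CommRingCat.ofHom q) w).hom (ψ'.hom b') := by
    have := DFunLike.congr_fun (congrArg CommRingCat.Hom.hom h1) b'
    exact this.symm
  rw [RingHom.mem_ker.mp hb', map_zero] at h2
  exact Ideal.Quotient.eq_zero_iff_mem.mp h2

section Ker

variable {P D D' X : Scheme.{u}} {pf : P ⟶ D} {ps : P ⟶ D'} {i : D ⟶ X} {i' : D' ⟶ X}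
  [IsClosedImmersion i] [IsClosedImmersion i'] (H : IsPullback pf ps i i')

include H in
theorem mem_map_of_app_eq_zero (U : X.Opens) (hU : IsAffineOpen U) (b' : Γ(D', i' ⁻¹ᵁ U))
    (hb' : (ps.app (i' ⁻¹ᵁ U)).hom b' = 0) :
    b' ∈ Ideal.map (i'.app U).hom (RingHom.ker (i.app U).hom) := by
  have hUY : ps ⁻¹ᵁ (i' ⁻¹ᵁ U) = pf ⁻¹ᵁ (i ⁻¹ᵁ U) ⊓ ps ⁻¹ᵁ (i' ⁻¹ᵁ U) := by
    have h1 : pf ⁻¹ᵁ (i ⁻¹ᵁ U) = ps ⁻¹ᵁ (i' ⁻¹ᵁ U) := by
      rw [← Scheme.Hom.comp_preimage, ← Scheme.Hom.comp_preimage, H.w]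
    rw [h1, inf_idem]
  have HR := Scheme.Hom.isPullback_resLE H (US := U) (UT := i' ⁻¹ᵁ U) (UX := i ⁻¹ᵁ U) le_rfl le_rfl
    (UY := ps ⁻¹ᵁ (i' ⁻¹ᵁ U)) hUY
  have : IsAffine U.toScheme := hU
  have : IsAffine (i ⁻¹ᵁ U).toScheme := hU.preimage i
  have : IsAffine (i' ⁻¹ᵁ U).toScheme := hU.preimage i'
  have PO := isPushout_appTop_of_isPullback HR
  -- formulas for the four maps
  have e_i : (i.resLE U (i ⁻¹ᵁ U) le_rfl).appTop =
      U.topIso.hom ≫ i.app U ≫ (i ⁻¹ᵁ U).topIso.inv := by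
    rw [← Scheme.Hom.appLE_eq_app]
    exact Scheme.Hom.resLE_app_top i le_rfl
  have e_i' : (i'.resLE U (i' ⁻¹ᵁ U) le_rfl).appTop =
      U.topIso.hom ≫ i'.app U ≫ (i' ⁻¹ᵁ U).topIso.inv := by
    rw [← Scheme.Hom.appLE_eq_app]
    exact Scheme.Hom.resLE_app_top i' le_rfl
  have hsurj : Function.Surjective (i.resLE U (i ⁻¹ᵁ U) le_rfl).appTop := by
    rw [e_i]
    intro c
    obtain ⟨a, ha⟩ := i.app_surjective U hU ((i ⁻¹ᵁ U).topIso.hom c)
    refine ⟨U.topIso.inv a, ?_⟩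
    simp only [CommRingCat.comp_apply]
    rw [← CommRingCat.comp_apply U.topIso.inv U.topIso.hom, Iso.inv_hom_id]
    simp only [CommRingCat.id_apply]
    rw [ha, ← CommRingCat.comp_apply, Iso.hom_inv_id]
    rfl
  have hk := ker_le_of_isPushout PO hsurj
  have e_ps : ∀ e, (ps.resLE (i' ⁻¹ᵁ U) (ps ⁻¹ᵁ (i' ⁻¹ᵁ U)) e).appTop =
      (i' ⁻¹ᵁ U).topIso.hom ≫ ps.app (i' ⁻¹ᵁ U) ≫ (ps ⁻¹ᵁ (i' ⁻¹ᵁ U)).topIso.inv := by
    intro e
    rw [← Scheme.Hom.appLE_eq_app]
    exact Scheme.Hom.resLE_app_top ps e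
  have hb'' : ((i' ⁻¹ᵁ U).topIso.inv.hom b') ∈
      RingHom.ker (ps.resLE (i' ⁻¹ᵁ U) (ps ⁻¹ᵁ (i' ⁻¹ᵁ U)) le_rfl).appTop.hom := by
    rw [RingHom.mem_ker, e_ps]
    simp only [CommRingCat.hom_comp, RingHom.comp_apply]
    have h1 : (i' ⁻¹ᵁ U).topIso.hom.hom ((i' ⁻¹ᵁ U).topIso.inv.hom b') = b' := by
      rw [← RingHom.comp_apply, ← CommRingCat.hom_comp, Iso.inv_hom_id]
      rfl
    rw [h1, hb', map_zero]
  have h2 := Ideal.mem_map_of_mem (i' ⁻¹ᵁ U).topIso.hom.hom (hk hb'')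
  have h3 : (i' ⁻¹ᵁ U).topIso.hom.hom ((i' ⁻¹ᵁ U).topIso.inv.hom b') = b' := by
    rw [← RingHom.comp_apply, ← CommRingCat.hom_comp, Iso.inv_hom_id]
    rfl
  rw [h3, Ideal.map_map] at h2
  refine (Ideal.map_le_iff_le_comap.mpr ?_) h2
  intro a ha
  rw [Ideal.mem_comap]
  have h4 : ((i' ⁻¹ᵁ U).topIso.hom.hom.comp (i'.resLE U (i' ⁻¹ᵁ U) le_rfl).appTop.hom) a =
      (i'.app U).hom (U.topIso.hom.hom a) := by
    rw [e_i']
    simp only [CommRingCat.hom_comp, RingHom.comp_apply]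
    rw [← RingHom.comp_apply (i' ⁻¹ᵁ U).topIso.hom.hom, ← CommRingCat.hom_comp, Iso.inv_hom_id]
    rfl
  rw [h4]
  apply Ideal.mem_map_of_mem
  rw [RingHom.mem_ker]
  have h5 : (i.app U).hom (U.topIso.hom.hom a) =
      (i ⁻¹ᵁ U).topIso.hom.hom ((i.resLE U (i ⁻¹ᵁ U) le_rfl).appTop.hom a) := by
    rw [e_i]
    simp only [CommRingCat.hom_comp, RingHom.comp_apply]
    rw [← RingHom.comp_apply (i ⁻¹ᵁ U).topIso.hom.hom, ← CommRingCat.hom_comp, Iso.inv_hom_id]
    rfl
  rw [h5, RingHom.mem_ker.mp ha, map_zero]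


include H in
theorem ker_stalkMap_le (z : P) (I : Ideal (X.presheaf.stalk (i' (ps z))))
    (hI : ∀ (U : X.Opens) (_ : IsAffineOpen U) (hx : i' (ps z) ∈ U) (a : Γ(X, U)),
      (i.app U).hom a = 0 → X.presheaf.germ U _ hx a ∈ I) :
    RingHom.ker (ps.stalkMap z).hom ≤ Ideal.map (i'.stalkMap (ps z)).hom I := by
  intro a₀ ha₀
  obtain ⟨W', hzW', b, hb⟩ := TopCat.Presheaf.exists_germ_eq D'.presheaf (x := ps z) a₀
  obtain ⟨O₁, hO₁, hO₁W⟩ := i'.isClosedEmbedding.isInducing.isOpen_iff.mp W'.isOpen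
  have hz0 : P.presheaf.germ (ps ⁻¹ᵁ W') z hzW' ((ps.app W').hom b) =
      P.presheaf.germ (ps ⁻¹ᵁ W') z hzW' 0 := by
    rw [map_zero]
    have h1 := Scheme.Hom.germ_stalkMap_apply ps W' z hzW' b
    rw [← h1, hb]
    exact RingHom.mem_ker.mp ha₀
  obtain ⟨WP, hzWP, iU, iV, hres⟩ := TopCat.Presheaf.germ_eq P.presheaf z hzW' hzW' _ _ hz0
  have : IsClosedImmersion (ps ≫ i') := by
    have : IsClosedImmersion ps := by
      have := MorphismProperty.of_isPullback (P := @IsClosedImmersion) H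
      exact this inferInstance
    infer_instance
  obtain ⟨O₂, hO₂, hO₂W⟩ := (ps ≫ i').isClosedEmbedding.isInducing.isOpen_iff.mp WP.isOpen
  have hx12 : i' (ps z) ∈ O₁ ∩ O₂ := by
    refine ⟨?_, ?_⟩
    · have : ps z ∈ i' ⁻¹' O₁ := by rw [hO₁W]; exact hzW'
      exact this
    · have : z ∈ (ps ≫ i') ⁻¹' O₂ := by rw [hO₂W]; exact hzWP
      exact this
  obtain ⟨_, ⟨U₃, hU₃, rfl⟩, hxU₃, hU₃O⟩ :=
    X.isBasis_affineOpens.exists_subset_of_mem_open hx12 (hO₁.inter hO₂)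
  have hle1 : i' ⁻¹ᵁ U₃ ≤ W' := by
    intro y hy
    have : y ∈ i' ⁻¹' O₁ := (hU₃O hy).1
    rw [hO₁W] at this
    exact this
  have hle2 : ps ⁻¹ᵁ (i' ⁻¹ᵁ U₃) ≤ WP := by
    intro y hy
    have : y ∈ (ps ≫ i') ⁻¹' O₂ := (hU₃O hy).2
    rw [hO₂W] at this
    exact this
  set b₃ : Γ(D', i' ⁻¹ᵁ U₃) := (D'.presheaf.map (homOfLE hle1).op).hom b with hb₃
  have hb₃0 : (ps.app (i' ⁻¹ᵁ U₃)).hom b₃ = 0 := by
    have hnat := Scheme.Hom.naturality ps (homOfLE hle1).op
    have h1 : (ps.app (i' ⁻¹ᵁ U₃)).hom b₃ =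
        (P.presheaf.map ((TopologicalSpace.Opens.map ps.base).map (homOfLE hle1)).op).hom
          ((ps.app W').hom b) := by
      exact DFunLike.congr_fun (congrArg CommRingCat.Hom.hom hnat) b
    rw [h1]
    have h2 : ((TopologicalSpace.Opens.map ps.base).map (homOfLE hle1)).op =
        iU.op ≫ (homOfLE hle2).op := Subsingleton.elim _ _
    rw [h2, P.presheaf.map_comp]
    simp only [CommRingCat.hom_comp, RingHom.comp_apply]
    rw [hres, map_zero, map_zero]
  have hmem := mem_map_of_app_eq_zero H U₃ hU₃ b₃ hb₃0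
  have hzU₃ : ps z ∈ i' ⁻¹ᵁ U₃ := hxU₃
  have hgerm : (D'.presheaf.germ (i' ⁻¹ᵁ U₃) (ps z) hzU₃).hom b₃ = a₀ := by
    rw [hb₃, ← hb]
    exact TopCat.Presheaf.germ_res_apply D'.presheaf (homOfLE hle1) (ps z) hzU₃ b
  rw [← hgerm]
  have h3 := Ideal.mem_map_of_mem (D'.presheaf.germ (i' ⁻¹ᵁ U₃) (ps z) hzU₃).hom hmem
  rw [Ideal.map_map] at h3
  refine (Ideal.map_le_iff_le_comap.mpr ?_) h3
  intro a ha
  rw [Ideal.mem_comap]
  have h4 : ((D'.presheaf.germ (i' ⁻¹ᵁ U₃) (ps z) hzU₃).hom.comp (i'.app U₃).hom) a =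
      (i'.stalkMap (ps z)).hom (X.presheaf.germ U₃ (i' (ps z)) hxU₃ a) :=
    (Scheme.Hom.germ_stalkMap_apply i' U₃ (ps z) hxU₃ a).symm
  rw [h4]
  exact Ideal.mem_map_of_mem _ (hI U₃ hU₃ hxU₃ a (RingHom.mem_ker.mp ha))

end Ker

section ZeroScheme

open Groth.Agent.Lib.Helper45 Groth.Agent.Lib.Helper49 Groth.Agent.Lib.Helper45.InvOrd
open Groth.Agent.Lib.Helper85.C1Tensor Groth.Agent.Lib.Helper85.Gysin
open Groth.Agent.Lib.Helper85.PullDict Groth.Agent.Lib.Helper85.GysinPull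
open Groth.Agent.Lib.Helper11.PullbackBasis

/-- the germ of a global section in terms of its coefficient on a local basis -/
theorem germ_top_eq {X : Scheme.{u}} {L : X.Modules} (s : L.presheaf.obj (Opposite.op ⊤))
    {V : X.Opens} {τ : Γ(L, V)} (g : Γ(X, V)) (hg : g • τ = mres L le_top s) (x : X) (hx : x ∈ V) :
    (L.presheaf.germ ⊤ x trivial) s = X.presheaf.germ V x hx g • L.presheaf.germ V x hx τ := by
  rw [← germ_mres (le_top : V ≤ ⊤) x hx s, ← hg, Mero.germ_smul]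

/-- the germ of the pullback of a global section, in terms of its coefficient on a local basis -/
theorem germ_pullS_top {Y X : Scheme.{u}} (f : Y ⟶ X) {L : X.Modules}
    (s : L.presheaf.obj (Opposite.op ⊤)) {V : X.Opens} {τ : Γ(L, V)} (g : Γ(X, V))
    (hg : g • τ = mres L le_top s) (y : Y) (hy : f y ∈ V) :
    (((Scheme.Modules.pullback f).obj L).presheaf.germ ⊤ y trivial) (pullS f L ⊤ s) =
      (f.stalkMap y) (X.presheaf.germ V (f y) hy g) •
        ((Scheme.Modules.pullback f).obj L).presheaf.germ (f ⁻¹ᵁ V) y hy (pullS f L V τ) := by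
  have hy' : y ∈ f ⁻¹ᵁ V := hy
  have e1 : (((Scheme.Modules.pullback f).obj L).presheaf.germ ⊤ y trivial) (pullS f L ⊤ s) =
      ((Scheme.Modules.pullback f).obj L).presheaf.germ (f ⁻¹ᵁ V) y hy'
        (pullS f L V (mres L le_top s)) := by
    rw [← pullS_res L (le_top : V ≤ ⊤) s, germ_mres]
    rfl
  rw [e1, ← hg, pullS_smul, Mero.germ_smul, Scheme.Hom.germ_stalkMap_apply]

/-- the pullback of a global section vanishes in the fibre at `y` iff the section vanishes in the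
fibre at the image point -/
theorem mk_germ_pullS_eq_zero_iff {Y X : Scheme.{u}} (f : Y ⟶ X) {L : X.Modules}
    (hL : PicF.IsInvertible L) (s : L.presheaf.obj (Opposite.op ⊤)) (d' : Y) :
    (Submodule.Quotient.mk
      ((((Scheme.Modules.pullback f).obj L).presheaf.germ ⊤ d' trivial) (pullS f L ⊤ s)) :
      Cyc.secFibre ((Scheme.Modules.pullback f).obj L) d') = 0 ↔
      (Submodule.Quotient.mk ((L.presheaf.germ ⊤ (f d') trivial) s) :
        Cyc.secFibre L (f d')) = 0 := by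
  obtain ⟨V, hV, τ, hτ⟩ := exists_isBasisOn_of_isInvertible hL (f d')
  obtain ⟨g, hg⟩ := hτ.exists_eq_smul (mres L le_top s)
  have hV' : d' ∈ f ⁻¹ᵁ V := hV
  have hτ' := isBasisOn_pullS f V L τ hτ
  rw [germ_pullS_top f s g hg d' hV, germ_top_eq s g hg (f d') hV,
    Submodule.Quotient.mk_eq_zero, Submodule.Quotient.mk_eq_zero,
    smul_gen_mem_iff _ d' _ (germ_basis_span hτ' d' hV') (germ_basis_ann hτ' d' hV'),
    smul_gen_mem_iff L (f d') _ (germ_basis_span hτ (f d') hV) (germ_basis_ann hτ (f d') hV),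
    ← IsLocalRing.residue_eq_zero_iff, ← IsLocalRing.residue_eq_zero_iff]
  have h1 := residue_stalkMap f d' (X.presheaf.germ V (f d') hV g)
  constructor
  · intro h
    have h2 : (f.residueFieldMap d').hom (X.residue (f d') (X.presheaf.germ V (f d') hV g)) =
        0 := h1.symm.trans h
    exact (map_eq_zero_iff _ (RingHom.injective _)).mp h2
  · intro h
    refine h1.trans ?_
    have h3 : X.residue (f d') (X.presheaf.germ V (f d') hV g) = 0 := h
    rw [h3]
    exact map_zero _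

theorem stalkMap_germ_eq_zero_of_eq {P X : Scheme.{u}} (h₁ h₂ : P ⟶ X) (e : h₁ = h₂)
    (V : X.Opens) (g : Γ(X, V)) (z : P) (hz : h₁ z ∈ V) (h0 : (h₂.app V).hom g = 0) :
    (h₁.stalkMap z).hom (X.presheaf.germ V (h₁ z) hz g) = 0 := by
  subst e
  have := Scheme.Hom.germ_stalkMap_apply h₁ V z hz g
  rw [h0, map_zero] at this
  exact this

variable {P D D' X : Scheme.{u}} {pf : P ⟶ D} {ps : P ⟶ D'} {i : D ⟶ X} {i' : D' ⟶ X}
  [IsClosedImmersion i] [IsClosedImmersion i'] (H : IsPullback pf ps i i')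

omit [IsClosedImmersion i'] in
/-- the coefficient of the section on a local basis generates the kernel of the stalk maps -/
theorem ker_stalkMap_eq_span_germ {L : X.Modules} (hL : PicF.IsInvertible L)
    (s : L.presheaf.obj (Opposite.op ⊤)) (hD : Cyc.IsZeroSchemeOf i L s)
    {V : X.Opens} {τ : Γ(L, V)} (hτ : IsBasisOn L V τ) (g : Γ(X, V))
    (hg : g • τ = mres L le_top s) (d : D) (hd : i d ∈ V) :
    RingHom.ker (i.stalkMap d).hom = Ideal.span {X.presheaf.germ V (i d) hd g} := by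
  obtain ⟨t, f, ht, hf, hker⟩ := hD.2 d
  rw [hker]
  exact span_coeff_eq hL (i d) t _ ht (germ_basis_span hτ (i d) hd) f _
    (hf.symm.trans (germ_top_eq s g hg (i d) hd))

omit [IsClosedImmersion i'] in
/-- the coefficient of the section vanishes on the zero scheme -/
theorem app_coeff_eq_zero {L : X.Modules} (hL : PicF.IsInvertible L)
    (s : L.presheaf.obj (Opposite.op ⊤)) (hD : Cyc.IsZeroSchemeOf i L s)
    {V : X.Opens} {τ : Γ(L, V)} (hτ : IsBasisOn L V τ) (g : Γ(X, V))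
    (hg : g • τ = mres L le_top s) : (i.app V).hom g = 0 := by
  apply TopCat.Presheaf.section_ext D.sheaf
  intro d hd
  have hd' : i d ∈ V := hd
  have h1 := Scheme.Hom.germ_stalkMap_apply i V d hd' g
  have h2 : X.presheaf.germ V (i d) hd' g ∈ RingHom.ker (i.stalkMap d).hom := by
    rw [ker_stalkMap_eq_span_germ hL s hD hτ g hg d hd']
    exact Ideal.subset_span rfl
  refine (h1.symm.trans (RingHom.mem_ker.mp h2)).trans ?_
  exact (map_zero _).symm

include H in
/-- **the zero scheme of the restriction of a section to a closed subscheme is the fibre product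
with the zero scheme of the section** -/
theorem isZeroSchemeOf_of_isPullback {L : X.Modules} (hL : PicF.IsInvertible L)
    (s : L.presheaf.obj (Opposite.op ⊤)) (hD : Cyc.IsZeroSchemeOf i L s) :
    Cyc.IsZeroSchemeOf ps ((Scheme.Modules.pullback i').obj L) (pullS i' L ⊤ s) := by
  have hvan := fun d' : D' => mk_germ_pullS_eq_zero_iff i' hL s d'
  refine ⟨?_, ?_⟩
  · ext d'
    show d' ∈ Set.range ps ↔ _ = 0
    rw [hvan d']
    constructor
    · rintro ⟨z, rfl⟩
      have h1 : i' (ps z) ∈ Set.range i := ⟨pf z, by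
        rw [← Scheme.Hom.comp_apply, ← Scheme.Hom.comp_apply, H.w]⟩
      rw [hD.1] at h1
      exact h1
    · intro h
      have h1 : i' d' ∈ Set.range i := by
        rw [hD.1]
        exact h
      obtain ⟨d, hd⟩ := h1
      obtain ⟨z, -, hz⟩ := Scheme.Pullback.exists_preimage_pullback (f := i) (g := i') d d' hd
      refine ⟨H.isoPullback.inv z, ?_⟩
      rw [← Scheme.Hom.comp_apply, H.isoPullback_inv_snd]
      exact hz
  · intro z
    obtain ⟨V, hV, τ, hτ⟩ := exists_isBasisOn_of_isInvertible hL (i' (ps z))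
    obtain ⟨g, hg⟩ := hτ.exists_eq_smul (mres L le_top s)
    have hV' : ps z ∈ i' ⁻¹ᵁ V := hV
    have hτ' := isBasisOn_pullS i' V L τ hτ
    refine ⟨_, _, germ_basis_span hτ' (ps z) hV', germ_pullS_top i' s g hg (ps z) hV, ?_⟩
    apply le_antisymm
    · have h1 := ker_stalkMap_le H z (Ideal.span {X.presheaf.germ V (i' (ps z)) hV g}) (by
        intro U hU hx a ha
        have key : ∀ (y : X) (hy : y ∈ U) (hyV : y ∈ V), y = i (pf z) →
            X.presheaf.germ U y hy a ∈ Ideal.span {X.presheaf.germ V y hyV g} := by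
          rintro y hy hyV rfl
          rw [← ker_stalkMap_eq_span_germ hL s hD hτ g hg (pf z) hyV, RingHom.mem_ker]
          have h2 := Scheme.Hom.germ_stalkMap_apply i U (pf z) hy a
          rw [ha, map_zero] at h2
          exact h2
        apply key (i' (ps z)) hx hV
        rw [← Scheme.Hom.comp_apply, ← Scheme.Hom.comp_apply, H.w])
      rw [Ideal.map_span, Set.image_singleton] at h1
      exact h1
    · rw [Ideal.span_le, Set.singleton_subset_iff]
      show _ ∈ RingHom.ker (ps.stalkMap z).hom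
      rw [RingHom.mem_ker]
      have h0 : ((pf ≫ i).app V).hom g = 0 := by
        have h1 : ((pf ≫ i).app V).hom g = (pf.app (i ⁻¹ᵁ V)).hom ((i.app V).hom g) := rfl
        rw [h1, app_coeff_eq_zero hL s hD hτ g hg]
        exact map_zero _
      have h2 := stalkMap_germ_eq_zero_of_eq (ps ≫ i') (pf ≫ i) H.w.symm V g z hV h0
      rw [Scheme.Hom.stalkMap_comp] at h2
      exact h2

end ZeroScheme

end Groth.Agent.Lib.Helper85.PullbackKer
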