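import Mathlib
import Groth.Prelude.Def_C1
import Groth.Agent.Lib.Helper85.IntMult.GysinPull

/-!
# Closed subschemes as schemes with a dimension function; fundamental cycles (helper85)
-/

set_option autoImplicit false
set_option linter.unusedSectionVars false
universe u
open CategoryTheory AlgebraicGeometry

namespace Groth.Agent.Lib.Helper85.ZeroCycle

open Groth.Agent.Lib.Helper45 Groth.Agent.Lib.Helper49 Groth.Agent.Lib.Helper45.InvOrd
open Groth.Agent.Lib.Helper85.SecOrd
open Groth.Agent.Lib.Helper85.C1Tensor Groth.Agent.Lib.Helper85.C1Comm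
open Groth.Agent.Lib.Helper85.C1Sum Groth.Agent.Lib.Helper85.Gysin
open Groth.Agent.Lib.Helper85.PullDict Groth.Agent.Lib.Helper85.ClosedDict
open Groth.Agent.Lib.Helper85.GysinPull Groth.Agent.Lib.Helper11.PullbackBasis

/-- quotients of universally catenary rings are universally catenary -/
theorem isUniversallyCatenary_of_surjective {A B : Type u} [CommRing A] [CommRing B]
    (φ : A →+* B) (hφ : Function.Surjective φ) (hA : CAlg.IsUniversallyCatenary A) :
    CAlg.IsUniversallyCatenary B := by
  obtain ⟨hN, hcat⟩ := hA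
  refine ⟨isNoetherianRing_of_surjective A B φ hφ, ?_⟩
  intro S _ _ hS
  let _ : Algebra A B := φ.toAlgebra
  let _ : Algebra A S := ((algebraMap B S).comp φ).toAlgebra
  have : IsScalarTower A B S := IsScalarTower.of_algebraMap_eq (fun a => rfl)
  have hAB : Algebra.FiniteType A B :=
    Algebra.FiniteType.of_surjective (Algebra.ofId A B) hφ
  exact hcat S (hAB.trans hS)

variable {D X : Scheme.{u}} (i : D ⟶ X) [IsClosedImmersion i]

/-- a closed subscheme of a scheme with a dimension function (`Cyc.IsSetup`) is one -/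
theorem isSetup_closed (δ : X → ℤ) (hX : Cyc.IsSetup X δ) :
    Cyc.IsSetup D (fun d => δ (i d)) := by
  obtain ⟨hN, hcat, hdim⟩ := hX
  refine ⟨LocallyOfFiniteType.isLocallyNoetherian i, fun d => ?_, isDimFun_comp i δ hdim⟩
  exact isUniversallyCatenary_of_surjective (i.stalkMap d).hom (stalkMap_surjective i d)
    (hcat (i d))

omit [IsClosedImmersion i] in
/-- the pullback of an invertible module is invertible -/
theorem isInvertible_pullback {L : X.Modules} (hL : PicF.IsInvertible L) :
    PicF.IsInvertible ((Scheme.Modules.pullback i).obj L) := by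
  apply Groth.Agent.Lib.Helper11.GenLocus.isInvertible_of_forall_exists_isBasisOn
  intro d
  obtain ⟨V, hV, τ, hτ⟩ := exists_isBasisOn_of_isInvertible hL (i d)
  exact ⟨i ⁻¹ᵁ V, hV, pullS i L V τ, isBasisOn_pullS i V L τ hτ⟩


/-- the fundamental cycle of the closed subscheme, computed on `D` and extended by zero -/
theorem pushFun_subschemeFun (δ : X → ℤ) (k : ℤ) :
    pushFun i (Cyc.subschemeFun (fun d => δ (i d)) k (𝟙 D)) = Cyc.subschemeFun δ k i := by
  classical
  funext ξ'
  by_cases hr : ξ' ∈ Set.range i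
  · obtain ⟨d, rfl⟩ := hr
    rw [pushFun_apply]
    unfold Cyc.subschemeFun
    by_cases hk : δ (i d) = k
    · simp only
      rw [if_pos hk, if_pos hk]
      have hset : {z : D | (𝟙 D : D ⟶ D) z = d} = {z : D | i z = i d} := by
        ext z
        show (𝟙 D : D ⟶ D) z = d ↔ i z = i d
        constructor
        · intro h
          rw [← h]
          rfl
        · intro h
          exact Groth.Agent.Lib.Helper85.ClosedDict.injective i h
      rw [hset]
    · simp only
      rw [if_neg hk, if_neg hk]
  · rw [pushFun_of_notMem i _ ξ' hr]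
    unfold Cyc.subschemeFun
    simp only
    split_ifs with h1
    · symm
      apply finsum_mem_eq_zero_of_forall_eq_zero
      intro z hz
      exact absurd ⟨z, hz⟩ hr
    · rfl

/-- the support of `[D]_k` consists of maximal points of `D` when `δ ≤ k` on `D` -/
theorem subschemeFun_support_subset (δ : X → ℤ) (hdim : Cyc.IsDimFun X δ) (k : ℤ)
    (hD : ∀ d : D, δ (i d) ≤ k) :
    Function.support (Cyc.subschemeFun δ k i) ⊆
      {x : X | x ∈ Set.range i ∧ ∀ z ∈ Set.range i, z ⤳ x → z = x} := by
  intro x hx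
  have hx' : Cyc.subschemeFun δ k i x ≠ 0 := hx
  have hk : δ x = k := by
    by_contra hk
    apply hx'
    unfold Cyc.subschemeFun
    simp only
    rw [if_neg hk]
  have hr : x ∈ Set.range i := by
    by_contra hr
    apply hx'
    rw [← pushFun_subschemeFun i δ k]
    exact pushFun_of_notMem i _ x hr
  refine ⟨hr, ?_⟩
  rintro z ⟨d', rfl⟩ hzx
  by_contra hne
  have h1 := (hdim (i d') x hzx hne).1
  have h2 := hD d'
  omega

/-- `[D]_k` as an algebraic cycle on `X` when `δ ≤ k` on `D` -/
theorem exists_cycle_subschemeFun [IsLocallyNoetherian X] (δ : X → ℤ) (hdim : Cyc.IsDimFun X δ)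
    (k : ℤ) (hD : ∀ d : D, δ (i d) ≤ k) :
    ∃ β : AlgebraicCycle X ℤ, ⇑β = Cyc.subschemeFun δ k i ∧ β ∈ Cyc.Zk X δ k := by
  refine ⟨⟨Cyc.subschemeFun δ k i, fun x _ => Set.mem_univ x, ?_⟩, rfl, ?_⟩
  · intro x _
    obtain ⟨W, hW, hxW, -⟩ := exists_isAffineOpen_mem_and_subset (x := x) (U := ⊤) trivial
    refine ⟨(W : Set X), W.isOpen.mem_nhds hxW, ?_⟩
    refine (Groth.Agent.Lib.Helper85.PushSheafFun.finite_maximal_points_of_isCompact W
      hW.isCompact (Set.range i) i.isClosedEmbedding.isClosed_range).subset ?_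
    rintro y ⟨hyW, hy⟩
    obtain ⟨h1, h2⟩ := subschemeFun_support_subset i δ hdim k hD hy
    exact ⟨hyW, h1, h2⟩
  · intro x hx
    show Cyc.subschemeFun δ k i x = 0
    unfold Cyc.subschemeFun
    simp only
    rw [if_neg hx]


/-- **`c_1(L) ∩ [D]_{k+1} ∼ ι_*[Z(s)]_k`**: assembly from the decomposition of `[Z(s)]_k` on `D`
(hypothesis `hS`), the pullback dictionary and independence of the rational sections -/
theorem c1Cap_subscheme_ratEquiv [IsLocallyNoetherian X] (δ : X → ℤ) (hdim : Cyc.IsDimFun X δ)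
    {L : X.Modules} (hL : PicF.IsInvertible L) (k : ℤ) (hY : ∀ d : D, δ (i d) ≤ k + 1)
    (s : ((Scheme.Modules.pullback i).obj L).presheaf.obj (Opposite.op ⊤))
    (hZ : ∀ y : D, (((Scheme.Modules.pullback i).obj L).presheaf.germ ⊤ y trivial) s ∈
      IsLocalRing.maximalIdeal (D.presheaf.stalk y) •
        (⊤ : Submodule (D.presheaf.stalk y)
          (((Scheme.Modules.pullback i).obj L).presheaf.stalk y)) → δ (i y) ≤ k)
    (hS : Cyc.zeroSectionFun (fun d => δ (i d)) k ((Scheme.Modules.pullback i).obj L) s =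
      Cyc.c1CapFun (fun d => δ (i d)) ((Scheme.Modules.pullback i).obj L)
        (Cyc.subschemeFun (fun d => δ (i d)) (k + 1) (𝟙 D))
        (fun ξ => Submodule.Quotient.mk
          ((((Scheme.Modules.pullback i).obj L).presheaf.germ ⊤ ξ trivial) s)))
    (v : (ξ : X) → Cyc.secFibre L ξ) (hv : ∀ ξ, v ξ ≠ 0) (γ : AlgebraicCycle X ℤ)
    (hγ : ⇑γ = Cyc.c1CapFun δ L (Cyc.subschemeFun δ (k + 1) i) v) (ζ : AlgebraicCycle D ℤ)
    (hζ : ⇑ζ = Cyc.zeroSectionFun (fun y => δ (i y)) k ((Scheme.Modules.pullback i).obj L) s) :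
    Cyc.RatEquiv δ k γ (AlgebraicCycle.map i (fun y => δ (i y)) δ ζ) := by
  classical
  have hM : PicF.IsInvertible ((Scheme.Modules.pullback i).obj L) := isInvertible_pullback i hL
  -- a nonzero fallback family on `D`
  choose V hxV τ hτ using fun d : D => exists_isBasisOn_of_isInvertible hM d
  let w : (d : D) → Cyc.secFibre ((Scheme.Modules.pullback i).obj L) d := fun d =>
    Submodule.Quotient.mk (((Scheme.Modules.pullback i).obj L).presheaf.germ (V d) d (hxV d) (τ d))
  have hw : ∀ d, w d ≠ 0 := fun d => mk_germ_basis_ne_zero (hτ d) d (hxV d)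
  have ht' := gysinChoice_ne_zero s w hw
  -- replace the sections induced by `s` by everywhere nonzero ones
  have hS' : Cyc.zeroSectionFun (fun d => δ (i d)) k ((Scheme.Modules.pullback i).obj L) s =
      Cyc.c1CapFun (fun d => δ (i d)) ((Scheme.Modules.pullback i).obj L)
        (Cyc.subschemeFun (fun d => δ (i d)) (k + 1) (𝟙 D))
        (Cyc.gysinChoice ((Scheme.Modules.pullback i).obj L) s w) := by
    rw [hS]
    funext d
    unfold Cyc.c1CapFun
    apply finsum_congr
    intro d'
    by_cases h0 : Cyc.subschemeFun (fun d => δ (i d)) (k + 1) (𝟙 D) d' = 0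
    · rw [h0, zero_mul, zero_mul]
    · have hk : δ (i d') = k + 1 := by
        by_contra hk
        apply h0
        unfold Cyc.subschemeFun
        simp only
        rw [if_neg hk]
      have hne : (Submodule.Quotient.mk
          ((((Scheme.Modules.pullback i).obj L).presheaf.germ ⊤ d' trivial) s) :
          Cyc.secFibre ((Scheme.Modules.pullback i).obj L) d') ≠ 0 := by
        intro h
        rw [Submodule.Quotient.mk_eq_zero] at h
        have := hZ d' h
        omega
      rw [gysinChoice_eq_of_ne s w d' hne]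
  obtain ⟨n, hn0, hn⟩ := c1Cap_pullback i L δ hdim hL
    (Cyc.gysinChoice ((Scheme.Modules.pullback i).obj L) s w) ht'
  obtain ⟨β, hβ, hβk⟩ := exists_cycle_subschemeFun i δ hdim (k + 1) hY
  unfold Cyc.RatEquiv
  apply c1Cap_indep δ hL k β hβk v n hv hn0
  intro x
  rw [Function.locallyFinsuppWithin.coe_sub, Pi.sub_apply, hγ, hβ, map_eq_pushFun]
  congr 1
  by_cases hr : x ∈ Set.range i
  · obtain ⟨d, rfl⟩ := hr
    rw [pushFun_apply, hζ, hS', hn, pushFun_subschemeFun]
  · rw [pushFun_of_notMem i _ x hr]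
    symm
    unfold Cyc.c1CapFun
    apply finsum_eq_zero_of_forall_eq_zero
    intro ξ
    by_cases hξ : ξ ∈ Set.range i
    · have : Cyc.secDivFun δ L ξ (n ξ) x = 0 := by
        unfold Cyc.secDivFun
        rw [dif_neg]
        rintro ⟨h1, -⟩
        apply hr
        exact (i.isClosedEmbedding.isClosed_range.closure_subset_iff.mpr
          (Set.singleton_subset_iff.mpr hξ)) (specializes_iff_mem_closure.mp h1)
      rw [this, mul_zero]
    · have : Cyc.subschemeFun δ (k + 1) i ξ = 0 := by
        rw [← pushFun_subschemeFun i δ (k + 1)]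
        exact pushFun_of_notMem i _ ξ hξ
      rw [this, zero_mul]

end Groth.Agent.Lib.Helper85.ZeroCycle
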