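import Mathlib
import Groth.Prelude.Def_C1
import Groth.Agent.Lib.Helper85.IntMult.PullbackKer
import Groth.Agent.Lib.Helper85.IntMult.ZeroCycle

/-!
# Gysin maps of two zero schemes commute (helper85)
-/

set_option autoImplicit false
set_option linter.unusedSectionVars false
universe u
open CategoryTheory AlgebraicGeometry Limits

namespace Groth.Agent.Lib.Helper85.GysinComm

open Groth.Agent.Lib.Helper45 Groth.Agent.Lib.Helper49 Groth.Agent.Lib.Helper45.InvOrd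
open Groth.Agent.Lib.Helper85.SecOrd Groth.Agent.Lib.Helper85.TameScheme
open Groth.Agent.Lib.Helper85.C1Tensor Groth.Agent.Lib.Helper85.C1Comm
open Groth.Agent.Lib.Helper85.C1Sum Groth.Agent.Lib.Helper85.Gysin
open Groth.Agent.Lib.Helper85.PullDict Groth.Agent.Lib.Helper85.ClosedDict
open Groth.Agent.Lib.Helper85.GysinPull Groth.Agent.Lib.Helper11.PullbackBasis
open Groth.Agent.Lib.Helper85.PullbackKer Groth.Agent.Lib.Helper85.ZeroCycle

section Indep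

variable {Y : Scheme.{u}} [IsLocallyNoetherian Y] (δ : Y → ℤ) (hdim : Cyc.IsDimFun Y δ)

include hdim in
/-- the order of the image of an element of the local ring depends only on the ideal it
generates -/
theorem ordAt_specMap_congr {x ξ : Y} (h : ξ ⤳ x) (hδ : δ x + 1 = δ ξ) (a b : Y.presheaf.stalk x)
    (hab : Ideal.span {a} = Ideal.span {b}) (ha : Cyc.specMap x ξ h a ≠ 0) :
    Cyc.ordAt x ξ h (Cyc.specMap x ξ h a) = Cyc.ordAt x ξ h (Cyc.specMap x ξ h b) := by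
  have ha' : a ∉ RingHom.ker (Cyc.specMap x ξ h) := fun h0 => ha (RingHom.mem_ker.mp h0)
  have hb' : b ∉ RingHom.ker (Cyc.specMap x ξ h) := by
    intro h0
    apply ha'
    have h1 : Ideal.span {b} ≤ RingHom.ker (Cyc.specMap x ξ h) := by
      rw [Ideal.span_le, Set.singleton_subset_iff]
      exact h0
    exact h1 (hab ▸ Ideal.subset_span rfl)
  have h1 : (1 : Y.presheaf.stalk x) ∉ RingHom.ker (Cyc.specMap x ξ h) := by
    intro h0
    rw [RingHom.mem_ker, map_one] at h0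
    exact one_ne_zero h0
  have e1 := Groth.Agent.Lib.Helper85.DivPull.ordAt_div δ hdim h hδ a 1 ha' h1
  have e2 := Groth.Agent.Lib.Helper85.DivPull.ordAt_div δ hdim h hδ b 1 hb' h1
  rw [map_one, div_one] at e1 e2
  rw [e1, e2, hab]

variable {M : Y.Modules} (hM : PicF.IsInvertible M) {Z : Scheme.{u}} (j : Z ⟶ Y)
  (σ₁ σ₂ : M.presheaf.obj (Opposite.op ⊤))
  (h₁ : Cyc.IsZeroSchemeOf j M σ₁) (h₂ : Cyc.IsZeroSchemeOf j M σ₂)

include h₁ h₂ in
omit [IsLocallyNoetherian Y] in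
theorem mk_germ_ne_zero_iff (ξ : Y) :
    (Submodule.Quotient.mk ((M.presheaf.germ ⊤ ξ trivial) σ₁) : Cyc.secFibre M ξ) ≠ 0 ↔
      (Submodule.Quotient.mk ((M.presheaf.germ ⊤ ξ trivial) σ₂) : Cyc.secFibre M ξ) ≠ 0 := by
  have e1 : ξ ∈ Set.range j ↔
      (Submodule.Quotient.mk ((M.presheaf.germ ⊤ ξ trivial) σ₁) : Cyc.secFibre M ξ) = 0 := by
    rw [h₁.1]
    rfl
  have e2 : ξ ∈ Set.range j ↔
      (Submodule.Quotient.mk ((M.presheaf.germ ⊤ ξ trivial) σ₂) : Cyc.secFibre M ξ) = 0 := by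
    rw [h₂.1]
    rfl
  rw [Ne, Ne, ← e1, ← e2]

include hdim hM h₁ h₂ in
/-- the divisor of the restriction of a section to a subvariety not contained in its zero scheme
depends only on the zero scheme -/
theorem secDivFun_section_indep (ξ x : Y)
    (hne : (Submodule.Quotient.mk ((M.presheaf.germ ⊤ ξ trivial) σ₁) : Cyc.secFibre M ξ) ≠ 0) :
    Cyc.secDivFun δ M ξ (Submodule.Quotient.mk ((M.presheaf.germ ⊤ ξ trivial) σ₁)) x =
      Cyc.secDivFun δ M ξ (Submodule.Quotient.mk ((M.presheaf.germ ⊤ ξ trivial) σ₂)) x := by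
  unfold Cyc.secDivFun
  by_cases hc : ξ ⤳ x ∧ δ x + 1 = δ ξ
  swap
  · rw [dif_neg hc, dif_neg hc]
  rw [dif_pos hc, dif_pos hc]
  obtain ⟨V, hxV, τ, hτ⟩ := exists_isBasisOn_of_isInvertible hM x
  have hξV : ξ ∈ V := hc.1.mem_open V.isOpen hxV
  obtain ⟨g₁, hg₁⟩ := hτ.exists_eq_smul (mres M le_top σ₁)
  obtain ⟨g₂, hg₂⟩ := hτ.exists_eq_smul (mres M le_top σ₂)
  have hres : ∀ g : Γ(Y, V), Y.residue ξ (Y.presheaf.germ V ξ hξV g) =
      Cyc.specMap x ξ hc.1 (Y.presheaf.germ V x hxV g) := by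
    intro g
    have e : Y.presheaf.stalkSpecializes hc.1 (Y.presheaf.germ V x hxV g) =
        Y.presheaf.germ V ξ hξV g := TopCat.Presheaf.germ_stalkSpecializes_apply _ _ _ _
    rw [← e]
    rfl
  rw [germ_top_eq σ₁ g₁ hg₁ ξ hξV, germ_top_eq σ₂ g₂ hg₂ ξ hξV,
    secOrdAt_basis hτ x hxV ξ hc.1, secOrdAt_basis hτ x hxV ξ hc.1, hres, hres]
  have hne₂ := (mk_germ_ne_zero_iff j σ₁ σ₂ h₁ h₂ ξ).mp hne
  by_cases hr : x ∈ Set.range j
  · obtain ⟨z, rfl⟩ := hr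
    obtain ⟨t₁, f₁, ht₁, hf₁, hk₁⟩ := h₁.2 z
    obtain ⟨t₂, f₂, ht₂, hf₂, hk₂⟩ := h₂.2 z
    have hs1 : Ideal.span {f₁} = Ideal.span {Y.presheaf.germ V (j z) hxV g₁} :=
      span_coeff_eq hM (j z) t₁ _ ht₁ (germ_basis_span hτ (j z) hxV) f₁ _
        (hf₁.symm.trans (germ_top_eq σ₁ g₁ hg₁ (j z) hxV))
    have hs2 : Ideal.span {f₂} = Ideal.span {Y.presheaf.germ V (j z) hxV g₂} :=
      span_coeff_eq hM (j z) t₂ _ ht₂ (germ_basis_span hτ (j z) hxV) f₂ _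
        (hf₂.symm.trans (germ_top_eq σ₂ g₂ hg₂ (j z) hxV))
    have hab : Ideal.span {Y.presheaf.germ V (j z) hxV g₁} =
        Ideal.span {Y.presheaf.germ V (j z) hxV g₂} := by
      rw [← hs1, ← hs2, ← hk₁, ← hk₂]
    apply ordAt_specMap_congr δ hdim hc.1 hc.2 _ _ hab
    rw [← hres]
    apply residue_coord_ne_zero hτ ξ hξV
    rw [← germ_top_eq σ₁ g₁ hg₁ ξ hξV]
    exact hne
  · have hu : ∀ (σ : M.presheaf.obj (Opposite.op ⊤)) (g : Γ(Y, V)) (_ : g • τ = mres M le_top σ),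
        Cyc.IsZeroSchemeOf j M σ → IsUnit (Y.presheaf.germ V x hxV g) := by
      intro σ g hg hσ
      have h0 : (Submodule.Quotient.mk ((M.presheaf.germ ⊤ x trivial) σ) : Cyc.secFibre M x) ≠
          0 := by
        intro h0
        apply hr
        rw [hσ.1]
        exact h0
      rw [germ_top_eq σ g hg x hxV] at h0
      have h3 := residue_coord_ne_zero hτ x hxV _ h0
      by_contra hnu
      apply h3
      exact (IsLocalRing.residue_eq_zero_iff _).mpr hnu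
    rw [Groth.Agent.Lib.Helper85.DivPull.ordAt_specMap_of_isUnit hc.1 _ (hu σ₁ g₁ hg₁ h₁),
      Groth.Agent.Lib.Helper85.DivPull.ordAt_specMap_of_isUnit hc.1 _ (hu σ₂ g₂ hg₂ h₂)]

include hdim hM h₁ h₂ in
/-- the Gysin map depends only on the zero scheme, not on the section cutting it out -/
theorem c1Cap_gysinChoice_indep (γ : Y → ℤ) (w : (ξ : Y) → Cyc.secFibre M ξ) (x : Y) :
    Cyc.c1CapFun δ M γ (Cyc.gysinChoice M σ₁ w) x =
      Cyc.c1CapFun δ M γ (Cyc.gysinChoice M σ₂ w) x := by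
  unfold Cyc.c1CapFun
  apply finsum_congr
  intro ξ
  congr 1
  by_cases hne : (Submodule.Quotient.mk ((M.presheaf.germ ⊤ ξ trivial) σ₁) :
      Cyc.secFibre M ξ) ≠ 0
  · have hne₂ := (mk_germ_ne_zero_iff j σ₁ σ₂ h₁ h₂ ξ).mp hne
    rw [gysinChoice_eq_of_ne σ₁ w ξ hne, gysinChoice_eq_of_ne σ₂ w ξ hne₂]
    exact secDivFun_section_indep δ hdim hM j σ₁ σ₂ h₁ h₂ ξ x hne
  · have hne₂ : ¬ (Submodule.Quotient.mk ((M.presheaf.germ ⊤ ξ trivial) σ₂) :
        Cyc.secFibre M ξ) ≠ 0 := fun h => hne ((mk_germ_ne_zero_iff j σ₁ σ₂ h₁ h₂ ξ).mpr h)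
    unfold Cyc.gysinChoice
    rw [if_neg hne, if_neg hne₂]

end Indep


section PullGysin

variable {D X : Scheme.{u}} (i : D ⟶ X) [IsClosedImmersion i] [IsLocallyNoetherian X]
  (δ : X → ℤ) (hdim : Cyc.IsDimFun X δ) {N : X.Modules} (hN : PicF.IsInvertible N)
  (sN : N.presheaf.obj (Opposite.op ⊤))

include hdim hN in
/-- orders of the restriction of a global section, computed on `D` or on `X` -/
theorem secOrdAt_pullS_global {d' d : D} (h : d' ⤳ d) (hδ : δ (i d) + 1 = δ (i d')) :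
    Cyc.secOrdAt ((Scheme.Modules.pullback i).obj N) d' d h (Submodule.Quotient.mk
      ((((Scheme.Modules.pullback i).obj N).presheaf.germ ⊤ d' trivial) (pullS i N ⊤ sN))) =
    Cyc.secOrdAt N (i d') (i d) (h.map i.continuous)
      (Submodule.Quotient.mk ((N.presheaf.germ ⊤ (i d') trivial) sN)) := by
  obtain ⟨V, hV, τ, hτ⟩ := exists_isBasisOn_of_isInvertible hN (i d)
  obtain ⟨g, hg⟩ := hτ.exists_eq_smul (mres N le_top sN)
  have hV' : i d' ∈ V := (h.map i.continuous).mem_open V.isOpen hV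
  rw [germ_pullS_top i sN g hg d' hV', germ_top_eq sN g hg (i d') hV']
  exact secOrdAt_pullback_basis i N δ hdim hτ h hδ hV _

include hdim hN in
/-- the Gysin choice of sections on `D` for the restricted section corresponds to a Gysin choice
of sections on `X` -/
theorem c1Cap_pullback_gysin
    (wD : (d : D) → Cyc.secFibre ((Scheme.Modules.pullback i).obj N) d) (hwD : ∀ d, wD d ≠ 0) :
    ∃ n : (ξ' : X) → Cyc.secFibre N ξ', (∀ ξ', n ξ' ≠ 0) ∧ ∀ (γ : D → ℤ) (d : D),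
      Cyc.c1CapFun (fun d => δ (i d)) ((Scheme.Modules.pullback i).obj N) γ
        (Cyc.gysinChoice ((Scheme.Modules.pullback i).obj N) (pullS i N ⊤ sN) wD) d =
      Cyc.c1CapFun δ N (pushFun i γ) (Cyc.gysinChoice N sN n) (i d) := by
  have ht := gysinChoice_ne_zero (pullS i N ⊤ sN) wD hwD
  choose n hn0 hn using exists_section_pullback i N δ hdim hN
    (Cyc.gysinChoice ((Scheme.Modules.pullback i).obj N) (pullS i N ⊤ sN) wD) ht
  refine ⟨n, hn0, fun γ d => ?_⟩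
  unfold Cyc.c1CapFun
  rw [finsum_comp_injective i (Groth.Agent.Lib.Helper85.ClosedDict.injective i)
    (fun ξ' => pushFun i γ ξ' * Cyc.secDivFun δ N ξ' (Cyc.gysinChoice N sN n ξ') (i d)) (by
      intro b hb
      by_contra hnr
      apply hb
      simp only
      rw [pushFun_of_notMem i γ b hnr, zero_mul])]
  apply finsum_congr
  intro d'
  rw [pushFun_apply]
  congr 1
  unfold Cyc.secDivFun
  by_cases hc : d' ⤳ d ∧ δ (i d) + 1 = δ (i d')
  · rw [dif_pos hc, dif_pos ⟨hc.1.map i.continuous, hc.2⟩]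
    by_cases hs : (Submodule.Quotient.mk ((N.presheaf.germ ⊤ (i d') trivial) sN) :
        Cyc.secFibre N (i d')) ≠ 0
    · have hs' : (Submodule.Quotient.mk
          ((((Scheme.Modules.pullback i).obj N).presheaf.germ ⊤ d' trivial) (pullS i N ⊤ sN)) :
          Cyc.secFibre ((Scheme.Modules.pullback i).obj N) d') ≠ 0 :=
        fun h0 => hs ((mk_germ_pullS_eq_zero_iff i hN sN d').mp h0)
      rw [gysinChoice_eq_of_ne sN n (i d') hs, gysinChoice_eq_of_ne (pullS i N ⊤ sN) wD d' hs']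
      exact secOrdAt_pullS_global i δ hdim hN sN hc.1 hc.2
    · have e1 : Cyc.gysinChoice N sN n (i d') = n (i d') := by
        unfold Cyc.gysinChoice
        rw [if_neg hs]
      rw [e1]
      exact hn (i d') d' d rfl hc.1 hc.2
  · rw [dif_neg hc, dif_neg]
    rintro ⟨h1, h2⟩
    exact hc ⟨(Groth.Agent.Lib.Helper85.ClosedDict.specializes_iff i d' d).mp h1, h2⟩

end PullGysin

section HOne'

variable {X : Scheme.{u}} [IsLocallyNoetherian X] (δ : X → ℤ) (hdim : Cyc.IsDimFun X δ)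
variable {L₁ L₂ : X.Modules}

include hdim in
theorem tameAt_one_left {ξ ξ' : X} (h₁ : ξ ⤳ ξ') (hδ : δ ξ' + 1 = δ ξ) {g : X.residueField ξ}
    (hg : g ≠ 0) : tameAt h₁ 1 g = 1 := by
  have h := tameAt_unit_left δ hdim h₁ hδ 1 isUnit_one hg
  rw [map_one, map_one, one_zpow] at h
  exact h

include hdim in
/-- off the zero locus of a global section of the first module, the rational functions produced by
the commutativity theorem are trivial -/
theorem H_eq_one_of_section' (hL₁ : PicF.IsInvertible L₁) (hL₂ : PicF.IsInvertible L₂)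
    (s : Γ(L₁, ⊤)) (ξ : X) (s₁ : Cyc.secFibre L₁ ξ) (s₂ : Cyc.secFibre L₂ ξ) (hs₂ : s₂ ≠ 0)
    (u : (p : X) → Cyc.secFibre L₂ p) (v : (p : X) → Cyc.secFibre L₁ p)
    (H : (ξ' : X) → X.residueField ξ')
    (hP : ∀ (ξ' : X) (hc : ξ ⤳ ξ' ∧ δ ξ' + 1 = δ ξ) (V' : X.Opens) (hξ' : ξ' ∈ V')
        (τL' : Γ(L₁, V')) (τN' : Γ(L₂, V')), IsBasisOn L₁ V' τL' → IsBasisOn L₂ V' τN' →
        ∀ (aF' aG' : X.presheaf.stalk ξ) (ub' va' : X.presheaf.stalk ξ'),
        s₁ = Submodule.Quotient.mk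
          (aF' • L₁.presheaf.germ V' ξ (hc.1.mem_open V'.isOpen hξ') τL') →
        s₂ = Submodule.Quotient.mk
          (aG' • L₂.presheaf.germ V' ξ (hc.1.mem_open V'.isOpen hξ') τN') →
        u ξ' = Submodule.Quotient.mk (ub' • L₂.presheaf.germ V' ξ' hξ' τN') →
        v ξ' = Submodule.Quotient.mk (va' • L₁.presheaf.germ V' ξ' hξ' τL') →
        H ξ' = X.residue ξ' ub' ^ (Cyc.ordAt ξ' ξ hc.1 (X.residue ξ aF')) *
          X.residue ξ' va' ^ (-Cyc.ordAt ξ' ξ hc.1 (X.residue ξ aG')) *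
          tameAt hc.1 (X.residue ξ aF') (X.residue ξ aG'))
    (ξ' : X) (hc : ξ ⤳ ξ' ∧ δ ξ' + 1 = δ ξ)
    (hne : (Submodule.Quotient.mk (L₁.presheaf.germ ⊤ ξ' trivial s) : Cyc.secFibre L₁ ξ') ≠ 0)
    (hs₁ : s₁ = Submodule.Quotient.mk (L₁.presheaf.germ ⊤ ξ trivial s))
    (hv : v ξ' = Submodule.Quotient.mk (L₁.presheaf.germ ⊤ ξ' trivial s)) :
    H ξ' = 1 := by
  obtain ⟨V₁, hξ'V₁, hbas₁⟩ := exists_isBasisOn_section hL₁ s ξ' hne
  obtain ⟨V₂, hξ'V₂, τ₂, hτ₂⟩ := exists_isBasisOn_of_isInvertible hL₂ ξ'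
  have hξ'V : ξ' ∈ V₁ ⊓ V₂ := ⟨hξ'V₁, hξ'V₂⟩
  have hξV : ξ ∈ V₁ ⊓ V₂ := hc.1.mem_open (V₁ ⊓ V₂).isOpen hξ'V
  have hb₂ : IsBasisOn L₂ (V₁ ⊓ V₂) (mres L₂ inf_le_right τ₂) := hτ₂.mono _
  have hb₁ : IsBasisOn L₁ (V₁ ⊓ V₂) (mres L₁ le_top s) := by
    have := hbas₁.mono (inf_le_left : V₁ ⊓ V₂ ≤ V₁)
    rwa [mres_mres] at this
  obtain ⟨aG', haG'⟩ := exists_coord hb₂ ξ hξV s₂
  obtain ⟨ub', hub'⟩ := exists_coord hb₂ ξ' hξ'V (u ξ')
  have e2 : s₁ = Submodule.Quotient.mk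
      ((1 : X.presheaf.stalk ξ) • L₁.presheaf.germ (V₁ ⊓ V₂) ξ hξV (mres L₁ le_top s)) := by
    rw [hs₁, one_smul, germ_mres]
  have e3 : v ξ' = Submodule.Quotient.mk
      ((1 : X.presheaf.stalk ξ') • L₁.presheaf.germ (V₁ ⊓ V₂) ξ' hξ'V (mres L₁ le_top s)) := by
    rw [hv, one_smul, germ_mres]
  have haG0 : X.residue ξ aG' ≠ 0 :=
    residue_coord_ne_zero hb₂ ξ hξV aG' (by rw [← haG']; exact hs₂)
  rw [hP ξ' hc (V₁ ⊓ V₂) hξ'V _ _ hb₁ hb₂ 1 aG' ub' 1 e2 haG' hub' e3, map_one, map_one,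
    one_zpow, ordAt_one, zpow_zero, one_mul, one_mul,
    tameAt_one_left δ hdim hc.1 hc.2 haG0]

end HOne'


section Main

variable {X D D' : Scheme.{u}} (δ : X → ℤ) (hX : Cyc.IsSetup X δ) {L L' : X.Modules}
  (hL : PicF.IsInvertible L) (hL' : PicF.IsInvertible L')
  (s : L.presheaf.obj (Opposite.op ⊤)) (s' : L'.presheaf.obj (Opposite.op ⊤))
  (i : D ⟶ X) (i' : D' ⟶ X) [IsClosedImmersion i] [IsClosedImmersion i']
  (hD : Cyc.IsZeroSchemeOf i L s) (hD' : Cyc.IsZeroSchemeOf i' L' s')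

include hX hL hL' hD hD' in
/-- **Gysin maps of two zero schemes commute.** -/
theorem gysin_gysin_comm
    (σ' : ((Scheme.Modules.pullback i).obj L').presheaf.obj (Opposite.op ⊤))
    (hσ' : Cyc.IsZeroSchemeOf (pullback.fst i i') ((Scheme.Modules.pullback i).obj L') σ')
    (σ : ((Scheme.Modules.pullback i').obj L).presheaf.obj (Opposite.op ⊤))
    (hσ : Cyc.IsZeroSchemeOf (pullback.snd i i') ((Scheme.Modules.pullback i').obj L) σ)
    (k : ℤ) (α : AlgebraicCycle X ℤ) (hα : α ∈ Cyc.Zk X δ k)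
    (w : (ξ : X) → Cyc.secFibre L ξ) (hw : ∀ ξ, w ξ ≠ 0)
    (w' : (ξ : X) → Cyc.secFibre L' ξ) (hw' : ∀ ξ, w' ξ ≠ 0)
    (w₁ : (d : D) → Cyc.secFibre ((Scheme.Modules.pullback i).obj L') d) (hw₁ : ∀ d, w₁ d ≠ 0)
    (w₂ : (d : D') → Cyc.secFibre ((Scheme.Modules.pullback i').obj L) d) (hw₂ : ∀ d, w₂ d ≠ 0)
    (ζ₁ ζ₂ : AlgebraicCycle (pullback i i') ℤ)
    (h₁ : ∀ z, ζ₁ z = Cyc.c1CapFun (fun d => δ (i d)) ((Scheme.Modules.pullback i).obj L')
      (fun d => Cyc.c1CapFun δ L ⇑α (Cyc.gysinChoice L s w) (i d))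
      (Cyc.gysinChoice ((Scheme.Modules.pullback i).obj L') σ' w₁) (pullback.fst i i' z))
    (h₂ : ∀ z, ζ₂ z = Cyc.c1CapFun (fun d => δ (i' d)) ((Scheme.Modules.pullback i').obj L)
      (fun d => Cyc.c1CapFun δ L' ⇑α (Cyc.gysinChoice L' s' w') (i' d))
      (Cyc.gysinChoice ((Scheme.Modules.pullback i').obj L) σ w₂) (pullback.snd i i' z)) :
    Cyc.RatEquiv (fun z => δ (i (pullback.fst i i' z))) (k - 2) ζ₁ ζ₂ := by
  classical
  obtain ⟨hN, hcat, hdim⟩ := hX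
  have hDN : IsLocallyNoetherian D := LocallyOfFiniteType.isLocallyNoetherian i
  have hD'N : IsLocallyNoetherian D' := LocallyOfFiniteType.isLocallyNoetherian i'
  have hdimD : Cyc.IsDimFun D (fun d => δ (i d)) :=
    Groth.Agent.Lib.Helper85.ClosedDict.isDimFun_comp i δ hdim
  have hdimD' : Cyc.IsDimFun D' (fun d => δ (i' d)) :=
    Groth.Agent.Lib.Helper85.ClosedDict.isDimFun_comp i' δ hdim
  have hM' : PicF.IsInvertible ((Scheme.Modules.pullback i).obj L') := isInvertible_pullback i hL'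
  have hM : PicF.IsInvertible ((Scheme.Modules.pullback i').obj L) := isInvertible_pullback i' hL
  -- the restricted sections have the fibre product as zero scheme
  have HP : IsPullback (pullback.fst i i') (pullback.snd i i') i i' := IsPullback.of_hasPullback i i'
  have hσ₀ := isZeroSchemeOf_of_isPullback HP hL s hD
  have hσ'₀ := isZeroSchemeOf_of_isPullback HP.flip hL' s' hD'
  -- rational sections on `X` computing the two iterated Gysin maps
  obtain ⟨n₁, hn₁0, hn₁⟩ := c1Cap_pullback_gysin i δ hdim hL' s' w₁ hw₁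
  obtain ⟨n₂, hn₂0, hn₂⟩ := c1Cap_pullback_gysin i' δ hdim hL s w₂ hw₂
  have hg0 := gysinChoice_ne_zero s w hw
  have hg'0 := gysinChoice_ne_zero s' w' hw'
  have hG₁0 := gysinChoice_ne_zero s' n₁ hn₁0
  have hG₂0 := gysinChoice_ne_zero s n₂ hn₂0
  have e₁ : ∀ z, ζ₁ z = Cyc.c1CapFun δ L' (Cyc.c1CapFun δ L ⇑α (Cyc.gysinChoice L s w))
      (Cyc.gysinChoice L' s' n₁) (i (pullback.fst i i' z)) := by
    intro z
    rw [h₁ z, c1Cap_gysinChoice_indep (fun d => δ (i d)) hdimD hM' (pullback.fst i i') σ'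
      (pullS i L' ⊤ s') hσ' hσ'₀, hn₁, c1Cap_gysin_eq_pushFun i δ hL s hD.1 w]
  have e₂ : ∀ z, ζ₂ z = Cyc.c1CapFun δ L (Cyc.c1CapFun δ L' ⇑α (Cyc.gysinChoice L' s' w'))
      (Cyc.gysinChoice L s n₂) (i (pullback.fst i i' z)) := by
    intro z
    have hz : i' (pullback.snd i i' z) = i (pullback.fst i i' z) := by
      rw [← Scheme.Hom.comp_apply, ← Scheme.Hom.comp_apply, pullback.condition]
    rw [h₂ z, c1Cap_gysinChoice_indep (fun d => δ (i' d)) hdimD' hM (pullback.snd i i') σ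
      (pullS i' L ⊤ s) hσ hσ₀, hn₂, c1Cap_gysin_eq_pushFun i' δ hL' s' hD'.1 w', hz]
  -- the commutativity theorem
  have hH := fun ξ : X => comm_full δ hdim hL hL' ξ (Cyc.gysinChoice L s w ξ) (hg0 ξ)
    (Cyc.gysinChoice L' s' w' ξ) (hg'0 ξ) (Cyc.gysinChoice L' s' n₁) hG₁0
    (Cyc.gysinChoice L s n₂) hG₂0
  choose H hH0 hHP hHfin hHid using hH
  obtain ⟨d1, d2, d3, d4⟩ := family_data δ (k - 2) (J := {ξ : X // α ξ ≠ 0}) (fun j => j.1)
    (fun j ξ' => H j.1 ξ' ^ α j.1) (fun j ξ' => zpow_ne_zero _ (hH0 j.1 ξ'))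
    (fun j => by
      by_contra hne
      exact j.2 (hα j.1 (fun h => hne (by rw [h]; ring))))
    (locallyFinite_support α)
    (fun j x => by
      obtain ⟨U, hUo, hxU, hfin⟩ := hHfin j.1 x
      refine ⟨U, hUo, hxU, hfin.subset ?_⟩
      rintro ξ' ⟨h1, h2, h3⟩
      refine ⟨h1, h2, fun h4 => h3 ?_⟩
      rw [h4, one_zpow])
    (fun x => Cyc.c1CapFun δ L' (Cyc.c1CapFun δ L ⇑α (Cyc.gysinChoice L s w))
        (Cyc.gysinChoice L' s' n₁) x -
      Cyc.c1CapFun δ L (Cyc.c1CapFun δ L' ⇑α (Cyc.gysinChoice L' s' w'))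
        (Cyc.gysinChoice L s n₂) x)
    (fun x => c1Cap_comm_sum δ α (Cyc.gysinChoice L' s' n₁) (Cyc.gysinChoice L' s' w')
      (Cyc.gysinChoice L s w) (Cyc.gysinChoice L s n₂) H hH0 hHid x)
  unfold Cyc.RatEquiv
  have hci : IsClosedImmersion (pullback.fst i i' ≫ i) := inferInstance
  show Cyc.RatEquivZero (fun z => δ ((pullback.fst i i' ≫ i) z)) (k - 2) (ζ₁ - ζ₂)
  apply ratEquivZero_closed (pullback.fst i i' ≫ i) δ hdim (k - 2) (ζ₁ - ζ₂)
    (J := {p : {ξ : X // α ξ ≠ 0} × X //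
      (p.1.1 ⤳ p.2 ∧ δ p.2 + 1 = δ p.1.1) ∧ H p.1.1 p.2 ^ α p.1.1 ≠ 1})
    (fun p => p.1.2) (fun p => H p.1.1.1 p.1.2 ^ α p.1.1.1) d1 d2 d3
  · intro p
    rw [Scheme.Pullback.range_fst_comp]
    by_contra hnr
    apply p.2.2
    have hcases : (Submodule.Quotient.mk (L.presheaf.germ ⊤ p.1.2 trivial s) :
        Cyc.secFibre L p.1.2) ≠ 0 ∨
        (Submodule.Quotient.mk (L'.presheaf.germ ⊤ p.1.2 trivial s') :
        Cyc.secFibre L' p.1.2) ≠ 0 := by
      by_contra hcon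
      push Not at hcon
      apply hnr
      refine ⟨?_, ?_⟩
      · rw [hD.1]
        exact hcon.1
      · rw [hD'.1]
        exact hcon.2
    rcases hcases with hne | hne
    · rw [H_eq_one_of_section' δ hdim hL hL' s p.1.1.1 (Cyc.gysinChoice L s w p.1.1.1)
        (Cyc.gysinChoice L' s' w' p.1.1.1) (hg'0 _) (Cyc.gysinChoice L' s' n₁)
        (Cyc.gysinChoice L s n₂) (H p.1.1.1) (hHP p.1.1.1) p.1.2 p.2.1 hne
        (gysinChoice_eq_of_ne s w _ (section_ne_zero_of_specializes hL s p.2.1.1 hne))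
        (gysinChoice_eq_of_ne s n₂ _ hne), one_zpow]
    · rw [H_eq_one_of_section δ hdim hL hL' s' p.1.1.1 (Cyc.gysinChoice L s w p.1.1.1) (hg0 _)
        (Cyc.gysinChoice L' s' w' p.1.1.1) (Cyc.gysinChoice L' s' n₁)
        (Cyc.gysinChoice L s n₂) (H p.1.1.1) (hHP p.1.1.1) p.1.2 p.2.1 hne
        (gysinChoice_eq_of_ne s' w' _ (section_ne_zero_of_specializes hL' s' p.2.1.1 hne))
        (gysinChoice_eq_of_ne s' n₁ _ hne), one_zpow]
  · intro z
    rw [Function.locallyFinsuppWithin.coe_sub, Pi.sub_apply, e₁ z, e₂ z]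
    exact d4 (i (pullback.fst i i' z))

end Main

end Groth.Agent.Lib.Helper85.GysinComm
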