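import Mathlib
import Groth.Prelude.Def_C1
import Groth.Agent.Lib.Helper85.IntMult.GysinComm
import Groth.Agent.Lib.Helper85.IntMult.FlatC1

/-!
# Gysin maps commute with flat pullback (helper85)
-/

set_option autoImplicit false
set_option linter.unusedSectionVars false
universe u
open CategoryTheory AlgebraicGeometry Limits

namespace Groth.Agent.Lib.Helper85.GysinFlat

open Groth.Agent.Lib.Helper45 Groth.Agent.Lib.Helper49 Groth.Agent.Lib.Helper45.InvOrd
open Groth.Agent.Lib.Helper85.SecOrd Groth.Agent.Lib.Helper85.TameScheme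
open Groth.Agent.Lib.Helper85.C1Tensor Groth.Agent.Lib.Helper85.C1Comm
open Groth.Agent.Lib.Helper85.C1Sum Groth.Agent.Lib.Helper85.Gysin
open Groth.Agent.Lib.Helper85.PullDict Groth.Agent.Lib.Helper85.ClosedDict
open Groth.Agent.Lib.Helper85.GysinPull Groth.Agent.Lib.Helper11.PullbackBasis
open Groth.Agent.Lib.Helper85.PullbackKer Groth.Agent.Lib.Helper85.ZeroCycle
open Groth.Agent.Lib.Helper85.GysinComm

section Ker

variable {P D X' X : Scheme.{u}} {pf : P ⟶ D} {ps : P ⟶ X'} {i : D ⟶ X} {f : X' ⟶ X}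
  [IsClosedImmersion i] (H : IsPullback pf ps i f)

include H in
theorem mem_map_of_app_eq_zero' (U : X.Opens) (hU : IsAffineOpen U) (U' : X'.Opens)
    (hU' : IsAffineOpen U') (e : U' ≤ f ⁻¹ᵁ U) (b' : Γ(X', U'))
    (hb' : (ps.app U').hom b' = 0) :
    b' ∈ Ideal.map (f.appLE U U' e).hom (RingHom.ker (i.app U).hom) := by
  have hUY : ps ⁻¹ᵁ U' = pf ⁻¹ᵁ (i ⁻¹ᵁ U) ⊓ ps ⁻¹ᵁ U' := by
    have h1 : pf ⁻¹ᵁ (i ⁻¹ᵁ U) = ps ⁻¹ᵁ (f ⁻¹ᵁ U) := by
      rw [← Scheme.Hom.comp_preimage, ← Scheme.Hom.comp_preimage, H.w]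
    have h2 : ps ⁻¹ᵁ U' ≤ ps ⁻¹ᵁ (f ⁻¹ᵁ U) := ps.preimage_mono e
    rw [h1]
    exact (inf_eq_right.mpr h2).symm
  have HR := Scheme.Hom.isPullback_resLE H (US := U) (UT := U') (UX := i ⁻¹ᵁ U) e le_rfl
    (UY := ps ⁻¹ᵁ U') hUY
  have : IsAffine U.toScheme := hU
  have : IsAffine (i ⁻¹ᵁ U).toScheme := hU.preimage i
  have : IsAffine U'.toScheme := hU'
  have PO := isPushout_appTop_of_isPullback HR
  have e_i : (i.resLE U (i ⁻¹ᵁ U) le_rfl).appTop =
      U.topIso.hom ≫ i.app U ≫ (i ⁻¹ᵁ U).topIso.inv := by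
    rw [← Scheme.Hom.appLE_eq_app]
    exact Scheme.Hom.resLE_app_top i le_rfl
  have e_f : (f.resLE U U' e).appTop = U.topIso.hom ≫ f.appLE U U' e ≫ U'.topIso.inv :=
    Scheme.Hom.resLE_app_top f e
  have hsurj : Function.Surjective (i.resLE U (i ⁻¹ᵁ U) le_rfl).appTop := by
    rw [e_i]
    intro c
    obtain ⟨a, ha⟩ := i.app_surjective U hU ((i ⁻¹ᵁ U).topIso.hom c)
    refine ⟨U.topIso.inv a, ?_⟩
    simp only [CommRingCat.comp_apply]
    rw [← CommRingCat.comp_apply U.topIso.inv U.topIso.hom, Iso.inv_hom_id]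
    simp only [CommRingCat.id_apply]
    rw [ha, ← CommRingCat.comp_apply, Iso.hom_inv_id]
    rfl
  have hk := ker_le_of_isPushout PO hsurj
  have e_ps : ∀ e', (ps.resLE U' (ps ⁻¹ᵁ U') e').appTop =
      U'.topIso.hom ≫ ps.app U' ≫ (ps ⁻¹ᵁ U').topIso.inv := by
    intro e'
    rw [← Scheme.Hom.appLE_eq_app]
    exact Scheme.Hom.resLE_app_top ps e'
  have hb'' : (U'.topIso.inv.hom b') ∈
      RingHom.ker (ps.resLE U' (ps ⁻¹ᵁ U') le_rfl).appTop.hom := by
    rw [RingHom.mem_ker, e_ps]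
    simp only [CommRingCat.hom_comp, RingHom.comp_apply]
    have h1 : U'.topIso.hom.hom (U'.topIso.inv.hom b') = b' := by
      rw [← RingHom.comp_apply, ← CommRingCat.hom_comp, Iso.inv_hom_id]
      rfl
    rw [h1, hb', map_zero]
  have h2 := Ideal.mem_map_of_mem U'.topIso.hom.hom (hk hb'')
  have h3 : U'.topIso.hom.hom (U'.topIso.inv.hom b') = b' := by
    rw [← RingHom.comp_apply, ← CommRingCat.hom_comp, Iso.inv_hom_id]
    rfl
  rw [h3, Ideal.map_map] at h2
  refine (Ideal.map_le_iff_le_comap.mpr ?_) h2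
  intro a ha
  rw [Ideal.mem_comap]
  have h4 : (U'.topIso.hom.hom.comp (f.resLE U U' e).appTop.hom) a =
      (f.appLE U U' e).hom (U.topIso.hom.hom a) := by
    rw [e_f]
    simp only [CommRingCat.hom_comp, RingHom.comp_apply]
    rw [← RingHom.comp_apply U'.topIso.hom.hom, ← CommRingCat.hom_comp, Iso.inv_hom_id]
    rfl
  rw [h4]
  apply Ideal.mem_map_of_mem
  rw [RingHom.mem_ker]
  have h5 : (i.app U).hom (U.topIso.hom.hom a) =
      (i ⁻¹ᵁ U).topIso.hom.hom ((i.resLE U (i ⁻¹ᵁ U) le_rfl).appTop.hom a) := by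
    rw [e_i]
    simp only [CommRingCat.hom_comp, RingHom.comp_apply]
    rw [← RingHom.comp_apply (i ⁻¹ᵁ U).topIso.hom.hom, ← CommRingCat.hom_comp, Iso.inv_hom_id]
    rfl
  rw [h5, RingHom.mem_ker.mp ha, map_zero]

include H in
theorem isClosedImmersion_snd : IsClosedImmersion ps := by
  have := MorphismProperty.of_isPullback (P := @IsClosedImmersion) H
  exact this inferInstance

include H in
theorem ker_stalkMap_le' (z : P) (I : Ideal (X.presheaf.stalk (f (ps z))))
    (hI : ∀ (U : X.Opens) (_ : IsAffineOpen U) (hx : f (ps z) ∈ U) (a : Γ(X, U)),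
      (i.app U).hom a = 0 → X.presheaf.germ U _ hx a ∈ I) :
    RingHom.ker (ps.stalkMap z).hom ≤ Ideal.map (f.stalkMap (ps z)).hom I := by
  intro a₀ ha₀
  obtain ⟨W', hzW', b, hb⟩ := TopCat.Presheaf.exists_germ_eq X'.presheaf (x := ps z) a₀
  have hz0 : P.presheaf.germ (ps ⁻¹ᵁ W') z hzW' ((ps.app W').hom b) =
      P.presheaf.germ (ps ⁻¹ᵁ W') z hzW' 0 := by
    rw [map_zero]
    have h1 := Scheme.Hom.germ_stalkMap_apply ps W' z hzW' b
    rw [← h1, hb]
    exact RingHom.mem_ker.mp ha₀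
  obtain ⟨WP, hzWP, iU, iV, hres⟩ := TopCat.Presheaf.germ_eq P.presheaf z hzW' hzW' _ _ hz0
  have : IsClosedImmersion ps := isClosedImmersion_snd H
  obtain ⟨O₂, hO₂, hO₂W⟩ := ps.isClosedEmbedding.isInducing.isOpen_iff.mp WP.isOpen
  obtain ⟨_, ⟨U, hU, rfl⟩, hxU, -⟩ :=
    X.isBasis_affineOpens.exists_subset_of_mem_open (Set.mem_univ (f (ps z))) isOpen_univ
  have hx3 : ps z ∈ ((W' : Set X') ∩ O₂) ∩ (f ⁻¹ᵁ U : Set X') := by
    refine ⟨⟨hzW', ?_⟩, hxU⟩
    have : z ∈ ps ⁻¹' O₂ := by rw [hO₂W]; exact hzWP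
    exact this
  obtain ⟨_, ⟨U', hU', rfl⟩, hzU', hU'sub⟩ :=
    X'.isBasis_affineOpens.exists_subset_of_mem_open hx3
      ((W'.isOpen.inter hO₂).inter (f ⁻¹ᵁ U).isOpen)
  have hle1 : U' ≤ W' := fun y hy => (hU'sub hy).1.1
  have hle2 : ps ⁻¹ᵁ U' ≤ WP := by
    intro y hy
    have : y ∈ ps ⁻¹' O₂ := (hU'sub hy).1.2
    rw [hO₂W] at this
    exact this
  have e : U' ≤ f ⁻¹ᵁ U := fun y hy => (hU'sub hy).2
  set b₃ : Γ(X', U') := (X'.presheaf.map (homOfLE hle1).op).hom b with hb₃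
  have hb₃0 : (ps.app U').hom b₃ = 0 := by
    have hnat := Scheme.Hom.naturality ps (homOfLE hle1).op
    have h1 : (ps.app U').hom b₃ =
        (P.presheaf.map ((TopologicalSpace.Opens.map ps.base).map (homOfLE hle1)).op).hom
          ((ps.app W').hom b) := by
      exact DFunLike.congr_fun (congrArg CommRingCat.Hom.hom hnat) b
    rw [h1]
    have h2 : ((TopologicalSpace.Opens.map ps.base).map (homOfLE hle1)).op =
        iU.op ≫ (homOfLE hle2).op := Subsingleton.elim _ _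
    rw [h2, P.presheaf.map_comp]
    simp only [CommRingCat.hom_comp, RingHom.comp_apply]
    rw [hres, map_zero, map_zero]
  have hmem := mem_map_of_app_eq_zero' H U hU U' hU' e b₃ hb₃0
  have hgerm : (X'.presheaf.germ U' (ps z) hzU').hom b₃ = a₀ := by
    rw [hb₃, ← hb]
    exact TopCat.Presheaf.germ_res_apply X'.presheaf (homOfLE hle1) (ps z) hzU' b
  rw [← hgerm]
  have h3 := Ideal.mem_map_of_mem (X'.presheaf.germ U' (ps z) hzU').hom hmem
  rw [Ideal.map_map] at h3
  refine (Ideal.map_le_iff_le_comap.mpr ?_) h3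
  intro a ha
  rw [Ideal.mem_comap]
  have h4 : ((X'.presheaf.germ U' (ps z) hzU').hom.comp (f.appLE U U' e).hom) a =
      (f.stalkMap (ps z)).hom (X.presheaf.germ U (f (ps z)) hxU a) := by
    have h5 : (f.appLE U U' e).hom a =
        (X'.presheaf.map (homOfLE e).op).hom ((f.app U).hom a) := rfl
    rw [RingHom.comp_apply, h5]
    have h6 := TopCat.Presheaf.germ_res_apply X'.presheaf (homOfLE e) (ps z) hzU'
      ((f.app U).hom a)
    refine h6.trans ?_
    exact (Scheme.Hom.germ_stalkMap_apply f U (ps z) hxU a).symm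
  rw [h4]
  exact Ideal.mem_map_of_mem _ (hI U hU hxU a (RingHom.mem_ker.mp ha))

end Ker

section ZeroScheme

variable {P D X' X : Scheme.{u}} {pf : P ⟶ D} {ps : P ⟶ X'} {i : D ⟶ X} {f : X' ⟶ X}
  [IsClosedImmersion i] (H : IsPullback pf ps i f)

include H in
/-- germs of functions vanishing on `D` lie in the maximal ideal at points of `D` -/
theorem germ_mem_maximalIdeal (z : P) (U : X.Opens) (hx : f (ps z) ∈ U) (a : Γ(X, U))
    (ha : (i.app U).hom a = 0) :
    X.presheaf.germ U _ hx a ∈ IsLocalRing.maximalIdeal (X.presheaf.stalk (f (ps z))) := by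
  have key : ∀ (y : X) (hy : y ∈ U), y = i (pf z) →
      X.presheaf.germ U y hy a ∈ IsLocalRing.maximalIdeal (X.presheaf.stalk y) := by
    rintro y hy rfl
    have h2 := Scheme.Hom.germ_stalkMap_apply i U (pf z) hy a
    rw [ha, map_zero] at h2
    by_contra hnm
    have hu : IsUnit (X.presheaf.germ U (i (pf z)) hy a) := by
      by_contra hnu
      exact hnm ((IsLocalRing.mem_maximalIdeal _).mpr hnu)
    have hu' := hu.map (i.stalkMap (pf z)).hom
    rw [h2] at hu'
    exact not_isUnit_zero hu'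
  apply key (f (ps z)) hx
  rw [← Scheme.Hom.comp_apply, ← Scheme.Hom.comp_apply, H.w]

include H in
/-- the kernel of the stalk map of the base change of a closed immersion lies in the extension
of the maximal ideal of the base -/
theorem ker_stalkMap_le_map_maximalIdeal (z : P) :
    RingHom.ker (ps.stalkMap z).hom ≤ Ideal.map (f.stalkMap (ps z)).hom
      (IsLocalRing.maximalIdeal (X.presheaf.stalk (f (ps z)))) :=
  ker_stalkMap_le' H z _ (fun U _ hx a ha => germ_mem_maximalIdeal H z U hx a ha)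

include H in
/-- **the base change of the zero scheme of a section is the zero scheme of the pulled back
section** (any morphism `f`) -/
theorem isZeroSchemeOf_of_isPullback' {L : X.Modules} (hL : PicF.IsInvertible L)
    (s : L.presheaf.obj (Opposite.op ⊤)) (hD : Cyc.IsZeroSchemeOf i L s) :
    Cyc.IsZeroSchemeOf ps ((Scheme.Modules.pullback f).obj L) (pullS f L ⊤ s) := by
  have hvan := fun d' : X' => mk_germ_pullS_eq_zero_iff f hL s d'
  refine ⟨?_, ?_⟩
  · ext d'
    show d' ∈ Set.range ps ↔ _ = 0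
    rw [hvan d']
    constructor
    · rintro ⟨z, rfl⟩
      have h1 : f (ps z) ∈ Set.range i := ⟨pf z, by
        rw [← Scheme.Hom.comp_apply, ← Scheme.Hom.comp_apply, H.w]⟩
      rw [hD.1] at h1
      exact h1
    · intro h
      have h1 : f d' ∈ Set.range i := by
        rw [hD.1]
        exact h
      obtain ⟨d, hd⟩ := h1
      obtain ⟨z, -, hz⟩ := Scheme.Pullback.exists_preimage_pullback (f := i) (g := f) d d' hd
      refine ⟨H.isoPullback.inv z, ?_⟩
      rw [← Scheme.Hom.comp_apply, H.isoPullback_inv_snd]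
      exact hz
  · intro z
    obtain ⟨V, hV, τ, hτ⟩ := exists_isBasisOn_of_isInvertible hL (f (ps z))
    obtain ⟨g, hg⟩ := hτ.exists_eq_smul (mres L le_top s)
    have hV' : ps z ∈ f ⁻¹ᵁ V := hV
    have hτ' := isBasisOn_pullS f V L τ hτ
    refine ⟨_, _, germ_basis_span hτ' (ps z) hV', germ_pullS_top f s g hg (ps z) hV, ?_⟩
    apply le_antisymm
    · have h1 := ker_stalkMap_le' H z (Ideal.span {X.presheaf.germ V (f (ps z)) hV g}) (by
        intro U hU hx a ha
        have key : ∀ (y : X) (hy : y ∈ U) (hyV : y ∈ V), y = i (pf z) →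
            X.presheaf.germ U y hy a ∈ Ideal.span {X.presheaf.germ V y hyV g} := by
          rintro y hy hyV rfl
          rw [← ker_stalkMap_eq_span_germ hL s hD hτ g hg (pf z) hyV, RingHom.mem_ker]
          have h2 := Scheme.Hom.germ_stalkMap_apply i U (pf z) hy a
          rw [ha, map_zero] at h2
          exact h2
        apply key (f (ps z)) hx hV
        rw [← Scheme.Hom.comp_apply, ← Scheme.Hom.comp_apply, H.w])
      rw [Ideal.map_span, Set.image_singleton] at h1
      exact h1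
    · rw [Ideal.span_le, Set.singleton_subset_iff]
      show _ ∈ RingHom.ker (ps.stalkMap z).hom
      rw [RingHom.mem_ker]
      have h0 : ((pf ≫ i).app V).hom g = 0 := by
        have h1 : ((pf ≫ i).app V).hom g = (pf.app (i ⁻¹ᵁ V)).hom ((i.app V).hom g) := rfl
        rw [h1, app_coeff_eq_zero hL s hD hτ g hg]
        exact map_zero _
      have h2 := stalkMap_germ_eq_zero_of_eq (ps ≫ f) (pf ≫ i) H.w.symm V g z hV h0
      rw [Scheme.Hom.stalkMap_comp] at h2
      exact h2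

end ZeroScheme

section Fibre

theorem map_maximalIdeal_congr {P X : Scheme.{u}} (h₁ h₂ : P ⟶ X) (e : h₁ = h₂) (z : P) :
    Ideal.map (h₁.stalkMap z).hom (IsLocalRing.maximalIdeal (X.presheaf.stalk (h₁ z))) =
      Ideal.map (h₂.stalkMap z).hom (IsLocalRing.maximalIdeal (X.presheaf.stalk (h₂ z))) := by
  subst e
  rfl

variable {P D X' X : Scheme.{u}} {pf : P ⟶ D} {ps : P ⟶ X'} {i : D ⟶ X} {f : X' ⟶ X}
  [IsClosedImmersion i] (H : IsPullback pf ps i f)

include H in
/-- the multiplicities of flat pullback are the same for `f` and for its base change to a closed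
subscheme -/
theorem length_fibre_eq (z : P) :
    Module.length (P.presheaf.stalk z) (P.presheaf.stalk z ⧸
      Ideal.map (pf.stalkMap z).hom (IsLocalRing.maximalIdeal (D.presheaf.stalk (pf z)))) =
    Module.length (X'.presheaf.stalk (ps z)) (X'.presheaf.stalk (ps z) ⧸
      Ideal.map (f.stalkMap (ps z)).hom
        (IsLocalRing.maximalIdeal (X.presheaf.stalk (f (ps z))))) := by
  have : IsClosedImmersion ps := isClosedImmersion_snd H
  have h1 := length_quot_map_of_surjective (ps.stalkMap z).hom (stalkMap_surjective ps z)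
    (Ideal.map (f.stalkMap (ps z)).hom (IsLocalRing.maximalIdeal (X.presheaf.stalk (f (ps z)))))
    (ker_stalkMap_le_map_maximalIdeal H z)
  rw [← h1]
  have e1 : Ideal.map (ps.stalkMap z).hom (Ideal.map (f.stalkMap (ps z)).hom
      (IsLocalRing.maximalIdeal (X.presheaf.stalk (f (ps z))))) =
      Ideal.map ((ps ≫ f).stalkMap z).hom
        (IsLocalRing.maximalIdeal (X.presheaf.stalk ((ps ≫ f) z))) := by
    rw [Ideal.map_map, Scheme.Hom.stalkMap_comp]
    rfl
  have e2 : Ideal.map (pf.stalkMap z).hom (IsLocalRing.maximalIdeal (D.presheaf.stalk (pf z))) =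
      Ideal.map ((pf ≫ i).stalkMap z).hom
        (IsLocalRing.maximalIdeal (X.presheaf.stalk ((pf ≫ i) z))) := by
    rw [← IsLocalRing.map_maximalIdeal_of_surjective (i.stalkMap (pf z)).hom
      (stalkMap_surjective i (pf z)), Ideal.map_map, Scheme.Hom.stalkMap_comp]
    rfl
  rw [e1, e2, map_maximalIdeal_congr (ps ≫ f) (pf ≫ i) H.w.symm z]

include H in
/-- flat pullback along the base change, at points of the closed subscheme -/
theorem pullFun_base_change (δ' : X' → ℤ) (δ : X → ℤ) (r : ℤ) (β : X → ℤ) (z : P) :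
    Cyc.pullFun pf (fun z => δ' (ps z)) (fun d => δ (i d)) r (fun d => β (i d)) z =
      Cyc.pullFun f δ' δ r β (ps z) := by
  have hpt : f (ps z) = i (pf z) := by
    rw [← Scheme.Hom.comp_apply, ← Scheme.Hom.comp_apply, H.w]
  have e1 : δ (f (ps z)) = δ (i (pf z)) := congrArg δ hpt
  have e2 : β (f (ps z)) = β (i (pf z)) := congrArg β hpt
  unfold Cyc.pullFun
  simp only
  rw [length_fibre_eq H z, e1, e2]

end Fibre

section Fallback

variable {D X : Scheme.{u}} (i : D ⟶ X) [IsClosedImmersion i] [IsLocallyNoetherian X]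
  (δ : X → ℤ) (hdim : Cyc.IsDimFun X δ)

include hdim in
/-- **the Gysin class does not depend on the rational sections chosen on subvarieties contained
in `D`**: two families of rational sections agreeing off `D` give cap products whose restrictions
to `D` are rationally equivalent on `D`. -/
theorem c1Cap_fallback_ratEquivZero {L : X.Modules} (hL : PicF.IsInvertible L) (k : ℤ)
    (α : AlgebraicCycle X ℤ) (hα : α ∈ Cyc.Zk X δ (k + 1))
    (t₁ t₂ : (ξ : X) → Cyc.secFibre L ξ) (h₁ : ∀ ξ, t₁ ξ ≠ 0) (h₂ : ∀ ξ, t₂ ξ ≠ 0)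
    (hagree : ∀ ξ, ξ ∉ Set.range i → t₁ ξ = t₂ ξ) (γ : AlgebraicCycle D ℤ)
    (hγ : ∀ d, γ d = Cyc.c1CapFun δ L ⇑α t₁ (i d) - Cyc.c1CapFun δ L ⇑α t₂ (i d)) :
    Cyc.RatEquivZero (fun d => δ (i d)) k γ := by
  classical
  let β : AlgebraicCycle X ℤ :=
    ⟨fun ξ => if ξ ∈ Set.range i then α ξ else 0, fun x _ => Set.mem_univ x, by
      intro x _
      obtain ⟨t, ht, hfin⟩ := α.supportLocallyFiniteWithinDomain' x (Set.mem_univ x)
      refine ⟨t, ht, hfin.subset ?_⟩
      rintro y ⟨hyt, hy⟩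
      refine ⟨hyt, ?_⟩
      intro h0
      apply hy
      show (if y ∈ Set.range i then α y else 0) = 0
      rw [show α y = 0 from h0, ite_self]⟩
  have hβval : ∀ ξ, β ξ = if ξ ∈ Set.range i then α ξ else 0 := fun ξ => rfl
  have hβ : β ∈ Cyc.Zk X δ (k + 1) := by
    intro x hx
    rw [hβval, hα x hx, ite_self]
  have hβD : ∀ ξ, β ξ ≠ 0 → ξ ∈ Set.range i := by
    intro ξ hξ
    by_contra hnr
    apply hξ
    rw [hβval, if_neg hnr]
  obtain ⟨F, hF, hdiff⟩ := c1Cap_indep_family δ hL β t₁ t₂ h₁ h₂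
  apply ratEquivZero_closed_of_finsum_divFun i δ hdim k β hβ hβD F hF γ
  intro d
  rw [hγ, ← hdiff (i d)]
  unfold Cyc.c1CapFun
  rw [← finsum_sub_distrib (finite_support_c1Cap δ L α t₁ (i d))
      (finite_support_c1Cap δ L α t₂ (i d)),
    ← finsum_sub_distrib (finite_support_c1Cap δ L β t₁ (i d))
      (finite_support_c1Cap δ L β t₂ (i d))]
  apply finsum_congr
  intro ξ
  by_cases hr : ξ ∈ Set.range i
  · rw [hβval, if_pos hr]
  · rw [hβval, if_neg hr, hagree ξ hr, sub_self, zero_mul, sub_self]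

end Fallback

section Main

open Groth.Agent.Lib.Helper85.DivPull Groth.Agent.Lib.Helper85.FlatC1

variable {P D X' X : Scheme.{u}} {pf : P ⟶ D} {ps : P ⟶ X'} {i : D ⟶ X} {f : X' ⟶ X}
  [IsClosedImmersion i] (H : IsPullback pf ps i f) [Flat f]
  (δ : X → ℤ) (δ' : X' → ℤ) (hX : Cyc.IsSetup X δ) (hX' : Cyc.IsSetup X' δ') (c : ℤ)
  (hc : ∀ x' : X', GenFib f x' → δ' x' = δ (f x') + c)

include H hX hX' hc in
/-- **Gysin maps commute with flat pullback.** -/
theorem gysin_pullFun {L : X.Modules} (hL : PicF.IsInvertible L)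
    (s : L.presheaf.obj (Opposite.op ⊤)) (hD : Cyc.IsZeroSchemeOf i L s)
    (s' : ((Scheme.Modules.pullback f).obj L).presheaf.obj (Opposite.op ⊤))
    (hD' : Cyc.IsZeroSchemeOf ps ((Scheme.Modules.pullback f).obj L) s')
    (k : ℤ) (α : AlgebraicCycle X ℤ) (hα : α ∈ Cyc.Zk X δ (k + 1))
    (w : (ξ : X) → Cyc.secFibre L ξ) (hw : ∀ ξ, w ξ ≠ 0)
    (w' : (ξ : X') → Cyc.secFibre ((Scheme.Modules.pullback f).obj L) ξ) (hw' : ∀ ξ, w' ξ ≠ 0)
    (ζ₁ ζ₂ : AlgebraicCycle P ℤ)
    (h₁ : ∀ z, ζ₁ z = Cyc.c1CapFun δ' ((Scheme.Modules.pullback f).obj L)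
      (Cyc.pullFun f δ' δ c ⇑α) (Cyc.gysinChoice ((Scheme.Modules.pullback f).obj L) s' w') (ps z))
    (h₂ : ⇑ζ₂ = Cyc.pullFun pf (fun z => δ' (ps z)) (fun d => δ (i d)) c
      (fun d => Cyc.c1CapFun δ L ⇑α (Cyc.gysinChoice L s w) (i d))) :
    Cyc.RatEquiv (fun z => δ' (ps z)) (k + c) ζ₁ ζ₂ := by
  have : IsClosedImmersion ps := isClosedImmersion_snd H
  have hN' : IsLocallyNoetherian X' := hX'.1
  have hL' : PicF.IsInvertible ((Scheme.Modules.pullback f).obj L) := isInvertible_pullback f hL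
  have hv := gysinChoice_ne_zero s w hw
  choose u₀ hu₀0 hu₀ using fun ξ' =>
    exists_pull_section f L hL ξ' (Cyc.gysinChoice L s w (f ξ')) (hv (f ξ'))
  obtain ⟨α', hα', hα'k⟩ := exists_cycle_pullFun f δ δ' hX' c hc (k + 1) α hα
  have hD'' := isZeroSchemeOf_of_isPullback' H hL s hD
  unfold Cyc.RatEquiv
  have hα'k' : α' ∈ Cyc.Zk X' δ' (k + c + 1) := by
    rw [show k + c + 1 = k + 1 + c by ring]
    exact hα'k
  apply c1Cap_fallback_ratEquivZero ps δ' hX'.2.2 hL' (k + c) α' hα'k'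
    (Cyc.gysinChoice ((Scheme.Modules.pullback f).obj L) (pullS f L ⊤ s) w') u₀
    (gysinChoice_ne_zero _ w' hw') hu₀0
  · intro ξ' hξ'
    have hne' : (Submodule.Quotient.mk
        ((((Scheme.Modules.pullback f).obj L).presheaf.germ ⊤ ξ' trivial) (pullS f L ⊤ s)) :
        Cyc.secFibre ((Scheme.Modules.pullback f).obj L) ξ') ≠ 0 := by
      intro h0
      apply hξ'
      rw [hD''.1]
      exact h0
    have hne : (Submodule.Quotient.mk ((L.presheaf.germ ⊤ (f ξ') trivial) s) :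
        Cyc.secFibre L (f ξ')) ≠ 0 :=
      fun h0 => hne' ((mk_germ_pullS_eq_zero_iff f hL s ξ').mpr h0)
    rw [gysinChoice_eq_of_ne _ w' ξ' hne']
    obtain ⟨V, hV, τ, hτ⟩ := exists_isBasisOn_of_isInvertible hL (f ξ')
    obtain ⟨g, hg⟩ := hτ.exists_eq_smul (mres L le_top s)
    have hvb : Cyc.gysinChoice L s w (f ξ') = Submodule.Quotient.mk
        (X.presheaf.germ V (f ξ') hV g • L.presheaf.germ V (f ξ') hV τ) := by
      rw [← germ_top_eq s g hg (f ξ') hV]
      exact gysinChoice_eq_of_ne s w (f ξ') hne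
    rw [hu₀ ξ' V τ hτ hV _ hvb, germ_pullS_top f s g hg ξ' hV]
  · intro z
    rw [Function.locallyFinsuppWithin.coe_sub, Pi.sub_apply, h₁, h₂,
      pullFun_base_change H δ' δ c (Cyc.c1CapFun δ L ⇑α (Cyc.gysinChoice L s w)) z,
      c1Cap_pullFun_eq f L δ δ' hX hX' c hc hL α (Cyc.gysinChoice L s w) hv u₀ hu₀ α' hα' (ps z),
      ← hα']
    congr 1
    exact c1Cap_gysinChoice_indep δ' hX'.2.2 hL' ps s' (pullS f L ⊤ s) hD' hD'' ⇑α' w' (ps z)

end Main

end Groth.Agent.Lib.Helper85.GysinFlat
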