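import Mathlib
import Groth.Prelude.Def_C1
import Groth.Agent.Lib.Helper85.IntMult.GysinFlat
import Groth.Agent.Lib.Helper85.IntMult.C1Cycle
import Groth.Agent.Lib.Helper71.PushRatF
import Groth.Agent.Lib.Helper71.PushRatR

/-!
# Gysin maps commute with proper push-forward (helper85)
-/

set_option autoImplicit false
set_option linter.unusedSectionVars false
universe u
open CategoryTheory AlgebraicGeometry Limits

namespace Groth.Agent.Lib.Helper85.GysinPush

open Groth.Agent.Lib.Helper45 Groth.Agent.Lib.Helper49 Groth.Agent.Lib.Helper45.InvOrd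
open Groth.Agent.Lib.Helper85.SecOrd Groth.Agent.Lib.Helper85.TameScheme
open Groth.Agent.Lib.Helper85.C1Tensor Groth.Agent.Lib.Helper85.C1Comm
open Groth.Agent.Lib.Helper85.C1Sum Groth.Agent.Lib.Helper85.Gysin
open Groth.Agent.Lib.Helper85.PullDict Groth.Agent.Lib.Helper85.ClosedDict
open Groth.Agent.Lib.Helper85.GysinPull Groth.Agent.Lib.Helper11.PullbackBasis
open Groth.Agent.Lib.Helper85.PullbackKer Groth.Agent.Lib.Helper85.ZeroCycle
open Groth.Agent.Lib.Helper85.GysinComm Groth.Agent.Lib.Helper85.GysinFlat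
open Groth.Agent.Lib.Helper85.C1Cycle Groth.Agent.Lib.Helper85.FlatC1
open Groth.Agent.Lib.Helper71.PushRat

section Agree

variable {X' X : Scheme.{u}} (f : X' ⟶ X) {L : X.Modules} (hL : PicF.IsInvertible L)
  (s : L.presheaf.obj (Opposite.op ⊤))

include hL in
/-- off the zero locus, the Gysin choice of sections for the pulled back section is the pullback
of the Gysin choice of sections -/
theorem pull_gysinChoice_agree (w : (ξ : X) → Cyc.secFibre L ξ)
    (w' : (ξ : X') → Cyc.secFibre ((Scheme.Modules.pullback f).obj L) ξ)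
    (u₀ : (ξ' : X') → Cyc.secFibre ((Scheme.Modules.pullback f).obj L) ξ')
    (hu₀ : ∀ (ξ' : X') (V : X.Opens) (τ : Γ(L, V)) (_ : IsBasisOn L V τ) (hV : f ξ' ∈ V)
        (b : X.presheaf.stalk (f ξ')),
        Cyc.gysinChoice L s w (f ξ') = Submodule.Quotient.mk (b • L.presheaf.germ V (f ξ') hV τ) →
        u₀ ξ' = Submodule.Quotient.mk ((f.stalkMap ξ' b) •
          ((Scheme.Modules.pullback f).obj L).presheaf.germ (f ⁻¹ᵁ V) ξ' hV (pullS f L V τ)))
    (ξ' : X')
    (hne' : (Submodule.Quotient.mk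
        ((((Scheme.Modules.pullback f).obj L).presheaf.germ ⊤ ξ' trivial) (pullS f L ⊤ s)) :
        Cyc.secFibre ((Scheme.Modules.pullback f).obj L) ξ') ≠ 0) :
    Cyc.gysinChoice ((Scheme.Modules.pullback f).obj L) (pullS f L ⊤ s) w' ξ' = u₀ ξ' := by
  have hne : (Submodule.Quotient.mk ((L.presheaf.germ ⊤ (f ξ') trivial) s) :
      Cyc.secFibre L (f ξ')) ≠ 0 :=
    fun h0 => hne' ((mk_germ_pullS_eq_zero_iff f hL s ξ').mpr h0)
  rw [gysinChoice_eq_of_ne _ w' ξ' hne']
  obtain ⟨V, hV, τ, hτ⟩ := exists_isBasisOn_of_isInvertible hL (f ξ')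
  obtain ⟨g, hg⟩ := hτ.exists_eq_smul (mres L le_top s)
  have hvb : Cyc.gysinChoice L s w (f ξ') = Submodule.Quotient.mk
      (X.presheaf.germ V (f ξ') hV g • L.presheaf.germ V (f ξ') hV τ) := by
    rw [← germ_top_eq s g hg (f ξ') hV]
    exact gysinChoice_eq_of_ne s w (f ξ') hne
  rw [hu₀ ξ' V τ hτ hV _ hvb, germ_pullS_top f s g hg ξ' hV]

end Agree

section BaseChange

variable {P D X' X : Scheme.{u}} {pf : P ⟶ D} {ps : P ⟶ X'} {i : D ⟶ X} {f : X' ⟶ X}
  [IsClosedImmersion i] (H : IsPullback pf ps i f) [IsProper f]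

include H in
theorem isProper_fst : IsProper pf := by
  have : IsClosedImmersion ps := isClosedImmersion_snd H
  exact sq_isProper ps i f pf H.w

include H in
omit [IsProper f] in
theorem residueDegree_base_change (z : P) : pf.residueDegree z = f.residueDegree (ps z) := by
  have : IsClosedImmersion ps := isClosedImmersion_snd H
  have h1 := Groth.Agent.Lib.Helper55.residueDegree_comp pf i z
  have h2 := Groth.Agent.Lib.Helper55.residueDegree_comp ps f z
  rw [ci_residueDegree i (pf z), one_mul] at h1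
  rw [ci_residueDegree ps z, mul_one] at h2
  rw [← h1, ← h2]
  exact congrArg (fun t : P ⟶ X => t.residueDegree z) H.w

include H in
/-- proper push-forward commutes with restriction to a closed subscheme of the base -/
theorem map_base_change_apply [QuasiCompact pf] (δ : X → ℤ) (δ' : X' → ℤ)
    (A : AlgebraicCycle X' ℤ) (B : AlgebraicCycle P ℤ) (hB : ∀ z, B z = A (ps z)) (d : D) :
    AlgebraicCycle.map pf (fun z => δ' (ps z)) (fun d => δ (i d)) B d =
      AlgebraicCycle.map f δ' δ A (i d) := by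
  have : IsClosedImmersion ps := isClosedImmersion_snd H
  have hpt : ∀ z, f (ps z) = i (pf z) := by
    intro z
    rw [← Scheme.Hom.comp_apply, ← Scheme.Hom.comp_apply, H.w]
  rw [map_apply_eq, map_apply_eq]
  apply finsum_mem_eq_of_bijOn (fun z => ps z)
  · refine ⟨?_, (ci_injective ps).injOn, ?_⟩
    · intro z hz
      have hz' : pf z = d := hz
      show f (ps z) = i d
      rw [hpt z, hz']
    · intro x hx
      have hx' : f x = i d := hx
      obtain ⟨z, hz1, hz2⟩ :=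
        Scheme.Pullback.exists_preimage_pullback (f := i) (g := f) d x hx'.symm
      refine ⟨H.isoPullback.inv z, ?_, ?_⟩
      · show pf (H.isoPullback.inv z) = d
        rw [← Scheme.Hom.comp_apply, H.isoPullback_inv_fst]
        exact hz1
      · show ps (H.isoPullback.inv z) = x
        rw [← Scheme.Hom.comp_apply, H.isoPullback_inv_snd]
        exact hz2
  · intro z _
    rw [hB z]
    congr 2
    unfold AlgebraicCycle.mapCoeff
    have e1 : δ (f (ps z)) = δ (i (pf z)) := congrArg δ (hpt z)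
    have e2 := residueDegree_base_change H z
    by_cases hc : δ' (ps z) = δ (i (pf z))
    · rw [if_pos hc, if_pos (hc.trans e1.symm), e2]
    · rw [if_neg hc, if_neg (fun h => hc (h.trans e1))]

end BaseChange

section Proj

variable {X Y : Scheme.{u}} (δX : X → ℤ) (δY : Y → ℤ) (hX : Cyc.IsSetup X δX)
  (hY : Cyc.IsSetup Y δY) (p : X ⟶ Y) [IsProper p] (hδ : Cyc.DeltaCompat p δX δY)

include hX hY hδ in
/-- **the projection formula as an exact equality**, for the pulled back rational sections -/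
theorem map_c1Cap_pull_eq {L : Y.Modules} (hL : PicF.IsInvertible L)
    (α : AlgebraicCycle X ℤ) (v : (η : Y) → Cyc.secFibre L η) (hv : ∀ η, v η ≠ 0)
    (u₀ : (ξ : X) → Cyc.secFibre ((Scheme.Modules.pullback p).obj L) ξ)
    (hu₀ : ∀ (ξ : X) (V : Y.Opens) (τ : Γ(L, V)) (_ : IsBasisOn L V τ) (hV : p ξ ∈ V)
        (b : Y.presheaf.stalk (p ξ)),
        v (p ξ) = Submodule.Quotient.mk (b • L.presheaf.germ V (p ξ) hV τ) →
        u₀ ξ = Submodule.Quotient.mk ((p.stalkMap ξ b) •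
          ((Scheme.Modules.pullback p).obj L).presheaf.germ (p ⁻¹ᵁ V) ξ hV (pullS p L V τ)))
    (γ₀ : AlgebraicCycle X ℤ)
    (hγ₀ : ⇑γ₀ = Cyc.c1CapFun δX ((Scheme.Modules.pullback p).obj L) ⇑α u₀) (y : Y) :
    AlgebraicCycle.map p δX δY γ₀ y =
      Cyc.c1CapFun δY L ⇑(AlgebraicCycle.map p δX δY α) v y := by
  classical
  obtain ⟨V, hyV, τ, hτ⟩ := exists_isBasisOn_of_isInvertible hL y
  have hcoord : ∀ η : Y, ∃ c : Y.residueField η, c ≠ 0 ∧ (∀ hη : η ∈ V,
      ∃ b : Y.presheaf.stalk η, v η = Submodule.Quotient.mk (b • L.presheaf.germ V η hη τ) ∧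
        Y.residue η b = c) := by
    intro η
    by_cases hη : η ∈ V
    · obtain ⟨b, hb⟩ := exists_coord hτ η hη (v η)
      refine ⟨Y.residue η b, residue_coord_ne_zero hτ η hη b (by rw [← hb]; exact hv η),
        fun _ => ⟨b, hb, rfl⟩⟩
    · exact ⟨1, one_ne_zero, fun h => absurd h hη⟩
  choose c hc0 hc using hcoord
  have hcore := push_c1_core δX δY hX hY p hδ c hc0 α y
  rw [map_apply_eq]
  unfold Cyc.c1CapFun
  convert hcore using 1
  · apply finsum_mem_congr rfl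
    intro x hx
    congr 1
    rw [hγ₀]
    unfold Cyc.c1CapFun
    apply finsum_congr
    intro ξ
    congr 1
    by_cases hsp : ξ ⤳ x
    · have hpx : p x ∈ V := by rw [show p x = y from hx]; exact hyV
      have hpξ : p ξ ∈ V := (hsp.map p.continuous).mem_open V.isOpen hpx
      obtain ⟨b, hb, hbc⟩ := hc (p ξ) hpξ
      rw [← hbc]
      exact (divFun_res_eq_secDivFun p L δX ξ x hτ hpx hpξ b (u₀ ξ)
        (hu₀ ξ V τ hτ hpξ b hb)).symm
    · unfold Cyc.secDivFun Cyc.divFun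
      rw [dif_neg (fun h => hsp h.1), dif_neg (fun h => hsp h.1)]
  · apply finsum_congr
    intro η
    congr 1
    by_cases hsp : η ⤳ y
    · have hη : η ∈ V := hsp.mem_open V.isOpen hyV
      obtain ⟨b, hb, hbc⟩ := hc η hη
      unfold Cyc.secDivFun Cyc.divFun
      by_cases hcond : η ⤳ y ∧ δY y + 1 = δY η
      · rw [dif_pos hcond, dif_pos hcond, hb, secOrdAt_basis hτ y hyV η hcond.1, hbc]
      · rw [dif_neg hcond, dif_neg hcond]
    · unfold Cyc.secDivFun Cyc.divFun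
      rw [dif_neg (fun h => hsp h.1), dif_neg (fun h => hsp h.1)]

end Proj

section Main

variable {P D X' X : Scheme.{u}} {pf : P ⟶ D} {ps : P ⟶ X'} {i : D ⟶ X} {f : X' ⟶ X}
  [IsClosedImmersion i] (H : IsPullback pf ps i f) [IsProper f]
  (δ : X → ℤ) (δ' : X' → ℤ) (hX : Cyc.IsSetup X δ) (hX' : Cyc.IsSetup X' δ')
  (hδ : Cyc.DeltaCompat f δ' δ)

include H hX hX' hδ in
/-- **Gysin maps commute with proper push-forward**, given the projection formula for the pulled
back rational sections. -/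
theorem gysin_push_of_proj [IsProper pf] {L : X.Modules} (hL : PicF.IsInvertible L)
    (s : L.presheaf.obj (Opposite.op ⊤)) (hD : Cyc.IsZeroSchemeOf i L s)
    (s' : ((Scheme.Modules.pullback f).obj L).presheaf.obj (Opposite.op ⊤))
    (hD' : Cyc.IsZeroSchemeOf ps ((Scheme.Modules.pullback f).obj L) s')
    (k : ℤ) (α' : AlgebraicCycle X' ℤ) (hα' : α' ∈ Cyc.Zk X' δ' (k + 1))
    (w : (ξ : X) → Cyc.secFibre L ξ) (hw : ∀ ξ, w ξ ≠ 0)
    (w' : (ξ : X') → Cyc.secFibre ((Scheme.Modules.pullback f).obj L) ξ) (hw' : ∀ ξ, w' ξ ≠ 0)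
    (hproj : ∀ (u₀ : (ξ' : X') → Cyc.secFibre ((Scheme.Modules.pullback f).obj L) ξ'),
      (∀ ξ', u₀ ξ' ≠ 0) →
      (∀ (ξ' : X') (V : X.Opens) (τ : Γ(L, V)) (_ : IsBasisOn L V τ) (hV : f ξ' ∈ V)
        (b : X.presheaf.stalk (f ξ')),
        Cyc.gysinChoice L s w (f ξ') = Submodule.Quotient.mk (b • L.presheaf.germ V (f ξ') hV τ) →
        u₀ ξ' = Submodule.Quotient.mk ((f.stalkMap ξ' b) •
          ((Scheme.Modules.pullback f).obj L).presheaf.germ (f ⁻¹ᵁ V) ξ' hV (pullS f L V τ))) →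
      ∀ γ₀ : AlgebraicCycle X' ℤ,
        ⇑γ₀ = Cyc.c1CapFun δ' ((Scheme.Modules.pullback f).obj L) ⇑α' u₀ →
        ∀ y, AlgebraicCycle.map f δ' δ γ₀ y =
          Cyc.c1CapFun δ L ⇑(AlgebraicCycle.map f δ' δ α') (Cyc.gysinChoice L s w) y)
    (γ : AlgebraicCycle D ℤ)
    (hγ : ∀ d, γ d = Cyc.c1CapFun δ L ⇑(AlgebraicCycle.map f δ' δ α')
      (Cyc.gysinChoice L s w) (i d))
    (γ' : AlgebraicCycle P ℤ)
    (hγ' : ∀ z, γ' z = Cyc.c1CapFun δ' ((Scheme.Modules.pullback f).obj L) ⇑α'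
      (Cyc.gysinChoice ((Scheme.Modules.pullback f).obj L) s' w') (ps z)) :
    Cyc.RatEquiv (fun d => δ (i d)) k γ
      (AlgebraicCycle.map pf (fun z => δ' (ps z)) (fun d => δ (i d)) γ') := by
  have : IsClosedImmersion ps := isClosedImmersion_snd H
  have hN' : IsLocallyNoetherian X' := hX'.1
  have hL' : PicF.IsInvertible ((Scheme.Modules.pullback f).obj L) := isInvertible_pullback f hL
  have hv := gysinChoice_ne_zero s w hw
  choose u₀ hu₀0 hu₀ using fun ξ' =>
    exists_pull_section f L hL ξ' (Cyc.gysinChoice L s w (f ξ')) (hv (f ξ'))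
  obtain ⟨γ₀, hγ₀⟩ := exists_cycle_c1Cap δ' hX'.2.2 hL' α' u₀ hu₀0
  have hD'' := isZeroSchemeOf_of_isPullback' H hL s hD
  have e1 : γ = AlgebraicCycle.map pf (fun z => δ' (ps z)) (fun d => δ (i d))
      (ciPullCycle ps γ₀) := by
    ext d
    rw [hγ, map_base_change_apply H δ δ' γ₀ (ciPullCycle ps γ₀) (fun z => rfl) d,
      hproj u₀ hu₀0 hu₀ γ₀ hγ₀ (i d)]
  rw [e1]
  apply ratEquiv_map (fun z => δ' (ps z)) (fun d => δ (i d)) (isSetup_closed ps δ' hX')
    (isSetup_closed i δ hX) pf (sq_deltaCompat ps i f pf H.w δ' δ hδ) k (ciPullCycle ps γ₀) γ'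
  unfold Cyc.RatEquiv
  apply c1Cap_fallback_ratEquivZero ps δ' hX'.2.2 hL' k α' hα' u₀
    (Cyc.gysinChoice ((Scheme.Modules.pullback f).obj L) (pullS f L ⊤ s) w') hu₀0
    (gysinChoice_ne_zero _ w' hw')
  · intro ξ' hξ'
    symm
    apply pull_gysinChoice_agree f hL s w w' u₀ hu₀ ξ'
    intro h0
    apply hξ'
    rw [hD''.1]
    exact h0
  · intro z
    rw [Function.locallyFinsuppWithin.coe_sub, Pi.sub_apply, hγ' z, ciPullCycle_apply, hγ₀]
    congr 1
    exact c1Cap_gysinChoice_indep δ' hX'.2.2 hL' ps s' (pullS f L ⊤ s) hD' hD'' ⇑α' w' (ps z)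

end Main

section Final

variable {P D X' X : Scheme.{u}} {pf : P ⟶ D} {ps : P ⟶ X'} {i : D ⟶ X} {f : X' ⟶ X}
  [IsClosedImmersion i] (H : IsPullback pf ps i f) [IsProper f]
  (δ : X → ℤ) (δ' : X' → ℤ) (hX : Cyc.IsSetup X δ) (hX' : Cyc.IsSetup X' δ')
  (hδ : Cyc.DeltaCompat f δ' δ)

include H hX hX' hδ in
/-- **Gysin maps commute with proper push-forward.** -/
theorem gysin_push [IsProper pf] {L : X.Modules} (hL : PicF.IsInvertible L)
    (s : L.presheaf.obj (Opposite.op ⊤)) (hD : Cyc.IsZeroSchemeOf i L s)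
    (s' : ((Scheme.Modules.pullback f).obj L).presheaf.obj (Opposite.op ⊤))
    (hD' : Cyc.IsZeroSchemeOf ps ((Scheme.Modules.pullback f).obj L) s')
    (k : ℤ) (α' : AlgebraicCycle X' ℤ) (hα' : α' ∈ Cyc.Zk X' δ' (k + 1))
    (w : (ξ : X) → Cyc.secFibre L ξ) (hw : ∀ ξ, w ξ ≠ 0)
    (w' : (ξ : X') → Cyc.secFibre ((Scheme.Modules.pullback f).obj L) ξ) (hw' : ∀ ξ, w' ξ ≠ 0)
    (γ : AlgebraicCycle D ℤ)
    (hγ : ∀ d, γ d = Cyc.c1CapFun δ L ⇑(AlgebraicCycle.map f δ' δ α')
      (Cyc.gysinChoice L s w) (i d))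
    (γ' : AlgebraicCycle P ℤ)
    (hγ' : ∀ z, γ' z = Cyc.c1CapFun δ' ((Scheme.Modules.pullback f).obj L) ⇑α'
      (Cyc.gysinChoice ((Scheme.Modules.pullback f).obj L) s' w') (ps z)) :
    Cyc.RatEquiv (fun d => δ (i d)) k γ
      (AlgebraicCycle.map pf (fun z => δ' (ps z)) (fun d => δ (i d)) γ') := by
  apply gysin_push_of_proj H δ δ' hX hX' hδ hL s hD s' hD' k α' hα' w hw w' hw' ?_ γ hγ γ' hγ'
  intro u₀ _ hu₀ γ₀ hγ₀ y
  exact map_c1Cap_pull_eq δ' δ hX' hX f hδ hL α' (Cyc.gysinChoice L s w)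
    (gysinChoice_ne_zero s w hw) u₀ hu₀ γ₀ hγ₀ y

end Final

end Groth.Agent.Lib.Helper85.GysinPush
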