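import Mathlib
import Groth.Prelude.Def_IntMult
import Groth.Prelude.Def_Cyc
import Groth.Prelude.Def_Coh
import Groth.Agent.Lib.Helper85.IntMult.CycBilin
import Groth.Agent.Lib.Helper85.IntMult.PushStalk
import Groth.Agent.Lib.Helper50.ClosedDefinedOver
import Groth.Agent.Lib.Helper49.ProperSupport
import Groth.Agent.Lib.Helper45.RefHullStalk
import Groth.Agent.S0019

/-!
# The structure sheaf of the closure of a point, as a coherent module (helper85)

`ptSheaf ξ = i_* O_Z` for `Z = closure {ξ}` with its reduced structure; its cycle `[ptSheaf ξ]_r` is the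
indicator function of `ξ` when `δ ξ = r`.  Also: the coefficient function of `[F]_r` has only
finitely many nonzero values among the generizations of a point.
-/

set_option autoImplicit false
set_option linter.style.haveILetI false
set_option linter.unusedSectionVars false
universe u

namespace Groth.Agent.Lib.Helper85.PtSheaf

open AlgebraicGeometry CategoryTheory Topology TopologicalSpace
open Groth.Agent.Lib.Helper55 Groth.Agent.Lib.Helper85.CycBilin

variable {X : Scheme.{u}}

/-- the structure sheaf of `closure {ξ}` (reduced structure), pushed forward to `X` -/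
noncomputable def ptSheaf (ξ : X) : X.Modules :=
  (Coh.push (IntMult.ptIdeal ξ).subschemeι).obj (Coh.structureModule (IntMult.ptIdeal ξ).subscheme)

theorem isCoh_ptSheaf [IsLocallyNoetherian X] (ξ : X) : Coh.IsCoh (ptSheaf ξ) :=
  Groth.Agent.S0019.result _ _ (Groth.Agent.Lib.Helper45.RefHullStalk.isCoh_structureModule _)

theorem range_subschemeι_ptIdeal (ξ : X) :
    Set.range (IntMult.ptIdeal ξ).subschemeι = closure {ξ} := by
  rw [Scheme.IdealSheafData.range_subschemeι]
  unfold IntMult.ptIdeal
  rw [Scheme.IdealSheafData.coe_support_vanishingIdeal]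
  rfl

theorem specializes_of_nontrivial_stalk (ξ x : X)
    (h : Nontrivial ((ptSheaf ξ).presheaf.stalk x)) : ξ ⤳ x := by
  by_contra hcon
  have hx : x ∉ Set.range (IntMult.ptIdeal ξ).subschemeι := by
    rw [range_subschemeι_ptIdeal]
    intro hx
    exact hcon (specializes_iff_mem_closure.mpr hx)
  have := Groth.Agent.Lib.Helper49.ProperSupport.subsingleton_stalk_pushforward
    (IntMult.ptIdeal ξ).subschemeι (Coh.structureModule (IntMult.ptIdeal ξ).subscheme) x hx
  exact (not_subsingleton_iff_nontrivial.mpr h) this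

/-- a reduced local ring with a single prime is a field: length one over itself -/
theorem length_self_eq_one_of_forall_prime {R : Type u} [CommRing R] [IsLocalRing R] [IsReduced R]
    (h : ∀ 𝔭 : PrimeSpectrum R, 𝔭 = IsLocalRing.closedPoint R) : Module.length R R = 1 := by
  have h1 : nilradical R = IsLocalRing.maximalIdeal R := by
    rw [nilradical_eq_sInf]
    apply le_antisymm
    · exact sInf_le (IsLocalRing.maximalIdeal.isMaximal R).isPrime
    · refine le_sInf ?_
      intro J hJ
      have := h ⟨J, hJ⟩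
      have h2 : J = IsLocalRing.maximalIdeal R := congrArg PrimeSpectrum.asIdeal this
      rw [h2]
  have h2 : IsLocalRing.maximalIdeal R = ⊥ := by
    rw [← h1]
    exact nilradical_eq_zero R
  have hfield : IsField R := IsLocalRing.isField_iff_maximalIdeal_eq.mpr h2
  haveI : IsSimpleModule R R :=
    (isSimpleModule_iff R R).mpr (Ring.isField_iff_isSimpleOrder_ideal.mp hfield)
  exact Module.length_eq_one R R

theorem length_stalk_ptSheaf_self (ξ : X) :
    Module.length (X.presheaf.stalk ξ) ((ptSheaf ξ).presheaf.stalk ξ) = 1 := by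
  have hmem : ξ ∈ Set.range (IntMult.ptIdeal ξ).subschemeι := by
    rw [range_subschemeι_ptIdeal]
    exact subset_closure rfl
  suffices h : ∀ x ∈ Set.range (IntMult.ptIdeal ξ).subschemeι, x = ξ →
      Module.length (X.presheaf.stalk x) ((ptSheaf ξ).presheaf.stalk x) = 1 from h ξ hmem rfl
  rintro _ ⟨z, rfl⟩ hz
  let Z := (IntMult.ptIdeal ξ).subscheme
  let ι : Z ⟶ X := (IntMult.ptIdeal ξ).subschemeι
  have h1 := Groth.Agent.Lib.Helper85.PushStalk.length_stalk_pushforward ι
    (Coh.structureModule Z) z
  have h2 := (Groth.Agent.Lib.Helper45.RefHullStalk.unitStalkEquiv z).length_eq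
  rw [h2] at h1
  unfold ptSheaf
  rw [h1]
  haveI : IsReduced Z := Groth.Agent.Lib.Helper50.isReduced_subscheme_vanishingIdeal _
  refine length_self_eq_one_of_forall_prime ?_
  intro 𝔭
  have hs1 : stalkPoint z 𝔭 ⤳ z := stalkPoint_specializes z 𝔭
  have hs2 : ι (stalkPoint z 𝔭) ⤳ ξ := by
    rw [← hz]
    exact hs1.map ι.continuous
  have hs3 : ξ ⤳ ι (stalkPoint z 𝔭) := by
    rw [specializes_iff_mem_closure, ← range_subschemeι_ptIdeal]
    exact ⟨_, rfl⟩
  have h3 : ι (stalkPoint z 𝔭) = ι z := by
    rw [hz]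
    exact (hs2.antisymm hs3).eq
  have h4 : stalkPoint z 𝔭 = z := ι.isClosedEmbedding.injective h3
  have h5 : stalkPoint z (IsLocalRing.closedPoint (Z.presheaf.stalk z)) = z :=
    Scheme.fromSpecStalk_closedPoint
  exact stalkPoint_injective z (h4.trans h5.symm)

/-- `[O_{closure ξ}]_r` is the indicator of `ξ` when `δ ξ = r` -/
theorem sheafFun_ptSheaf (δ : X → ℤ) (hdim : Cyc.IsDimFun X δ) (ξ : X) (r : ℤ) (hξ : δ ξ = r) :
    Cyc.sheafFun δ r (ptSheaf ξ) = ind ξ := by
  classical
  funext x
  unfold Cyc.sheafFun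
  by_cases hx : x = ξ
  · subst hx
    rw [if_pos hξ, length_stalk_ptSheaf_self, ind_self]
    rfl
  · rw [ind_of_ne hx]
    by_cases hxr : δ x = r
    · rw [if_pos hxr]
      have hsub : Subsingleton ((ptSheaf ξ).presheaf.stalk x) := by
        by_contra hcon
        rw [not_subsingleton_iff_nontrivial] at hcon
        have hsp := specializes_of_nontrivial_stalk ξ x hcon
        have := (hdim ξ x hsp (Ne.symm hx)).1
        omega
      rw [Module.length_eq_zero_iff.mpr hsub]
      rfl
    · rw [if_neg hxr]

theorem delta_le_of_nontrivial_stalk_ptSheaf (δ : X → ℤ) (hdim : Cyc.IsDimFun X δ) (ξ x : X)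
    (h : Nontrivial ((ptSheaf ξ).presheaf.stalk x)) : δ x ≤ δ ξ :=
  Groth.Agent.Lib.Helper89.DimFunJacobson.delta_le_of_specializes X δ hdim
    (specializes_of_nontrivial_stalk ξ x h)

/-- `[F]_r` has finitely many nonzero coefficients among the generizations of a point -/
theorem finite_sheafFun_generizations [IsLocallyNoetherian X] (δ : X → ℤ)
    (hdim : Cyc.IsDimFun X δ) (F : X.Modules) (hF : Coh.IsCoh F) (r : ℤ)
    (hr : ∀ x : X, Nontrivial (F.presheaf.stalk x) → δ x ≤ r) (ζ : X) :
    {x : X | x ⤳ ζ ∧ Cyc.sheafFun δ r F x ≠ 0}.Finite := by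
  haveI : F.IsQuasicoherent := hF.1
  by_cases hζr : δ ζ ≤ r
  · haveI := Groth.Agent.Lib.Helper12.QuasiFlat.finite_stalk_of_isCoh F hF ζ
    haveI : IsNoetherianRing (X.presheaf.stalk ζ) := inferInstance
    have hM := Groth.Agent.Lib.Helper85.SerreFormula.supportDim_stalk_le δ hdim ζ F hF r hr hζr
    have hSF := Groth.Agent.Lib.Helper85.HS.finite_setOf_ringKrullDim_quotient_eq_inter_support
      (F.presheaf.stalk ζ) _ hM
    refine (hSF.image (stalkPoint ζ)).subset ?_
    rintro x ⟨hx1, hx2⟩
    obtain ⟨𝔭, rfl⟩ := exists_stalkPoint_eq ζ x hx1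
    refine ⟨𝔭, ⟨?_, ?_⟩, rfl⟩
    · have hδ : δ (stalkPoint ζ 𝔭) = r := by
        by_contra h
        exact hx2 (by unfold Cyc.sheafFun; rw [if_neg h])
      exact (Groth.Agent.Lib.Helper85.SerreFormula.ringKrullDim_quotient_eq_iff δ hdim ζ 𝔭 r
        hζr).mpr hδ
    · rw [← Groth.Agent.Lib.Helper85.SerreFormula.nontrivial_stalk_iff ζ F 𝔭]
      by_contra h
      rw [not_nontrivial_iff_subsingleton] at h
      apply hx2
      unfold Cyc.sheafFun
      rw [Module.length_eq_zero_iff.mpr h]
      simp
  · convert Set.finite_empty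
    ext x
    simp only [Set.mem_setOf_eq, Set.mem_empty_iff_false, iff_false, not_and, not_not]
    intro hx
    have h1 := Groth.Agent.Lib.Helper89.DimFunJacobson.delta_le_of_specializes X δ hdim hx
    unfold Cyc.sheafFun
    rw [if_neg (by omega)]

end Groth.Agent.Lib.Helper85.PtSheaf
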