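import Mathlib
import Groth.Agent.Lib.Helper85.IntMult.PullSheafFun
import Groth.Agent.Lib.Helper89.DimFunJacobson

/-!
# Composition of flat pullbacks of cycles (helper85)
-/

set_option autoImplicit false
set_option linter.style.haveILetI false
set_option linter.unusedSectionVars false
universe u

namespace Groth.Agent.Lib.Helper85.PullComp

open AlgebraicGeometry CategoryTheory TensorProduct Topology

/-- the dimension function grows at most by the shift -/
theorem delta_le_of_shift {X' X : Scheme.{u}} (p : X' ⟶ X) (δ : X → ℤ) (δ' : X' → ℤ)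
    (hdim' : Cyc.IsDimFun X' δ') (c : ℤ)
    (hc : ∀ x' : X', (∀ y, p y = p x' → y ⤳ x' → y = x') → δ' x' = δ (p x') + c) (x' : X') :
    δ' x' ≤ δ (p x') + c := by
  obtain ⟨x'', h1, h2, h3⟩ :=
    Groth.Agent.Lib.Helper85.PullSheafFun.exists_maximal_generalization_in_fibre p x'
  have h4 := hc x'' h3
  have h5 := Groth.Agent.Lib.Helper89.DimFunJacobson.delta_le_of_specializes X' δ' hdim' h1
  rw [h2] at h4
  omega

section Alg

open IsLocalRing

/-- multiplicativity of the fibre lengths along a flat local homomorphism -/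
theorem length_quotient_map_comp {A B C : Type u} [CommRing A] [CommRing B] [CommRing C]
    [IsLocalRing A] [IsLocalRing B] [IsLocalRing C] (φ : A →+* B) (ψ : B →+* C)
    [IsLocalHom ψ] (hψ : ψ.Flat) :
    Module.length C (C ⧸ Ideal.map (ψ.comp φ) (maximalIdeal A)) =
      Module.length B (B ⧸ Ideal.map φ (maximalIdeal A)) *
        Module.length C (C ⧸ Ideal.map ψ (maximalIdeal B)) := by
  letI := ψ.toAlgebra
  have hflat : Module.Flat B C := RingHom.flat_algebraMap_iff.mp hψ
  have hloc : IsLocalHom (algebraMap B C) := ‹IsLocalHom ψ›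
  set I : Ideal B := Ideal.map φ (maximalIdeal A) with hI
  have h1 : Ideal.map (ψ.comp φ) (maximalIdeal A) = I.map (algebraMap B C) := by
    rw [hI, Ideal.map_map]
    rfl
  rw [h1, (Algebra.TensorProduct.quotIdealMapEquivTensorQuot C I).toLinearEquiv.length_eq]
  exact IsLocalRing.length_baseChange B C (B ⧸ I)

end Alg

variable {X X' X'' : Scheme.{u}} (p : X' ⟶ X) (p' : X'' ⟶ X')

/-- multiplicativity of the fibre lengths along flat morphisms -/
theorem length_fibre_comp [Flat p'] (x'' : X'') :
    Module.length (X''.presheaf.stalk x'')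
        (X''.presheaf.stalk x'' ⧸ Ideal.map ((p' ≫ p).stalkMap x'').hom
          (IsLocalRing.maximalIdeal (X.presheaf.stalk ((p' ≫ p) x'')))) =
      Module.length (X'.presheaf.stalk (p' x''))
        (X'.presheaf.stalk (p' x'') ⧸ Ideal.map (p.stalkMap (p' x'')).hom
          (IsLocalRing.maximalIdeal (X.presheaf.stalk (p (p' x''))))) *
      Module.length (X''.presheaf.stalk x'')
        (X''.presheaf.stalk x'' ⧸ Ideal.map (p'.stalkMap x'').hom
          (IsLocalRing.maximalIdeal (X'.presheaf.stalk (p' x'')))) := by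
  have h := length_quotient_map_comp (p.stalkMap (p' x'')).hom (p'.stalkMap x'').hom
    (Flat.stalkMap p' x'')
  rw [← h]
  have h2 : ((p' ≫ p).stalkMap x'').hom =
      (p'.stalkMap x'').hom.comp (p.stalkMap (p' x'')).hom := by
    rw [Scheme.Hom.stalkMap_comp]
    rfl
  rw [h2]
  rfl

/-- **composition of flat pullbacks of coefficient functions** -/
theorem pullFun_comp [Flat p'] (δ : X → ℤ) (δ' : X' → ℤ) (δ'' : X'' → ℤ) (c c' : ℤ)
    (hle : ∀ x' : X', δ' x' ≤ δ (p x') + c) (hle' : ∀ x'' : X'', δ'' x'' ≤ δ' (p' x'') + c')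
    (α : X → ℤ) :
    Cyc.pullFun (p' ≫ p) δ'' δ (c + c') α = Cyc.pullFun p' δ'' δ' c' (Cyc.pullFun p δ' δ c α) := by
  funext x''
  unfold Cyc.pullFun
  simp only
  have h1 := hle (p' x'')
  have h2 := hle' x''
  have h3 : (p' ≫ p) x'' = p (p' x'') := rfl
  by_cases h4 : δ'' x'' = δ' (p' x'') + c'
  · rw [if_pos h4]
    by_cases h5 : δ' (p' x'') = δ (p (p' x'')) + c
    · rw [if_pos h5, if_pos (by rw [h3]; omega), length_fibre_comp p p' x'', ENat.toNat_mul]
      push_cast
      rw [h3]
      ring
    · rw [if_neg h5, if_neg (by rw [h3]; omega), zero_mul]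
  · rw [if_neg h4, if_neg (by rw [h3]; omega)]

end Groth.Agent.Lib.Helper85.PullComp
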