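import Mathlib
import Groth.Prelude.Def_Coh

/-!
# Support of the pushforward along a closed map (helper85)
-/

set_option autoImplicit false
set_option linter.style.haveILetI false
set_option linter.unusedSectionVars false
universe u

namespace Groth.Agent.Lib.Helper85.PushSupp

open AlgebraicGeometry CategoryTheory TopologicalSpace

variable {X Y : Scheme.{u}} (f : X ⟶ Y)

/-- If `f` is a closed map and all stalks of `F` over `y` vanish, then the stalk of `f_* F` at `y`
vanishes. -/
theorem subsingleton_stalk_pushforward_of_isClosedMap (hf : IsClosedMap f) (F : X.Modules)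
    (y : Y) (h : ∀ x : X, f x = y → Subsingleton (F.presheaf.stalk x)) :
    Subsingleton (((Scheme.Modules.pushforward f).obj F).presheaf.stalk y) := by
  refine ⟨fun a b => ?_⟩
  have key : ∀ t : ((Scheme.Modules.pushforward f).obj F).presheaf.stalk y, t = 0 := by
    intro t
    obtain ⟨V, hyV, s, rfl⟩ := TopCat.Presheaf.exists_germ_eq
      ((Scheme.Modules.pushforward f).obj F).presheaf t
    -- `s` is a section of `F` over `f⁻¹ V`
    let s' : Γ(F, f ⁻¹ᵁ V) := s
    -- the open set where `s` vanishes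
    let W : Set X := {x | ∃ (U : X.Opens) (hU : U ≤ f ⁻¹ᵁ V), x ∈ U ∧
      F.presheaf.map (homOfLE hU).op s' = 0}
    have hWo : IsOpen W := by
      rw [isOpen_iff_forall_mem_open]
      rintro x ⟨U, hU, hxU, hs⟩
      exact ⟨U, fun x' hx' => ⟨U, hU, hx', hs⟩, U.2, hxU⟩
    have hfib : ∀ x : X, f x = y → x ∈ W := by
      intro x hx
      have hxV : x ∈ f ⁻¹ᵁ V := by
        show f x ∈ V
        rw [hx]; exact hyV
      have hsub := h x hx
      have h0 : F.presheaf.germ (f ⁻¹ᵁ V) x hxV s' = F.presheaf.germ (f ⁻¹ᵁ V) x hxV 0 :=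
        Subsingleton.elim _ _
      obtain ⟨U, hxU, iU, iV, hU⟩ := TopCat.Presheaf.germ_eq F.presheaf x hxV hxV s' 0 h0
      refine ⟨U, leOfHom iU, hxU, ?_⟩
      rw [map_zero] at hU
      exact hU
    -- the closed set `f (Wᶜ)` does not contain `y`
    have hcl : IsClosed (f '' Wᶜ) := hf _ hWo.isClosed_compl
    have hy : y ∉ f '' Wᶜ := by
      rintro ⟨x, hxW, hx⟩
      exact hxW (hfib x hx)
    let V' : Y.Opens := V ⊓ ⟨(f '' Wᶜ)ᶜ, hcl.isOpen_compl⟩
    have hyV' : y ∈ V' := ⟨hyV, hy⟩
    have hV'V : V' ≤ V := inf_le_left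
    have hres : ((Scheme.Modules.pushforward f).obj F).presheaf.map (homOfLE hV'V).op s = 0 := by
      -- sections over `f⁻¹ V'`
      let r : Γ(F, f ⁻¹ᵁ V') := ((Scheme.Modules.pushforward f).obj F).presheaf.map
        (homOfLE hV'V).op s
      show r = 0
      refine TopCat.Presheaf.section_ext ⟨F.presheaf, F.isSheaf⟩ (f ⁻¹ᵁ V') r 0 ?_
      intro x hx
      have hxW : x ∈ W := by
        by_contra hcon
        exact hx.2 ⟨x, hcon, rfl⟩
      obtain ⟨U, hU, hxU, hs⟩ := hxW
      have hle1 : U ⊓ f ⁻¹ᵁ V' ≤ f ⁻¹ᵁ V' := inf_le_right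
      have hle2 : U ⊓ f ⁻¹ᵁ V' ≤ U := inf_le_left
      have h1 := TopCat.Presheaf.germ_res_apply F.presheaf (homOfLE hle1) x ⟨hxU, hx⟩ r
      have h2 : F.presheaf.map (homOfLE hle1).op r =
          F.presheaf.map (homOfLE hle2).op (F.presheaf.map (homOfLE hU).op s') := by
        change F.presheaf.map (homOfLE hle1).op (F.presheaf.map (homOfLE
          (show f ⁻¹ᵁ V' ≤ f ⁻¹ᵁ V from fun _ hz => hz.1)).op s') = _
        rw [← ConcreteCategory.comp_apply, ← ConcreteCategory.comp_apply, ← F.presheaf.map_comp,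
          ← F.presheaf.map_comp]
        rfl
      rw [← h1, h2, hs, map_zero, map_zero, map_zero]
    have h1 := TopCat.Presheaf.germ_res_apply ((Scheme.Modules.pushforward f).obj F).presheaf
      (homOfLE hV'V) y hyV' s
    rw [← h1, hres, map_zero]
  rw [key a, key b]

end Groth.Agent.Lib.Helper85.PushSupp
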