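import Mathlib
import Groth.Prelude.Def_Cyc
import Groth.Prelude.Def_Coh
import Groth.Prelude.Def_Bivar
import Groth.Agent.Lib.Helper85.IntMult.PushSheafFun
import Groth.Agent.Lib.Helper85.IntMult.PushSupp
import Groth.Agent.Lib.Helper85.IntMult.PullSheafFun
import Groth.Agent.Lib.Helper85.IntMult.PtSheaf
import Groth.Agent.Lib.Helper85.IntMult.CycBilin
import Groth.Agent.Lib.Helper11.FlatBC
import Groth.Agent.Lib.Helper45.Ref1Codim1
import Groth.Agent.Lib.Helper55.DimFun
import Groth.Agent.Lib.Helper80.PullbackFiniteType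
import Groth.Agent.Lib.Helper89.DimFunJacobson

/-!
# Flat base change commutes with proper pushforward of cycles (helper85)
-/

set_option autoImplicit false
set_option linter.style.haveILetI false
set_option linter.unusedSectionVars false
set_option linter.unusedVariables false
universe u

namespace Groth.Agent.Lib.Helper85.PushPullBC

open AlgebraicGeometry CategoryTheory CategoryTheory.Limits TopologicalSpace Topology
open Groth.Agent.Lib.Helper85.CycBilin Groth.Agent.Lib.Helper85.PtSheaf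

section Iso

variable {X : Scheme.{u}}

theorem length_stalk_eq_of_iso {F G : X.Modules} (e : F ≅ G) (x : X) :
    Module.length (X.presheaf.stalk x) (F.presheaf.stalk x) =
      Module.length (X.presheaf.stalk x) (G.presheaf.stalk x) :=
  (LinearEquiv.ofBijective (RefHull.stalkMapₗ e.hom x)
    (Groth.Agent.Lib.Helper45.Ref1Codim1.stalkMapₗ_bijective_of_iso e x)).length_eq

theorem sheafFun_eq_of_iso (δ : X → ℤ) (k : ℤ) {F G : X.Modules} (e : F ≅ G) :
    Cyc.sheafFun δ k F = Cyc.sheafFun δ k G := by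
  funext x
  unfold Cyc.sheafFun
  rw [length_stalk_eq_of_iso e x]

end Iso

section Le

variable {X X' : Scheme.{u}} (p : X' ⟶ X) (δ : X → ℤ) (δ' : X' → ℤ)

/-- if the generic points of the fibres have `δ' = δ + c`, then `δ' ≤ δ + c` everywhere -/
theorem delta_le_add_of_generic (hdim' : Cyc.IsDimFun X' δ') (c : ℤ)
    (hc : ∀ x' : X', (∀ y, p y = p x' → y ⤳ x' → y = x') → δ' x' = δ (p x') + c) (x' : X') :
    δ' x' ≤ δ (p x') + c := by
  obtain ⟨x'', h1, h2, h3⟩ :=
    Groth.Agent.Lib.Helper85.PullSheafFun.exists_maximal_generalization_in_fibre p x'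
  have h4 := hc x'' h3
  have h5 := Groth.Agent.Lib.Helper89.DimFunJacobson.delta_le_of_specializes X' δ' hdim' h1
  rw [h2] at h4
  omega

end Le

section Main

variable {X X' Y : Scheme.{u}} (f : Y ⟶ X) (p : X' ⟶ X) [IsProper f] [Flat p]
  (δ : X → ℤ) (δ' : X' → ℤ) (δY : Y → ℤ) (δY' : ↥(pullback f p) → ℤ)
  (hX : Cyc.IsSetup X δ) (hX' : Cyc.IsSetup X' δ') (hY : Cyc.IsSetup Y δY)
  (hf : Cyc.DeltaCompat f δY δ) (hf' : Cyc.DeltaCompat (pullback.snd f p) δY' δ') (c : ℤ)
  (hc : ∀ x' : X', (∀ y, p y = p x' → y ⤳ x' → y = x') → δ' x' = δ (p x') + c)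
  (hcY : ∀ y' : ↥(pullback f p), (∀ y, pullback.fst f p y = pullback.fst f p y' →
    y ⤳ y' → y = y') → δY' y' = δY (pullback.fst f p y') + c)

include hX hX' hY hf hf' hc hcY in
/-- the base change identity for the cycle of a point -/
theorem key_ind (k : ℤ) (y₀ : Y) (hy₀ : δY y₀ = k) (x' : X') :
    Cyc.pullFun p δ' δ c (fun x => ∑ᶠ y ∈ f ⁻¹' {x},
        ind y₀ y * ((AlgebraicCycle.mapCoeff f δY δ y : ℕ) : ℤ)) x' =
      ∑ᶠ y' ∈ (pullback.snd f p) ⁻¹' {x'},
        Cyc.pullFun (pullback.fst f p) δY' δY c (ind y₀) y' *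
          ((AlgebraicCycle.mapCoeff (pullback.snd f p) δY' δ' y' : ℕ) : ℤ) := by
  obtain ⟨hXn, -, hXdim⟩ := hX
  obtain ⟨hYn, -, hYdim⟩ := hY
  haveI : IsLocallyNoetherian X := hXn
  haveI : IsLocallyNoetherian X' := hX'.1
  haveI : IsLocallyNoetherian Y := hYn
  haveI : IsLocallyNoetherian (pullback f p) :=
    LocallyOfFiniteType.isLocallyNoetherian (pullback.snd f p)
  have hY'dim : Cyc.IsDimFun (pullback f p) δY' :=
    Groth.Agent.Lib.Helper55.isDimFun_of_deltaCompat (pullback.snd f p) δ' hX' δY' hf'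
  have hle_p := delta_le_add_of_generic p δ δ' hX'.2.2 c hc
  have hle_q := delta_le_add_of_generic (pullback.fst f p) δY δY' hY'dim c hcY
  set G : Y.Modules := ptSheaf y₀ with hG
  have hGcoh : Coh.IsCoh G := isCoh_ptSheaf y₀
  haveI : G.IsQuasicoherent := hGcoh.1
  have hGdim : ∀ y : Y, Nontrivial (G.presheaf.stalk y) → δY y ≤ k := by
    intro y hnt
    have := delta_le_of_nontrivial_stalk_ptSheaf δY hYdim y₀ y hnt
    omega
  have hGfun : Cyc.sheafFun δY k G = ind y₀ := sheafFun_ptSheaf δY hYdim y₀ k hy₀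
  -- step 1: pushforward along `f`
  have h1 : (fun x => ∑ᶠ y ∈ f ⁻¹' {x},
      ind y₀ y * ((AlgebraicCycle.mapCoeff f δY δ y : ℕ) : ℤ)) =
      Cyc.sheafFun δ k ((Coh.push f).obj G) := by
    funext x
    rw [← hGfun]
    exact Groth.Agent.Lib.Helper85.PushSheafFun.mapFun_sheafFun_apply f δY δ hYdim hf k G hGcoh
      hGdim x
  -- the support of `f_* G`
  have hpushdim : ∀ x : X, Nontrivial (((Coh.push f).obj G).presheaf.stalk x) → δ x ≤ k := by
    intro x hnt
    by_contra hcon
    have hsub : Subsingleton (((Scheme.Modules.pushforward f).obj G).presheaf.stalk x) := by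
      refine Groth.Agent.Lib.Helper85.PushSupp.subsingleton_stalk_pushforward_of_isClosedMap f
        f.isClosedMap G x ?_
      intro y hy
      by_contra hns
      have h2 := hGdim y (not_subsingleton_iff_nontrivial.mp hns)
      obtain ⟨n, -, hn⟩ := hf y
      rw [hy] at hn
      omega
    exact not_subsingleton_iff_nontrivial.mpr hnt hsub
  -- step 2: flat pullback along `p`
  have h2 : Cyc.pullFun p δ' δ c (Cyc.sheafFun δ k ((Coh.push f).obj G)) =
      Cyc.sheafFun δ' (k + c) ((Scheme.Modules.pullback p).obj ((Coh.push f).obj G)) :=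
    Groth.Agent.Lib.Helper85.PullSheafFun.pullFun_sheafFun_eq p δ' δ c k _
      (fun x' _ => hle_p x') hpushdim
  -- step 3: flat base change
  have hpb : IsPullback (pullback.fst f p) (pullback.snd f p) f p := IsPullback.of_hasPullback f p
  haveI : IsIso (Groth.Agent.Lib.Helper49.AffineBaseChange.bcMap f p (pullback.fst f p)
      (pullback.snd f p) hpb.w G) :=
    Groth.Agent.Lib.Helper11.FlatBC.isIso_bcMap_of_flat hpb G
  have h3 : Cyc.sheafFun δ' (k + c)
      ((Scheme.Modules.pullback p).obj ((Coh.push f).obj G)) =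
      Cyc.sheafFun δ' (k + c) ((Coh.push (pullback.snd f p)).obj
        ((Scheme.Modules.pullback (pullback.fst f p)).obj G)) :=
    sheafFun_eq_of_iso δ' (k + c) (asIso (Groth.Agent.Lib.Helper49.AffineBaseChange.bcMap f p
      (pullback.fst f p) (pullback.snd f p) hpb.w G))
  -- step 4: pushforward along `f'`
  set G' : (pullback f p).Modules := (Scheme.Modules.pullback (pullback.fst f p)).obj G with hG'
  have hG'coh : Coh.IsCoh G' := Groth.Agent.Lib.Helper80.isCoh_pullback (pullback.fst f p) G hGcoh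
  have hG'dim : ∀ y' : ↥(pullback f p), Nontrivial (G'.presheaf.stalk y') → δY' y' ≤ k + c := by
    intro y' hnt
    have h5 := hGdim _ ((Groth.Agent.Lib.Helper85.FlatPullGeom.nontrivial_stalk_pullback_iff
      (pullback.fst f p) G y').mp hnt)
    have h6 := hle_q y'
    omega
  have h4 := Groth.Agent.Lib.Helper85.PushSheafFun.mapFun_sheafFun_apply (pullback.snd f p)
    δY' δ' hY'dim hf' (k + c) G' hG'coh hG'dim x'
  -- step 5: flat pullback along `q`
  have h5 : Cyc.pullFun (pullback.fst f p) δY' δY c (Cyc.sheafFun δY k G) =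
      Cyc.sheafFun δY' (k + c) G' :=
    Groth.Agent.Lib.Helper85.PullSheafFun.pullFun_sheafFun_eq (pullback.fst f p) δY' δY c k G
      (fun y' _ => hle_q y') hGdim
  rw [h1, h2, h3, ← h4, ← h5, hGfun]

include hX hX' hY hf hf' hc hcY in
/-- **Flat base change commutes with proper pushforward of cycles.** -/
theorem pullFun_map_baseChange_eq (k : ℤ) (α : AlgebraicCycle Y ℤ) (hα : α ∈ Cyc.Zk Y δY k)
    (α' : AlgebraicCycle (pullback f p) ℤ)
    (hα' : ⇑α' = Cyc.pullFun (pullback.fst f p) δY' δY c ⇑α) :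
    Cyc.pullFun p δ' δ c ⇑(AlgebraicCycle.map f δY δ α) =
      ⇑(AlgebraicCycle.map (pullback.snd f p) δY' δ' α') := by
  classical
  funext x'
  have hRfin := Bivar.finite_fiber_inter_support f α (p x')
  have hR'fin := Bivar.finite_fiber_inter_support (pullback.snd f p) α' x'
  set R : Finset Y := hRfin.toFinset with hRdef
  set R' : Finset ↥(pullback f p) := hR'fin.toFinset with hR'def
  have hRmem : ∀ y, y ∈ R ↔ f y = p x' ∧ α y ≠ 0 := by
    intro y
    rw [hRdef, Set.Finite.mem_toFinset]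
    rfl
  have hR'mem : ∀ y', y' ∈ R' ↔ pullback.snd f p y' = x' ∧ α' y' ≠ 0 := by
    intro y'
    rw [hR'def, Set.Finite.mem_toFinset]
    rfl
  set mc : Y → ℤ := fun y => ((AlgebraicCycle.mapCoeff f δY δ y : ℕ) : ℤ) with hmc
  set mc' : ↥(pullback f p) → ℤ :=
    fun y' => ((AlgebraicCycle.mapCoeff (pullback.snd f p) δY' δ' y' : ℕ) : ℤ) with hmc'
  set wq : ↥(pullback f p) → ℤ := wt (pullback.fst f p) δY' δY c with hwq
  set wp : ℤ := wt p δ' δ c x' with hwp
  have hα'y : ∀ y', α' y' = α (pullback.fst f p y') * wq y' := by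
    intro y'
    rw [hα', pullFun_eq_mul]
  have hcomm : ∀ y' : ↥(pullback f p), f (pullback.fst f p y') = p (pullback.snd f p y') := by
    intro y'
    have := congrArg (fun g : pullback f p ⟶ X => g y') (pullback.condition (f := f) (g := p))
    simpa using this
  -- the left hand side
  have hL : Cyc.pullFun p δ' δ c ⇑(AlgebraicCycle.map f δY δ α) x' =
      (∑ y ∈ R, α y * mc y) * wp := by
    rw [pullFun_eq_mul]
    congr 1
    show ∑ᶠ y ∈ f ⁻¹' {p x'}, α y * mc y = _
    apply finsum_mem_eq_sum_of_inter_support_eq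
    ext y
    constructor
    · rintro ⟨hy, hsupp⟩
      refine ⟨?_, hsupp⟩
      rw [Finset.mem_coe, hRmem]
      exact ⟨hy, fun h0 => hsupp (by show α y * mc y = 0; rw [h0, zero_mul])⟩
    · rintro ⟨hy, hsupp⟩
      rw [Finset.mem_coe, hRmem] at hy
      exact ⟨hy.1, hsupp⟩
  -- the right hand side
  have hR : (AlgebraicCycle.map (pullback.snd f p) δY' δ' α') x' =
      ∑ y' ∈ R', α (pullback.fst f p y') * wq y' * mc' y' := by
    show ∑ᶠ y' ∈ (pullback.snd f p) ⁻¹' {x'}, α' y' * mc' y' = _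
    rw [finsum_mem_eq_sum_of_inter_support_eq (t := R')]
    · exact Finset.sum_congr rfl (fun y' _ => by rw [hα'y])
    · ext y'
      constructor
      · rintro ⟨hy, hsupp⟩
        refine ⟨?_, hsupp⟩
        rw [Finset.mem_coe, hR'mem]
        exact ⟨hy, fun h0 => hsupp (by show α' y' * mc' y' = 0; rw [h0, zero_mul])⟩
      · rintro ⟨hy, hsupp⟩
        rw [Finset.mem_coe, hR'mem] at hy
        exact ⟨hy.1, hsupp⟩
  rw [hL, hR]
  -- the identity for the points of `R`
  have hkey : ∀ y₀ ∈ R, mc y₀ * wp =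
      ∑ y' ∈ R', ind y₀ (pullback.fst f p y') * wq y' * mc' y' := by
    intro y₀ hy₀
    obtain ⟨hfy₀, hαy₀⟩ := (hRmem y₀).mp hy₀
    have hk : δY y₀ = k := by
      by_contra hne
      exact hαy₀ (hα y₀ hne)
    have h1 := key_ind f p δ δ' δY δY' hX hX' hY hf hf' c hc hcY k y₀ hk x'
    rw [pullFun_eq_mul] at h1
    have h2 : ∑ᶠ y ∈ f ⁻¹' {p x'}, ind y₀ y * ((AlgebraicCycle.mapCoeff f δY δ y : ℕ) : ℤ) =
        mc y₀ := by
      rw [finsum_mem_eq_sum_of_inter_support_eq (t := {y₀})]
      · rw [Finset.sum_singleton, ind_self, one_mul]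
      · ext y
        constructor
        · rintro ⟨hy, hsupp⟩
          refine ⟨?_, hsupp⟩
          rw [Finset.coe_singleton, Set.mem_singleton_iff]
          by_contra hne
          exact hsupp (by
            show ind y₀ y * _ = 0
            rw [ind_of_ne hne, zero_mul])
        · rintro ⟨hy, hsupp⟩
          rw [Finset.coe_singleton, Set.mem_singleton_iff] at hy
          exact ⟨by show f y = p x'; rw [hy]; exact hfy₀, hsupp⟩
    rw [h2] at h1
    rw [show mc y₀ * wp = mc y₀ * wt p δ' δ c x' from rfl, h1]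
    rw [finsum_mem_eq_sum_of_inter_support_eq (t := R')]
    · refine Finset.sum_congr rfl (fun y' _ => ?_)
      rw [pullFun_eq_mul]
    · ext y'
      constructor
      · rintro ⟨hy, hsupp⟩
        refine ⟨?_, hsupp⟩
        rw [Finset.mem_coe, hR'mem]
        refine ⟨hy, ?_⟩
        have hne : Cyc.pullFun (pullback.fst f p) δY' δY c (ind y₀) y' ≠ 0 := by
          intro h0
          exact hsupp (by
            show Cyc.pullFun (pullback.fst f p) δY' δY c (ind y₀) y' * _ = 0
            rw [h0, zero_mul])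
        rw [pullFun_eq_mul] at hne
        have hq : pullback.fst f p y' = y₀ := by
          by_contra hne'
          exact hne (by rw [ind_of_ne hne', zero_mul])
        have hw : wq y' ≠ 0 := by
          intro h0
          exact hne (by rw [show wt (pullback.fst f p) δY' δY c y' = wq y' from rfl, h0, mul_zero])
        rw [hα'y, hq]
        exact mul_ne_zero hαy₀ hw
      · rintro ⟨hy, hsupp⟩
        rw [Finset.mem_coe, hR'mem] at hy
        exact ⟨hy.1, hsupp⟩
  calc (∑ y ∈ R, α y * mc y) * wp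
      = ∑ y₀ ∈ R, α y₀ * (mc y₀ * wp) := by
        rw [Finset.sum_mul]
        exact Finset.sum_congr rfl (fun y _ => by ring)
    _ = ∑ y₀ ∈ R, α y₀ * ∑ y' ∈ R', ind y₀ (pullback.fst f p y') * wq y' * mc' y' :=
        Finset.sum_congr rfl (fun y₀ hy₀ => by rw [hkey y₀ hy₀])
    _ = ∑ y' ∈ R', (∑ y₀ ∈ R, α y₀ * ind y₀ (pullback.fst f p y')) * wq y' * mc' y' := by
        simp_rw [Finset.mul_sum, Finset.sum_mul]
        rw [Finset.sum_comm]
        refine Finset.sum_congr rfl (fun y' _ => Finset.sum_congr rfl (fun y₀ _ => by ring))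
    _ = ∑ y' ∈ R', α (pullback.fst f p y') * wq y' * mc' y' := by
        refine Finset.sum_congr rfl (fun y' hy' => ?_)
        rw [sum_mul_ind α R (pullback.fst f p y')]
        intro hne
        rw [hRmem]
        refine ⟨?_, hne⟩
        rw [hcomm, ((hR'mem y').mp hy').1]

end Main

end Groth.Agent.Lib.Helper85.PushPullBC
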