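import Mathlib
import Groth.Agent.Lib.Helper85.RegularLocal

/-!
# Transversal pairs of ideals in a regular local ring (helper85)

If `A` is a regular local ring, `P + Q = m` and `dim A/P + dim A/Q ≥ dim A`, then `A/P` and `A/Q`
are regular local rings and `dim A/P + dim A/Q = dim A`.
-/

set_option autoImplicit false
set_option linter.style.haveILetI false
universe u

namespace Groth.Agent.Lib.Helper85.RegPair

open IsLocalRing Groth.Agent.Lib.Helper85

variable {R : Type u} [CommRing R]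

/-- the embedding dimension goes up by at most one when lifting from `R/(x)` -/
theorem spanFinrank_maximalIdeal_le_quotient_add_one [IsLocalRing R] [IsNoetherianRing R] (x : R)
    (hx : x ∈ maximalIdeal R) [IsLocalRing (R ⧸ Ideal.span ({x} : Set R))] :
    (maximalIdeal R).spanFinrank ≤
      (maximalIdeal (R ⧸ Ideal.span ({x} : Set R))).spanFinrank + 1 := by
  classical
  obtain ⟨s, hscard, hs⟩ := Submodule.FG.exists_span_finset_card_eq_spanFinrank
    (maximalIdeal (R ⧸ Ideal.span ({x} : Set R))).fg_of_isNoetherianRing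
  have hsurj : Function.Surjective (Ideal.Quotient.mk (Ideal.span ({x} : Set R))) :=
    Ideal.Quotient.mk_surjective
  let t : Finset R := s.image (Function.surjInv hsurj)
  have hts : (Ideal.Quotient.mk (Ideal.span ({x} : Set R))) '' (t : Set R) =
      (s : Set (R ⧸ Ideal.span ({x} : Set R))) := by
    ext y
    simp only [t, Finset.coe_image, Set.mem_image, Finset.mem_coe]
    constructor
    · rintro ⟨x, ⟨z, hz, rfl⟩, rfl⟩
      rw [Function.surjInv_eq hsurj]; exact hz
    · intro hy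
      exact ⟨_, ⟨y, hy, rfl⟩, Function.surjInv_eq hsurj y⟩
  have hmap : (Ideal.span (t : Set R)).map (Ideal.Quotient.mk (Ideal.span ({x} : Set R))) =
      (maximalIdeal R).map (Ideal.Quotient.mk (Ideal.span ({x} : Set R))) := by
    rw [Ideal.map_span, hts, maximalIdeal_map_of_surjective _ hsurj]
    exact hs
  have hcomap := congrArg (Ideal.comap (Ideal.Quotient.mk (Ideal.span ({x} : Set R)))) hmap
  rw [Ideal.comap_map_of_surjective _ hsurj, Ideal.comap_map_of_surjective _ hsurj,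
    ← RingHom.ker_eq_comap_bot, Ideal.mk_ker] at hcomap
  have hxm : Ideal.span ({x} : Set R) ≤ maximalIdeal R :=
    (Ideal.span_singleton_le_iff_mem _).mpr hx
  have heq : maximalIdeal R = Ideal.span ((insert x t : Finset R) : Set R) := by
    rw [Finset.coe_insert, Set.insert_eq, Ideal.span_union, sup_comm, hcomap]
    exact (sup_eq_left.mpr hxm).symm
  calc (maximalIdeal R).spanFinrank
      = (Ideal.span ((insert x t : Finset R) : Set R)).spanFinrank := by rw [← heq]
    _ ≤ ((insert x t : Finset R) : Set R).ncard :=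
        Submodule.spanFinrank_span_le_ncard_of_finite (Finset.finite_toSet _)
    _ = (insert x t : Finset R).card := Set.ncard_coe_finset _
    _ ≤ t.card + 1 := Finset.card_insert_le _ _
    _ ≤ s.card + 1 := Nat.add_le_add_right Finset.card_image_le 1
    _ = _ := by rw [hscard]

/-- the dimension of a proper quotient of a finite-dimensional local ring is a natural number -/
theorem exists_nat_ringKrullDim_quotient [IsLocalRing R] (a : ℕ) (ha : ringKrullDim R = a)
    (I : Ideal R) (hI : I ≤ maximalIdeal R) :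
    ∃ k : ℕ, ringKrullDim (R ⧸ I) = k ∧ k ≤ a := by
  have hne : I ≠ ⊤ := fun h => (maximalIdeal.isMaximal R).ne_top (top_le_iff.mp (h ▸ hI))
  haveI : Nontrivial (R ⧸ I) := Ideal.Quotient.nontrivial_iff.mpr hne
  have h1 : ringKrullDim (R ⧸ I) ≤ a := ha ▸ ringKrullDim_quotient_le I
  obtain ⟨k, hk⟩ := exists_nat_eq_of_le ringKrullDim_nonneg_of_nontrivial h1
  refine ⟨k, hk, ?_⟩
  rw [hk] at h1
  exact_mod_cast h1

/-- the statement, for rings of embedding dimension `a` -/
def Claim (a : ℕ) : Prop :=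
  ∀ (A : Type u) [CommRing A] [IsRegularLocalRing A], (maximalIdeal A).spanFinrank = a →
    ∀ P Q : Ideal A, P ⊔ Q = maximalIdeal A →
      (a : WithBot ℕ∞) ≤ ringKrullDim (A ⧸ P) + ringKrullDim (A ⧸ Q) →
      IsRegularLocalRing (A ⧸ P) ∧ IsRegularLocalRing (A ⧸ Q) ∧
        ringKrullDim (A ⧸ P) + ringKrullDim (A ⧸ Q) = a

theorem claim_step (a : ℕ) (ih : Claim.{u} a) (A : Type u) [CommRing A] [IsRegularLocalRing A]
    (hd : (maximalIdeal A).spanFinrank = a + 1) (P Q : Ideal A) (hPQ : P ⊔ Q = maximalIdeal A)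
    (hdim : ((a + 1 : ℕ) : WithBot ℕ∞) ≤ ringKrullDim (A ⧸ P) + ringKrullDim (A ⧸ Q))
    (x : A) (hxP : x ∈ P) (hx2 : x ∉ maximalIdeal A ^ 2) :
    IsRegularLocalRing (A ⧸ P) ∧ IsRegularLocalRing (A ⧸ Q) ∧
      ringKrullDim (A ⧸ P) + ringKrullDim (A ⧸ Q) = ((a + 1 : ℕ) : WithBot ℕ∞) := by
  have hPm : P ≤ maximalIdeal A := by rw [← hPQ]; exact le_sup_left
  have hQm : Q ≤ maximalIdeal A := by rw [← hPQ]; exact le_sup_right
  have hxm : x ∈ maximalIdeal A := hPm hxP
  obtain ⟨hreg', hspan'⟩ := isRegularLocalRing_quotient_span_singleton x hxm hx2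
  have hd' : (maximalIdeal (A ⧸ Ideal.span ({x} : Set A))).spanFinrank = a := by omega
  have hdimA : ringKrullDim A = ((a + 1 : ℕ) : WithBot ℕ∞) := by
    rw [← hd]
    exact (IsRegularLocalRing.spanFinrank_maximalIdeal (R := A)).symm
  have hIm : Ideal.span ({x} : Set A) ≤ maximalIdeal A :=
    (Ideal.span_singleton_le_iff_mem _).mpr hxm
  have hJm : Ideal.span ({x} : Set A) ⊔ Q ≤ maximalIdeal A := sup_le hIm hQm
  obtain ⟨p, hp, hpa⟩ := exists_nat_ringKrullDim_quotient (a + 1) hdimA P hPm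
  obtain ⟨q, hq, hqa⟩ := exists_nat_ringKrullDim_quotient (a + 1) hdimA Q hQm
  obtain ⟨q', hq', -⟩ := exists_nat_ringKrullDim_quotient (a + 1) hdimA _ hJm
  have hpq : a + 1 ≤ p + q := by
    rw [hp, hq] at hdim
    exact_mod_cast hdim
  have hQne : Q ≠ ⊤ := fun h => (maximalIdeal.isMaximal A).ne_top (top_le_iff.mp (h ▸ hQm))
  haveI : IsLocalRing (A ⧸ Q) := isLocalRing_quotient Q hQne
  have hmem : Ideal.Quotient.mk Q x ∈ maximalIdeal (A ⧸ Q) := by
    rw [← maximalIdeal_map_of_surjective (Ideal.Quotient.mk Q) Ideal.Quotient.mk_surjective]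
    exact Ideal.mem_map_of_mem _ hxm
  have e : ((A ⧸ Q) ⧸ Ideal.span ({Ideal.Quotient.mk Q x} : Set (A ⧸ Q))) ≃+*
      A ⧸ (Ideal.span ({x} : Set A) ⊔ Q) := by
    have h2 : Ideal.span ({Ideal.Quotient.mk Q x} : Set (A ⧸ Q)) =
        (Ideal.span ({x} : Set A)).map (Ideal.Quotient.mk Q) := by
      rw [Ideal.map_span, Set.image_singleton]
    exact (Ideal.quotEquivOfEq h2).trans
      ((DoubleQuot.quotQuotEquivQuotSup Q (Ideal.span ({x} : Set A))).trans
        (Ideal.quotEquivOfEq (sup_comm _ _)))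
  have hqq' : q ≤ q' + 1 := by
    have h1 := ringKrullDim_le_ringKrullDim_quotient_add_encard
      ({Ideal.Quotient.mk Q x} : Set (A ⧸ Q)) (by
        rw [IsLocalRing.ringJacobson_eq_maximalIdeal]
        simpa using hmem)
    rw [ringKrullDim_eq_of_ringEquiv e, hq, hq', Set.encard_singleton] at h1
    exact_mod_cast h1
  -- the inductive hypothesis on `A/(x)`
  have eP : ((A ⧸ Ideal.span ({x} : Set A)) ⧸
      P.map (Ideal.Quotient.mk (Ideal.span ({x} : Set A)))) ≃+* A ⧸ P :=
    (DoubleQuot.quotQuotEquivQuotSup (Ideal.span ({x} : Set A)) P).trans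
      (Ideal.quotEquivOfEq (sup_eq_right.mpr ((Ideal.span_singleton_le_iff_mem _).mpr hxP)))
  have eQ : ((A ⧸ Ideal.span ({x} : Set A)) ⧸
      Q.map (Ideal.Quotient.mk (Ideal.span ({x} : Set A)))) ≃+*
      A ⧸ (Ideal.span ({x} : Set A) ⊔ Q) :=
    DoubleQuot.quotQuotEquivQuotSup (Ideal.span ({x} : Set A)) Q
  have hPQ' : P.map (Ideal.Quotient.mk (Ideal.span ({x} : Set A))) ⊔
      Q.map (Ideal.Quotient.mk (Ideal.span ({x} : Set A))) =
      maximalIdeal (A ⧸ Ideal.span ({x} : Set A)) := by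
    rw [← Ideal.map_sup, hPQ]
    exact maximalIdeal_map_of_surjective _ Ideal.Quotient.mk_surjective
  have hdim' : (a : WithBot ℕ∞) ≤
      ringKrullDim ((A ⧸ Ideal.span ({x} : Set A)) ⧸
        P.map (Ideal.Quotient.mk (Ideal.span ({x} : Set A)))) +
      ringKrullDim ((A ⧸ Ideal.span ({x} : Set A)) ⧸
        Q.map (Ideal.Quotient.mk (Ideal.span ({x} : Set A)))) := by
    rw [ringKrullDim_eq_of_ringEquiv eP, ringKrullDim_eq_of_ringEquiv eQ, hp, hq']
    exact_mod_cast (by omega : a ≤ p + q')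
  obtain ⟨hrP', hrQ', hsum'⟩ := ih (A ⧸ Ideal.span ({x} : Set A)) hd' _ _ hPQ' hdim'
  rw [ringKrullDim_eq_of_ringEquiv eP, ringKrullDim_eq_of_ringEquiv eQ, hp, hq'] at hsum'
  have hsum'' : p + q' = a := by exact_mod_cast hsum'
  have hq1 : q = q' + 1 := by omega
  refine ⟨IsRegularLocalRing.of_ringEquiv eP, ?_, ?_⟩
  · haveI hregJ : IsRegularLocalRing (A ⧸ (Ideal.span ({x} : Set A) ⊔ Q)) :=
      IsRegularLocalRing.of_ringEquiv eQ
    haveI hreg2 : IsRegularLocalRing
        ((A ⧸ Q) ⧸ Ideal.span ({Ideal.Quotient.mk Q x} : Set (A ⧸ Q))) :=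
      IsRegularLocalRing.of_ringEquiv e.symm
    apply IsRegularLocalRing.of_spanFinrank_maximalIdeal_le
    have h3 := spanFinrank_maximalIdeal_le_quotient_add_one (Ideal.Quotient.mk Q x) hmem
    have h4 : (maximalIdeal
        ((A ⧸ Q) ⧸ Ideal.span ({Ideal.Quotient.mk Q x} : Set (A ⧸ Q)))).spanFinrank = q' := by
      have h5 := IsRegularLocalRing.spanFinrank_maximalIdeal
        (R := (A ⧸ Q) ⧸ Ideal.span ({Ideal.Quotient.mk Q x} : Set (A ⧸ Q)))
      rw [ringKrullDim_eq_of_ringEquiv e, hq'] at h5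
      exact_mod_cast h5
    rw [hq]
    exact_mod_cast (by omega : (maximalIdeal (A ⧸ Q)).spanFinrank ≤ q)
  · rw [hp, hq]
    exact_mod_cast (by omega : p + q = a + 1)

theorem claim : ∀ a : ℕ, Claim.{u} a := by
  intro a
  induction a with
  | zero =>
    intro A _ _ h0 P Q hPQ _
    have hbot : maximalIdeal A = ⊥ :=
      (Submodule.spanFinrank_eq_zero_iff_eq_bot (maximalIdeal A).fg_of_isNoetherianRing).mp h0
    rw [hbot] at hPQ
    have hP : P = ⊥ := le_bot_iff.mp (hPQ ▸ le_sup_left)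
    have hQ : Q = ⊥ := le_bot_iff.mp (hPQ ▸ le_sup_right)
    subst hP hQ
    have e : A ⧸ (⊥ : Ideal A) ≃+* A := RingEquiv.quotientBot A
    have hreg : IsRegularLocalRing (A ⧸ (⊥ : Ideal A)) := IsRegularLocalRing.of_ringEquiv e.symm
    have hdimA : ringKrullDim A = 0 := by
      have h1 := IsRegularLocalRing.spanFinrank_maximalIdeal (R := A)
      rw [h0] at h1
      exact_mod_cast h1.symm
    refine ⟨hreg, hreg, ?_⟩
    rw [ringKrullDim_eq_of_ringEquiv e, hdimA]
    simp
  | succ a ih =>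
    intro A _ _ hd P Q hPQ hdim
    have hex : (∃ x ∈ P, x ∉ maximalIdeal A ^ 2) ∨ (∃ x ∈ Q, x ∉ maximalIdeal A ^ 2) := by
      by_contra hcon
      push Not at hcon
      have hle : maximalIdeal A ≤ maximalIdeal A ^ 2 := by
        calc maximalIdeal A = P ⊔ Q := hPQ.symm
          _ ≤ _ := sup_le (fun x hx => hcon.1 x hx) (fun x hx => hcon.2 x hx)
      rw [pow_two] at hle
      have hbot : maximalIdeal A = ⊥ :=
        Submodule.eq_bot_of_le_smul_of_le_jacobson_bot (maximalIdeal A) (maximalIdeal A)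
          (maximalIdeal A).fg_of_isNoetherianRing hle
          (IsLocalRing.jacobson_eq_maximalIdeal _ bot_ne_top).ge
      rw [hbot, Submodule.spanFinrank_bot] at hd
      omega
    rcases hex with ⟨x, hxP, hx2⟩ | ⟨x, hxQ, hx2⟩
    · exact claim_step a ih A hd P Q hPQ hdim x hxP hx2
    · have h := claim_step a ih A hd Q P (by rw [sup_comm]; exact hPQ)
        (by rw [add_comm (ringKrullDim (A ⧸ Q))]; exact hdim) x hxQ hx2
      exact ⟨h.2.1, h.1, by rw [add_comm (ringKrullDim (A ⧸ P))]; exact h.2.2⟩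

/-- **Transversal pairs**: in a regular local ring `A`, if `P + Q = m` and
`dim A/P + dim A/Q ≥ dim A`, then `A/P` and `A/Q` are regular and equality holds. -/
theorem regular_of_sup_eq_maximalIdeal {A : Type u} [CommRing A] [IsRegularLocalRing A]
    (P Q : Ideal A) (hPQ : P ⊔ Q = maximalIdeal A)
    (hdim : ringKrullDim A ≤ ringKrullDim (A ⧸ P) + ringKrullDim (A ⧸ Q)) :
    IsRegularLocalRing (A ⧸ P) ∧ IsRegularLocalRing (A ⧸ Q) ∧
      ringKrullDim (A ⧸ P) + ringKrullDim (A ⧸ Q) = ringKrullDim A := by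
  have h1 := IsRegularLocalRing.spanFinrank_maximalIdeal (R := A)
  rw [← h1] at hdim ⊢
  exact claim _ A rfl P Q hPQ hdim

end Groth.Agent.Lib.Helper85.RegPair
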