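import Mathlib
import Groth.Agent.Lib.Helper85.IntMult.SerreFormula

/-!
# Serre's Tor formula with a local finiteness hypothesis (helper85)

The same as `SerreFormula.interProd_eq_chi`, but the properness of the intersection is only assumed
in the form "`F_ζ ⊗ G_ζ` has finite length".
-/

set_option autoImplicit false
set_option linter.style.haveILetI false
set_option linter.unusedSectionVars false
universe u

namespace Groth.Agent.Lib.Helper85.SerreFormula

open AlgebraicGeometry CategoryTheory Topology TopologicalSpace Module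
open Groth.Agent.Lib.Helper55 Groth.Agent.Lib.Helper85.StalkLen Groth.Agent.Lib.Helper85.HS
  Groth.Agent.Lib.Helper85.ChiAdd Groth.Agent.Lib.Helper85.ChiAssoc

section CoreLoc

variable {X : Scheme.{u}} [IsLocallyNoetherian X] (δ : X → ℤ) (hdim : Cyc.IsDimFun X δ) (ζ : X)
  (F G : X.Modules) (hF : Coh.IsCoh F) (hG : Coh.IsCoh G) (n r s : ℤ)
  (hr : ∀ x : X, Nontrivial (F.presheaf.stalk x) → δ x ≤ r)
  (hs : ∀ x : X, Nontrivial (G.presheaf.stalk x) → δ x ≤ s)
  (hζ : δ ζ = r + s - n)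

include hdim hF hG hr hs hζ in
/-- **Serre's Tor formula** at a point of the expected dimension, local form -/
theorem interProd_eq_chi_of_fl [IsRegularLocalRing (X.presheaf.stalk ζ)]
    (hfl : FL (X.presheaf.stalk ζ) (F.presheaf.stalk ζ) (G.presheaf.stalk ζ))
    (hA : ringKrullDim (X.presheaf.stalk ζ) = (((n - δ ζ).toNat : ℕ) : WithBot ℕ∞))
    (hvan : ∀ P Q : Ideal (X.presheaf.stalk ζ), P.IsPrime → Q.IsPrime →
      (∃ k : ℕ, IsLocalRing.maximalIdeal (X.presheaf.stalk ζ) ^ k ≤ P ⊔ Q) →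
      ringKrullDim (X.presheaf.stalk ζ ⧸ P) + ringKrullDim (X.presheaf.stalk ζ ⧸ Q) <
        ringKrullDim (X.presheaf.stalk ζ) →
      IntMult.chi (X.presheaf.stalk ζ) (X.presheaf.stalk ζ ⧸ Q) (X.presheaf.stalk ζ ⧸ P) = 0)
    (hζr : δ ζ ≤ r) (hζs : δ ζ ≤ s) :
    IntMult.interProd δ n (Cyc.sheafFun δ r F) (Cyc.sheafFun δ s G) ζ =
      IntMult.chi (X.presheaf.stalk ζ) (F.presheaf.stalk ζ) (G.presheaf.stalk ζ) := by
  classical
  haveI := Groth.Agent.Lib.Helper12.QuasiFlat.finite_stalk_of_isCoh F hF ζ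
  haveI := Groth.Agent.Lib.Helper12.QuasiFlat.finite_stalk_of_isCoh G hG ζ
  set A := X.presheaf.stalk ζ with hAdef
  set M := F.presheaf.stalk ζ with hMdef
  set N := G.presheaf.stalk ζ with hNdef
  set r' : ℕ := (r - δ ζ).toNat with hr'
  set s' : ℕ := (s - δ ζ).toNat with hs'
  have hM : Module.supportDim A M ≤ (r' : WithBot ℕ∞) :=
    supportDim_stalk_le δ hdim ζ F hF r hr hζr
  have hN : Module.supportDim A N ≤ (s' : WithBot ℕ∞) :=
    supportDim_stalk_le δ hdim ζ G hG s hs hζs
  -- vanishing of Tor above the dimension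
  have hD : ∀ (M N : Type u) [AddCommGroup M] [Module A M] [AddCommGroup N] [Module A N] (p : ℕ),
      (n - δ ζ).toNat < p → Subsingleton (DRing.Tor A p M N) := by
    intro M N _ _ _ _ p hp
    exact Groth.Agent.Lib.Helper85.TorPd.subsingleton_tor_of_hasProjectiveDimensionLT M N _
      (Groth.Agent.S0563.result A _ hA N) p hp
  -- Serre vanishing for the small primes
  have hvan' : ∀ p q : PrimeSpectrum A, FL A (A ⧸ p.asIdeal) (A ⧸ q.asIdeal) →
      ringKrullDim (A ⧸ p.asIdeal) ≤ r' → ringKrullDim (A ⧸ q.asIdeal) ≤ s' →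
      (ringKrullDim (A ⧸ p.asIdeal) < r' ∨ ringKrullDim (A ⧸ q.asIdeal) < s') →
      IntMult.chi A (A ⧸ p.asIdeal) (A ⧸ q.asIdeal) = 0 := by
    intro p q hflpq hp hq hlt
    have hfl' : ∃ k : ℕ, IsLocalRing.maximalIdeal A ^ k ≤ q.asIdeal ⊔ p.asIdeal := by
      obtain ⟨k, hk⟩ := hflpq
      rw [Ideal.annihilator_quotient, Ideal.annihilator_quotient] at hk
      exact ⟨k, hk.trans (le_of_eq (sup_comm _ _))⟩
    refine hvan q.asIdeal p.asIdeal q.2 p.2 hfl' ?_
    rw [ringKrullDim_quotient_eq δ hdim ζ p] at hp hlt ⊢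
    rw [ringKrullDim_quotient_eq δ hdim ζ q] at hq hlt ⊢
    rw [hA]
    have hp' : (δ (stalkPoint ζ p) - δ ζ).toNat ≤ r' := by exact_mod_cast hp
    have hq' : (δ (stalkPoint ζ q) - δ ζ).toNat ≤ s' := by exact_mod_cast hq
    have hlt' : (δ (stalkPoint ζ p) - δ ζ).toNat < r' ∨ (δ (stalkPoint ζ q) - δ ζ).toNat < s' := by
      rcases hlt with h | h
      · left; exact_mod_cast h
      · right; exact_mod_cast h
    have : (δ (stalkPoint ζ q) - δ ζ).toNat + (δ (stalkPoint ζ p) - δ ζ).toNat <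
        (n - δ ζ).toNat := by omega
    exact_mod_cast this
  have main := chi_eq_assocSum (A := A) _ hD r' s' hvan' M N hM hN hfl
  -- the geometric side
  set c : X → X → Prop := fun ξ η => δ ξ + δ η - n = δ ζ with hc
  set f : X → X → ℤ := fun ξ η => Cyc.sheafFun δ r F ξ * Cyc.sheafFun δ s G η *
    IntMult.mult (IntMult.ptIdeal ξ) (IntMult.ptIdeal η) ζ with hfdef
  have hf : ∀ ξ η, f ξ η ≠ 0 → c ξ η := by
    intro ξ η hne
    have h1 : Cyc.sheafFun δ r F ξ ≠ 0 := fun h => hne (by simp [hfdef, h])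
    have h2 : Cyc.sheafFun δ s G η ≠ 0 := fun h => hne (by simp [hfdef, h])
    have h3 : δ ξ = r := by
      by_contra h
      exact h1 (by unfold Cyc.sheafFun; rw [if_neg h])
    have h4 : δ η = s := by
      by_contra h
      exact h2 (by unfold Cyc.sheafFun; rw [if_neg h])
    simp only [hc]
    omega
  have hgeo : IntMult.interProd δ n (Cyc.sheafFun δ r F) (Cyc.sheafFun δ s G) ζ =
      ∑ᶠ y : PrimeSpectrum A × PrimeSpectrum A, f (stalkPoint ζ y.1) (stalkPoint ζ y.2) :=
    finsum_pairs ζ c f hf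
  rw [hgeo]
  apply Int.cast_injective (α := ℝ)
  rw [main]
  have hcast := AddMonoidHom.map_finsum_of_injective (Int.castAddHom ℝ) Int.cast_injective
    (fun y : PrimeSpectrum A × PrimeSpectrum A => f (stalkPoint ζ y.1) (stalkPoint ζ y.2))
  simp only [Int.coe_castAddHom] at hcast
  rw [hcast]
  -- termwise
  set aF : PrimeSpectrum A → ℝ := fun p =>
    if ringKrullDim (A ⧸ p.asIdeal) = (r' : WithBot ℕ∞) then locLen M p else 0 with haF
  set aG : PrimeSpectrum A → ℝ := fun q =>
    if ringKrullDim (A ⧸ q.asIdeal) = (s' : WithBot ℕ∞) then locLen N q else 0 with haG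
  set χ' : PrimeSpectrum A → PrimeSpectrum A → ℝ := fun p q =>
    (IntMult.chi A (A ⧸ p.asIdeal) (A ⧸ q.asIdeal) : ℝ) with hχ'
  have hterm : ∀ y : PrimeSpectrum A × PrimeSpectrum A,
      ((f (stalkPoint ζ y.1) (stalkPoint ζ y.2) : ℤ) : ℝ) = aF y.1 * (aG y.2 * χ' y.1 y.2) := by
    intro y
    simp only [hfdef]
    rw [Int.cast_mul, Int.cast_mul, sheafFun_stalkPoint δ hdim ζ F r hF hζr y.1,
      sheafFun_stalkPoint δ hdim ζ G s hG hζs y.2, mult_ptIdeal,
      Groth.Agent.Lib.Helper85.IntMultAlg.intMult_chi_symm, mul_assoc]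
  rw [finsum_congr hterm]
  -- finiteness
  have hSF := finite_setOf_ringKrullDim_quotient_eq_inter_support M r' hM
  have hSG := finite_setOf_ringKrullDim_quotient_eq_inter_support N s' hN
  have hfin : (Function.support fun y : PrimeSpectrum A × PrimeSpectrum A =>
      aF y.1 * (aG y.2 * χ' y.1 y.2)).Finite := by
    refine (hSF.prod hSG).subset ?_
    rintro ⟨p, q⟩ hy
    rw [Function.mem_support] at hy
    have h1 : aF p ≠ 0 := fun h => hy (by simp [h])
    have h2 : aG q ≠ 0 := fun h => hy (by simp [h])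
    refine ⟨⟨?_, ?_⟩, ⟨?_, ?_⟩⟩
    · by_contra h
      exact h1 (by simp only [haF]; rw [if_neg h])
    · by_contra h
      apply h1
      simp only [haF]
      rw [locLen_eq_zero_of_notMem_support M p h, ite_self]
    · by_contra h
      exact h2 (by simp only [haG]; rw [if_neg h])
    · by_contra h
      apply h2
      simp only [haG]
      rw [locLen_eq_zero_of_notMem_support N q h, ite_self]
  rw [finsum_curry _ hfin, assocSum_eq]
  refine finsum_congr fun p => ?_
  dsimp only
  rw [← mul_finsum, assocSum_eq]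
  simp only [haF, haG]
  rw [ite_mul, zero_mul]
  congr 1
  congr 1
  refine finsum_congr fun q => ?_
  rw [ite_mul, zero_mul]

end CoreLoc

end Groth.Agent.Lib.Helper85.SerreFormula
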