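import Mathlib
import Groth.Prelude.Def_C1
import Groth.Agent.Lib.Helper85.IntMult.C1Zero
import Groth.Agent.Lib.Helper85.IntMult.StalkLen
import Groth.Agent.Lib.Helper85.IntMult.GysinPull
import Groth.Agent.Lib.Helper85.IntMult.FlatPullGeom
import Groth.Agent.Lib.Helper79.HerbrandSmul
import Groth.Agent.Lib.Helper12.QuasiFlat

/-!
# The Gysin pullback of the cycle of a coherent module (helper85)

`i^*[F]_{k+1} = [i^*F]_k` for the zero scheme `i : D → X` of a section `s` of an invertible module
which is a nonzerodivisor on `F`.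
-/

set_option autoImplicit false
set_option linter.unusedSectionVars false
universe u
open CategoryTheory AlgebraicGeometry

namespace Groth.Agent.Lib.Helper85.SheafZero

open Groth.Agent.Lib.Helper55 Groth.Agent.Lib.Helper79.LenMult
open Groth.Agent.Lib.Helper85.DivPullDict Groth.Agent.Lib.Helper85.DivPull
open Groth.Agent.Lib.Helper85.DivPullAlg Groth.Agent.Lib.Helper85.C1Zero
open scoped Pointwise Classical

variable {Y : Scheme.{u}}

section Local

variable [IsLocallyNoetherian Y] (δ : Y → ℤ) (hdim : Cyc.IsDimFun Y δ) (F : Y.Modules)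
  (hF : Coh.IsCoh F) (y : Y)
  (hle : ∀ ξ : Y, ξ ⤳ y → Nontrivial (F.presheaf.stalk ξ) → δ ξ ≤ δ y + 1)

include hF in
/-- points of the support of the stalk are points with nontrivial stalk -/
theorem nontrivial_stalk_of_mem_support (q : PrimeSpectrum (Y.presheaf.stalk y))
    (hq : q ∈ Module.support (Y.presheaf.stalk y) (F.presheaf.stalk y)) :
    Nontrivial (F.presheaf.stalk (stalkPoint y q)) := by
  have hq' : SheafOfModules.IsQuasicoherent.{u, u, u} F := hF.1
  have hqc : F.IsQuasicoherent := hq'
  have h1 := Groth.Agent.Lib.Helper85.StalkLen.length_stalk_stalkPoint F y q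
  rw [Module.mem_support_iff] at hq
  by_contra hnt
  rw [not_nontrivial_iff_subsingleton] at hnt
  have h2 : Module.length (Y.presheaf.stalk (stalkPoint y q))
      (F.presheaf.stalk (stalkPoint y q)) = 0 := Module.length_eq_zero_iff.mpr hnt
  rw [h1, Module.length_eq_zero_iff] at h2
  exact not_subsingleton _ h2

include hdim hF hle in
theorem delta_lt_of_mem_support (q : PrimeSpectrum (Y.presheaf.stalk y))
    (hq : q ∈ Module.support (Y.presheaf.stalk y) (F.presheaf.stalk y))
    (hqm : q.asIdeal ≠ IsLocalRing.maximalIdeal (Y.presheaf.stalk y)) :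
    δ y + 1 = δ (stalkPoint y q) := by
  have h1 := hle _ (stalkPoint_specializes y q) (nontrivial_stalk_of_mem_support F hF y q hq)
  have hne : stalkPoint y q ≠ y := by
    intro he
    apply hqm
    have h2 : stalkPoint y q = stalkPoint y (IsLocalRing.closedPoint (Y.presheaf.stalk y)) := by
      rw [he, stalkPoint_closedPoint]
    exact congrArg PrimeSpectrum.asIdeal (stalkPoint_injective y h2)
  have h2 := (hdim _ _ (stalkPoint_specializes y q) hne).1
  omega

include hdim hF hle in
/-- the support of the stalk has dimension at most one -/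
theorem supportDim_stalk_le_one :
    Module.supportDim (Y.presheaf.stalk y) (F.presheaf.stalk y) ≤ 1 := by
  unfold Module.supportDim
  rw [Order.krullDim_le_one_iff]
  rintro ⟨q, hq⟩
  by_cases hqm : q.asIdeal = IsLocalRing.maximalIdeal (Y.presheaf.stalk y)
  · right
    rintro ⟨b, hb⟩ hab
    show b ≤ q
    show b.asIdeal ≤ q.asIdeal
    rw [hqm]
    exact IsLocalRing.le_maximalIdeal b.2.ne_top
  · left
    rintro ⟨b, hb⟩ hba
    have hba' : b ≤ q := hba
    show q ≤ b
    by_contra hnle
    have hne : b ≠ q := fun h => hnle (h ▸ le_refl _)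
    have hbm : b.asIdeal ≠ IsLocalRing.maximalIdeal (Y.presheaf.stalk y) := by
      intro hbm
      apply hne
      apply le_antisymm hba'
      show q.asIdeal ≤ b.asIdeal
      rw [hbm]
      exact IsLocalRing.le_maximalIdeal q.2.ne_top
    have h1 := delta_lt_of_mem_support δ hdim F hF y hle q hq hqm
    have h2 := delta_lt_of_mem_support δ hdim F hF y hle b hb hbm
    have h3 : stalkPoint y b ⤳ stalkPoint y q := (stalkPoint_specializes_iff y b q).mpr hba'
    have h4 : stalkPoint y b ≠ stalkPoint y q := fun h => hne (stalkPoint_injective y h)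
    have h5 := (hdim _ _ h3 h4).1
    omega

end Local


section Formula

variable [IsLocallyNoetherian Y] (δ : Y → ℤ) (hdim : Cyc.IsDimFun Y δ) (F : Y.Modules)
  (hF : Coh.IsCoh F) (y : Y)
  (hle : ∀ ξ : Y, ξ ⤳ y → Nontrivial (F.presheaf.stalk ξ) → δ ξ ≤ δ y + 1)
  (f : Y.presheaf.stalk y)
  (hreg : Function.Injective (fun m : F.presheaf.stalk y => f • m))

include hdim hF hle hreg in
/-- a nonzerodivisor on the stalk lies in no non-closed prime of the support -/
theorem notMem_of_mem_support (q : PrimeSpectrum (Y.presheaf.stalk y))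
    (hq : q ∈ Module.support (Y.presheaf.stalk y) (F.presheaf.stalk y))
    (hqm : q.asIdeal ≠ IsLocalRing.maximalIdeal (Y.presheaf.stalk y)) : f ∉ q.asIdeal := by
  have hfin : Module.Finite (Y.presheaf.stalk y) (F.presheaf.stalk y) :=
    Groth.Agent.Lib.Helper12.QuasiFlat.finite_stalk_of_isCoh F hF y
  have h1 := supportDim_stalk_le_one δ hdim F hF y hle
  have hmin : q.asIdeal ∈ (Module.annihilator (Y.presheaf.stalk y)
      (F.presheaf.stalk y)).minimalPrimes := by
    refine ⟨⟨q.2, Module.mem_support_iff_of_finite.mp hq⟩, ?_⟩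
    rintro r ⟨hrprime, hr⟩ hrq
    have hr' : (⟨r, hrprime⟩ : PrimeSpectrum (Y.presheaf.stalk y)) ∈
        Module.support (Y.presheaf.stalk y) (F.presheaf.stalk y) :=
      Module.mem_support_iff_of_finite.mpr hr
    exact isMin_of_supportDim_le_one h1 hq hqm hr' hrq
  have hass := Module.associatedPrimes.minimalPrimes_annihilator_subset_associatedPrimes
    (Y.presheaf.stalk y) (F.presheaf.stalk y) hmin
  intro hfq
  have hmem : f ∈ ⋃ p ∈ associatedPrimes (Y.presheaf.stalk y) (F.presheaf.stalk y),
      (p : Set (Y.presheaf.stalk y)) := Set.mem_biUnion hass hfq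
  rw [biUnion_associatedPrimes_eq_zero_divisors] at hmem
  obtain ⟨m, hm0, hm⟩ := hmem
  apply hm0
  apply hreg
  simp only
  rw [hm, smul_zero]

include hdim hF hle hreg in
/-- **The length of `F_y / f F_y` as the sum of orders along the components of the support.** -/
theorem length_quot_eq_finsum_module :
    ((Module.length (Y.presheaf.stalk y) (F.presheaf.stalk y ⧸
        f • (⊤ : Submodule (Y.presheaf.stalk y) (F.presheaf.stalk y)))).toNat : ℤ) =
      ∑ᶠ ξ : Y, if h : ξ ⤳ y ∧ δ y + 1 = δ ξ then
        ((Module.length (Y.presheaf.stalk ξ) (F.presheaf.stalk ξ)).toNat : ℤ) *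
          Cyc.ordAt y ξ h.1 (Cyc.specMap y ξ h.1 f) else 0 := by
  classical
  have hq' : SheafOfModules.IsQuasicoherent.{u, u, u} F := hF.1
  have hqc : F.IsQuasicoherent := hq'
  have hfin : Module.Finite (Y.presheaf.stalk y) (F.presheaf.stalk y) :=
    Groth.Agent.Lib.Helper12.QuasiFlat.finite_stalk_of_isCoh F hF y
  have h1 := supportDim_stalk_le_one δ hdim F hF y hle
  have hfq := notMem_of_mem_support δ hdim F hF y hle f hreg
  have hsuppQ : ∀ p ∈ Module.support (Y.presheaf.stalk y)
      (F.presheaf.stalk y ⧸ f • (⊤ : Submodule (Y.presheaf.stalk y) (F.presheaf.stalk y))),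
      p = IsLocalRing.closedPoint (Y.presheaf.stalk y) := by
    intro p hp
    by_contra hpm
    have hpm' : p.asIdeal ≠ IsLocalRing.maximalIdeal (Y.presheaf.stalk y) :=
      fun h => hpm (PrimeSpectrum.ext h)
    have hs := Module.support_quotSMulTop (M := F.presheaf.stalk y) f
    rw [hs] at hp
    apply hfq p hp.1 hpm'
    simpa using hp.2
  have h0 : Module.supportDim (Y.presheaf.stalk y) (F.presheaf.stalk y ⧸
      f • (⊤ : Submodule (Y.presheaf.stalk y) (F.presheaf.stalk y))) ≤ 0 := by
    unfold Module.supportDim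
    have hsub : (Module.support (Y.presheaf.stalk y) (F.presheaf.stalk y ⧸
        f • (⊤ : Submodule (Y.presheaf.stalk y) (F.presheaf.stalk y)))).Subsingleton := by
      intro p hp p' hp'
      rw [hsuppQ p hp, hsuppQ p' hp']
    have : Subsingleton ↥(Module.support (Y.presheaf.stalk y) (F.presheaf.stalk y ⧸
        f • (⊤ : Submodule (Y.presheaf.stalk y) (F.presheaf.stalk y)))) := hsub.coe_sort
    exact Order.krullDim_nonpos_of_subsingleton
  have hmain := main_finsum (F.presheaf.stalk y) f h1 h0
  have hker : Module.length (Y.presheaf.stalk y)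
      (LinearMap.ker (LinearMap.lsmul (Y.presheaf.stalk y) (F.presheaf.stalk y) f)) = 0 := by
    rw [Module.length_eq_zero_iff]
    constructor
    rintro ⟨a, ha⟩ ⟨b, hb⟩
    apply Subtype.ext
    apply hreg
    simp only
    rw [LinearMap.mem_ker] at ha hb
    have ha' : f • a = 0 := ha
    have hb' : f • b = 0 := hb
    rw [ha', hb']
  rw [hker, zero_add] at hmain
  have hfinlen : Module.length (Y.presheaf.stalk y) (F.presheaf.stalk y ⧸
      f • (⊤ : Submodule (Y.presheaf.stalk y) (F.presheaf.stalk y))) ≠ ⊤ := by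
    apply ne_of_lt
    apply Groth.Agent.Lib.Helper79.HerbrandSmul.length_lt_top_of_support
    intro p hp
    rw [hsuppQ p hp]
    exact IsLocalRing.maximalIdeal.isMaximal _
  set T : Set (PrimeSpectrum (Y.presheaf.stalk y)) :=
    {p | p ∈ Module.support (Y.presheaf.stalk y) (F.presheaf.stalk y) ∧
      p.asIdeal ≠ IsLocalRing.maximalIdeal (Y.presheaf.stalk y)} with hT
  set g : PrimeSpectrum (Y.presheaf.stalk y) → ℕ∞ := fun p =>
    Ring.ord (Y.presheaf.stalk y ⧸ p.asIdeal) (Ideal.Quotient.mk p.asIdeal f) *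
      Module.length (Localization.AtPrime p.asIdeal)
        (LocalizedModule p.asIdeal.primeCompl (F.presheaf.stalk y)) with hg
  have hTfin : T.Finite := suppT_finite h1
  have hmain' : Module.length (Y.presheaf.stalk y) (F.presheaf.stalk y ⧸
      f • (⊤ : Submodule (Y.presheaf.stalk y) (F.presheaf.stalk y))) = ∑ᶠ p ∈ T, g p := hmain
  have hcast := cast_toNat_finsum_mem g T (hTfin.subset Set.inter_subset_left)
    (by rw [← hmain']; exact hfinlen)
  rw [hmain', hcast]
  set G : Y → ℤ := fun ξ => if h : ξ ⤳ y ∧ δ y + 1 = δ ξ then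
      ((Module.length (Y.presheaf.stalk ξ) (F.presheaf.stalk ξ)).toNat : ℤ) *
        Cyc.ordAt y ξ h.1 (Cyc.specMap y ξ h.1 f) else 0 with hG
  have hS2 : ∑ᶠ ξ, G ξ = ∑ᶠ ξ ∈ stalkPoint y '' T, G ξ := by
    rw [finsum_mem_def]
    congr 1
    symm
    apply Set.indicator_eq_self.mpr
    intro ξ hξ
    have hξ' : G ξ ≠ 0 := hξ
    have hc : ξ ⤳ y ∧ δ y + 1 = δ ξ := by
      by_contra hc
      exact hξ (dif_neg hc)
    obtain ⟨q, rfl⟩ := exists_stalkPoint_eq y ξ hc.1
    refine ⟨q, ⟨?_, ?_⟩, rfl⟩
    · rw [Module.mem_support_iff]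
      by_contra hnt
      rw [not_nontrivial_iff_subsingleton] at hnt
      apply hξ'
      rw [hG]
      simp only
      rw [dif_pos hc, Groth.Agent.Lib.Helper85.StalkLen.length_stalk_stalkPoint F y q,
        Module.length_eq_zero_iff.mpr hnt]
      simp
    · intro hq
      have h2 : stalkPoint y q = y := by
        have h3 : q = IsLocalRing.closedPoint (Y.presheaf.stalk y) := PrimeSpectrum.ext hq
        rw [h3, stalkPoint_closedPoint]
      have h4 := hc.2
      rw [h2] at h4
      omega
  have hS3 : ∑ᶠ ξ ∈ stalkPoint y '' T, G ξ = ∑ᶠ q ∈ T, G (stalkPoint y q) :=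
    finsum_mem_image (stalkPoint_injective y).injOn
  rw [hS2, hS3]
  apply finsum_mem_congr rfl
  intro q hq
  have hqm : q.asIdeal ≠ IsLocalRing.maximalIdeal (Y.presheaf.stalk y) := hq.2
  have h' := stalkPoint_specializes y q
  have hkerq : RingHom.ker (Cyc.specMap y (stalkPoint y q) h') = q.asIdeal :=
    ker_specMap_stalkPoint y q
  have hδ : δ y + 1 = δ (stalkPoint y q) :=
    delta_lt_of_mem_support δ hdim F hF y hle q hq.1 hqm
  rw [hG]
  simp only
  rw [dif_pos ⟨h', hδ⟩]
  have ha : f ∉ RingHom.ker (Cyc.specMap y (stalkPoint y q) h') := by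
    rw [hkerq]
    exact hfq q hq.1 hqm
  have hb : (1 : Y.presheaf.stalk y) ∉ RingHom.ker (Cyc.specMap y (stalkPoint y q) h') := by
    rw [hkerq]
    exact fun h => q.2.ne_top ((Ideal.eq_top_iff_one _).mpr h)
  have hord := ordAt_div δ hdim h' hδ f 1 ha hb
  rw [map_one, div_one] at hord
  have hone : Module.length (Y.presheaf.stalk y) (Y.presheaf.stalk y ⧸
      (RingHom.ker (Cyc.specMap y (stalkPoint y q) h') ⊔ Ideal.span {(1 : Y.presheaf.stalk y)})) =
      0 := by
    rw [Module.length_eq_zero_iff, Ideal.span_singleton_one, sup_top_eq]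
    exact Ideal.Quotient.subsingleton_iff.mpr rfl
  rw [hord, hone, hkerq, Groth.Agent.Lib.Helper85.StalkLen.length_stalk_stalkPoint F y q]
  rw [hg]
  simp only
  rw [ENat.toNat_mul, Nat.cast_mul, ord_eq_length_sup]
  simp only [ENat.toNat_zero, Nat.cast_zero, sub_zero]
  ring

include hdim hF hle hreg in
/-- a nonzerodivisor on `F_y` does not vanish at the points of the support other than `y` -/
theorem specMap_ne_zero_of_nontrivial (ξ : Y) (h : ξ ⤳ y) (hne : ξ ≠ y)
    (hnt : Nontrivial (F.presheaf.stalk ξ)) : Cyc.specMap y ξ h f ≠ 0 := by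
  have hq' : SheafOfModules.IsQuasicoherent.{u, u, u} F := hF.1
  have hqc : F.IsQuasicoherent := hq'
  obtain ⟨q, rfl⟩ := exists_stalkPoint_eq y ξ h
  have hq : q ∈ Module.support (Y.presheaf.stalk y) (F.presheaf.stalk y) := by
    rw [Module.mem_support_iff]
    by_contra hs
    rw [not_nontrivial_iff_subsingleton] at hs
    have h1 := Groth.Agent.Lib.Helper85.StalkLen.length_stalk_stalkPoint F y q
    rw [Module.length_eq_zero_iff.mpr hs, Module.length_eq_zero_iff] at h1
    exact not_subsingleton _ h1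
  have hqm : q.asIdeal ≠ IsLocalRing.maximalIdeal (Y.presheaf.stalk y) := by
    intro hqm
    apply hne
    have h3 : q = IsLocalRing.closedPoint (Y.presheaf.stalk y) := PrimeSpectrum.ext hqm
    rw [h3, stalkPoint_closedPoint]
  have h2 := notMem_of_mem_support δ hdim F hF y hle f hreg q hq hqm
  rw [← ker_specMap_stalkPoint y q] at h2
  exact fun h0 => h2 (RingHom.mem_ker.mpr h0)

end Formula


section Pullback

open TensorProduct

variable {D X : Scheme.{u}} (i : D ⟶ X) [IsClosedImmersion i]

/-- the length of the stalk of `i^*F` at `d`, computed on `X` -/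
theorem length_stalk_pullback_closed (F : X.Modules) (d : D) (f : X.presheaf.stalk (i d))
    (hker : RingHom.ker (i.stalkMap d).hom = Ideal.span {f}) :
    Module.length (D.presheaf.stalk d)
        (((Scheme.Modules.pullback i).obj F).presheaf.stalk d) =
      Module.length (X.presheaf.stalk (i d)) (F.presheaf.stalk (i d) ⧸
        f • (⊤ : Submodule (X.presheaf.stalk (i d)) (F.presheaf.stalk (i d)))) := by
  let _ := (i.stalkMap d).hom.toAlgebra
  obtain ⟨e⟩ := Groth.Agent.Lib.Helper85.FlatPullGeom.nonempty_stalk_pullback_equiv i F d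
  have hsurj : Function.Surjective (algebraMap (X.presheaf.stalk (i d)) (D.presheaf.stalk d)) :=
    Groth.Agent.Lib.Helper85.ClosedDict.stalkMap_surjective i d
  rw [e.length_eq, ← Module.length_eq_of_surjective (S := X.presheaf.stalk (i d))
    (R := D.presheaf.stalk d) hsurj]
  have hsurj' : Function.Surjective
      (Algebra.ofId (X.presheaf.stalk (i d)) (D.presheaf.stalk d)) := hsurj
  let ψ : (X.presheaf.stalk (i d) ⧸ RingHom.ker
      (Algebra.ofId (X.presheaf.stalk (i d)) (D.presheaf.stalk d))) ≃ₐ[X.presheaf.stalk (i d)]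
      D.presheaf.stalk d := Ideal.quotientKerAlgEquivOfSurjective hsurj'
  have hker' : RingHom.ker (Algebra.ofId (X.presheaf.stalk (i d)) (D.presheaf.stalk d)) =
      Ideal.span {f} := hker
  let e2 := LinearEquiv.rTensor (F.presheaf.stalk (i d)) ψ.toLinearEquiv
  rw [← e2.length_eq, (TensorProduct.quotTensorEquivQuotSMul (F.presheaf.stalk (i d))
    (RingHom.ker (Algebra.ofId (X.presheaf.stalk (i d)) (D.presheaf.stalk d)))).length_eq]
  have h3 : RingHom.ker (Algebra.ofId (X.presheaf.stalk (i d)) (D.presheaf.stalk d)) •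
      (⊤ : Submodule (X.presheaf.stalk (i d)) (F.presheaf.stalk (i d))) =
      f • (⊤ : Submodule (X.presheaf.stalk (i d)) (F.presheaf.stalk (i d))) := by
    rw [hker', Submodule.ideal_span_singleton_smul]
  exact (Submodule.quotEquivOfEq _ _ h3).length_eq

end Pullback


section Assembly

open Groth.Agent.Lib.Helper45 Groth.Agent.Lib.Helper45.InvOrd
open Groth.Agent.Lib.Helper85.C1Tensor Groth.Agent.Lib.Helper85.Gysin
open Groth.Agent.Lib.Helper85.PullDict Groth.Agent.Lib.Helper85.GysinPull

variable {D X : Scheme.{u}} (i : D ⟶ X) [IsClosedImmersion i] [IsLocallyNoetherian X]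
  (δ : X → ℤ) (hdim : Cyc.IsDimFun X δ)

include hdim in
/-- **`i^*[F]_{k+1} = [i^*F]_k`** coefficientwise, for the Gysin choice of rational sections -/
theorem gysin_sheafFun_eq {L : X.Modules} (hL : PicF.IsInvertible L)
    (s : L.presheaf.obj (Opposite.op ⊤)) (hD : Cyc.IsZeroSchemeOf i L s) (k : ℤ)
    (F : X.Modules) (hF : Coh.IsCoh F)
    (hsupp : ∀ x : X, Nontrivial (F.presheaf.stalk x) → δ x ≤ k + 1)
    (hreg : ∀ (x : X) (t : L.presheaf.stalk x) (f : X.presheaf.stalk x),
      Submodule.span (X.presheaf.stalk x) {t} = ⊤ → (L.presheaf.germ ⊤ x trivial) s = f • t →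
      Function.Injective (fun m : F.presheaf.stalk x => f • m))
    (w : (ξ : X) → Cyc.secFibre L ξ) (d : D) :
    Cyc.c1CapFun δ L (Cyc.sheafFun δ (k + 1) F) (Cyc.gysinChoice L s w) (i d) =
      Cyc.sheafFun (fun d => δ (i d)) k ((Scheme.Modules.pullback i).obj F) d := by
  classical
  unfold Cyc.c1CapFun
  by_cases hk : δ (i d) = k
  swap
  · have hR : Cyc.sheafFun (fun d => δ (i d)) k ((Scheme.Modules.pullback i).obj F) d = 0 := by
      unfold Cyc.sheafFun
      simp only
      rw [if_neg hk]
    rw [hR]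
    apply finsum_eq_zero_of_forall_eq_zero
    intro ξ
    unfold Cyc.sheafFun Cyc.secDivFun
    simp only
    by_cases hc : ξ ⤳ i d ∧ δ (i d) + 1 = δ ξ
    · have h5 : δ ξ ≠ k + 1 := by omega
      rw [if_neg h5, zero_mul]
    · rw [dif_neg hc, mul_zero]
  · obtain ⟨V, hxV, τ, hτ⟩ := exists_isBasisOn_of_isInvertible hL (i d)
    have hspan0 := germ_basis_span hτ (i d) hxV
    obtain ⟨f', hf'⟩ : ∃ f' : X.presheaf.stalk (i d),
        (L.presheaf.germ ⊤ (i d) trivial) s = f' • L.presheaf.germ V (i d) hxV τ := by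
      obtain ⟨f', hf'⟩ := Submodule.mem_span_singleton.mp
        (show (L.presheaf.germ ⊤ (i d) trivial) s ∈
          Submodule.span (X.presheaf.stalk (i d)) {L.presheaf.germ V (i d) hxV τ} by
          rw [hspan0]; exact Submodule.mem_top)
      exact ⟨f', hf'.symm⟩
    obtain ⟨t, f, ht, hf, hker⟩ := hD.2 d
    have hspan : Ideal.span {f} = Ideal.span {f'} :=
      span_coeff_eq hL (i d) t _ ht hspan0 f f' (hf.symm.trans hf')
    have hker' : RingHom.ker (i.stalkMap d).hom = Ideal.span {f'} := hker.trans hspan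
    have hinj := hreg (i d) _ f' hspan0 hf'
    have hle : ∀ ξ : X, ξ ⤳ i d → Nontrivial (F.presheaf.stalk ξ) → δ ξ ≤ δ (i d) + 1 :=
      fun ξ _ hnt => by rw [hk]; exact hsupp ξ hnt
    have hR : Cyc.sheafFun (fun d => δ (i d)) k ((Scheme.Modules.pullback i).obj F) d =
        ((Module.length (X.presheaf.stalk (i d)) (F.presheaf.stalk (i d) ⧸
          f' • (⊤ : Submodule (X.presheaf.stalk (i d)) (F.presheaf.stalk (i d))))).toNat : ℤ) := by
      unfold Cyc.sheafFun
      simp only
      rw [if_pos hk, length_stalk_pullback_closed i F d f' hker']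
    rw [hR, length_quot_eq_finsum_module δ hdim F hF (i d) hle f' hinj]
    apply finsum_congr
    intro ξ
    unfold Cyc.sheafFun Cyc.secDivFun
    simp only
    by_cases hc : ξ ⤳ i d ∧ δ (i d) + 1 = δ ξ
    · rw [dif_pos hc, dif_pos hc]
      have hδξ : δ ξ = k + 1 := by omega
      rw [if_pos hδξ]
      by_cases hnt : Nontrivial (F.presheaf.stalk ξ)
      · have hξV : ξ ∈ V := hc.1.mem_open V.isOpen hxV
        have hne' : ξ ≠ i d := by
          rintro rfl
          omega
        have hgermξ : (L.presheaf.germ ⊤ ξ trivial) s =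
            X.presheaf.stalkSpecializes hc.1 f' • L.presheaf.germ V ξ hξV τ := by
          have e1 : L.presheaf.stalkSpecializes hc.1 ((L.presheaf.germ ⊤ (i d) trivial) s) =
              (L.presheaf.germ ⊤ ξ trivial) s :=
            TopCat.Presheaf.germ_stalkSpecializes_apply _ _ _ _
          have e2 : L.presheaf.stalkSpecializes hc.1 (L.presheaf.germ V (i d) hxV τ) =
              L.presheaf.germ V ξ hξV τ :=
            TopCat.Presheaf.germ_stalkSpecializes_apply _ _ _ _
          rw [← e1, hf', Groth.Agent.Lib.Helper45.HomExtend.stalkSpecializes_smul, e2]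
        have hres : X.residue ξ (X.presheaf.stalkSpecializes hc.1 f') ≠ 0 :=
          specMap_ne_zero_of_nontrivial δ hdim F hF (i d) hle f' hinj ξ hc.1 hne' hnt
        have hne : (Submodule.Quotient.mk ((L.presheaf.germ ⊤ ξ trivial) s) :
            Cyc.secFibre L ξ) ≠ 0 := by
          rw [hgermξ]
          exact mk_ne_zero_of_residue hτ ξ hξV _ hres
        rw [gysinChoice_eq_of_ne s w ξ hne, hgermξ,
          secOrdAt_basis hτ (i d) hxV ξ hc.1 (X.presheaf.stalkSpecializes hc.1 f')]
        rfl
      · rw [not_nontrivial_iff_subsingleton] at hnt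
        rw [Module.length_eq_zero_iff.mpr hnt]
        simp
    · rw [dif_neg hc, dif_neg hc, mul_zero]

end Assembly

/-- cycles with equal coefficients are rationally equivalent -/
theorem ratEquiv_of_coe_eq {X : Scheme.{u}} (δ : X → ℤ) (k : ℤ) (γ ζ : AlgebraicCycle X ℤ)
    (h : ∀ x, γ x = ζ x) : Cyc.RatEquiv δ k γ ζ := by
  refine ⟨PEmpty, PEmpty.elim, fun j => j.elim, fun j => j.elim, fun j => j.elim,
    fun x => ⟨Set.univ, isOpen_univ, trivial, Set.toFinite _⟩, fun x => ?_⟩
  rw [Function.locallyFinsuppWithin.coe_sub, Pi.sub_apply, h x, sub_self]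
  symm
  apply finsum_eq_zero_of_forall_eq_zero
  intro j
  exact j.elim

end Groth.Agent.Lib.Helper85.SheafZero
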